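import Mathlib
import Groth.Prelude.Def_Wider
import Groth.Agent.H12.DualDepth
import Groth.Agent.H71.DK.Defs

/-!
# S0364 squad, package (DK3): second-variable long exact sequence of a cone of `a • 𝟙`
-/

set_option autoImplicit false
universe u
open CategoryTheory CategoryTheory.Limits DerivedCategory Pretriangulated

namespace Groth.Agent.H64.DK3

attribute [local instance] HasDerivedCategory.standard

open Groth.Agent.H12.DualDepth DerivedCategory.TStructure Groth.Agent.H71.DK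

variable {A : Type u} [CommRing A]

/-- the `i`-shifted triangle, with explicit objects -/
theorem shift_dist {Y Z : Dual.D A} (f : Y ⟶ Y) (g : Y ⟶ Z) (h : Z ⟶ Y⟦(1 : ℤ)⟧)
    (hT : Triangle.mk f g h ∈ distTriang (Dual.D A)) (i : ℤ) :
    Triangle.mk (X := Y⟦i⟧) (Y := Y⟦i⟧) (Z := Z⟦i⟧) (i.negOnePow • f⟦i⟧') (i.negOnePow • g⟦i⟧')
      (i.negOnePow • h⟦i⟧' ≫ (shiftFunctorComm (Dual.D A) 1 i).hom.app Y) ∈ distTriang (Dual.D A) :=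
  Triangle.shift_distinguished _ hT i

/-- abstract form of (DK3a) -/
theorem van_of_dist {X P Q R : Dual.D A} (f : P ⟶ Q) (g : Q ⟶ R) (h : R ⟶ P⟦(1 : ℤ)⟧)
    (hT : Triangle.mk f g h ∈ distTriang (Dual.D A))
    (h1 : ∀ φ : X ⟶ Q, φ = 0) (h2 : ∀ φ : X ⟶ P⟦(1 : ℤ)⟧, φ = 0) (φ : X ⟶ R) : φ = 0 := by
  obtain ⟨g', hg'⟩ := Triangle.coyoneda_exact₃ _ hT φ (h2 _)
  have : g' = 0 := h1 g'
  rw [hg', this]
  exact zero_comp

/-- abstract form of (DK3b) -/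
theorem exists_of_dist {X P Q R : Dual.D A} (f : P ⟶ Q) (g : Q ⟶ R) (h : R ⟶ P⟦(1 : ℤ)⟧)
    (hT : Triangle.mk f g h ∈ distTriang (Dual.D A))
    (ψ : X ⟶ P⟦(1 : ℤ)⟧) (hψ : ψ ≫ f⟦(1 : ℤ)⟧' = 0) : ∃ g' : X ⟶ R, ψ = g' ≫ h :=
  Triangle.coyoneda_exact₁ _ hT ψ hψ

theorem comp_units_smul_smul_id {P Q : Dual.D A} (χ : P ⟶ Q) (ε : ℤˣ) (a : A) :
    χ ≫ (ε • (a • 𝟙 Q)) = ε • (a • χ) := by
  simp

theorem comp_comp_units_smul_smul_id {P Q Q' : Dual.D A} (ψ : P ⟶ Q) (e : Q ⟶ Q') (ε : ℤˣ) (a : A)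
    (h : a • ψ = 0) : (ψ ≫ e) ≫ (ε • (a • 𝟙 Q')) = 0 := by
  rw [comp_units_smul_smul_id, ← Linear.smul_comp, h, zero_comp, smul_zero]

theorem shift_shift_units_smul_smul_id (Y : Dual.D A) (i : ℤ) (ε : ℤˣ) (a : A) :
    (ε • (a • 𝟙 Y)⟦i⟧')⟦(1 : ℤ)⟧' = ε • (a • 𝟙 ((Y⟦i⟧)⟦(1 : ℤ)⟧)) := by
  simp [Functor.map_units_smul, Functor.map_smul]

/-- (DK3a) second variable, vanishing -/
theorem vanO_cone_right {Y Z : Dual.D A} (a : A) (g : Y ⟶ Z) (h : Z ⟶ Y⟦(1 : ℤ)⟧)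
    (hT : Triangle.mk (a • 𝟙 Y) g h ∈ distTriang (Dual.D A)) (X : Dual.D A) (i j : ℤ)
    (hij : i + 1 = j) (h1 : VanO X Y i) (h2 : VanO X Y j) : VanO X Z i := by
  intro φ
  refine van_of_dist _ _ _ (shift_dist _ g h hT i) h1 ?_ φ
  intro χ
  rw [← cancel_mono ((shiftFunctorAdd' (Dual.D A) i 1 j hij).inv.app Y), zero_comp]
  exact h2 _

/-- (DK3b) second variable, bottom degree: an `a`-torsion element of `Hom(X, Y[j])` gives a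
nonzero element of `Hom(X, Z[i])` when `Hom(X, Y[i]) = 0` -/
theorem not_vanO_cone_right {Y Z : Dual.D A} (a : A) (g : Y ⟶ Z) (h : Z ⟶ Y⟦(1 : ℤ)⟧)
    (hT : Triangle.mk (a • 𝟙 Y) g h ∈ distTriang (Dual.D A)) (X : Dual.D A) (i j : ℤ)
    (hij : i + 1 = j) (ψ : X ⟶ Y⟦j⟧) (hψ : ψ ≠ 0) (haψ : a • ψ = 0) : ¬ VanO X Z i := by
  intro hv
  apply hψ
  have h0 : (ψ ≫ (shiftFunctorAdd' (Dual.D A) i 1 j hij).hom.app Y) ≫
      (i.negOnePow • (a • 𝟙 Y)⟦i⟧')⟦(1 : ℤ)⟧' = 0 := by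
    rw [shift_shift_units_smul_smul_id]
    exact comp_comp_units_smul_smul_id ψ _ _ a haψ
  obtain ⟨g', hg'⟩ := exists_of_dist _ _ _ (shift_dist _ g h hT i) _ h0
  have : g' = 0 := hv g'
  rw [this, zero_comp] at hg'
  rw [← cancel_mono ((shiftFunctorAdd' (Dual.D A) i 1 j hij).hom.app Y), zero_comp]
  exact hg'

end Groth.Agent.H64.DK3
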