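import Mathlib
import Groth.Prelude.Def_Wider
import Groth.Agent.H12.DualDepth
import Groth.Agent.H71.DK.Defs

/-!
# S0364 squad, package (DK8): cohomology of a cone of `a • 𝟙` in `D(A)`
-/

set_option autoImplicit false
universe u
open CategoryTheory CategoryTheory.Limits DerivedCategory Pretriangulated

namespace Groth.Agent.H64.DK8

attribute [local instance] HasDerivedCategory.standard

open Groth.Agent.H12.DualDepth DerivedCategory.TStructure Groth.Agent.H71.DK

variable {A : Type u} [CommRing A]

theorem shortComplexFunctor_linear (R : Type u) [CommRing R] (n : ℤ) :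
    (HomologicalComplex.shortComplexFunctor (ModuleCat.{u} R) (ComplexShape.up ℤ) n).Linear R where
  map_smul {K L} φ r := by ext <;> rfl

theorem homologyFunctor_cx_linear (R : Type u) [CommRing R] (n : ℤ) :
    (HomologicalComplex.homologyFunctor (ModuleCat.{u} R) (ComplexShape.up ℤ) n).Linear R := by
  have := shortComplexFunctor_linear R n
  exact inferInstanceAs
    ((HomologicalComplex.shortComplexFunctor (ModuleCat.{u} R) (ComplexShape.up ℤ) n ⋙
      ShortComplex.homologyFunctor (ModuleCat.{u} R)).Linear R)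

theorem homologyFunctor_D_linear (R : Type u) [CommRing R] (n : ℤ) :
    (DerivedCategory.homologyFunctor (ModuleCat.{u} R) n).Linear R := by
  have := homologyFunctor_cx_linear R n
  have : Localization.Lifting (DerivedCategory.Q (C := ModuleCat.{u} R))
      (HomologicalComplex.quasiIso (ModuleCat.{u} R) (ComplexShape.up ℤ))
      (HomologicalComplex.homologyFunctor (ModuleCat.{u} R) (ComplexShape.up ℤ) n)
      (DerivedCategory.homologyFunctor (ModuleCat.{u} R) n) :=
    ⟨DerivedCategory.homologyFunctorFactors _ n⟩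
  exact (Localization.functor_linear_iff (DerivedCategory.Q (C := ModuleCat.{u} R))
      (HomologicalComplex.quasiIso (ModuleCat.{u} R) (ComplexShape.up ℤ)) R
      (HomologicalComplex.homologyFunctor (ModuleCat.{u} R) (ComplexShape.up ℤ) n)
      (DerivedCategory.homologyFunctor (ModuleCat.{u} R) n)).1 inferInstance

/-- module-level: middle term of an exact sequence of finite modules over a Noetherian ring -/
theorem finite_of_exact [IsNoetherianRing A] (S : ShortComplex (ModuleCat.{u} A)) (hS : S.Exact)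
    [Module.Finite A S.X₁] [Module.Finite A S.X₃] : Module.Finite A S.X₂ := by
  rw [ShortComplex.moduleCat_exact_iff_range_eq_ker] at hS
  refine ⟨Submodule.fg_of_fg_map_of_fg_inf_ker S.g.hom ?_ ?_⟩
  · exact IsNoetherian.noetherian _
  · rw [top_inf_eq, ← hS, LinearMap.range_eq_map]
    exact (Module.Finite.fg_top (R := A) (M := S.X₁)).map _

/-- abstract form of (DK8a) for any distinguished triangle -/
theorem finite_homology_obj₃ [IsNoetherianRing A] (T : Triangle (Dual.D A))
    (hT : T ∈ distTriang (Dual.D A))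
    (h2 : ∀ j : ℤ, Module.Finite A ((homologyFunctor (ModuleCat.{u} A) j).obj T.obj₂))
    (h1 : ∀ j : ℤ, Module.Finite A ((homologyFunctor (ModuleCat.{u} A) j).obj T.obj₁)) (j : ℤ) :
    Module.Finite A ((homologyFunctor (ModuleCat.{u} A) j).obj T.obj₃) := by
  have hex := HomologySequence.exact₃ T hT j (j + 1) rfl
  have := h2 j
  have := h1 (j + 1)
  exact finite_of_exact _ hex

/-- (DK8a) cohomology of a cone: finiteness -/
theorem finite_homology_cone [IsNoetherianRing A] {X Z : Dual.D A} (a : A) (g : X ⟶ Z)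
    (h : Z ⟶ X⟦(1 : ℤ)⟧) (hT : Triangle.mk (a • 𝟙 X) g h ∈ distTriang (Dual.D A))
    (hX : ∀ j : ℤ, Module.Finite A ((homologyFunctor (ModuleCat.{u} A) j).obj X)) (j : ℤ) :
    Module.Finite A ((homologyFunctor (ModuleCat.{u} A) j).obj Z) :=
  finite_homology_obj₃ _ hT hX hX j

/-- abstract: vanishing of the cohomology of the third vertex -/
theorem isZero_homology_obj₃ (T : Triangle (Dual.D A)) (hT : T ∈ distTriang (Dual.D A)) (j : ℤ)
    (h2 : IsZero ((homologyFunctor (ModuleCat.{u} A) j).obj T.obj₂))
    (h1 : IsZero ((homologyFunctor (ModuleCat.{u} A) (j + 1)).obj T.obj₁)) :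
    IsZero ((homologyFunctor (ModuleCat.{u} A) j).obj T.obj₃) :=
  (HomologySequence.exact₃ T hT j (j + 1) rfl).isZero_X₂ (h2.eq_of_src _ _) (h1.eq_of_tgt _ _)

/-- (DK8b) cohomology of a cone: boundedness -/
theorem isGE_isLE_cone {X Z : Dual.D A} (a : A) (g : X ⟶ Z)
    (h : Z ⟶ X⟦(1 : ℤ)⟧) (hT : Triangle.mk (a • 𝟙 X) g h ∈ distTriang (Dual.D A))
    (j₀ j₁ : ℤ) [X.IsGE j₀] [X.IsLE j₁] : Z.IsGE (j₀ - 1) ∧ Z.IsLE j₁ := by
  constructor
  · rw [isGE_iff]
    intro i hi
    exact isZero_homology_obj₃ _ hT i (isZero_of_isGE X j₀ i (by omega))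
      (isZero_of_isGE X j₀ (i + 1) (by omega))
  · rw [isLE_iff]
    intro i hi
    exact isZero_homology_obj₃ _ hT i (isZero_of_isLE X j₁ i (by omega))
      (isZero_of_isLE X j₁ (i + 1) (by omega))

/-- (DK8c) scalars killing the identity kill the cohomology -/
theorem smul_homology_eq_zero (X : Dual.D A) (c : A) (hc : c • 𝟙 X = 0) (j : ℤ)
    (x : (homologyFunctor (ModuleCat.{u} A) j).obj X) : c • x = 0 := by
  have := homologyFunctor_D_linear A j
  have h1 : (homologyFunctor (ModuleCat.{u} A) j).map (c • 𝟙 X) =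
      c • 𝟙 ((homologyFunctor (ModuleCat.{u} A) j).obj X) := by
    rw [Functor.map_smul, CategoryTheory.Functor.map_id]
  rw [hc, Functor.map_zero] at h1
  have h2 : (c • 𝟙 ((homologyFunctor (ModuleCat.{u} A) j).obj X) :
      (homologyFunctor (ModuleCat.{u} A) j).obj X ⟶ _).hom x =
      (0 : (homologyFunctor (ModuleCat.{u} A) j).obj X ⟶ _).hom x := by rw [← h1]
  simp only [ModuleCat.hom_smul, ModuleCat.hom_id, ModuleCat.hom_zero, LinearMap.smul_apply,
    LinearMap.id_apply, LinearMap.zero_apply] at h2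
  exact h2

end Groth.Agent.H64.DK8
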