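import Mathlib
import Groth.Prelude
import Groth.Agent.H25.SmoothStalk
import Groth.Agent.H25.StalkBC
import Groth.Agent.H52.RedField
import Groth.Agent.S0342
import Groth.Agent.H23.RegularLocal

/-!
# helper14's S1589 squad, piece (CLSM): at a point with a smooth neighbourhood over a field, the
local ring is Gorenstein and geometrically reduced
-/

set_option autoImplicit false
universe u
open CategoryTheory CategoryTheory.Limits AlgebraicGeometry TensorProduct

attribute [local instance] Curv2.stalkAlgebra

namespace Groth.Agent.H64.NG_CLSM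

/-- local rings of `Spec` of a field are regular -/
theorem isRegularLocalRing_stalk_spec_field (K : Type u) [Field K]
    (y : Spec (CommRingCat.of K)) :
    IsRegularLocalRing ((Spec (CommRingCat.of K)).presheaf.stalk y) :=
  Groth.Agent.H52.isRegularLocalRing_of_isField _
    (Groth.Agent.H52.isField_stalk_spec_field (CommRingCat.of K) (Field.toIsField K) y)

/-- (CLSM-GOR) + regularity -/
theorem regular_of_smooth_nhd (k : Type u) [Field k] {X : Scheme.{u}}
    (f : X ⟶ Spec (CommRingCat.of k)) [LocallyOfFiniteType f]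
    (x : X) (U : X.Opens) (hxU : x ∈ U) (hsm : Smooth (U.ι ≫ f)) :
    IsRegularLocalRing (X.presheaf.stalk x) :=
  (Groth.Agent.H25.SmoothStalk.regular_iff_of_smooth_nhd f x ⟨U, hxU, hsm⟩).2
    (isRegularLocalRing_stalk_spec_field k (f x))

/-- (CLSM) -/
theorem closed_smooth (k : Type u) [Field k] (X : Scheme.{u}) [X.Over (Spec (CommRingCat.of k))]
    [LocallyOfFiniteType (X ↘ Spec (CommRingCat.of k))] (x : X) (U : X.Opens) (hxU : x ∈ U)
    (hsm : Smooth (U.ι ≫ (X ↘ Spec (CommRingCat.of k)))) :
    LocCoh.IsGorensteinLocalRing (X.presheaf.stalk x) ∧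
      Algebra.IsGeometricallyReduced k (X.presheaf.stalk x) := by
  constructor
  · haveI := regular_of_smooth_nhd k (X ↘ Spec (CommRingCat.of k)) x U hxU hsm
    exact Groth.Agent.S0342.result _
  · rw [← Groth.Agent.H25.StalkBC.isGeomReducedAt_iff_stalk]
    intro K _ _ x' hx'
    -- the base change of the smooth neighbourhood
    have hpb : IsPullback (Curv2.bcFst k X K ∣_ U) ((Curv2.bcFst k X K ⁻¹ᵁ U).ι ≫
        (pullback.snd (X ↘ Spec (CommRingCat.of k))
          (Spec.map (CommRingCat.ofHom (algebraMap k K)))))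
        (U.ι ≫ (X ↘ Spec (CommRingCat.of k)))
        (Spec.map (CommRingCat.ofHom (algebraMap k K))) :=
      (isPullback_morphismRestrict (Curv2.bcFst k X K) U).paste_vert
        (IsPullback.of_hasPullback (X ↘ Spec (CommRingCat.of k))
          (Spec.map (CommRingCat.ofHom (algebraMap k K))))
    have hsm' : Smooth ((Curv2.bcFst k X K ⁻¹ᵁ U).ι ≫
        (pullback.snd (X ↘ Spec (CommRingCat.of k))
          (Spec.map (CommRingCat.ofHom (algebraMap k K))))) :=
      MorphismProperty.of_isPullback hpb hsm
    have hx'U : x' ∈ Curv2.bcFst k X K ⁻¹ᵁ U := by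
      show Curv2.bcFst k X K x' ∈ U
      rw [hx']
      exact hxU
    haveI := regular_of_smooth_nhd K (pullback.snd (X ↘ Spec (CommRingCat.of k))
      (Spec.map (CommRingCat.ofHom (algebraMap k K)))) x' _ hx'U hsm'
    haveI : IsDomain ((Curv2.bc k X K).presheaf.stalk x') :=
      Groth.Agent.H23.isDomain_of_isRegularLocalRing _
    infer_instance

end Groth.Agent.H64.NG_CLSM
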