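import Mathlib
import Groth.Prelude
import Groth.Agent.S0345
import Groth.Agent.H60.GorTransfer

/-!
# helper14's S1589 squad, piece (GORLOC): a localization of a Gorenstein local ring at a prime is
Gorenstein
-/

set_option autoImplicit false
universe u
open CategoryTheory CategoryTheory.Limits AlgebraicGeometry TensorProduct

namespace Groth.Agent.H64.NG_GORLOC

/-- (GORLOC) -/
theorem gorenstein_of_isLocalization (A : Type u) [CommRing A]
    (hA : LocCoh.IsGorensteinLocalRing A) (q : Ideal A) [q.IsPrime] (B : Type u) [CommRing B]
    [Algebra A B] [IsLocalization.AtPrime B q] : LocCoh.IsGorensteinLocalRing B := by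
  haveI : IsNoetherianRing A := hA.toIsNoetherian
  have h1 := ((Groth.Agent.S0345.result A).1 hA.exists_hasInjectiveDimensionLT).1
  have h2 : LocCoh.IsGorensteinLocalRing (Localization.AtPrime q) :=
    h1.isGorensteinLocalRing_localization q
  exact Groth.Agent.H60.GorTransfer.gor_of_ringEquiv
    (IsLocalization.algEquiv q.primeCompl (Localization.AtPrime q) B).toRingEquiv h2

end Groth.Agent.H64.NG_GORLOC
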