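import Mathlib
import Groth.Prelude

/-!
# helper14's S1589 squad, piece (JAC): every point of a scheme locally of finite type over a field
specializes to a closed point
-/

set_option autoImplicit false
universe u
open CategoryTheory CategoryTheory.Limits AlgebraicGeometry TensorProduct

namespace Groth.Agent.H64.NG_JAC

/-- (JAC) -/
theorem exists_closed_specialization (k : Type u) [Field k] (X : Scheme.{u})
    [X.Over (Spec (CommRingCat.of k))] [LocallyOfFiniteType (X ↘ Spec (CommRingCat.of k))]
    (x : X) : ∃ x₀ : X, IsClosed ({x₀} : Set X) ∧ x ⤳ x₀ := by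
  haveI : JacobsonSpace X := LocallyOfFiniteType.jacobsonSpace (X ↘ Spec (CommRingCat.of k))
  obtain ⟨x₀, hx₀, hcl⟩ := nonempty_inter_closedPoints (Z := closure ({x} : Set X))
    ⟨x, subset_closure rfl⟩ isClosed_closure.isLocallyClosed
  exact ⟨x₀, hcl, specializes_iff_mem_closure.mpr hx₀⟩

end Groth.Agent.H64.NG_JAC
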