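import Mathlib
import Groth.Prelude
import Groth.Agent.H25.GeomRed
import Groth.Agent.H25.StalkBC

/-!
# helper14's S1589 squad, piece (P1): geometric reducedness of a local `k`-algebra from reducedness
of one localization of `K ⊗[k] A`, `K` algebraically closed
-/

set_option autoImplicit false
universe u
open CategoryTheory CategoryTheory.Limits AlgebraicGeometry TensorProduct

namespace Groth.Agent.H64.NG_P1

open IsLocalRing

/-- For `k'/k` purely inseparable algebraic and `A` a local `k`-algebra, a prime of `k' ⊗ A`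
containing `1 ⊗ m_A` is the maximal ideal (extracted from helper25's
`nonempty_ringEquiv_localization_of_purelyInseparable`). -/
theorem eq_maximalIdeal_of_mem (k k' A : Type u) [Field k]
    [Field k'] [Algebra k k'] [Algebra.IsIntegral k k'] [IsPurelyInseparable k k'] [CommRing A]
    [IsLocalRing A] [Algebra k A] [IsLocalRing (k' ⊗[k] A)] (Q : Ideal (k' ⊗[k] A)) [hQ : Q.IsPrime]
    (hQm : ∀ a ∈ maximalIdeal A, (1 : k') ⊗ₜ[k] a ∈ Q) :
    Q = maximalIdeal (k' ⊗[k] A) := by
  obtain ⟨Q', hQ'⟩ : ∃ Q' : Ideal (A ⊗[k] k'),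
      Q' = Q.comap (Algebra.TensorProduct.comm k k' A).symm.toRingEquiv.toRingHom := ⟨_, rfl⟩
  haveI : Q'.IsPrime := by
    rw [hQ']
    infer_instance
  have hcomap : Q'.comap (algebraMap A (A ⊗[k] k')) = maximalIdeal A := by
    apply le_antisymm
    · exact IsLocalRing.le_maximalIdeal (Ideal.IsPrime.ne_top inferInstance)
    · intro a ha
      rw [Ideal.mem_comap, hQ', Ideal.mem_comap]
      show (Algebra.TensorProduct.comm k k' A).symm (algebraMap A (A ⊗[k] k') a) ∈ Q
      rw [Algebra.TensorProduct.algebraMap_apply, Algebra.algebraMap_self_apply,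
        Algebra.TensorProduct.comm_symm_tmul]
      exact hQm a ha
  haveI hQ'max : Q'.IsMaximal :=
    Ideal.isMaximal_of_isIntegral_of_isMaximal_comap Q'
      (hcomap ▸ IsLocalRing.maximalIdeal.isMaximal A)
  have hQmax : Q.IsMaximal := by
    have hQQ' : Q = Q'.comap (Algebra.TensorProduct.comm k k' A).toRingEquiv.toRingHom := by
      ext t
      rw [Ideal.mem_comap, hQ', Ideal.mem_comap]
      show t ∈ Q ↔ (Algebra.TensorProduct.comm k k' A).symm
        ((Algebra.TensorProduct.comm k k' A) t) ∈ Q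
      rw [AlgEquiv.symm_apply_apply]
    rw [hQQ']
    exact Ideal.comap_isMaximal_of_surjective _
      (Algebra.TensorProduct.comm k k' A).toRingEquiv.surjective
  exact IsLocalRing.eq_maximalIdeal hQmax

/-- the key step: for `k'/k` finite purely inseparable, `k' ⊗ A` is reduced -/
theorem isReduced_tensor_of_localization_reduced (k A K : Type u) [Field k] [CommRing A]
    [IsLocalRing A] [Algebra k A] [Field K] [Algebra k K] [IsAlgClosed K]
    (Q : Ideal (K ⊗[k] A)) [Q.IsPrime]
    (hQ : ∀ a ∈ IsLocalRing.maximalIdeal A, (1 : K) ⊗ₜ[k] a ∈ Q)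
    (hred : IsReduced (Localization.AtPrime Q))
    (k' : Type u) [Field k'] [Algebra k k'] [Module.Finite k k'] [IsPurelyInseparable k k'] :
    IsReduced (k' ⊗[k] A) := by
  haveI : IsLocalRing (k' ⊗[k] A) := Groth.Agent.H25.StalkBC.isLocalRing_tensor k k' A
  let σ : k' →ₐ[k] K := IsAlgClosed.lift
  letI : Algebra k' K := σ.toRingHom.toAlgebra
  haveI : IsScalarTower k k' K := IsScalarTower.of_algebraMap_eq (fun x => (σ.commutes x).symm)
  let g : k' ⊗[k] A →ₐ[k'] K ⊗[k] A :=
    Algebra.TensorProduct.map (Algebra.ofId k' K) (AlgHom.id k A)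
  letI : Algebra (k' ⊗[k] A) (K ⊗[k] A) := g.toRingHom.toAlgebra
  haveI : IsScalarTower k' (k' ⊗[k] A) (K ⊗[k] A) :=
    IsScalarTower.of_algebraMap_eq (fun t => (g.commutes t).symm)
  have hpo : Algebra.IsPushout k' K (k' ⊗[k] A) (K ⊗[k] A) := by
    apply Algebra.IsPushout.tensorProduct_tensorProduct k A k' K
    ext a
    show g ((1 : k') ⊗ₜ[k] a) = (1 : K) ⊗ₜ[k] a
    simp [g]
  have hpo' : Algebra.IsPushout k' (k' ⊗[k] A) K (K ⊗[k] A) := hpo.symm
  haveI : Module.Flat (k' ⊗[k] A) (K ⊗[k] A) :=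
    Module.Flat.isBaseChange k' (k' ⊗[k] A) K (K ⊗[k] A) hpo'.out
  haveI : IsScalarTower (k' ⊗[k] A) (K ⊗[k] A) (Localization.AtPrime Q) := inferInstance
  haveI : Module.Flat (k' ⊗[k] A) (Localization.AtPrime Q) :=
    Module.Flat.trans (k' ⊗[k] A) (K ⊗[k] A) (Localization.AtPrime Q)
  -- the contraction of `Q` is the maximal ideal
  have hQ' : Q.comap (algebraMap (k' ⊗[k] A) (K ⊗[k] A)) = maximalIdeal (k' ⊗[k] A) := by
    apply eq_maximalIdeal_of_mem k k' A
    intro a ha
    rw [Ideal.mem_comap]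
    show g ((1 : k') ⊗ₜ[k] a) ∈ Q
    have : g ((1 : k') ⊗ₜ[k] a) = (1 : K) ⊗ₜ[k] a := by simp [g]
    rw [this]
    exact hQ a ha
  haveI : IsLocalHom (algebraMap (k' ⊗[k] A) (Localization.AtPrime Q)) := by
    constructor
    intro x hx
    by_contra hxu
    have hxm : x ∈ maximalIdeal (k' ⊗[k] A) := (IsLocalRing.mem_maximalIdeal x).mpr hxu
    rw [← hQ', Ideal.mem_comap] at hxm
    have : algebraMap (K ⊗[k] A) (Localization.AtPrime Q)
        (algebraMap (k' ⊗[k] A) (K ⊗[k] A) x) ∈ maximalIdeal (Localization.AtPrime Q) := by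
      rw [← Localization.AtPrime.map_eq_maximalIdeal]
      exact Ideal.mem_map_of_mem _ hxm
    rw [← IsScalarTower.algebraMap_apply] at this
    exact (IsLocalRing.mem_maximalIdeal _).mp this hx
  haveI : Module.FaithfullyFlat (k' ⊗[k] A) (Localization.AtPrime Q) :=
    Module.FaithfullyFlat.of_flat_of_isLocalHom
  exact isReduced_of_injective (algebraMap (k' ⊗[k] A) (Localization.AtPrime Q))
    (FaithfulSMul.algebraMap_injective _ _)

/-- (P1) -/
theorem isGeometricallyReduced_of_localization_reduced (k A K : Type u) [Field k] [CommRing A]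
    [IsLocalRing A] [Algebra k A] [Field K] [Algebra k K] [IsAlgClosed K]
    (Q : Ideal (K ⊗[k] A)) [Q.IsPrime]
    (hQ : ∀ a ∈ IsLocalRing.maximalIdeal A, (1 : K) ⊗ₜ[k] a ∈ Q)
    (hred : IsReduced (Localization.AtPrime Q)) : Algebra.IsGeometricallyReduced k A := by
  refine (Groth.Agent.H25.GeomRed.tfae_geometricallyReduced.out 0 1).mp ?_
  intro k' _ _ _ _
  exact isReduced_tensor_of_localization_reduced k A K Q hQ hred k'

end Groth.Agent.H64.NG_P1
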