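import Mathlib

/-!
# (DX3) for helper25's S18955 squad: scheme-theoretically dominant morphisms and affine targets
(no quasi-compactness)
-/

set_option autoImplicit false
universe u
open CategoryTheory AlgebraicGeometry TensorProduct

namespace Groth.Agent.H64.DX3

/-- global sections inject along a scheme-theoretically dominant morphism (no q.c. needed) -/
theorem appTop_injective {U Y : Scheme.{u}} (d : U ⟶ Y) [IsSchemeTheoreticallyDominant d] :
    Function.Injective d.appTop.hom := by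
  rw [injective_iff_map_eq_zero]
  intro c hc
  -- the ideal sheaf generated by `c` lies in the kernel of `d`
  have hle : Scheme.IdealSheafData.ofIdealTop (Ideal.span {c}) ≤ d.ker := by
    refine Scheme.IdealSheafData.le_ofIdeals_iff.mpr fun V => ?_
    rw [Scheme.IdealSheafData.ofIdealTop_ideal, Ideal.map_le_iff_le_comap, Ideal.span_le,
      Set.singleton_subset_iff]
    show (d.app V.1).hom ((Y.presheaf.map (homOfLE le_top).op).hom c) = 0
    have h1 := congrArg (fun φ => φ.hom c) (d.naturality (homOfLE (le_top : V.1 ≤ ⊤)).op)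
    simp only [CommRingCat.hom_comp, RingHom.comp_apply] at h1
    rw [h1]
    have h2 : (d.app ⊤).hom c = 0 := hc
    rw [h2, map_zero]
  rw [d.ker_eq_bot, le_bot_iff] at hle
  refine Y.IsSheaf.section_ext fun x hx => ?_
  obtain ⟨_, ⟨V, hV, rfl⟩, hxV, hVU : V ≤ ⊤⟩ :=
    Y.isBasis_affineOpens.exists_subset_of_mem_open hx (⊤ : Y.Opens).isOpen
  refine ⟨V, hVU, hxV, ?_⟩
  have h3 := congrArg (fun I => I.ideal ⟨V, hV⟩) hle
  simp only [Scheme.IdealSheafData.ofIdealTop_ideal, Scheme.IdealSheafData.ideal_bot,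
    Pi.bot_apply] at h3
  have h4 : (Y.presheaf.map (homOfLE (le_top : V ≤ ⊤)).op).hom c ∈
      (Ideal.span {c}).map (Y.presheaf.map (homOfLE (le_top : V ≤ ⊤)).op).hom :=
    Ideal.mem_map_of_mem _ (Ideal.subset_span rfl)
  rw [h3] at h4
  simpa using h4

theorem cancel_dominant_affine {U Y W : Scheme.{u}} [IsAffine W] (d : U ⟶ Y)
    [IsSchemeTheoreticallyDominant d] (p q : Y ⟶ W) (h : d ≫ p = d ≫ q) : p = q := by
  apply ext_of_isAffine
  have h1 : p.appTop ≫ d.appTop = q.appTop ≫ d.appTop := by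
    rw [← Scheme.Hom.comp_appTop, ← Scheme.Hom.comp_appTop, h]
  ext b
  apply appTop_injective d
  exact congrArg (fun φ => φ.hom b) h1

theorem exists_ext_iff {U Y X : Scheme.{u}} [IsAffine X] (d : U ⟶ Y)
    [IsSchemeTheoreticallyDominant d] (f : U ⟶ X) :
    (∃ φ : Y ⟶ X, d ≫ φ = f) ↔ ∀ b : Γ(X, ⊤), ∃ c : Γ(Y, ⊤), d.appTop c = f.appTop b := by
  constructor
  · rintro ⟨φ, rfl⟩ b
    exact ⟨φ.appTop b, by rw [Scheme.Hom.comp_appTop]; rfl⟩
  · intro h
    have hinj := appTop_injective d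
    let g : Γ(Y, ⊤) →+* Γ(U, ⊤) := d.appTop.hom
    let e : Γ(Y, ⊤) ≃+* g.range := RingEquiv.ofBijective g.rangeRestrict
      ⟨fun a b hab => hinj (congrArg Subtype.val hab), g.rangeRestrict_surjective⟩
    let h' : Γ(X, ⊤) →+* g.range := f.appTop.hom.codRestrict g.range (fun b => by
      obtain ⟨c, hc⟩ := h b
      exact ⟨c, hc⟩)
    let ψ : Γ(X, ⊤) ⟶ Γ(Y, ⊤) := CommRingCat.ofHom (e.symm.toRingHom.comp h')
    have hψ : ψ ≫ d.appTop = f.appTop := by
      ext b
      show g (e.symm (h' b)) = f.appTop.hom b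
      have : (e (e.symm (h' b)) : Γ(U, ⊤)) = (h' b : Γ(U, ⊤)) := by rw [RingEquiv.apply_symm_apply]
      exact this
    refine ⟨Y.toSpecΓ ≫ Spec.map ψ ≫ X.isoSpec.inv, ?_⟩
    rw [Scheme.toSpecΓ_naturality_assoc, ← Spec.map_comp_assoc, hψ,
      ← Scheme.toSpecΓ_naturality_assoc, Scheme.toSpecΓ_isoSpec_inv, Category.comp_id]

end Groth.Agent.H64.DX3
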