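import Mathlib

/-!
# helper64: `SheafOfModules.toSheaf` preserves colimits / epimorphisms (any universes)
(universe-generalised copy of the argument of `H45/ToSheafColim`), and
epimorphisms of sheaves of modules are locally surjective.
-/

set_option autoImplicit false
universe w w' v v' u u'

namespace Groth.Agent.H64.ToSheafEpi

open CategoryTheory Limits

variable {C : Type u'} [Category.{v'} C] {J : GrothendieckTopology C} (R : Sheaf J RingCat.{u})
  [HasWeakSheafify J AddCommGrpCat.{v}] [J.WEqualsLocallyBijective AddCommGrpCat.{v}]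

/-- The forgetful functor from sheaves of modules to abelian sheaves preserves colimits. -/
theorem toSheaf_preservesColimitsOfShape (K : Type w) [Category.{w'} K]
    [HasColimitsOfShape K AddCommGrpCat.{v}] :
    PreservesColimitsOfShape K (SheafOfModules.toSheaf.{v} R) := by
  constructor
  intro F
  let G := F ⋙ SheafOfModules.forget R
  let S := PresheafOfModules.sheafification.{v} (𝟙 R.obj)
  let e : F ≅ G ⋙ S := Functor.isoWhiskerLeft F
    (asIso (PresheafOfModules.sheafificationAdjunction (𝟙 R.obj)).counit).symm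
  have hc : IsColimit (colimit.cocone G) := colimit.isColimit G
  have hSc : IsColimit (S.mapCocone (colimit.cocone G)) := isColimitOfPreserves S hc
  let c' : Cocone F := (Cocone.precompose e.hom).obj (S.mapCocone (colimit.cocone G))
  have hc' : IsColimit c' := (IsColimit.precomposeHomEquiv e _).symm hSc
  apply preservesColimit_of_preserves_colimit_cocone hc'
  haveI : PreservesColimit G (S ⋙ SheafOfModules.toSheaf.{v} R) :=
    preservesColimit_of_natIso G (PresheafOfModules.sheafificationCompToSheaf (𝟙 R.obj)).symm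
  have h1 : IsColimit ((S ⋙ SheafOfModules.toSheaf.{v} R).mapCocone (colimit.cocone G)) :=
    isColimitOfPreserves _ hc
  let e' : F ⋙ SheafOfModules.toSheaf.{v} R ≅ G ⋙ (S ⋙ SheafOfModules.toSheaf.{v} R) :=
    Functor.isoWhiskerRight e (SheafOfModules.toSheaf.{v} R) ≪≫ Functor.associator _ _ _
  have h2 : IsColimit ((Cocone.precompose e'.hom).obj
      ((S ⋙ SheafOfModules.toSheaf.{v} R).mapCocone (colimit.cocone G))) :=
    (IsColimit.precomposeHomEquiv e' _).symm h1
  refine IsColimit.ofIsoColimit h2 (Cocone.ext (Iso.refl _) ?_)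
  intro j
  simp [c', e']

section Epi

open Opposite

variable [HasSheafify J AddCommGrpCat.{v}] [J.HasSheafCompose (forget AddCommGrpCat.{v})]
  [Balanced (Sheaf J AddCommGrpCat.{v})]

theorem toSheaf_preservesEpimorphisms :
    (SheafOfModules.toSheaf.{v} R).PreservesEpimorphisms := by
  haveI := toSheaf_preservesColimitsOfShape.{0, 0, v} R WalkingSpan
  exact preservesEpimorphisms_of_preservesColimitsOfShape _

/-- Epimorphisms of sheaves of modules are locally surjective. -/
theorem locally_surjective_of_epi {M N : SheafOfModules.{v} R} (φ : M ⟶ N) [Epi φ] (U : C)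
    (s : N.val.obj (op U)) :
    ∃ T ∈ J U, ∀ ⦃V : C⦄ (i : V ⟶ U), T i →
      ∃ r : M.val.obj (op V), φ.val.app (op V) r = N.val.map i.op s := by
  haveI := toSheaf_preservesEpimorphisms R
  have hepi : Epi ((SheafOfModules.toSheaf.{v} R).map φ) := inferInstance
  have hls : Sheaf.IsLocallySurjective ((SheafOfModules.toSheaf.{v} R).map φ) :=
    (Sheaf.isLocallySurjective_iff_epi' _ _).2 hepi
  refine ⟨Presheaf.imageSieve ((SheafOfModules.toSheaf.{v} R).map φ).hom s,
    hls.imageSieve_mem s, ?_⟩
  intro V i hi
  obtain ⟨r, hr⟩ := hi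
  exact ⟨r, hr⟩

/-- Sections killed by `g` come from the kernel. -/
theorem exists_kernel_section {M N : SheafOfModules.{v} R} (g : M ⟶ N) (U : C)
    (x : M.val.obj (op U)) (hx : g.val.app (op U) x = 0) :
    ∃ s : (kernel g).val.obj (op U), (kernel.ι g).val.app (op U) s = x := by
  let S' : ShortComplex (SheafOfModules.{v} R) := ShortComplex.mk (kernel.ι g) g (kernel.condition g)
  have hS' : S'.Exact := ShortComplex.exact_of_f_is_kernel _ (kernelIsKernel g)
  have hm : Mono S'.f := inferInstanceAs (Mono (kernel.ι g))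
  have h2 := hS'.map_of_mono_of_preservesKernel (SheafOfModules.evaluation R (op U)) hm inferInstance
  exact (ShortComplex.moduleCat_exact_iff _).1 h2 x hx

/-- In an exact short complex of sheaves of modules, sections killed by `g` are locally in the
image of `f`. -/
theorem locally_of_exact (S : ShortComplex (SheafOfModules.{v} R)) (hS : S.Exact) (U : C)
    (x : S.X₂.val.obj (op U)) (hx : S.g.val.app (op U) x = 0) :
    ∃ T ∈ J U, ∀ ⦃V : C⦄ (i : V ⟶ U), T i →
      ∃ r : S.X₁.val.obj (op V), S.f.val.app (op V) r = S.X₂.val.map i.op x := by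
  rw [S.exact_iff_epi_kernel_lift] at hS
  obtain ⟨s, hs⟩ := exists_kernel_section R S.g U x hx
  obtain ⟨T, hT, h⟩ := locally_surjective_of_epi R (kernel.lift S.g S.f S.zero) U s
  refine ⟨T, hT, fun V i hi => ?_⟩
  obtain ⟨r, hr⟩ := h i hi
  refine ⟨r, ?_⟩
  have h1 : S.f.val.app (op V) r = (kernel.ι S.g).val.app (op V)
      ((kernel.lift S.g S.f S.zero).val.app (op V) r) :=
    (congrArg (fun φ : S.X₁ ⟶ S.X₂ => φ.val.app (op V) r) (kernel.lift_ι S.g S.f S.zero)).symm
  rw [h1, hr, ← hs]
  exact PresheafOfModules.naturality_apply (kernel.ι S.g).val i.op s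

end Epi

end Groth.Agent.H64.ToSheafEpi
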