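import Mathlib
import Groth.Prelude.Def_PBC
import Groth.Prelude.Def_ProEtS
import Groth.Agent.H23.WCDefs

/-!
# (L6) for helper23's S0715 squad: a sheaf on the pro-étale site turns a disjoint open cover
into a product
-/

set_option autoImplicit false
set_option backward.isDefEq.respectTransparency.types false
universe u v
open CategoryTheory CategoryTheory.Limits AlgebraicGeometry Opposite
open Groth.Agent.H23.WCDefs

namespace Groth.Agent.H64.WC_L6

/-- the family of inclusions of an open cover of `U.left` generates a covering sieve. -/
theorem generate_openIncl_mem {X : Scheme.{u}} (U : X.ProEt) {ι : Type v}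
    (W : ι → U.left.Opens) (hcov : (⋃ k, (W k : Set ↥U.left)) = Set.univ) :
    Sieve.generate (Presieve.ofArrows (fun k => openObj U (W k)) (fun k => openIncl U (W k))) ∈
      Scheme.ProEt.topology X U := by
  have hW : TopologicalSpace.IsOpenCover W := by
    apply TopologicalSpace.Opens.ext
    simpa using hcov
  let E : Scheme.Cover Scheme.proetalePrecoverage U.left :=
    (U.left.openCoverOfIsOpenCover W hW).weaken Scheme.zariskiPrecoverage_le_propQCPrecoverage
  have hR : Presieve.ofArrows (fun k => openObj U (W k)) (fun k => openIncl U (W k)) ∈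
      Scheme.ProEt.precoverage X U := by
    simp only [Scheme.ProEt.precoverage, Precoverage.mem_comap_iff, Presieve.map_ofArrows]
    exact E.mem₀
  exact Precoverage.generate_mem_toGrothendieck hR

/-- sections of a sheaf over an object with empty underlying scheme are unique. -/
theorem subsingleton_of_isEmpty {X : Scheme.{u}}
    (F : Sheaf (Scheme.ProEt.topology X) (Type (u + 1))) (Z : X.ProEt) [IsEmpty ↥Z.left] :
    Subsingleton (F.obj.obj (op Z)) := by
  have hF := (isSheaf_iff_isSheaf_of_type _ _).1 F.property
  have h := hF (⊥ : Sieve Z) (Scheme.ProEt.bot_mem_topology Z)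
  constructor
  intro a b
  exact h.isSeparatedFor.ext (fun Y f hf => hf.elim)

theorem bijective_restrict_disjoint_cover {X : Scheme.{u}}
    (F : Sheaf (Scheme.ProEt.topology X) (Type (u + 1))) (U : X.ProEt) {ι : Type v}
    (W : ι → U.left.Opens)
    (hdisj : Pairwise (fun k l => Disjoint (W k : Set ↥U.left) (W l)))
    (hcov : (⋃ k, (W k : Set ↥U.left)) = Set.univ) :
    Function.Bijective (fun (s : F.obj.obj (op U)) (k : ι) =>
      F.obj.map (openIncl U (W k)).op s) := by
  have hF := (isSheaf_iff_isSheaf_of_type _ _).1 F.property
  have h1 := hF _ (generate_openIncl_mem U W hcov)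
  rw [← Presieve.isSheafFor_iff_generate, Presieve.isSheafFor_arrows_iff] at h1
  -- every family is compatible
  have hcompat : ∀ x : (k : ι) → F.obj.obj (op (openObj U (W k))),
      Presieve.Arrows.Compatible F.obj (fun k => openIncl U (W k)) x := by
    intro x i j Z gi gj hg
    by_cases hij : i = j
    · subst hij
      have hmono : Mono (openIncl U (W i)) := by
        refine ⟨fun {Z'} a b hab => ?_⟩
        apply MorphismProperty.Over.Hom.ext
        have h2 : a.left ≫ (W i).ι = b.left ≫ (W i).ι := congrArg (fun f => f.left) hab
        exact (cancel_mono (W i).ι).1 h2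
      rw [(cancel_mono (openIncl U (W i))).1 hg]
    · have : IsEmpty ↥Z.left := by
        constructor
        intro z
        have h2 : gi.left ≫ (W i).ι = gj.left ≫ (W j).ι := congrArg (fun f => f.left) hg
        have h3 : (W i).ι (gi.left z) = (W j).ι (gj.left z) := by
          have := congrArg (fun f => f z) h2
          exact this
        have hi : (W i).ι (gi.left z) ∈ (W i : Set ↥U.left) := (gi.left z).2
        have hj : (W i).ι (gi.left z) ∈ (W j : Set ↥U.left) := by
          rw [h3]; exact (gj.left z).2
        exact Set.disjoint_left.1 (hdisj hij) hi hj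
      have := subsingleton_of_isEmpty F Z
      exact Subsingleton.elim _ _
  constructor
  · intro s t hst
    obtain ⟨r, -, hr⟩ := h1 _ (hcompat (fun k => F.obj.map (openIncl U (W k)).op s))
    rw [hr s (fun _ => rfl), hr t (fun k => (congrFun hst k).symm)]
  · intro x
    obtain ⟨r, hr, -⟩ := h1 x (hcompat x)
    exact ⟨r, funext hr⟩

end Groth.Agent.H64.WC_L6
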