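import Groth.Agent.H67.SubDefs2

/-!
# (K) for helper67's S0947/S0884 squad: a directed intersection of qc opens of a spectral space
which meets a qc open inside an open set already does so at a finite stage
-/

set_option autoImplicit false
universe u
open CategoryTheory CategoryTheory.Limits TopologicalSpace Opposite
open Groth.Agent.H42.CohTopLib Groth.Agent.H45.CohTopPush Groth.Agent.H67.Sub
  Groth.Agent.H67.SpecClosedAb

namespace Groth.Agent.H64.Sub_K

open Topology

/-- a directed family of closed subsets of a compact space with empty intersection has an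
empty member -/
lemma exists_eq_empty_of_directed {Y : Type*} (t' : TopologicalSpace Y) (hc : @CompactSpace Y t')
    {ι : Type*} [Nonempty ι] (C : ι → Set Y) (hC : ∀ i, @IsClosed Y t' (C i))
    (hdir : Directed (· ⊇ ·) C) (hempty : ⋂ i, C i = ∅) : ∃ i, C i = ∅ := by
  obtain ⟨i, hi⟩ := @IsCompact.elim_directed_family_closed Y t' Set.univ ι _
    (@isCompact_univ Y t' hc) C hC (by rw [hempty, Set.inter_empty]) hdir
  exact ⟨i, by rwa [Set.univ_inter] at hi⟩

section

variable {X : Type*} [TopologicalSpace X]

lemma compactSpace_constructible [CompactSpace X] [QuasiSober X] [PrespectralSpace X]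
    [QuasiSeparatedSpace X] : @CompactSpace X (constructibleTopology X) :=
  @Function.Surjective.compactSpace (WithConstructibleTopology X) X _ (constructibleTopology X)
    WithTopology.ofTopology (WithTopology.continuous_ofTopology _) _
    (WithTopology.ofTopology_surjective _)

lemma isClosed_constructible_of_isOpen_isCompact {U : Set X} (hU : IsOpen U) (hc : IsCompact U) :
    IsClosed[constructibleTopology X] U := by
  rw [← @isOpen_compl_iff X U (constructibleTopology X)]
  exact IsCompact.isOpen_constructibleTopology_of_isClosed (by rwa [compl_compl])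
    hU.isClosed_compl

lemma isOpen_constructible_of_isOpen [PrespectralSpace X] {A : Set X} (hA : IsOpen A) :
    IsOpen[constructibleTopology X] A := by
  obtain ⟨S, hS, rfl⟩ := PrespectralSpace.isTopologicalBasis.open_eq_sUnion hA
  exact @isOpen_sUnion X (constructibleTopology X) S (fun s hs =>
    IsCompact.isOpen_constructibleTopology_of_isOpen (hS hs).2 (hS hs).1)

end

/-- (K) -/
theorem exists_inter_subset {X : TopCat.{u}} [SpectralSpace X] {W : Set X} {Q : Opens X → Prop}
    (h : QFam W Q) (B A : Set X) (hBo : IsOpen B) (hBc : IsCompact B) (hA : IsOpen A)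
    (hWA : W ∩ B ⊆ A) : ∃ U : Opens X, Q U ∧ (U : Set X) ∩ B ⊆ A := by
  have : Nonempty {U : Opens X // Q U} := by
    obtain ⟨U, hU⟩ := h.ne
    exact ⟨⟨U, hU⟩⟩
  let C : {U : Opens X // Q U} → Set X := fun U => ((U.1 : Set X) ∩ B) ∩ Aᶜ
  have hC : ∀ U, IsClosed[constructibleTopology X] (C U) := fun U =>
    @IsClosed.inter X _ _ (constructibleTopology X)
      (@IsClosed.inter X _ _ (constructibleTopology X)
        (isClosed_constructible_of_isOpen_isCompact U.1.2 (h.cpt U.1 U.2))
        (isClosed_constructible_of_isOpen_isCompact hBo hBc))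
      ((@isOpen_compl_iff X Aᶜ (constructibleTopology X)).1
        (by rw [compl_compl]; exact isOpen_constructible_of_isOpen hA))
  have hdir : Directed (· ⊇ ·) C := by
    intro U V
    obtain ⟨W', hW', h1, h2⟩ := h.dir U.1 V.1 U.2 V.2
    refine ⟨⟨W', hW'⟩, ?_, ?_⟩
    · exact Set.inter_subset_inter_left _ (Set.inter_subset_inter_left _ h1)
    · exact Set.inter_subset_inter_left _ (Set.inter_subset_inter_left _ h2)
  have hempty : ⋂ U, C U = ∅ := by
    rw [Set.eq_empty_iff_forall_notMem]
    intro x hx
    rw [Set.mem_iInter] at hx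
    obtain ⟨U₀, hU₀⟩ := h.ne
    have hxW : x ∈ W := h.mem x (fun U hU => (hx ⟨U, hU⟩).1.1)
    exact (hx ⟨U₀, hU₀⟩).2 (hWA ⟨hxW, (hx ⟨U₀, hU₀⟩).1.2⟩)
  obtain ⟨U, hU⟩ := exists_eq_empty_of_directed (constructibleTopology X)
    compactSpace_constructible C hC hdir hempty
  refine ⟨U.1, U.2, fun x hx => ?_⟩
  by_contra hxA
  have : x ∈ C U := ⟨hx, hxA⟩
  rw [hU] at this
  exact this

end Groth.Agent.H64.Sub_K
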