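import Mathlib
import Groth.Prelude.Def_Frob
import Groth.Agent.H99.LVFrobDefs

/-!
# (A) for helper99's S18396 squad: powers of the absolute Frobenius
-/

set_option autoImplicit false
universe u
open AlgebraicGeometry CategoryTheory CategoryTheory.Limits
open Groth.Agent.H99.LVFrob

namespace Groth.Agent.H64.LVFrob_A

theorem frobPow_zero (X : Scheme.{u}) (p : ℕ) [Fact p.Prime] [FrobSch.IsCharP X p] :
    frobPow X p 0 = 𝟙 X := by
  change End.asHom (End.of (FrobSch.frob X p) ^ 0) = 𝟙 X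
  rw [pow_zero]
  rfl

theorem frobPow_succ (X : Scheme.{u}) (p : ℕ) [Fact p.Prime] [FrobSch.IsCharP X p] (m : ℕ) :
    frobPow X p (m + 1) = FrobSch.frob X p ≫ frobPow X p m := by
  change End.asHom (End.of (FrobSch.frob X p) ^ (m + 1)) = _
  rw [pow_succ]
  rfl

theorem frobPow_succ' (X : Scheme.{u}) (p : ℕ) [Fact p.Prime] [FrobSch.IsCharP X p] (m : ℕ) :
    frobPow X p (m + 1) = frobPow X p m ≫ FrobSch.frob X p := by
  change End.asHom (End.of (FrobSch.frob X p) ^ (m + 1)) = _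
  rw [pow_succ']
  rfl

theorem frobPow_preimage (X : Scheme.{u}) (p : ℕ) [Fact p.Prime] [FrobSch.IsCharP X p] (m : ℕ)
    (U : X.Opens) : (frobPow X p m) ⁻¹ᵁ U = U := by
  induction m with
  | zero => rw [frobPow_zero]; rfl
  | succ m ih =>
    rw [frobPow_succ, Scheme.Hom.comp_preimage, ih]
    rfl

theorem appLE_congr_hom {X : Scheme.{u}} {f g : X ⟶ X} (hfg : f = g) (U : X.Opens)
    (h : U ≤ f ⁻¹ᵁ U) (s : Γ(X, U)) :
    f.appLE U U h s = g.appLE U U (hfg ▸ h) s := by
  subst hfg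
  rfl

theorem frobPow_appLE (X : Scheme.{u}) (p : ℕ) [Fact p.Prime] [FrobSch.IsCharP X p] (m : ℕ)
    (U : X.Opens) (h : U ≤ (frobPow X p m) ⁻¹ᵁ U) (s : Γ(X, U)) :
    (frobPow X p m).appLE U U h s = s ^ (p ^ m) := by
  induction m generalizing s with
  | zero =>
    rw [appLE_congr_hom (frobPow_zero X p) U h s, pow_zero, pow_one]
    have h1 : (𝟙 X : X ⟶ X).appLE U U (frobPow_zero X p ▸ h) = 𝟙 _ := by
      simp only [Scheme.Hom.appLE, Scheme.Hom.id_app]
      exact (congrArg X.presheaf.map (Subsingleton.elim _ (𝟙 (Opposite.op U)))).trans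
        (X.presheaf.map_id _)
    rw [h1]
    rfl
  | succ m ih =>
    rw [appLE_congr_hom (frobPow_succ' X p m) U h s, Scheme.Hom.comp_appLE]
    have h' : U ≤ (frobPow X p m) ⁻¹ᵁ U := (frobPow_preimage X p m U).ge
    change (frobPow X p m).appLE U U h' ((FrobSch.frob X p).app U s) = _
    rw [ih h', FrobSch.frob_app, ← pow_mul, ← pow_succ']

theorem frobPow_comp {X Y : Scheme.{u}} (p : ℕ) [Fact p.Prime] [FrobSch.IsCharP X p]
    [FrobSch.IsCharP Y p] (f : X ⟶ Y) (m : ℕ) : frobPow X p m ≫ f = f ≫ frobPow Y p m := by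
  induction m with
  | zero => rw [frobPow_zero, frobPow_zero, Category.id_comp, Category.comp_id]
  | succ m ih =>
    rw [frobPow_succ, frobPow_succ, Category.assoc, ih, ← Category.assoc, FrobSch.frob_comp,
      Category.assoc]

end Groth.Agent.H64.LVFrob_A
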