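import Mathlib
import Groth.Agent.H35.BCSquare
import Groth.Agent.H53.LBaseChange

/-!
# (P1) for helper28's S1100/S5631 squad: base change of a K-flat model along `C₀ → B₁ ⊗ C₀`
-/

set_option autoImplicit false
universe u
open CategoryTheory CategoryTheory.Limits TensorProduct
attribute [local instance] HasDerivedCategory.standard
attribute [local instance] Algebra.TensorProduct.rightAlgebra
open DRing Groth.Agent.H35.FlatBC Groth.Agent.H35.BCSquare

namespace Groth.Agent.H64.RelFlat_P1

theorem quasiIso_extCx_incR {R D R' : Type u} [CommRing R] [CommRing D] [CommRing R']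
    [Algebra R D] [Algebra R R'] [Module.Flat R D]
    {P E : Cx D} (α : P ⟶ E) (hα : QuasiIso α) (hP : DRing.IsKFlat D P) (b : ℤ)
    (hE : VanishesAbove E b)
    (hfl : TermwiseFlat ((DRing.restrictCx (algebraMap R D)).obj E)) :
    QuasiIso ((extCx (incR (B₀ := R) (C₀ := D) (B₁ := R'))).map α) := by
  have hflat : (algebraMap R D).Flat := RingHom.flat_algebraMap_iff.2 inferInstance
  have hP' : DRing.IsKFlat R ((DRing.restrictCx (algebraMap R D)).obj P) :=
    isKFlat_resCx (algebraMap R D) hflat P hP
  have hEv : VanishesAbove ((DRing.restrictCx (algebraMap R D)).obj E) b := fun i hi =>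
    (ModuleCat.restrictScalars (algebraMap R D)).map_isZero (hE i hi)
  have hE' : DRing.IsKFlat R ((DRing.restrictCx (algebraMap R D)).obj E) :=
    Groth.Agent.H31.KFlatRing.isKFlat_of_bounded_above_flat _ b hEv hfl
  have hres : QuasiIso ((DRing.restrictCx (algebraMap R D)).map α) :=
    (HomologicalComplex.quasiIso_map_iff_of_preservesHomology α
      (ModuleCat.restrictScalars (algebraMap R D))).2 hα
  have h1 : QuasiIso ((extCx (algebraMap R R')).map ((DRing.restrictCx (algebraMap R D)).map α)) :=
    Groth.Agent.H53.LBaseChange.quasiIso_extCx_map (algebraMap R R') _ hres hP' hE'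
  have hsq : (extCx (algebraMap R R')).map ((DRing.restrictCx (algebraMap R D)).map α) ≫
      (bcCxIso (B₀ := R) (B₁ := R') E).hom =
      (bcCxIso (B₀ := R) (B₁ := R') P).hom ≫
        (DRing.restrictCx (incL (B₀ := R) (C₀ := D) (B₁ := R'))).map
          ((extCx (incR (B₀ := R) (C₀ := D) (B₁ := R'))).map α) := by
    ext j : 1
    exact bcIso_natural (B₀ := R) (B₁ := R') (α.f j)
  have h2 : QuasiIso ((bcCxIso (B₀ := R) (B₁ := R') P).hom ≫
        (DRing.restrictCx (incL (B₀ := R) (C₀ := D) (B₁ := R'))).map
          ((extCx (incR (B₀ := R) (C₀ := D) (B₁ := R'))).map α)) := by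
    rw [← hsq]
    infer_instance
  have h3 : QuasiIso ((DRing.restrictCx (incL (B₀ := R) (C₀ := D) (B₁ := R'))).map
      ((extCx (incR (B₀ := R) (C₀ := D) (B₁ := R'))).map α)) :=
    quasiIso_of_comp_left (bcCxIso (B₀ := R) (B₁ := R') P).hom _
  exact (HomologicalComplex.quasiIso_map_iff_of_preservesHomology _
    (ModuleCat.restrictScalars (incL (B₀ := R) (C₀ := D) (B₁ := R')))).1 h3

end Groth.Agent.H64.RelFlat_P1
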