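import Groth.Agent.H64.TensPermRestr
import Groth.Agent.H92.RestrExact
import Groth.Agent.H31.ExtZeroFlat
import Groth.Agent.H45.ToSheafColim

/-!
# Finite type modules on ringed spaces: local lifting of sections and extensions (helper64)
-/

set_option autoImplicit false
universe u
open CategoryTheory CategoryTheory.Limits Opposite TopologicalSpace

namespace Groth.Agent.H64.ModSiteFT

open Groth.Agent.H64.TensPerm

variable {X : TopCat.{u}} (O : Sheaf (Opens.grothendieckTopology X) CommRingCat.{u})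

/-- Maps from the unit of the slice over `W` are sections over `W`. -/
noncomputable def ev (M : ModSite.Mod O) (W : Opens X) :
    (SheafOfModules.unit (ModSite.ringSh (O.over W)) ⟶ (ModSite.restr O W).obj M) ≃+
      M.val.obj (op W) :=
  Groth.Agent.H31.ExtZero.unitHomAddEquiv ((ModSite.restr O W).obj M)
    (Over.mkIdTerminal (X := W))

theorem ev_comp {M N : ModSite.Mod O} (φ : M ⟶ N) (W : Opens X)
    (u : SheafOfModules.unit (ModSite.ringSh (O.over W)) ⟶ (ModSite.restr O W).obj M) :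
    ev O N W (u ≫ (ModSite.restr O W).map φ) = φ.val.app (op W) (ev O M W u) := rfl

theorem ev_rho (M : ModSite.Mod O) {W W' : Opens X} (f : W' ⟶ W)
    (u : SheafOfModules.unit (ModSite.ringSh (O.over W)) ⟶ (ModSite.restr O W).obj M) :
    ev O M W' ((rho (ModSite.ringSh O) f).map u) = M.val.map f.op (ev O M W u) := by
  let g : (op (Over.mk (𝟙 W)) : (Over W)ᵒᵖ) ⟶ op (Over.mk f) :=
    (Over.homMk f : Over.mk f ⟶ Over.mk (𝟙 W)).op
  have h1 := PresheafOfModules.naturality_apply u.val g
    (1 : (ModSite.ringSh (O.over W)).obj.obj (op (Over.mk (𝟙 W))))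
  have h2 : (SheafOfModules.unit (ModSite.ringSh (O.over W))).val.map g
      (1 : (ModSite.ringSh (O.over W)).obj.obj (op (Over.mk (𝟙 W)))) =
      (1 : (ModSite.ringSh (O.over W)).obj.obj (op (Over.mk f))) :=
    PresheafOfModules.unit_map_one _ _
  exact (h1.symm.trans (congrArg (u.val.app (op (Over.mk f))) h2)).symm

/-- Sections lift locally along epimorphisms of sheaves of modules. -/
theorem exists_lift_section {G F : ModSite.Mod O} (θ : G ⟶ F) [Epi θ] (U : Opens X)
    (s : F.val.obj (op U)) (x : X) (hx : x ∈ U) :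
    ∃ (W : Opens X) (h : W ≤ U), x ∈ W ∧ ∃ t : G.val.obj (op W),
      θ.val.app (op W) t = F.val.map (homOfLE h).op s := by
  have := Groth.Agent.H45.toSheaf_preservesFiniteColimits (ModSite.ringSh O)
  have h1 : Epi ((SheafOfModules.toSheaf (ModSite.ringSh O)).map θ) := inferInstance
  have h2 : Sheaf.IsLocallySurjective ((SheafOfModules.toSheaf (ModSite.ringSh O)).map θ) :=
    (Sheaf.isLocallySurjective_iff_epi' _ _).2 h1
  have h3 := Presheaf.imageSieve_mem (Opens.grothendieckTopology X)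
    ((SheafOfModules.toSheaf (ModSite.ringSh O)).map θ).hom (U := op U) s
  obtain ⟨V, f, ⟨t, ht⟩, hxV⟩ := h3 x hx
  exact ⟨V, f.le, hxV, t, ht⟩

/-- Maps from the unit lift locally along epimorphisms. -/
theorem exists_lift_unit {G F : ModSite.Mod O} (θ : G ⟶ F) [Epi θ] (U : Opens X)
    (u : SheafOfModules.unit (ModSite.ringSh (O.over U)) ⟶ (ModSite.restr O U).obj F)
    (x : X) (hx : x ∈ U) :
    ∃ (W : Opens X) (h : W ≤ U), x ∈ W ∧
      ∃ v : SheafOfModules.unit (ModSite.ringSh (O.over W)) ⟶ (ModSite.restr O W).obj G,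
        v ≫ (ModSite.restr O W).map θ = (rho (ModSite.ringSh O) (homOfLE h)).map u := by
  obtain ⟨W, h, hxW, t, ht⟩ := exists_lift_section O θ U (ev O F U u) x hx
  refine ⟨W, h, hxW, (ev O G W).symm t, ?_⟩
  apply (ev O F W).injective
  rw [ev_comp, ev_rho, AddEquiv.apply_symm_apply]
  exact ht

/-- Lifts restrict to smaller opens. -/
theorem lift_restrict {G F : ModSite.Mod O} (θ : G ⟶ F) {U W W' : Opens X} (h : W ≤ U)
    (h' : W' ≤ W)
    (u : SheafOfModules.unit (ModSite.ringSh (O.over U)) ⟶ (ModSite.restr O U).obj F)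
    (v : SheafOfModules.unit (ModSite.ringSh (O.over W)) ⟶ (ModSite.restr O W).obj G)
    (hv : v ≫ (ModSite.restr O W).map θ = (rho (ModSite.ringSh O) (homOfLE h)).map u) :
    ∃ v' : SheafOfModules.unit (ModSite.ringSh (O.over W')) ⟶ (ModSite.restr O W').obj G,
      v' ≫ (ModSite.restr O W').map θ =
        (rho (ModSite.ringSh O) (homOfLE (h'.trans h))).map u := by
  refine ⟨(rho (ModSite.ringSh O) (homOfLE h')).map v, ?_⟩
  have e0 : (rho (ModSite.ringSh O) (homOfLE h')).map v ≫ (ModSite.restr O W').map θ =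
      (rho (ModSite.ringSh O) (homOfLE h')).map (v ≫ (ModSite.restr O W).map θ) :=
    ((rho (ModSite.ringSh O) (homOfLE h')).map_comp v ((ModSite.restr O W).map θ)).symm
  refine e0.trans ?_
  refine (congrArg (fun z => (rho (ModSite.ringSh O) (homOfLE h')).map z) hv).trans ?_
  apply (ev O F W').injective
  refine (ev_rho O F (homOfLE h') _).trans ?_
  refine (congrArg (fun z => F.val.map (homOfLE h').op z) (ev_rho O F (homOfLE h) u)).trans ?_
  refine Eq.trans ?_ (ev_rho O F (homOfLE (h'.trans h)) u).symm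
  exact (F.val.map_comp_apply _ _ _).symm

/-- Finite families of maps from the unit lift locally along epimorphisms. -/
theorem exists_lift_family {G F : ModSite.Mod O} (θ : G ⟶ F) [Epi θ] (U : Opens X)
    {I : Type u} [Finite I]
    (u : I → (SheafOfModules.unit (ModSite.ringSh (O.over U)) ⟶ (ModSite.restr O U).obj F))
    (x : X) (hx : x ∈ U) :
    ∃ (W : Opens X) (h : W ≤ U), x ∈ W ∧ ∀ i,
      ∃ v : SheafOfModules.unit (ModSite.ringSh (O.over W)) ⟶ (ModSite.restr O W).obj G,
        v ≫ (ModSite.restr O W).map θ = (rho (ModSite.ringSh O) (homOfLE h)).map (u i) := by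
  classical
  have := Fintype.ofFinite I
  suffices H : ∀ s : Finset I, ∃ (W : Opens X) (h : W ≤ U), x ∈ W ∧ ∀ i ∈ s,
      ∃ v : SheafOfModules.unit (ModSite.ringSh (O.over W)) ⟶ (ModSite.restr O W).obj G,
        v ≫ (ModSite.restr O W).map θ = (rho (ModSite.ringSh O) (homOfLE h)).map (u i) by
    obtain ⟨W, h, hxW, hW⟩ := H Finset.univ
    exact ⟨W, h, hxW, fun i => hW i (Finset.mem_univ i)⟩
  intro s
  induction s using Finset.induction_on with
  | empty => exact ⟨U, le_rfl, hx, fun i hi => absurd hi (Finset.notMem_empty i)⟩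
  | insert a s ha ih =>
    obtain ⟨W, h, hxW, hW⟩ := ih
    obtain ⟨W1, h1, hxW1, v1, hv1⟩ := exists_lift_unit O θ U (u a) x hx
    refine ⟨W ⊓ W1, inf_le_left.trans h, ⟨hxW, hxW1⟩, ?_⟩
    intro i hi
    rcases Finset.mem_insert.1 hi with rfl | hi
    · exact lift_restrict O θ h1 inf_le_right (u i) v1 hv1
    · obtain ⟨v, hv⟩ := hW i hi
      exact lift_restrict O θ h inf_le_left (u i) v hv

/-- In an abelian category: if `X₁ ⟶ X₂ ⟶ X₃ ⟶ 0` is exact, `a : A ⟶ X₁` is epi and
`t : B ⟶ X₂` has `t ≫ g` epi, then `A ⨿ B ⟶ X₂` is epi. -/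
theorem epi_coprod_desc {𝒜 : Type*} [Category 𝒜] [Abelian 𝒜] (S : ShortComplex 𝒜)
    (hS : S.Exact) [Epi S.g] {A B : 𝒜} (a : A ⟶ S.X₁) [Epi a] (t : B ⟶ S.X₂) [Epi (t ≫ S.g)] :
    Epi (coprod.desc (a ≫ S.f) t) := by
  apply Abelian.epi_of_cokernel_π_eq_zero
  set φ := coprod.desc (a ≫ S.f) t with hφ
  have h1 : S.f ≫ cokernel.π φ = 0 := by
    rw [← cancel_epi a, comp_zero, ← Category.assoc]
    have : a ≫ S.f = coprod.inl ≫ φ := by rw [hφ, coprod.inl_desc]
    rw [this, Category.assoc, cokernel.condition, comp_zero]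
  obtain ⟨c', hc'⟩ : ∃ c' : S.X₃ ⟶ cokernel φ, S.g ≫ c' = cokernel.π φ :=
    ⟨hS.desc (cokernel.π φ) h1, hS.g_desc _ _⟩
  have h2 : c' = 0 := by
    rw [← cancel_epi (t ≫ S.g), comp_zero, Category.assoc, hc']
    have : t = coprod.inr ≫ φ := by rw [hφ, coprod.inr_desc]
    rw [this, Category.assoc, cokernel.condition, comp_zero]
  rw [← hc', h2, comp_zero]

section General

variable {C : Type u} [SmallCategory C] {J : GrothendieckTopology C} {R : Sheaf J RingCat.{u}}

theorem desc_comp_eq {M N : SheafOfModules.{u} R} {I : Type u}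
    (v : I → (SheafOfModules.unit R ⟶ M)) (g : M ⟶ N) (p : SheafOfModules.free I ⟶ N)
    (h : ∀ k, v k ≫ g = SheafOfModules.ιFree k ≫ p) :
    Cofan.IsColimit.desc (SheafOfModules.isColimitFreeCofan I) v ≫ g = p := by
  apply Cofan.IsColimit.hom_ext (SheafOfModules.isColimitFreeCofan I)
  intro k
  rw [← Category.assoc, Cofan.IsColimit.fac, h k]
  rfl

theorem exists_gen_of_epi_coprod {M : SheafOfModules.{u} R} {I1 I3 : Type u} [Finite I1]
    [Finite I3] (φ : SheafOfModules.free (R := R) I1 ⨿ SheafOfModules.free I3 ⟶ M) [Epi φ] :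
    ∃ γ : M.GeneratingSections, γ.IsFiniteType :=
  ⟨{ I := I1 ⊕ I3
     s := SheafOfModules.freeHomEquiv _ ((SheafOfModules.freeSumIso I1 I3).inv ≫ φ)
     epi := by
       rw [Equiv.symm_apply_apply]
       infer_instance }, ⟨(inferInstance : Finite (I1 ⊕ I3))⟩⟩

theorem ιFree_map_π {C' : Type u} [SmallCategory C'] {J' : GrothendieckTopology C'}
    {R' : Sheaf J' RingCat.{u}} {M : SheafOfModules.{u} R} (τ : M.GeneratingSections)
    (F : SheafOfModules.{u} R ⥤ SheafOfModules.{u} R') [PreservesColimitsOfSize.{u, u} F]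
    (η : SheafOfModules.unit R' ≅ F.obj (SheafOfModules.unit R)) (k : τ.I) :
    SheafOfModules.ιFree k ≫ (τ.map F η).π = η.hom ≫ F.map (SheafOfModules.ιFree k ≫ τ.π) := by
  rw [SheafOfModules.GeneratingSections.map_π_eq, ← Category.assoc,
    SheafOfModules.ιFree_mapFreeIso_hom, Category.assoc, ← F.map_comp]

end General

/-- Local finite generation of the middle term of a short exact sequence. -/
theorem exists_gen_of_shortExact (S : ShortComplex (ModSite.Mod O)) (hS : S.ShortExact)
    (W0 : Opens X)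
    (σ : (SheafOfModules.over (R := ModSite.ringSh O) S.X₁ W0).GeneratingSections)
    [hσ : σ.IsFiniteType]
    (τ : (SheafOfModules.over (R := ModSite.ringSh O) S.X₃ W0).GeneratingSections)
    [hτ : τ.IsFiniteType] (x : X) (hx : x ∈ W0) :
    ∃ (W : Opens X), x ∈ W ∧
      ∃ γ : (SheafOfModules.over (R := ModSite.ringSh O) S.X₂ W).GeneratingSections,
        γ.IsFiniteType := by
  have hg : Epi S.g := hS.epi_g
  have := hσ.finite
  have := hτ.finite
  let u : τ.I → (SheafOfModules.unit (ModSite.ringSh (O.over W0)) ⟶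
      (ModSite.restr O W0).obj S.X₃) := fun k => SheafOfModules.ιFree k ≫ τ.π
  obtain ⟨W, h, hxW, hv⟩ := exists_lift_family O S.g W0 u x hx
  choose v hv using hv
  refine ⟨W, hxW, ?_⟩
  let σ' := genRestr (ModSite.ringSh O) (homOfLE h) σ
  let τ' := genRestr (ModSite.ringSh O) (homOfLE h) τ
  let t : SheafOfModules.free (R := ModSite.ringSh (O.over W)) τ.I ⟶
      (ModSite.restr O W).obj S.X₂ :=
    Cofan.IsColimit.desc (SheafOfModules.isColimitFreeCofan τ.I) v
  have ht : t ≫ (ModSite.restr O W).map S.g = τ'.π :=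
    desc_comp_eq v ((ModSite.restr O W).map S.g) τ'.π (fun k => by
      refine (hv k).trans ?_
      refine Eq.trans ?_ (ιFree_map_π τ (rho (ModSite.ringSh O) (homOfLE h))
        (rhoUnit (ModSite.ringSh O) (homOfLE h)) k).symm
      exact (Category.id_comp _).symm)
  let S' := S.map (ModSite.restr O W)
  have hS' : S'.ShortExact := hS.map_of_exact (ModSite.restr O W)
  have hg' : Epi S'.g := hS'.epi_g
  have hσ' : Epi σ'.π := σ'.epi
  have hτ'π : Epi τ'.π := τ'.epi
  have hτ' : Epi (t ≫ S'.g) := by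
    have : t ≫ S'.g = τ'.π := ht
    rw [this]
    exact hτ'π
  have hepi : Epi (coprod.desc (σ'.π ≫ S'.f) t) :=
    @epi_coprod_desc _ _ _ S' hS'.exact hg' _ _ σ'.π hσ' t hτ'
  exact @exists_gen_of_epi_coprod _ _ _ _ _ _ _ _ _ (coprod.desc (σ'.π ≫ S'.f) t) hepi

/-- Finite type is a local property. -/
theorem isFiniteType_of_local (M : ModSite.Mod O)
    (h : ∀ x : X, ∃ W : Opens X, x ∈ W ∧
      ∃ γ : (SheafOfModules.over (R := ModSite.ringSh O) M W).GeneratingSections,
        γ.IsFiniteType) :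
    SheafOfModules.IsFiniteType (R := ModSite.ringSh O) M := by
  choose W hxW γ hγ using h
  let q : SheafOfModules.LocalGeneratorsData.{u} (R := ModSite.ringSh O) M :=
    { I := (X : Type u), X := W, generators := γ
      coversTop := by
        intro W0 y hy
        exact ⟨W0 ⊓ W y, homOfLE inf_le_left, ⟨y, ⟨homOfLE inf_le_right⟩⟩, ⟨hy, hxW y⟩⟩ }
  have hq : q.IsFiniteType := { isFiniteType := fun i => hγ i }
  exact { exists_localGeneratorsData := ⟨q, hq⟩ }

/-- A finite type module is finitely generated near every point. -/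
theorem exists_local_of_isFiniteType (M : ModSite.Mod O)
    [h : SheafOfModules.IsFiniteType (R := ModSite.ringSh O) M] (x : X) :
    ∃ W : Opens X, x ∈ W ∧
      ∃ γ : (SheafOfModules.over (R := ModSite.ringSh O) M W).GeneratingSections,
        γ.IsFiniteType := by
  obtain ⟨q, hq⟩ := SheafOfModules.IsFiniteType.exists_localGeneratorsData M
  obtain ⟨V, f, ⟨i, ⟨g⟩⟩, hxV⟩ := q.coversTop ⊤ x trivial
  have := hq.isFiniteType i
  exact ⟨V, hxV, genRestr (ModSite.ringSh O) g (q.generators i),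
    genRestr_isFiniteType _ g (q.generators i)⟩

/-- On a ringed space, an extension of finite type modules is of finite type. -/
theorem isFiniteType_of_shortExact (S : ShortComplex (ModSite.Mod O)) (hS : S.ShortExact)
    [SheafOfModules.IsFiniteType (R := ModSite.ringSh O) S.X₁]
    [SheafOfModules.IsFiniteType (R := ModSite.ringSh O) S.X₃] :
    SheafOfModules.IsFiniteType (R := ModSite.ringSh O) S.X₂ := by
  apply isFiniteType_of_local
  intro x
  obtain ⟨W1, hx1, σ, hσ⟩ := exists_local_of_isFiniteType O S.X₁ x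
  obtain ⟨W3, hx3, τ, hτ⟩ := exists_local_of_isFiniteType O S.X₃ x
  have h1 := genRestr_isFiniteType (ModSite.ringSh O) (homOfLE (inf_le_left : W1 ⊓ W3 ≤ W1)) σ
  have h3 := genRestr_isFiniteType (ModSite.ringSh O) (homOfLE (inf_le_right : W1 ⊓ W3 ≤ W3)) τ
  exact exists_gen_of_shortExact O S hS (W1 ⊓ W3)
    (genRestr (ModSite.ringSh O) (homOfLE inf_le_left) σ)
    (genRestr (ModSite.ringSh O) (homOfLE inf_le_right) τ) x ⟨hx1, hx3⟩

end Groth.Agent.H64.ModSiteFT
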