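import Mathlib

/-!
# (FR) for helper7's S4684 squad: `κ(η)` is the fraction field of `Γ(Y, V)`
-/

set_option autoImplicit false
universe u
open CategoryTheory CategoryTheory.Limits AlgebraicGeometry TopologicalSpace Opposite TensorProduct

namespace Groth.Agent.H64.FlatQuot_FR

/-- the formula for the comorphism of `Spec κ(y) ⟶ Y` on an open containing `y` -/
theorem fromSpecResidueField_appLE {Y : Scheme.{u}} (y : Y) {V : Y.Opens} (hy : y ∈ V)
    (hle : (⊤ : (Spec (Y.residueField y)).Opens) ≤ (Y.fromSpecResidueField y) ⁻¹ᵁ V) :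
    (Y.fromSpecResidueField y).appLE V ⊤ hle =
      Y.presheaf.germ V y hy ≫ Y.residue y ≫ (Scheme.ΓSpecIso (Y.residueField y)).inv := by
  have h1 : (Y.fromSpecResidueField y).appLE V ⊤ hle =
      (Y.fromSpecStalk y).app V ≫
        (Spec.map (Y.residue y)).appLE ((Y.fromSpecStalk y) ⁻¹ᵁ V) ⊤ hle :=
    Scheme.Hom.comp_appLE (Spec.map (Y.residue y)) (Y.fromSpecStalk y) V ⊤ hle
  rw [h1, Scheme.fromSpecStalk_app hy, Category.assoc, Category.assoc,
    Scheme.Hom.map_appLE, Scheme.ΓSpecIso_inv_naturality]
  congr 2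

theorem isFractionRing_appLE {Y : Scheme.{u}} [IsIntegral Y] {V : Y.Opens} (hV : IsAffineOpen V)
    (hle : (⊤ : (Spec (Y.residueField (genericPoint Y))).Opens) ≤
      (Y.fromSpecResidueField (genericPoint Y)) ⁻¹ᵁ V) :
    letI := ((Y.fromSpecResidueField (genericPoint Y)).appLE V ⊤ hle).hom.toAlgebra
    IsFractionRing Γ(Y, V) Γ(Spec (Y.residueField (genericPoint Y)), ⊤) := by
  let _ := ((Y.fromSpecResidueField (genericPoint Y)).appLE V ⊤ hle).hom.toAlgebra
  -- the generic point lies in `V`
  have hη : genericPoint Y ∈ V := by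
    have t : Spec (Y.residueField (genericPoint Y)) := Classical.arbitrary _
    have := hle (show t ∈ (⊤ : (Spec (Y.residueField (genericPoint Y))).Opens) from trivial)
    rwa [Scheme.Hom.mem_preimage, Scheme.fromSpecResidueField_apply] at this
  have : Nonempty V := ⟨⟨genericPoint Y, hη⟩⟩
  have hfr : IsFractionRing Γ(Y, V) Y.functionField :=
    functionField_isFractionRing_of_isAffineOpen Y V hV
  -- the residue map at the generic point is bijective
  have hbij : Function.Bijective (Y.residue (genericPoint Y)).hom := by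
    refine ⟨?_, IsLocalRing.residue_surjective⟩
    exact RingHom.injective (R := Y.functionField) (Y.residue (genericPoint Y)).hom
  let e₁ : Y.functionField ≃+* Y.residueField (genericPoint Y) :=
    RingEquiv.ofBijective (Y.residue (genericPoint Y)).hom hbij
  let e₂ : Y.residueField (genericPoint Y) ≃+*
      Γ(Spec (Y.residueField (genericPoint Y)), ⊤) :=
    (Scheme.ΓSpecIso (Y.residueField (genericPoint Y))).symm.commRingCatIsoToRingEquiv
  let e : Y.functionField ≃ₐ[Γ(Y, V)] Γ(Spec (Y.residueField (genericPoint Y)), ⊤) :=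
    AlgEquiv.ofRingEquiv (f := e₁.trans e₂) (fun a => by
      have h := fromSpecResidueField_appLE (genericPoint Y) hη hle
      exact (ConcreteCategory.congr_hom h a).symm)
  exact IsLocalization.isLocalization_of_algEquiv (nonZeroDivisors Γ(Y, V)) e

end Groth.Agent.H64.FlatQuot_FR
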