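import Groth.Prelude.Def_NonAbH2
import Groth.Prelude.Def_Red2
import Mathlib.AlgebraicGeometry.Sites.Fpqc
import Mathlib.AlgebraicGeometry.Sites.BigZariski

/-!
# (COVER) for helper91's S6006 squad: an fpqc covering family, pulled back to an affine scheme,
is refined by one faithfully flat morphism from an affine scheme
-/

universe u
open CategoryTheory CategoryTheory.Limits AlgebraicGeometry

namespace Groth.Agent.H64.GaH1Cover

theorem exists_affine_ff {S : Scheme.{u}} (R : Presieve S) (hR : R ∈ Scheme.fpqcPrecoverage S)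
    {U : Scheme.{u}} [IsAffine U] (f' : U ⟶ S) :
    ∃ (W : Scheme.{u}) (_ : IsAffine W) (q : W ⟶ U) (_ : Flat q) (_ : Surjective q),
      ∀ (X : Over S), (∀ ⦃S' : Scheme.{u}⦄ (f : S' ⟶ S), R f → NonAbH1.HasSectionOver X f) →
        ∃ σ : W ⟶ X.left, σ ≫ X.hom = q ≫ f' := by
  have hR' : R ∈ Scheme.propQCPrecoverage @Flat S := hR
  obtain ⟨𝒰, hqc, rfl⟩ := Scheme.mem_propQCPrecoverage_iff_exists_quasiCompactCover.1 hR'
  have hflat : ∀ i, Flat (𝒰.f i) := fun i => 𝒰.map_prop i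
  let 𝒱 : PreZeroHypercover U := 𝒰.toPreZeroHypercover.pullback₁ f'
  have h𝒱 : QuasiCompactCover 𝒱 := inferInstance
  obtain ⟨n, idx, V, hV, hcov⟩ := QuasiCompactCover.exists_isAffineOpen_of_isCompact 𝒱
    (U := (⊤ : U.Opens)) isCompact_univ
  have hVaff : ∀ j, IsAffine (V j : Scheme.{u}) := fun j => hV j
  let g : ∀ j : Fin n, (V j : Scheme.{u}) ⟶ U := fun j => (V j).ι ≫ 𝒱.f (idx j)
  have hg : ∀ j, Flat (g j) := fun j => by
    have : Flat (𝒱.f (idx j)) := by
      change Flat (pullback.fst f' (𝒰.f (idx j)))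
      infer_instance
    infer_instance
  refine ⟨∐ (fun j : Fin n => (V j : Scheme.{u})), inferInstance, Sigma.desc g, inferInstance,
    ?_, ?_⟩
  · apply Surjective.sigmaDesc_of_union_range_eq_univ
    rw [Set.eq_univ_iff_forall]
    intro u
    have hu : u ∈ ⋃ i, 𝒱.f (idx i) '' (V i : Set _) := by
      rw [hcov]
      trivial
    obtain ⟨j, v, hv, rfl⟩ := Set.mem_iUnion.1 hu
    exact Set.mem_iUnion.2 ⟨j, ⟨⟨v, hv⟩, rfl⟩⟩
  · intro X hsec
    choose s hs using fun i => hsec (𝒰.f i) ⟨i⟩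
    refine ⟨Sigma.desc (fun j => (V j).ι ≫ pullback.snd f' (𝒰.f (idx j)) ≫ s (idx j)), ?_⟩
    apply Sigma.hom_ext
    intro j
    rw [Sigma.ι_desc_assoc, Sigma.ι_desc_assoc]
    simp only [Category.assoc, g]
    rw [hs]
    congr 1
    exact (pullback.condition (f := f') (g := 𝒰.f (idx j))).symm

end Groth.Agent.H64.GaH1Cover
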