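import Groth.Agent.H61.LocHilbTangent
import Groth.Agent.H61.DefFlat

/-!
# (SELF) for helper61's S12260 squad: the difference homomorphisms of `I` with itself vanish
-/

set_option autoImplicit false
universe u
open CategoryTheory CategoryTheory.Limits AlgebraicGeometry TopologicalSpace Opposite OmegaSh
open ArtFun ArtFun.Art
open Groth.Agent.H39 Groth.Agent.H39.ConormalLocal Groth.Agent.H39.ConormalSect Groth.Agent.H39.ConormalMap
open Groth.Agent.H61.LocHilb

namespace Groth.Agent.H64.LocHilbGlue_SELF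

section Self
variable {k : Type u} [Field k] {X : Scheme.{u}} (x : X ⟶ specPt k) (I₀ : X.IdealSheafData)
  {B A : Art k k} (p : B ⟶ A) (hp : IsSemismallExt p)
  {r : ℕ} (j : Fin r → B) (hjJ : Ideal.span (Set.range j) = RingHom.ker p.toAlgHom)
  (hj : ∀ c : Fin r → B, ∑ l, c l * j l = 0 → ∀ l, c l ∈ IsLocalRing.maximalIdeal B)
include hp hjJ hj in
theorem SELF (I : (XA x B).IdealSheafData) (hf : FlatOver X x B I)
    (h₀ : I.comap (XAincl x B) = I₀) :
    IsDiff x I₀ j I I (fun _ => 0) := by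
  intro l U t a₁ a₂ s h0 ha₁ ha₂ hrel
  have hsum : ∑ m, β x B U.1 (j m) * s m ∈ I.ideal (Wa x B U) :=
    hrel ▸ Ideal.sub_mem _ ha₁ ha₂
  have hq := quot_flat x B I hf U
  have h0' : ∑ m, ((Ideal.Quotient.mk (I.ideal (Wa x B U))).comp (β x B U.1)) (j m) *
      (Ideal.Quotient.mk (I.ideal (Wa x B U)) (s m)) = 0 := by
    have e : ∑ m, ((Ideal.Quotient.mk (I.ideal (Wa x B U))).comp (β x B U.1)) (j m) *
        (Ideal.Quotient.mk (I.ideal (Wa x B U)) (s m)) =
        Ideal.Quotient.mk (I.ideal (Wa x B U)) (∑ m, β x B U.1 (j m) * s m) := by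
      rw [map_sum]
      exact Finset.sum_congr rfl fun m _ => by rw [RingHom.comp_apply, map_mul]
    rw [e]
    exact Ideal.Quotient.eq_zero_iff_mem.mpr hsum
  have hmem := Groth.Agent.H15.LocHilb_RL.mem_map_of_sum_eq_zero _ hq
    (IsLocalRing.maximalIdeal B) j hj
    (fun m => Ideal.Quotient.mk (I.ideal (Wa x B U)) (s m)) h0' l
  rw [← Ideal.map_map, Ideal.mem_quotient_iff_mem_sup] at hmem
  obtain ⟨u, hu, v, hv, huv⟩ := Submodule.mem_sup.mp hmem
  have hρu : ρ x B U.1 u = 0 := by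
    rw [← RingHom.mem_ker, ker_ρ x B U.2]
    exact hu
  have hρ : ρ x B U.1 (s l) ∈ I₀.ideal U := by
    rw [← huv, map_add, hρu, zero_add, ← map_ρ_eq x I₀ I h₀ U]
    exact Ideal.mem_map_of_mem _ hv
  rw [(qsec_eq_zero_iff I₀ U _).mpr hρ]
  rfl
end Self

end Groth.Agent.H64.LocHilbGlue_SELF
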