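import Mathlib

/-!
Helper library for the Artin-Schreier cover statements (S13863, S13864).
`phi u` is the substitution `t ↦ t * u` on `k[[t]]`.
-/

namespace Groth.Agent.H64.ASC

open PowerSeries Finset

variable {k : Type*} [Field k]

/-- substitution `t ↦ t * u` as an algebra hom -/
noncomputable def phi (u : PowerSeries k) : PowerSeries k →ₐ[k] PowerSeries k :=
  PowerSeries.substAlgHom (R := k) (a := (X * u : PowerSeries k))
    (HasSubst.of_constantCoeff_zero' (by simp))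

lemma phi_apply (u h : PowerSeries k) : phi u h = PowerSeries.subst (X * u) h := by
  unfold phi; rw [coe_substAlgHom]

lemma phi_X (u : PowerSeries k) : phi u X = X * u := by
  unfold phi; exact substAlgHom_X _

lemma phi_C (u : PowerSeries k) (c : k) : phi u (C c) = C c := by
  have : (C c : PowerSeries k) = algebraMap k (PowerSeries k) c := rfl
  rw [this, AlgHom.commutes]

lemma constantCoeff_phi (u f : PowerSeries k) :
    constantCoeff (phi u f) = constantCoeff f := by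
  obtain ⟨F1, c, rfl⟩ : ∃ F1 c, f = X * F1 + C c := ⟨_, _, eq_X_mul_shift_add_const f⟩
  simp [map_add, map_mul, phi_X, phi_C]

lemma exists_unit_factor (x : PowerSeries k) (hx : constantCoeff x = 1) (n : ℕ)
    (hn : (n : k) ≠ 0) :
    ∃ s : PowerSeries k, IsUnit s ∧ x ^ n - 1 = s * (x - 1) := by
  refine ⟨∑ i ∈ range n, x ^ i, ?_, (geom_sum_mul x n).symm⟩
  rw [isUnit_iff_constantCoeff]
  simp [map_sum, hx, hn]

lemma dvd_sub_one_of_pow (x : PowerSeries k) (hx : constantCoeff x = 1) (n : ℕ)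
    (hn : (n : k) ≠ 0) (d : PowerSeries k) (h : d ∣ x ^ n - 1) : d ∣ x - 1 := by
  obtain ⟨s, hs, e⟩ := exists_unit_factor x hx n hn
  rw [e] at h
  exact (hs.dvd_mul_left).mp h

lemma eq_one_of_pow_eq_one (x : PowerSeries k) (hx : constantCoeff x = 1) (n : ℕ)
    (hn : (n : k) ≠ 0) (h : x ^ n = 1) : x = 1 := by
  obtain ⟨s, hs, e⟩ := exists_unit_factor x hx n hn
  rw [h, sub_self] at e
  have := (mul_eq_zero.mp e.symm).resolve_left hs.ne_zero
  exact sub_eq_zero.mp this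

/-- `w u l = σ^l(t)/t` -/
noncomputable def w (u : PowerSeries k) : ℕ → PowerSeries k
  | 0 => 1
  | (l + 1) => u * phi u (w u l)

lemma w_zero (u : PowerSeries k) : w u 0 = 1 := rfl
lemma w_succ (u : PowerSeries k) (l : ℕ) : w u (l + 1) = u * phi u (w u l) := rfl

lemma w_spec (u : PowerSeries k) (hu1 : constantCoeff u = 1) (n : ℕ)
    (hun : u ^ n * (1 + X ^ n) = 1) (l : ℕ) :
    constantCoeff (w u l) = 1 ∧ (w u l) ^ n * (1 + (l : PowerSeries k) * X ^ n) = 1 := by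
  induction l with
  | zero => simp [w_zero]
  | succ l ih =>
    obtain ⟨ih1, ih2⟩ := ih
    refine ⟨by simp [w_succ, hu1, constantCoeff_phi, ih1], ?_⟩
    have h2 := congrArg (phi u) ih2
    simp only [map_mul, map_pow, map_add, map_one, map_natCast, phi_X] at h2
    rw [w_succ, Nat.cast_succ]
    set S := phi u (w u l)
    rw [mul_pow] at h2 ⊢
    linear_combination (S ^ n * (1 + (l : PowerSeries k) * (X ^ n * u ^ n))
      - u ^ n * S ^ n * l * X ^ n) * hun + h2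

lemma X_pow_dvd_w_sub_one (u : PowerSeries k) (hu1 : constantCoeff u = 1) (n : ℕ)
    (hn : (n : k) ≠ 0) (hun : u ^ n * (1 + X ^ n) = 1) (l : ℕ) : X ^ n ∣ w u l - 1 := by
  obtain ⟨h1, h2⟩ := w_spec u hu1 n hun l
  apply dvd_sub_one_of_pow _ h1 n hn
  refine ⟨-(w u l) ^ n * l, ?_⟩
  linear_combination h2

/-- the "norm of t divided by t^p" -/
noncomputable def P (u : PowerSeries k) (p : ℕ) : PowerSeries k := ∏ l ∈ range p, w u l

lemma dvd_prod_sub_one {ι : Type*} (s : Finset ι) (f : ι → PowerSeries k) (d : PowerSeries k)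
    (h : ∀ i ∈ s, d ∣ f i - 1) : d ∣ ∏ i ∈ s, f i - 1 := by
  classical
  induction s using Finset.induction_on with
  | empty => simp
  | insert a s ha ih =>
    rw [Finset.prod_insert ha]
    have h1 := h a (Finset.mem_insert_self a s)
    have h2 := ih (fun i hi => h i (Finset.mem_insert_of_mem hi))
    have : f a * ∏ i ∈ s, f i - 1 = f a * (∏ i ∈ s, f i - 1) + (f a - 1) := by ring
    rw [this]
    exact dvd_add (Dvd.dvd.mul_left h2 _) h1

lemma P_invariant (u : PowerSeries k) (hu1 : constantCoeff u = 1) (n : ℕ)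
    (hn : (n : k) ≠ 0) (hun : u ^ n * (1 + X ^ n) = 1) (p : ℕ) [CharP k p] :
    u ^ p * phi u (P u p) = P u p := by
  have hp0 : ((p : ℕ) : PowerSeries k) = 0 := by
    rw [← map_natCast (C (R := k)) p, CharP.cast_eq_zero, map_zero]
  have hwp : w u p = 1 := by
    obtain ⟨h1, h2⟩ := w_spec u hu1 n hun p
    rw [hp0, zero_mul, add_zero, mul_one] at h2
    exact eq_one_of_pow_eq_one _ h1 n hn h2
  unfold P
  rw [map_prod]
  have e1 : ∏ l ∈ range p, w u (l + 1) = u ^ p * ∏ l ∈ range p, phi u (w u l) := by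
    simp only [w_succ, Finset.prod_mul_distrib, Finset.prod_const, Finset.card_range]
  have e2 := Finset.prod_range_succ (w u) p
  have e3 := Finset.prod_range_succ' (w u) p
  rw [e3, hwp, mul_one, w_zero, mul_one] at e2
  rw [← e1, e2]

lemma constantCoeff_P (u : PowerSeries k) (hu1 : constantCoeff u = 1) (n : ℕ)
    (hun : u ^ n * (1 + X ^ n) = 1) (p : ℕ) : constantCoeff (P u p) = 1 := by
  unfold P
  rw [map_prod]
  exact Finset.prod_eq_one (fun l _ => (w_spec u hu1 n hun l).1)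

lemma X_pow_dvd_P_sub_one (u : PowerSeries k) (hu1 : constantCoeff u = 1) (n : ℕ)
    (hn : (n : k) ≠ 0) (hun : u ^ n * (1 + X ^ n) = 1) (p : ℕ) : X ^ n ∣ P u p - 1 :=
  dvd_prod_sub_one _ _ _ (fun l _ => X_pow_dvd_w_sub_one u hu1 n hn hun l)

lemma dvd_zpow_sub_one (W : (PowerSeries k)ˣ) (d : PowerSeries k)
    (h : d ∣ (W : PowerSeries k) - 1) (z : ℤ) :
    d ∣ ((W ^ z : (PowerSeries k)ˣ) : PowerSeries k) - 1 := by
  have hnat : ∀ m : ℕ, d ∣ ((W ^ m : (PowerSeries k)ˣ) : PowerSeries k) - 1 := by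
    intro m
    rw [Units.val_pow_eq_pow_val]
    have := sub_dvd_pow_sub_pow (W : PowerSeries k) 1 m
    rw [one_pow] at this
    exact h.trans this
  obtain ⟨m, rfl | rfl⟩ := Int.eq_nat_or_neg z
  · rw [zpow_natCast]; exact hnat m
  · rw [zpow_neg, zpow_natCast]
    have h1 : (((W ^ m)⁻¹ : (PowerSeries k)ˣ) : PowerSeries k) *
        ((W ^ m : (PowerSeries k)ˣ) : PowerSeries k) = 1 := by
      rw [← Units.val_mul, inv_mul_cancel, Units.val_one]
    have : (((W ^ m)⁻¹ : (PowerSeries k)ˣ) : PowerSeries k) - 1 =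
        - (((W ^ m)⁻¹ : (PowerSeries k)ˣ) : PowerSeries k) *
          (((W ^ m : (PowerSeries k)ˣ) : PowerSeries k) - 1) := by
      linear_combination h1
    rw [this]
    exact Dvd.dvd.mul_left (hnat m) _

lemma X_pow_dvd_phi_sub (u : PowerSeries k) (n : ℕ) (hu : X ^ n ∣ u - 1) :
    ∀ j, j ≤ n + 1 → ∀ F : PowerSeries k, X ^ j ∣ phi u F - F := by
  intro j
  induction j with
  | zero => intro _ F; simp
  | succ j ih =>
    intro hj F
    have ih' := ih (by omega)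
    have hjn : j ≤ n := by omega
    obtain ⟨r, hr⟩ := (pow_dvd_pow (X : PowerSeries k) hjn).trans hu
    obtain ⟨F1, c, rfl⟩ : ∃ F1 c, F = X * F1 + C c := ⟨_, _, eq_X_mul_shift_add_const F⟩
    obtain ⟨q, hq⟩ := ih' F1
    refine ⟨u * q + r * F1, ?_⟩
    rw [map_add, map_mul, phi_X, phi_C, pow_succ]
    linear_combination (X * u) * hq + (X * F1) * hr

theorem exists_coboundary (p : ℕ) [Fact p.Prime] [CharP k p] (n : ℕ)
    (hpn : ¬ p ∣ n)
    (u : PowerSeries k) (hu1 : constantCoeff u = 1) (hun : u ^ n * (1 + X ^ n) = 1)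
    (hu : IsUnit u) (a : ℤ) (m : ℕ) (hmn : m ≤ n) (hdvd : (p : ℤ) ∣ a - m)
    (c : PowerSeries k)
    (hc : X ^ m * c = ((hu.unit ^ (a - m) : (PowerSeries k)ˣ) : PowerSeries k) - 1) :
    ∃ h : PowerSeries k,
      ((hu.unit ^ a : (PowerSeries k)ˣ) : PowerSeries k) * phi u h - h = c := by
  have hnk : (n : k) ≠ 0 := fun h0 => hpn ((CharP.cast_eq_zero_iff k p n).mp h0)
  obtain ⟨j, hj⟩ := hdvd
  have hPc : constantCoeff (P u p) = 1 := constantCoeff_P u hu1 n hun p
  have hPu : IsUnit (P u p) := by rw [isUnit_iff_constantCoeff, hPc]; exact isUnit_one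
  obtain ⟨Pu, hPuv⟩ : ∃ Pu : (PowerSeries k)ˣ, (Pu : PowerSeries k) = P u p :=
    ⟨hPu.unit, hPu.unit_spec⟩
  have hdP : X ^ n ∣ (Pu : PowerSeries k) - 1 := by
    rw [hPuv]; exact X_pow_dvd_P_sub_one u hu1 n hnk hun p
  have hT := dvd_zpow_sub_one Pu _ hdP j
  obtain ⟨h, hh⟩ : X ^ m ∣ 1 - ((Pu ^ j : (PowerSeries k)ˣ) : PowerSeries k) := by
    rw [← dvd_neg, neg_sub]
    exact (pow_dvd_pow _ hmn).trans hT
  refine ⟨h, ?_⟩
  apply mul_left_cancel₀ (pow_ne_zero m (X_ne_zero : (X : PowerSeries k) ≠ 0))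
  rw [hc]
  obtain ⟨U, hUv, hUe⟩ : ∃ U : (PowerSeries k)ˣ, (U : PowerSeries k) = u ∧ hu.unit = U :=
    ⟨hu.unit, hu.unit_spec, rfl⟩
  rw [hUe]
  let ψ : (PowerSeries k)ˣ →* (PowerSeries k)ˣ :=
    Units.map ((phi u : PowerSeries k →+* PowerSeries k) : PowerSeries k →* PowerSeries k)
  have hψ : ∀ x : (PowerSeries k)ˣ,
      ((ψ x : (PowerSeries k)ˣ) : PowerSeries k) = phi u (x : PowerSeries k) := fun x => rfl
  have hinv : U ^ p * ψ Pu = Pu := by
    ext1
    rw [Units.val_mul, Units.val_pow_eq_pow_val, hψ, hUv, hPuv]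
    exact P_invariant u hu1 n hnk hun p
  have hkey : U ^ (a - m) * (ψ Pu) ^ j = Pu ^ j := by
    rw [hj, zpow_mul, zpow_natCast, ← mul_zpow, hinv]
  have hkey' : ((U ^ (a - m) : (PowerSeries k)ˣ) : PowerSeries k) *
      phi u ((Pu ^ j : (PowerSeries k)ˣ) : PowerSeries k) =
      ((Pu ^ j : (PowerSeries k)ˣ) : PowerSeries k) := by
    rw [← hψ, map_zpow, ← Units.val_mul, hkey]
  have hsplit : ((U ^ a : (PowerSeries k)ˣ) : PowerSeries k) =
      ((U ^ (a - m) : (PowerSeries k)ˣ) : PowerSeries k) * u ^ m := by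
    have : U ^ a = U ^ (a - m) * U ^ m := by
      rw [← zpow_natCast, ← zpow_add]; congr 1; ring
    rw [this, Units.val_mul, Units.val_pow_eq_pow_val, hUv]
  have hφ : phi u (X ^ m * h) = X ^ m * u ^ m * phi u h := by
    rw [map_mul, map_pow, phi_X, mul_pow]
  rw [← hh, map_sub, map_one] at hφ
  rw [hsplit]
  linear_combination (-((U ^ (a - m) : (PowerSeries k)ˣ) : PowerSeries k)) * hφ + hh - hkey'

theorem coef_zero (p : ℕ) [Fact p.Prime] [CharP k p] (n : ℕ) (hn : 0 < n)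
    (hpn : ¬ p ∣ n)
    (u : PowerSeries k) (hu1 : constantCoeff u = 1) (hun : u ^ n * (1 + X ^ n) = 1)
    (hu : IsUnit u) (a : ℤ)
    (c : ℕ → PowerSeries k)
    (hc : ∀ m : ℕ, 1 ≤ m → m ≤ n →
      X ^ m * c m = ((hu.unit ^ (a - m) : (PowerSeries k)ˣ) : PowerSeries k) - 1)
    (coef : ℕ → k) (h : PowerSeries k)
    (hh : ((hu.unit ^ a : (PowerSeries k)ˣ) : PowerSeries k) * phi u h - h =
      ∑ m ∈ (Finset.Icc 1 n).filter (fun m : ℕ => ¬ (p : ℤ) ∣ a - (m : ℤ)), coef m • c m) :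
    ∀ m ∈ (Finset.Icc 1 n).filter (fun m : ℕ => ¬ (p : ℤ) ∣ a - (m : ℤ)), coef m = 0 := by
  classical
  by_contra hcon
  push Not at hcon
  obtain ⟨U, hUv, hUe⟩ : ∃ U : (PowerSeries k)ˣ, (U : PowerSeries k) = u ∧ hu.unit = U :=
    ⟨hu.unit, hu.unit_spec, rfl⟩
  rw [hUe] at hh
  simp only [hUe] at hc
  obtain ⟨M, hM⟩ : ∃ M : Finset ℕ,
      M = (Finset.Icc 1 n).filter (fun m : ℕ => ¬ (p : ℤ) ∣ a - (m : ℤ)) := ⟨_, rfl⟩
  rw [← hM] at hh hcon
  have hMmem : ∀ m, m ∈ M → (1 ≤ m ∧ m ≤ n) ∧ ¬ (p : ℤ) ∣ a - (m : ℤ) := by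
    intro m hm
    rw [hM, Finset.mem_filter, Finset.mem_Icc] at hm
    exact hm
  have hne : (M.filter (fun m => coef m ≠ 0)).Nonempty := by
    obtain ⟨m, hm, hm0⟩ := hcon
    exact ⟨m, Finset.mem_filter.mpr ⟨hm, hm0⟩⟩
  obtain ⟨m0, hm0M, hcm0, hmax⟩ : ∃ m0, m0 ∈ M ∧ coef m0 ≠ 0 ∧
      ∀ m ∈ M, coef m ≠ 0 → m ≤ m0 := by
    refine ⟨(M.filter (fun m => coef m ≠ 0)).max' hne, ?_, ?_, ?_⟩
    · exact (Finset.mem_filter.mp (Finset.max'_mem _ hne)).1
    · exact (Finset.mem_filter.mp (Finset.max'_mem _ hne)).2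
    · intro m hm hc0
      exact Finset.le_max' _ m (Finset.mem_filter.mpr ⟨hm, hc0⟩)
  obtain ⟨⟨hm01, hm0n⟩, hpm0⟩ := hMmem m0 hm0M
  have hnk : (n : k) ≠ 0 := fun h0 => hpn ((CharP.cast_eq_zero_iff k p n).mp h0)
  have hu_dvd : X ^ n ∣ u - 1 := by
    apply dvd_sub_one_of_pow u hu1 n hnk
    exact ⟨-u ^ n, by linear_combination hun⟩
  obtain ⟨G, hG⟩ : ∃ G : PowerSeries k,
      G = ∑ m ∈ M, C (coef m) * X ^ (m0 - m) - X ^ m0 * h := ⟨_, rfl⟩
  have hG0 : constantCoeff G = coef m0 := by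
    rw [hG, map_sub, map_sum, map_mul, map_pow, constantCoeff_X, zero_pow (by omega), zero_mul,
      sub_zero]
    rw [Finset.sum_eq_single_of_mem m0 hm0M]
    · simp
    · intro m hm hne'
      rw [map_mul, constantCoeff_C, map_pow, constantCoeff_X]
      by_cases hc0 : coef m = 0
      · rw [hc0, zero_mul]
      · have := hmax m hm hc0
        have : m0 - m ≠ 0 := by omega
        rw [zero_pow this, mul_zero]
  have hVsplit : ∀ m : ℕ, m ≤ m0 →
      ((U ^ (a - m0) : (PowerSeries k)ˣ) : PowerSeries k) * u ^ (m0 - m) =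
        ((U ^ (a - m) : (PowerSeries k)ˣ) : PowerSeries k) := by
    intro m hm
    have : U ^ (a - (m : ℤ)) = U ^ (a - (m0 : ℤ)) * U ^ (m0 - m) := by
      rw [← zpow_natCast, ← zpow_add]; congr 1; push_cast [Nat.cast_sub hm]; ring
    rw [this, Units.val_mul, Units.val_pow_eq_pow_val, hUv]
  have hVa : ((U ^ (a - m0) : (PowerSeries k)ˣ) : PowerSeries k) * u ^ m0 =
      ((U ^ a : (PowerSeries k)ˣ) : PowerSeries k) := by
    have := hVsplit 0 (Nat.zero_le _)
    simpa using this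
  have hterm : ∀ m ∈ M, ((U ^ (a - m0) : (PowerSeries k)ˣ) : PowerSeries k) *
      (C (coef m) * (X * u) ^ (m0 - m)) =
      C (coef m) * X ^ (m0 - m) + X ^ m0 * (C (coef m) * c m) := by
    intro m hm
    by_cases hc0 : coef m = 0
    · simp [hc0]
    · have hle := hmax m hm hc0
      obtain ⟨⟨hm1, hmn⟩, -⟩ := hMmem m hm
      have hcm := hc m hm1 hmn
      have hs := hVsplit m hle
      have hX : (X : PowerSeries k) ^ m0 = X ^ (m0 - m) * X ^ m := by
        rw [← pow_add]; congr 1; omega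
      rw [mul_pow, hX]
      linear_combination (C (coef m) * X ^ (m0 - m)) * hs - (C (coef m) * X ^ (m0 - m)) * hcm
  have hinvG : ((U ^ (a - m0) : (PowerSeries k)ˣ) : PowerSeries k) * phi u G = G := by
    have hφG : phi u G =
        ∑ m ∈ M, C (coef m) * (X * u) ^ (m0 - m) - (X * u) ^ m0 * phi u h := by
      rw [hG, map_sub, map_sum, map_mul, map_pow, phi_X]
      congr 1
      apply Finset.sum_congr rfl
      intro m _
      rw [map_mul, map_pow, phi_X, phi_C]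
    rw [hφG, mul_sub, Finset.mul_sum, Finset.sum_congr rfl hterm, Finset.sum_add_distrib,
      ← Finset.mul_sum]
    have hh' : ∑ m ∈ M, C (coef m) * c m =
        ((U ^ a : (PowerSeries k)ˣ) : PowerSeries k) * phi u h - h := by
      rw [hh]; apply Finset.sum_congr rfl; intro m _; rw [smul_eq_C_mul]
    rw [hh', hG, mul_pow]
    linear_combination (-(X ^ m0 * phi u h)) * hVa
  have hGu : IsUnit G := by
    rw [isUnit_iff_constantCoeff, hG0]; exact isUnit_iff_ne_zero.mpr hcm0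
  have hdvdV : X ^ (n + 1) ∣ ((U ^ (a - m0) : (PowerSeries k)ˣ) : PowerSeries k) - 1 := by
    obtain ⟨q, hq⟩ := X_pow_dvd_phi_sub u n hu_dvd (n + 1) le_rfl G
    have : (((U ^ (a - m0) : (PowerSeries k)ˣ) : PowerSeries k) - 1) * G =
        X ^ (n + 1) * (-(((U ^ (a - m0) : (PowerSeries k)ˣ) : PowerSeries k)) * q) := by
      linear_combination hinvG - ((U ^ (a - m0) : (PowerSeries k)ˣ) : PowerSeries k) * hq
    exact (hGu.dvd_mul_right).mp ⟨_, this⟩
  have hQ : (1 + X ^ n : PowerSeries k) =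
      ((U ^ (-(n : ℤ)) : (PowerSeries k)ˣ) : PowerSeries k) := by
    have h1 : ((U ^ (-(n : ℤ)) : (PowerSeries k)ˣ) : PowerSeries k) * u ^ n = 1 := by
      rw [← hUv, ← Units.val_pow_eq_pow_val, ← Units.val_mul, zpow_neg, zpow_natCast,
        inv_mul_cancel, Units.val_one]
    linear_combination (((U ^ (-(n : ℤ)) : (PowerSeries k)ˣ) : PowerSeries k)) * hun
      - (1 + X ^ n) * h1
  have hN : X ^ (n + 1) ∣ (1 + X ^ n : PowerSeries k) ^ (a - m0).natAbs - 1 := by
    rw [hQ, ← Units.val_pow_eq_pow_val]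
    obtain ⟨z, hz⟩ : ∃ z : ℤ, (U ^ (-(n : ℤ))) ^ (a - (m0 : ℤ)).natAbs =
        (U ^ (a - (m0 : ℤ))) ^ z := by
      rcases Int.natAbs_eq (a - m0) with h' | h'
      · refine ⟨-(n : ℤ), ?_⟩
        generalize (a - (m0 : ℤ)).natAbs = N at h'
        rw [h', ← zpow_natCast, ← zpow_mul, ← zpow_mul, mul_comm]
      · refine ⟨(n : ℤ), ?_⟩
        generalize (a - (m0 : ℤ)).natAbs = N at h'
        rw [h', ← zpow_natCast, ← zpow_mul, ← zpow_mul]
        congr 1; ring
    rw [hz]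
    exact dvd_zpow_sub_one _ _ hdvdV z
  have hcoef : ∀ N : ℕ, coeff n ((1 + X ^ n : PowerSeries k) ^ N) = N := by
    intro N
    induction N with
    | zero => simp [coeff_one, hn.ne']
    | succ N ih =>
      rw [pow_succ, mul_add, mul_one, map_add, ih]
      have := coeff_mul_X_pow ((1 + X ^ n : PowerSeries k) ^ N) n 0
      rw [zero_add] at this
      rw [this]
      simp [hn.ne']
  have h0 : (((a - m0).natAbs : ℕ) : k) = 0 := by
    have := (X_pow_dvd_iff.mp hN) n (Nat.lt_succ_self n)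
    rw [map_sub, hcoef, coeff_one, if_neg hn.ne', sub_zero] at this
    exact this
  have hpN := (CharP.cast_eq_zero_iff k p _).mp h0
  exact hpm0 (Int.dvd_natAbs.mp (Int.natCast_dvd_natCast.mpr hpN))

end Groth.Agent.H64.ASC
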