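import Mathlib
import Groth.Agent.H64.ASCover

/-!
Second helper library for the Artin-Schreier cover statements: spanning of `H^1` (S13861).
-/

namespace Groth.Agent.H64.ASC

open PowerSeries Finset

variable {k : Type*} [Field k]

/-- twisted action `h ↦ U^a * h(t u)` -/
noncomputable def tau (u : PowerSeries k) (U : (PowerSeries k)ˣ) (a : ℤ) :
    Module.End k (PowerSeries k) :=
  (LinearMap.mulLeft k ((U ^ a : (PowerSeries k)ˣ) : PowerSeries k)).comp (phi u).toLinearMap

lemma tau_apply (u : PowerSeries k) (U : (PowerSeries k)ˣ) (a : ℤ) (h : PowerSeries k) :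
    tau u U a h = ((U ^ a : (PowerSeries k)ˣ) : PowerSeries k) * phi u h := rfl

/-- `D = tau - 1` -/
noncomputable def Dm (u : PowerSeries k) (U : (PowerSeries k)ˣ) (a : ℤ) :
    Module.End k (PowerSeries k) := tau u U a - 1

lemma Dm_eq (u : PowerSeries k) (U : (PowerSeries k)ˣ) (a : ℤ) : Dm u U a = tau u U a - 1 := rfl

lemma Dm_apply (u : PowerSeries k) (U : (PowerSeries k)ˣ) (a : ℤ) (h : PowerSeries k) :
    Dm u U a h = ((U ^ a : (PowerSeries k)ˣ) : PowerSeries k) * phi u h - h := rfl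

lemma X_pow_dvd_u_sub_one (n : ℕ) (hnk : (n : k) ≠ 0) (u : PowerSeries k)
    (hu1 : constantCoeff u = 1) (hun : u ^ n * (1 + X ^ n) = 1) : X ^ n ∣ u - 1 := by
  apply dvd_sub_one_of_pow u hu1 n hnk
  exact ⟨-u ^ n, by linear_combination hun⟩

lemma X_pow_dvd_zpow (n : ℕ) (hnk : (n : k) ≠ 0) (u : PowerSeries k)
    (hu1 : constantCoeff u = 1) (hun : u ^ n * (1 + X ^ n) = 1)
    (U : (PowerSeries k)ˣ) (hUv : (U : PowerSeries k) = u) (i : ℤ) :
    X ^ n ∣ ((U ^ i : (PowerSeries k)ˣ) : PowerSeries k) - 1 :=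
  dvd_zpow_sub_one U _ (by rw [hUv]; exact X_pow_dvd_u_sub_one n hnk u hu1 hun) i

lemma one_add_X_pow_eq (n : ℕ) (u : PowerSeries k) (hun : u ^ n * (1 + X ^ n) = 1)
    (U : (PowerSeries k)ˣ) (hUv : (U : PowerSeries k) = u) :
    (1 + X ^ n : PowerSeries k) = ((U ^ (-(n : ℤ)) : (PowerSeries k)ˣ) : PowerSeries k) := by
  have h1 : ((U ^ (-(n : ℤ)) : (PowerSeries k)ˣ) : PowerSeries k) * u ^ n = 1 := by
    rw [← hUv, ← Units.val_pow_eq_pow_val, ← Units.val_mul, zpow_neg, zpow_natCast,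
      inv_mul_cancel, Units.val_one]
  linear_combination (((U ^ (-(n : ℤ)) : (PowerSeries k)ˣ) : PowerSeries k)) * hun
    - (1 + X ^ n) * h1

lemma coeff_n_X_pow_mul (n : ℕ) (Q : PowerSeries k) :
    coeff n (X ^ n * Q) = constantCoeff Q := by
  have := coeff_X_pow_mul Q n 0
  rw [zero_add] at this
  rw [this, coeff_zero_eq_constantCoeff_apply]

lemma coeff_mul_of_dvd (n : ℕ) (hn : 0 < n) (A B : PowerSeries k) (hA : X ^ n ∣ A - 1)
    (hB : X ^ n ∣ B - 1) : coeff n (A * B) = coeff n A + coeff n B := by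
  obtain ⟨A', hA'⟩ := hA
  obtain ⟨B', hB'⟩ := hB
  have eA : A = 1 + X ^ n * A' := by linear_combination hA'
  have eB : B = 1 + X ^ n * B' := by linear_combination hB'
  have eAB : A * B = 1 + X ^ n * (A' + B' + X ^ n * (A' * B')) := by rw [eA, eB]; ring
  rw [eAB, eA, eB]
  simp only [map_add, coeff_n_X_pow_mul, coeff_one, if_neg hn.ne', map_mul, map_pow,
    constantCoeff_X, zero_pow hn.ne', zero_mul, zero_add, add_zero]

lemma coeff_zpow (n : ℕ) (hn : 0 < n) (hnk : (n : k) ≠ 0) (u : PowerSeries k)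
    (hu1 : constantCoeff u = 1) (hun : u ^ n * (1 + X ^ n) = 1)
    (U : (PowerSeries k)ˣ) (hUv : (U : PowerSeries k) = u) (i : ℤ) :
    coeff n (((U ^ i : (PowerSeries k)ˣ) : PowerSeries k)) = -(i : k) / (n : k) := by
  have hd := X_pow_dvd_zpow n hnk u hu1 hun U hUv
  let e : ℤ →+ k := AddMonoidHom.mk'
    (fun i => coeff n ((U ^ i : (PowerSeries k)ˣ) : PowerSeries k))
    (fun i j => by
      show coeff n (((U ^ (i + j) : (PowerSeries k)ˣ) : PowerSeries k)) = _
      rw [zpow_add, Units.val_mul]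
      exact coeff_mul_of_dvd n hn _ _ (hd i) (hd j))
  have he : ∀ i : ℤ, e i = (i : k) * e 1 := by
    intro i
    have := map_zsmul e i (1 : ℤ)
    rw [smul_eq_mul, mul_one] at this
    rw [this, zsmul_eq_mul]
  have hneg : e (-(n : ℤ)) = 1 := by
    show coeff n (((U ^ (-(n : ℤ)) : (PowerSeries k)ˣ) : PowerSeries k)) = 1
    rw [← one_add_X_pow_eq n u hun U hUv]
    simp [coeff_one, hn.ne', coeff_X_pow]
  have h1 : e 1 = -1 / (n : k) := by
    have := he (-(n : ℤ))
    rw [hneg] at this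
    push_cast at this
    rw [eq_div_iff hnk]
    linear_combination this
  show e i = _
  rw [he i, h1]
  ring

lemma Dm_X_pow_mul (u : PowerSeries k) (U : (PowerSeries k)ˣ) (hUv : (U : PowerSeries k) = u)
    (a : ℤ) (j : ℕ) (g : PowerSeries k) :
    Dm u U a (X ^ j * g) = X ^ j * Dm u U (a + j) g := by
  have hs : ((U ^ (a + (j : ℤ)) : (PowerSeries k)ˣ) : PowerSeries k) =
      ((U ^ a : (PowerSeries k)ˣ) : PowerSeries k) * u ^ j := by
    rw [zpow_add, zpow_natCast, Units.val_mul, Units.val_pow_eq_pow_val, hUv]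
  rw [Dm_apply, Dm_apply, hs, map_mul, map_pow, phi_X]
  ring

lemma Dm_lead (n : ℕ) (hn : 0 < n) (hnk : (n : k) ≠ 0) (u : PowerSeries k)
    (hu1 : constantCoeff u = 1) (hun : u ^ n * (1 + X ^ n) = 1)
    (U : (PowerSeries k)ˣ) (hUv : (U : PowerSeries k) = u) (a : ℤ) (g : PowerSeries k) :
    X ^ n ∣ Dm u U a g ∧ coeff n (Dm u U a g) = -(a : k) / (n : k) * constantCoeff g := by
  obtain ⟨Q, hQ⟩ := X_pow_dvd_zpow n hnk u hu1 hun U hUv a
  obtain ⟨R, hR⟩ := X_pow_dvd_phi_sub u n (X_pow_dvd_u_sub_one n hnk u hu1 hun) (n + 1) le_rfl g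
  have hQ0 : constantCoeff Q = -(a : k) / (n : k) := by
    have := coeff_zpow n hn hnk u hu1 hun U hUv a
    have h2 : ((U ^ a : (PowerSeries k)ˣ) : PowerSeries k) = 1 + X ^ n * Q := by
      linear_combination hQ
    rw [h2, map_add, coeff_one, if_neg hn.ne', zero_add, coeff_n_X_pow_mul] at this
    exact this
  have e : Dm u U a g = X ^ n * (Q * phi u g + X * R) := by
    rw [Dm_apply]
    linear_combination (phi u g) * hQ + hR
  refine ⟨⟨_, e⟩, ?_⟩
  rw [e, coeff_n_X_pow_mul, map_add, map_mul, map_mul, constantCoeff_X, zero_mul, add_zero, hQ0,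
    constantCoeff_phi]

lemma Dm_lead_shift (n : ℕ) (hn : 0 < n) (hnk : (n : k) ≠ 0) (u : PowerSeries k)
    (hu1 : constantCoeff u = 1) (hun : u ^ n * (1 + X ^ n) = 1)
    (U : (PowerSeries k)ˣ) (hUv : (U : PowerSeries k) = u) (a : ℤ) (j : ℕ) (h : PowerSeries k)
    (hj : X ^ j ∣ h) :
    X ^ (j + n) ∣ Dm u U a h ∧
      coeff (j + n) (Dm u U a h) = -((a : k) + (j : k)) / (n : k) * coeff j h := by
  obtain ⟨g, rfl⟩ := hj
  obtain ⟨⟨S, hS⟩, hc⟩ := Dm_lead n hn hnk u hu1 hun U hUv (a + j) g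
  rw [Dm_X_pow_mul u U hUv]
  refine ⟨⟨S, by rw [hS, pow_add]; ring⟩, ?_⟩
  have h1 := coeff_X_pow_mul (Dm u U (a + j) g) j n
  rw [add_comm j n, h1, hc, coeff_n_X_pow_mul]
  push_cast
  ring

lemma Dm_pow_lead (n : ℕ) (hn : 0 < n) (hnk : (n : k) ≠ 0) (u : PowerSeries k)
    (hu1 : constantCoeff u = 1) (hun : u ^ n * (1 + X ^ n) = 1)
    (U : (PowerSeries k)ˣ) (hUv : (U : PowerSeries k) = u) (a : ℤ) :
    ∀ (l j : ℕ) (h : PowerSeries k), X ^ j ∣ h →
      X ^ (j + l * n) ∣ (Dm u U a ^ l) h ∧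
      coeff (j + l * n) ((Dm u U a ^ l) h) =
        (∏ i ∈ range l, (-((a : k) + ((j + i * n : ℕ) : k)) / (n : k))) * coeff j h := by
  intro l
  induction l with
  | zero => intro j h hj; simp [hj]
  | succ l ih =>
    intro j h hj
    obtain ⟨h1, h2⟩ := ih j h hj
    obtain ⟨h3, h4⟩ := Dm_lead_shift n hn hnk u hu1 hun U hUv a (j + l * n) _ h1
    have e : j + (l + 1) * n = j + l * n + n := by ring
    rw [pow_succ', Module.End.mul_apply, e]
    refine ⟨h3, ?_⟩
    rw [h4, h2, Finset.prod_range_succ]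
    push_cast
    ring

lemma sum_pow_eq (p : ℕ) [hp : Fact p.Prime] [CharP k p] {A : Type*} [Ring A] [Algebra k A]
    (τ : A) : ∑ l ∈ range p, τ ^ l = (τ - 1) ^ (p - 1) := by
  have hpoly : (∑ l ∈ range p, (Polynomial.X : Polynomial k) ^ l) =
      (Polynomial.X - 1) ^ (p - 1) := by
    have h1 : (∑ l ∈ range p, (Polynomial.X : Polynomial k) ^ l) * (Polynomial.X - 1) =
        Polynomial.X ^ p - 1 := geom_sum_mul _ _
    have h2 : ((Polynomial.X : Polynomial k) - 1) ^ (p - 1) * (Polynomial.X - 1) =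
        Polynomial.X ^ p - 1 := by
      rw [← pow_succ, Nat.sub_add_cancel hp.out.one_le, sub_pow_char, one_pow]
    have hne : (Polynomial.X : Polynomial k) - 1 ≠ 0 := by
      have := Polynomial.X_sub_C_ne_zero (1 : k)
      simpa using this
    exact mul_right_cancel₀ hne (h1.trans h2.symm)
  have := congrArg (Polynomial.aeval τ) hpoly
  simpa using this

lemma Dm_pow_mul_Dm (p : ℕ) [Fact p.Prime] [CharP k p] (u : PowerSeries k)
    (U : (PowerSeries k)ˣ) (a : ℤ) :
    Dm u U a ^ (p - 1) * Dm u U a = tau u U a ^ p - 1 := by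
  rw [Dm_eq, ← sum_pow_eq (k := k) p (tau u U a)]
  exact geom_sum_mul _ _

lemma Dm_pow_X_pow_mul (u : PowerSeries k) (U : (PowerSeries k)ˣ)
    (hUv : (U : PowerSeries k) = u) (a : ℤ) (m : ℕ) :
    ∀ (l : ℕ) (g : PowerSeries k),
      (Dm u U (a - m) ^ l) (X ^ m * g) = X ^ m * (Dm u U a ^ l) g := by
  intro l
  induction l with
  | zero => intro g; simp
  | succ l ih =>
    intro g
    rw [pow_succ', Module.End.mul_apply, ih, Dm_X_pow_mul u U hUv, sub_add_cancel, pow_succ',
      Module.End.mul_apply]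

/-- `phi` on units -/
noncomputable def psi (u : PowerSeries k) : (PowerSeries k)ˣ →* (PowerSeries k)ˣ :=
  Units.map ((phi u : PowerSeries k →+* PowerSeries k) : PowerSeries k →* PowerSeries k)

lemma psi_val (u : PowerSeries k) (x : (PowerSeries k)ˣ) :
    ((psi u x : (PowerSeries k)ˣ) : PowerSeries k) = phi u (x : PowerSeries k) := rfl

/-- unit version of `w` -/
noncomputable def Wu (u : PowerSeries k) (U : (PowerSeries k)ˣ) : ℕ → (PowerSeries k)ˣ
  | 0 => 1
  | (l + 1) => U * psi u (Wu u U l)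

lemma Wu_zero (u : PowerSeries k) (U : (PowerSeries k)ˣ) : Wu u U 0 = 1 := rfl
lemma Wu_succ (u : PowerSeries k) (U : (PowerSeries k)ˣ) (l : ℕ) :
    Wu u U (l + 1) = U * psi u (Wu u U l) := rfl

lemma Wu_val (u : PowerSeries k) (U : (PowerSeries k)ˣ) (hUv : (U : PowerSeries k) = u)
    (l : ℕ) : ((Wu u U l : (PowerSeries k)ˣ) : PowerSeries k) = w u l := by
  induction l with
  | zero => rw [Wu_zero, Units.val_one, w_zero]
  | succ l ih => rw [Wu_succ, Units.val_mul, psi_val, ih, hUv, w_succ]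

lemma w_p_eq_one (p : ℕ) [CharP k p] (n : ℕ) (hnk : (n : k) ≠ 0) (u : PowerSeries k)
    (hu1 : constantCoeff u = 1) (hun : u ^ n * (1 + X ^ n) = 1) : w u p = 1 := by
  have hp0 : ((p : ℕ) : PowerSeries k) = 0 := by
    rw [← map_natCast (C (R := k)) p, CharP.cast_eq_zero, map_zero]
  obtain ⟨h1, h2⟩ := w_spec u hu1 n hun p
  rw [hp0, zero_mul, add_zero, mul_one] at h2
  exact eq_one_of_pow_eq_one _ h1 n hnk h2

lemma tau_pow_one (u : PowerSeries k) (U : (PowerSeries k)ˣ) (a : ℤ) :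
    ∀ l : ℕ, (tau u U a ^ l) 1 = (((Wu u U l) ^ a : (PowerSeries k)ˣ) : PowerSeries k) := by
  intro l
  induction l with
  | zero => simp [Wu_zero]
  | succ l ih =>
    rw [pow_succ', Module.End.mul_apply, ih, tau_apply, ← psi_val, map_zpow, ← Units.val_mul,
      ← mul_zpow, Wu_succ]

lemma Dm_pow_c_eq_zero (p : ℕ) [Fact p.Prime] [CharP k p] (n : ℕ) (hnk : (n : k) ≠ 0)
    (u : PowerSeries k) (hu1 : constantCoeff u = 1) (hun : u ^ n * (1 + X ^ n) = 1)
    (U : (PowerSeries k)ˣ) (hUv : (U : PowerSeries k) = u) (a : ℤ) (m : ℕ) (cm : PowerSeries k)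
    (hcm : X ^ m * cm = ((U ^ (a - m) : (PowerSeries k)ˣ) : PowerSeries k) - 1) :
    (Dm u U a ^ (p - 1)) cm = 0 := by
  have hWp : Wu u U p = 1 := by
    apply Units.ext
    rw [Wu_val u U hUv, w_p_eq_one p n hnk u hu1 hun, Units.val_one]
  have h2 := Dm_pow_X_pow_mul u U hUv a m (p - 1) cm
  rw [hcm] at h2
  have h3 : ((U ^ (a - (m : ℤ)) : (PowerSeries k)ˣ) : PowerSeries k) - 1 =
      Dm u U (a - (m : ℤ)) 1 := by
    rw [Dm_apply, map_one, mul_one]
  rw [h3] at h2
  have h4 : (Dm u U (a - (m : ℤ)) ^ (p - 1)) (Dm u U (a - (m : ℤ)) 1) = 0 := by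
    have h5 := Dm_pow_mul_Dm p u U (a - (m : ℤ))
    have := congrArg (fun f : Module.End k (PowerSeries k) => f 1) h5
    simp only [Module.End.mul_apply, LinearMap.sub_apply, Module.End.one_apply] at this
    rw [this, tau_pow_one, hWp, one_zpow, Units.val_one, sub_self]
  rw [h4] at h2
  exact (mul_eq_zero.mp h2.symm).resolve_left (pow_ne_zero _ X_ne_zero)

/-- successive elimination of leading terms -/
noncomputable def rseq (e : ℕ → PowerSeries k) (b : PowerSeries k) : ℕ → PowerSeries k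
  | 0 => b
  | (v + 1) => rseq e b v - (coeff v (rseq e b v) * (coeff v (e v))⁻¹) • e v

lemma rseq_zero (e : ℕ → PowerSeries k) (b : PowerSeries k) : rseq e b 0 = b := rfl
lemma rseq_succ (e : ℕ → PowerSeries k) (b : PowerSeries k) (v : ℕ) :
    rseq e b (v + 1) = rseq e b v - (coeff v (rseq e b v) * (coeff v (e v))⁻¹) • e v := rfl

lemma rseq_spec (N : Module.End k (PowerSeries k)) (e : ℕ → PowerSeries k) (b : PowerSeries k)
    (he1 : ∀ v, X ^ v ∣ e v) (he3 : ∀ v, N (e v) = 0) (hb : N b = 0)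
    (hL3 : ∀ v x, X ^ v ∣ x → N x = 0 → coeff v (e v) = 0 → coeff v x = 0) :
    ∀ v, X ^ v ∣ rseq e b v ∧ N (rseq e b v) = 0 := by
  intro v
  induction v with
  | zero => exact ⟨by simp, hb⟩
  | succ v ih =>
    obtain ⟨ih1, ih2⟩ := ih
    have hN : N (rseq e b (v + 1)) = 0 := by
      rw [rseq_succ, map_sub, map_smul, ih2, he3, smul_zero, sub_zero]
    refine ⟨?_, hN⟩
    rw [X_pow_dvd_iff]
    intro i hi
    rw [rseq_succ, map_sub, map_smul, smul_eq_mul]
    rcases Nat.lt_succ_iff_lt_or_eq.mp hi with hlt | rfl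
    · rw [(X_pow_dvd_iff.mp ih1) i hlt, (X_pow_dvd_iff.mp (he1 v)) i hlt, mul_zero, sub_zero]
    · by_cases hε : coeff i (e i) = 0
      · rw [hL3 i _ ih1 ih2 hε, hε]; simp
      · rw [mul_assoc, inv_mul_cancel₀ hε, mul_one, sub_self]

lemma rseq_sum (e : ℕ → PowerSeries k) (b : PowerSeries k) (s : ℕ) :
    rseq e b s + ∑ v ∈ range s, (coeff v (rseq e b v) * (coeff v (e v))⁻¹) • e v = b := by
  induction s with
  | zero => simp [rseq_zero]
  | succ s ih =>
    calc rseq e b (s + 1) + ∑ v ∈ range (s + 1), (coeff v (rseq e b v) * (coeff v (e v))⁻¹) • e v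
        = rseq e b s + ∑ v ∈ range s, (coeff v (rseq e b v) * (coeff v (e v))⁻¹) • e v := by
          rw [Finset.sum_range_succ, rseq_succ]; abel
      _ = b := ih

theorem span_claim (p : ℕ) [Fact p.Prime] [CharP k p] (n : ℕ) (hn : 0 < n) (hpn : ¬ p ∣ n)
    (u : PowerSeries k) (hu1 : constantCoeff u = 1) (hun : u ^ n * (1 + X ^ n) = 1)
    (U : (PowerSeries k)ˣ) (hUv : (U : PowerSeries k) = u) (a : ℤ)
    (hτ : tau u U a ^ p = 1)
    (c : ℕ → PowerSeries k)
    (hc : ∀ m : ℕ, 1 ≤ m → m ≤ n →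
      X ^ m * c m = ((U ^ (a - m) : (PowerSeries k)ˣ) : PowerSeries k) - 1)
    (b : PowerSeries k) (hb : (Dm u U a ^ (p - 1)) b = 0) :
    ∃ (coef : ℕ → k) (h : PowerSeries k),
      b = ∑ m ∈ (Finset.Icc 1 n).filter (fun m : ℕ => ¬ (p : ℤ) ∣ a - (m : ℤ)), coef m • c m
        + Dm u U a h := by
  classical
  have hnk : (n : k) ≠ 0 := fun h0 => hpn ((CharP.cast_eq_zero_iff k p n).mp h0)
  obtain ⟨N, hN⟩ : ∃ N : Module.End k (PowerSeries k), N = Dm u U a ^ (p - 1) := ⟨_, rfl⟩
  rw [← hN] at hb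
  have hND : ∀ x, N (Dm u U a x) = 0 := by
    intro x
    have h1 := Dm_pow_mul_Dm p u U a
    rw [← hN, hτ, sub_self] at h1
    have := congrArg (fun f : Module.End k (PowerSeries k) => f x) h1
    simpa using this
  obtain ⟨e, he⟩ : ∃ e : ℕ → PowerSeries k,
      e = fun v => if v < n then c (n - v) else Dm u U a (X ^ (v - n)) := ⟨_, rfl⟩
  have hepos : ∀ v, v < n → e v = c (n - v) := fun v hv => by rw [he]; exact if_pos hv
  have heneg : ∀ v, ¬ v < n → e v = Dm u U a (X ^ (v - n)) := fun v hv => by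
    rw [he]; exact if_neg hv
  have hprops : ∀ v, X ^ v ∣ e v ∧ coeff v (e v) = -((a : k) + v - n) / (n : k) ∧
      N (e v) = 0 := by
    intro v
    by_cases hv : v < n
    · have hm1 : 1 ≤ n - v := by omega
      have hmn : n - v ≤ n := by omega
      have hcm := hc (n - v) hm1 hmn
      obtain ⟨Q, hQ⟩ := X_pow_dvd_zpow n hnk u hu1 hun U hUv (a - ((n - v : ℕ) : ℤ))
      have hev := hepos v hv
      have hcQ : c (n - v) = X ^ v * Q := by
        apply mul_left_cancel₀ (pow_ne_zero (n - v) (X_ne_zero : (X : PowerSeries k) ≠ 0))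
        rw [hcm, hQ, ← mul_assoc, ← pow_add]
        congr 2; omega
      refine ⟨by rw [hev, hcQ]; exact dvd_mul_right _ _, ?_, ?_⟩
      · rw [hev]
        have h1 := coeff_X_pow_mul (c (n - v)) (n - v) v
        rw [← h1, hcm, show v + (n - v) = n by omega, map_sub,
          coeff_zpow n hn hnk u hu1 hun U hUv, coeff_one, if_neg hn.ne', sub_zero]
        push_cast [Nat.cast_sub hv.le]
        ring
      · rw [hev, hN]
        exact Dm_pow_c_eq_zero p n hnk u hu1 hun U hUv a (n - v) _ hcm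
    · have hvn : n ≤ v := not_lt.mp hv
      have hev := heneg v hv
      obtain ⟨h1, h2⟩ := Dm_lead_shift n hn hnk u hu1 hun U hUv a (v - n) (X ^ (v - n)) dvd_rfl
      rw [show v - n + n = v by omega] at h1 h2
      refine ⟨by rw [hev]; exact h1, ?_, by rw [hev]; exact hND _⟩
      rw [hev, h2, coeff_X_pow, if_pos rfl, mul_one]
      push_cast [Nat.cast_sub hvn]
      ring
  have hL3 : ∀ v x, X ^ v ∣ x → N x = 0 → coeff v (e v) = 0 → coeff v x = 0 := by
    intro v x hx hNx hε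
    rw [(hprops v).2.1] at hε
    have h0 : (a : k) + v - n = 0 := by
      rcases div_eq_zero_iff.mp hε with h | h
      · exact neg_eq_zero.mp h
      · exact absurd h hnk
    obtain ⟨-, h2⟩ := Dm_pow_lead n hn hnk u hu1 hun U hUv a (p - 1) v x hx
    rw [← hN, hNx, map_zero] at h2
    have hprod : (∏ i ∈ range (p - 1), (-((a : k) + ((v + i * n : ℕ) : k)) / (n : k))) ≠ 0 := by
      rw [Finset.prod_ne_zero_iff]
      intro i hi
      have hi' : i + 1 < p := by have := Finset.mem_range.mp hi; omega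
      have hi1 : ((i + 1 : ℕ) : k) ≠ 0 := by
        intro h
        have := (CharP.cast_eq_zero_iff k p (i + 1)).mp h
        exact absurd (Nat.le_of_dvd (Nat.succ_pos i) this) (by omega)
      have : -((a : k) + ((v + i * n : ℕ) : k)) / (n : k) = -((i + 1 : ℕ) : k) := by
        rw [div_eq_iff hnk]
        push_cast
        linear_combination (-1 : k) * h0
      rw [this]
      exact neg_ne_zero.mpr hi1
    exact (mul_eq_zero.mp h2.symm).resolve_left hprod
  have hspec := rseq_spec N e b (fun v => (hprops v).1) (fun v => (hprops v).2.2) hb hL3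
  obtain ⟨κ, hκ⟩ : ∃ κ : ℕ → k,
      κ = fun v => coeff v (rseq e b v) * (coeff v (e v))⁻¹ := ⟨_, rfl⟩
  have hsum : ∀ s, rseq e b s + ∑ v ∈ range s, κ v • e v = b := by
    intro s; rw [hκ]; exact rseq_sum e b s
  obtain ⟨hser, hh⟩ : ∃ hser : PowerSeries k, hser = PowerSeries.mk (fun j => κ (n + j)) :=
    ⟨_, rfl⟩
  refine ⟨fun m => κ (n - m), hser, ?_⟩
  beta_reduce
  have hfirst : ∑ v ∈ range n, κ v • e v =
      ∑ m ∈ (Finset.Icc 1 n).filter (fun m : ℕ => ¬ (p : ℤ) ∣ a - (m : ℤ)),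
        κ (n - m) • c m := by
    rw [Finset.sum_filter_of_ne]
    · apply Finset.sum_nbij' (fun v => n - v) (fun m => n - m)
      · intro v hv; simp only [Finset.mem_range] at hv; simp only [Finset.mem_Icc]; omega
      · intro m hm; simp only [Finset.mem_Icc] at hm; simp only [Finset.mem_range]; omega
      · intro v hv; simp only [Finset.mem_range] at hv; omega
      · intro m hm; simp only [Finset.mem_Icc] at hm; omega
      · intro v hv
        simp only [Finset.mem_range] at hv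
        have : n - (n - v) = v := by omega
        rw [this, hepos v hv]
    · intro m hm hne hdvd
      apply hne
      simp only [Finset.mem_Icc] at hm
      have hε : coeff (n - m) (e (n - m)) = 0 := by
        rw [(hprops (n - m)).2.1]
        have h0 : ((a - (m : ℤ) : ℤ) : k) = 0 := (CharP.intCast_eq_zero_iff k p _).mpr hdvd
        push_cast at h0
        push_cast [Nat.cast_sub hm.2]
        rw [show -((a : k) + ((n : k) - (m : k)) - (n : k)) = -((a : k) - m) by ring, h0,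
          neg_zero, zero_div]
      rw [hκ]
      simp only
      rw [hε, inv_zero, mul_zero, zero_smul]
  rw [← hfirst]
  have hT : ∀ s : ℕ, X ^ (n + s) ∣ b - (∑ v ∈ range n, κ v • e v + Dm u U a hser) := by
    intro s
    have h1 := hsum (n + s)
    rw [Finset.sum_range_add] at h1
    have h2 : ∑ x ∈ range s, κ (n + x) • e (n + x) =
        Dm u U a (∑ x ∈ range s, κ (n + x) • X ^ x) := by
      rw [map_sum]
      apply Finset.sum_congr rfl
      intro x _
      rw [map_smul, heneg (n + x) (by omega), Nat.add_sub_cancel_left]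
    have h3 : X ^ s ∣ hser - ∑ x ∈ range s, κ (n + x) • X ^ x := by
      rw [X_pow_dvd_iff]
      intro i hi
      rw [map_sub, map_sum, hh, coeff_mk]
      simp only [map_smul, coeff_X_pow, smul_eq_mul, mul_ite, mul_one, mul_zero]
      rw [Finset.sum_ite_eq, if_pos (Finset.mem_range.mpr hi), sub_self]
    obtain ⟨h4, -⟩ := Dm_lead_shift n hn hnk u hu1 hun U hUv a s _ h3
    have h5 : b - (∑ v ∈ range n, κ v • e v + Dm u U a hser) =
        rseq e b (n + s) - Dm u U a (hser - ∑ x ∈ range s, κ (n + x) • X ^ x) := by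
      rw [map_sub, ← h2]
      linear_combination -h1
    rw [h5]
    refine dvd_sub (hspec (n + s)).1 ?_
    rw [add_comm n s]
    exact h4
  have hzero : b - (∑ v ∈ range n, κ v • e v + Dm u U a hser) = 0 := by
    ext i
    have := (X_pow_dvd_iff.mp (hT (i + 1))) i (by omega)
    rw [this, map_zero]
  exact sub_eq_zero.mp hzero

end Groth.Agent.H64.ASC
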