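import Mathlib
import Groth.Agent.H64.ASCover2

/-!
Third helper library for the Artin-Schreier cover statements: `H^1` of the twisted action (S13861).
-/

namespace Groth.Agent.H64.ASC

open PowerSeries Finset CategoryTheory

universe u

lemma card_M (p : ℕ) [Fact p.Prime] (n : ℕ) (a : ℤ) :
    (((Finset.Icc 1 n).filter (fun m : ℕ => ¬ (p : ℤ) ∣ a - (m : ℤ))).card : ℤ) =
      n - (a - 1) / (p : ℤ) + (a - 1 - n) / (p : ℤ) := by
  have hp : (0 : ℤ) < p := by exact_mod_cast (Fact.out : p.Prime).pos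
  have h1 := Finset.card_filter_add_card_filter_not (s := Finset.Icc 1 n)
    (fun m : ℕ => (p : ℤ) ∣ a - (m : ℤ))
  rw [Nat.card_Icc, Nat.add_sub_cancel] at h1
  have h2 : ((Finset.Icc 1 n).filter (fun m : ℕ => (p : ℤ) ∣ a - (m : ℤ))).card =
      ((Finset.Ioc (a - 1 - n) (a - 1)).filter (fun x : ℤ => (p : ℤ) ∣ x)).card := by
    apply Finset.card_bij' (fun (m : ℕ) _ => a - (m : ℤ)) (fun (x : ℤ) _ => (a - x).toNat)
    · intro m hm
      rw [Finset.mem_filter, Finset.mem_Icc] at hm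
      rw [Finset.mem_filter, Finset.mem_Ioc]
      exact ⟨⟨by omega, by omega⟩, hm.2⟩
    · intro x hx
      rw [Finset.mem_filter, Finset.mem_Ioc] at hx
      rw [Finset.mem_filter, Finset.mem_Icc]
      refine ⟨⟨by omega, by omega⟩, ?_⟩
      have : (((a - x).toNat : ℕ) : ℤ) = a - x := Int.toNat_of_nonneg (by omega)
      rw [this, sub_sub_cancel]
      exact hx.2
    · intro m hm
      simp
    · intro x hx
      rw [Finset.mem_filter, Finset.mem_Ioc] at hx
      have : (((a - x).toNat : ℕ) : ℤ) = a - x := Int.toNat_of_nonneg (by omega)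
      rw [this, sub_sub_cancel]
  have h3 := Int.Ioc_filter_dvd_card (a - 1 - n) (a - 1) hp
  rw [Int.cast_natCast, Rat.floor_intCast_div_natCast, Rat.floor_intCast_div_natCast] at h3
  have h4 : (a - 1 - n) / (p : ℤ) ≤ (a - 1) / (p : ℤ) := Int.ediv_le_ediv hp (by omega)
  rw [max_eq_left (sub_nonneg.mpr h4)] at h3
  have h1' : (((Finset.Icc 1 n).filter (fun m : ℕ => (p : ℤ) ∣ a - (m : ℤ))).card : ℤ) +
      (((Finset.Icc 1 n).filter (fun m : ℕ => ¬ (p : ℤ) ∣ a - (m : ℤ))).card : ℤ) = n := by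
    exact_mod_cast h1
  rw [h2, h3] at h1'
  linarith

set_option backward.isDefEq.respectTransparency false in
theorem H1_finrank {k : Type u} [Field k] (p : ℕ) [Fact p.Prime] [CharP k p] (n : ℕ)
    (hn : 0 < n) (hpn : ¬ p ∣ n) (u : PowerSeries k) (hu1 : PowerSeries.constantCoeff u = 1)
    (hun : u ^ n * (1 + PowerSeries.X ^ n) = 1) (hu : IsUnit u) (a : ℤ)
    {G : Type u} [Group G] [Finite G] (g : G) (hG : Nat.card G = p)
    (hg : ∀ x : G, x ∈ Subgroup.zpowers g)
    (ρ : Representation k G (PowerSeries k))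
    (hρ : ∀ h : PowerSeries k, ρ g h =
      ((hu.unit ^ a : (PowerSeries k)ˣ) : PowerSeries k) *
        PowerSeries.subst (PowerSeries.X * u) h) :
    Module.Finite k (groupCohomology.H1 (Rep.of ρ)) ∧
      (Module.finrank k (groupCohomology.H1 (Rep.of ρ)) : ℤ) =
        n - (a - 1) / (p : ℤ) + (a - 1 - n) / (p : ℤ) := by
  have hnk : (n : k) ≠ 0 := fun h0 => hpn ((CharP.cast_eq_zero_iff k p n).mp h0)
  let _ : Fintype G := Fintype.ofFinite G
  have hcomm : ∀ x y : G, x * y = y * x := by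
    intro x y
    obtain ⟨i, rfl⟩ := hg x
    obtain ⟨j, rfl⟩ := hg y
    exact ((Commute.refl g).zpow_zpow i j).eq
  let _ : CommGroup G := @CommGroup.mk G ‹Group G› hcomm
  have hodd : Odd 1 := by decide
  have hUv : (hu.unit : PowerSeries k) = u := hu.unit_spec
  have hρτ : ρ g = tau u hu.unit a := by
    apply LinearMap.ext
    intro h
    rw [hρ, tau_apply, phi_apply]
  have hord : g ^ p = 1 := by rw [← hG]; exact pow_card_eq_one'
  have hτ : tau u hu.unit a ^ p = 1 := by rw [← hρτ, ← map_pow, hord, map_one]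
  have hbij : Function.Bijective (fun l : Fin p => g ^ (l : ℕ)) := by
    rw [Fintype.bijective_iff_injective_and_card]
    constructor
    · intro l l' hll'
      have ho : orderOf g = p := by rw [← hG]; exact orderOf_eq_card_of_forall_mem_zpowers hg
      apply Fin.ext
      exact pow_injOn_Iio_orderOf (by rw [ho]; exact l.2) (by rw [ho]; exact l'.2) hll'
    · rw [Fintype.card_fin, ← Nat.card_eq_fintype_card, hG]
  have hnormsum : (∑ y : G, ρ y) = Dm u hu.unit a ^ (p - 1) := by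
    have h1 : (∑ y : G, ρ y) = ∑ l : Fin p, ρ (g ^ (l : ℕ)) :=
      (Fintype.sum_bijective _ hbij _ _ (fun _ => rfl)).symm
    rw [h1, Fin.sum_univ_eq_sum_range (fun l => ρ (g ^ l)) p]
    simp only [map_pow]
    rw [hρτ, sum_pow_eq (k := k) p (tau u hu.unit a), Dm_eq]
  have hnorm : ∀ x, (Rep.of ρ).norm.hom.toLinearMap x = (Dm u hu.unit a ^ (p - 1)) x := by
    intro x
    show (Representation.norm ρ) x = _
    rw [Representation.norm, hnormsum]
  have hsub : ∀ x, (Rep.applyAsHom (Rep.of ρ) g - 𝟙 (Rep.of ρ)).hom.toLinearMap x =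
      Dm u hu.unit a x := by
    intro x
    show ρ g x - x = _
    rw [hρτ]; rfl
  have hcex : ∀ m : ℕ, ∃ cm : PowerSeries k, m ≤ n →
      X ^ m * cm = ((hu.unit ^ (a - m) : (PowerSeries k)ˣ) : PowerSeries k) - 1 := by
    intro m
    by_cases h : m ≤ n
    · obtain ⟨q, hq⟩ := (pow_dvd_pow (X : PowerSeries k) h).trans
        (X_pow_dvd_zpow n hnk u hu1 hun hu.unit hUv (a - m))
      exact ⟨q, fun _ => hq.symm⟩
    · exact ⟨0, fun h' => absurd h' h⟩
  choose c hc' using hcex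
  have hc : ∀ m : ℕ, 1 ≤ m → m ≤ n →
      X ^ m * c m = ((hu.unit ^ (a - m) : (PowerSeries k)ˣ) : PowerSeries k) - 1 :=
    fun m _ h => hc' m h
  obtain ⟨M, hM⟩ : ∃ M : Finset ℕ,
      M = (Finset.Icc 1 n).filter (fun m : ℕ => ¬ (p : ℤ) ∣ a - (m : ℤ)) := ⟨_, rfl⟩
  have hMmem : ∀ m : ↥M, (m : ℕ) ∈
      (Finset.Icc 1 n).filter (fun m : ℕ => ¬ (p : ℤ) ∣ a - (m : ℤ)) := fun m => by
    rw [← hM]; exact m.2
  have hMle : ∀ m : ↥M, (m : ℕ) ≤ n := fun m => by
    have := hMmem m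
    rw [Finset.mem_filter, Finset.mem_Icc] at this
    exact this.1.2
  have hcker : ∀ m : ↥M, c m ∈ LinearMap.ker (Rep.of ρ).norm.hom.toLinearMap := by
    intro m
    rw [LinearMap.mem_ker, hnorm]
    exact Dm_pow_c_eq_zero p n hnk u hu1 hun hu.unit hUv a m (c m) (hc' m (hMle m))
  let L : (↥M → k) →ₗ[k] ↥(LinearMap.ker (Rep.of ρ).norm.hom.toLinearMap) :=
    Fintype.linearCombination k
      (fun m : ↥M => (⟨c m, hcker m⟩ : ↥(LinearMap.ker (Rep.of ρ).norm.hom.toLinearMap)))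
  have hL : ∀ lam : ↥M → k,
      ((L lam : ↥(LinearMap.ker (Rep.of ρ).norm.hom.toLinearMap)) : PowerSeries k) =
        ∑ m : ↥M, lam m • c m := by
    intro lam
    simp only [L, Fintype.linearCombination_apply, Submodule.coe_sum, Submodule.coe_smul]
  have hπ0 := Rep.FiniteCyclicGroup.groupCohomologyπOdd_eq_zero_iff (Rep.of ρ) g hg 1 hodd
  have hepi : Epi (Rep.FiniteCyclicGroup.groupCohomologyπOdd (Rep.of ρ) g hg 1 hodd) := by
    unfold Rep.FiniteCyclicGroup.groupCohomologyπOdd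
    have e1 : Epi ((Rep.FiniteCyclicGroup.subCompNormHom (Rep.of ρ) g).homologyπ ≫
        (Rep.FiniteCyclicGroup.groupCohomologyIsoOdd (Rep.of ρ) g hg 1 hodd).inv) :=
      epi_comp _ _
    exact epi_comp _ _
  have hsurj : Function.Surjective
      (Rep.FiniteCyclicGroup.groupCohomologyπOdd (Rep.of ρ) g hg 1 hodd).hom :=
    (ModuleCat.epi_iff_surjective _).1 hepi
  let Φ : (↥M → k) →ₗ[k] ↑(groupCohomology (Rep.of ρ) 1) :=
    (Rep.FiniteCyclicGroup.groupCohomologyπOdd (Rep.of ρ) g hg 1 hodd).hom ∘ₗ L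
  have hinj : Function.Injective Φ := by
    rw [injective_iff_map_eq_zero]
    intro lam hlam
    have h1 : ((L lam : ↥(LinearMap.ker (Rep.of ρ).norm.hom.toLinearMap)) : PowerSeries k) ∈
        LinearMap.range (Rep.applyAsHom (Rep.of ρ) g - 𝟙 (Rep.of ρ)).hom.toLinearMap :=
      (hπ0 (L lam)).mp hlam
    obtain ⟨h, hh⟩ := h1
    classical
    obtain ⟨coef, hcoefdef⟩ : ∃ coef : ℕ → k,
        coef = fun m => if hm : m ∈ M then lam ⟨m, hm⟩ else 0 := ⟨_, rfl⟩
    have hcoef : ∀ m : ↥M, coef m = lam m := fun m => by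
      rw [hcoefdef]; simp only [dif_pos m.2, Subtype.coe_eta]
    have hsumeq : ∑ m ∈ M, coef m • c m = ∑ m : ↥M, lam m • c m := by
      rw [← Finset.sum_coe_sort M (fun m => coef m • c m)]
      exact Finset.sum_congr rfl (fun m _ => by rw [hcoef m])
    have hh2 : ((hu.unit ^ a : (PowerSeries k)ˣ) : PowerSeries k) * phi u h - h =
        ∑ m ∈ M, coef m • c m := by
      rw [hsumeq, ← hL, ← hh, hsub, Dm_apply]
    rw [hM] at hh2
    have hz := coef_zero p n hn hpn u hu1 hun hu a c hc coef h hh2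
    funext m
    rw [← hcoef m]
    exact hz m (hMmem m)
  have hsurjΦ : Function.Surjective Φ := by
    intro y
    obtain ⟨⟨b, hb⟩, rfl⟩ := hsurj y
    have hb' : (Dm u hu.unit a ^ (p - 1)) b = 0 := by rw [← hnorm]; exact hb
    obtain ⟨coef, h, hbh⟩ := span_claim p n hn hpn u hu1 hun hu.unit hUv a hτ c hc b hb'
    rw [← hM] at hbh
    refine ⟨fun m : ↥M => coef m, ?_⟩
    have key : (Rep.FiniteCyclicGroup.groupCohomologyπOdd (Rep.of ρ) g hg 1 hodd).hom
        (L (fun m : ↥M => coef m) - ⟨b, hb⟩) = 0 := by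
      refine (hπ0 _).mpr ⟨-h, ?_⟩
      rw [hsub, map_neg, AddSubgroupClass.coe_sub, hL, Subtype.coe_mk,
        Finset.sum_coe_sort M (fun m => coef m • c m)]
      rw [hbh]
      abel
    rw [map_sub, sub_eq_zero] at key
    exact key
  let E : (↥M → k) ≃ₗ[k] ↑(groupCohomology (Rep.of ρ) 1) :=
    LinearEquiv.ofBijective Φ ⟨hinj, hsurjΦ⟩
  refine ⟨Module.Finite.equiv E, ?_⟩
  rw [← LinearEquiv.finrank_eq E, Module.finrank_fintype_fun_eq_card, Fintype.card_coe, hM]
  exact card_M p n a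

end Groth.Agent.H64.ASC
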