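import Mathlib
import Groth.Agent.H64.ASCover3

/-!
Fourth helper library for the Artin-Schreier cover statements (S13862):
cocycles on a finite cyclic group, and the derivative map.
-/

namespace Groth.Agent.H64.ASC

open PowerSeries Finset CategoryTheory groupCohomology

universe u

section cyclic

variable {k : Type u} [CommRing k] {G : Type u} [Group G] (A : Rep k G) (g : G)

lemma cyc_val (f : cocycles₁ A) (i : ℕ) :
    (f : G → A) (g ^ i) = ∑ l ∈ range i, ((A.ρ g) ^ l) ((f : G → A) g) := by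
  induction i with
  | zero => simp
  | succ i ih =>
    have h := (mem_cocycles₁_iff (f : G → A)).1 f.2 (g ^ i) g
    rw [pow_succ, h, ih, Finset.sum_range_succ, map_pow, add_comm]

lemma exists_nat_pow [Finite G] (hg : ∀ x : G, x ∈ Subgroup.zpowers g) (x : G) :
    ∃ i : ℕ, g ^ i = x := by
  have h1 := hg x
  rw [← (isOfFinOrder_of_finite g).mem_powers_iff_mem_zpowers] at h1
  exact (Submonoid.mem_powers_iff _ _).mp h1

lemma cyc_unique [Finite G] (hg : ∀ x : G, x ∈ Subgroup.zpowers g) (f : cocycles₁ A)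
    (h0 : (f : G → A) g = 0) : f = 0 := by
  apply Subtype.ext
  funext x
  obtain ⟨i, rfl⟩ := exists_nat_pow g hg x
  show (f : G → A) (g ^ i) = (0 : G → A) (g ^ i)
  rw [cyc_val A g f i, h0]
  simp

lemma cyc_norm (p : ℕ) (hp : g ^ p = 1) (f : cocycles₁ A) :
    ∑ l ∈ range p, ((A.ρ g) ^ l) ((f : G → A) g) = 0 := by
  rw [← cyc_val A g f p, hp]
  exact cocycles₁_map_one f

lemma cyc_exists [Finite G] (hg : ∀ x : G, x ∈ Subgroup.zpowers g) (p : ℕ) (hp2 : 2 ≤ p)
    (hord : orderOf g = p) (b : A) (hb : ∑ l ∈ range p, ((A.ρ g) ^ l) b = 0) :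
    ∃ f : cocycles₁ A, (f : G → A) g = b := by
  classical
  have hgp : g ^ p = 1 := by rw [← hord]; exact pow_orderOf_eq_one g
  have hτp : (A.ρ g) ^ p = 1 := by rw [← map_pow, hgp, map_one]
  obtain ⟨S, hS⟩ : ∃ S : ℕ → A, S = fun i => ∑ l ∈ range i, ((A.ρ g) ^ l) b := ⟨_, rfl⟩
  have hS_add : ∀ i j, S (i + j) = S i + ((A.ρ g) ^ i) (S j) := by
    intro i j
    rw [hS]
    simp only
    rw [Finset.sum_range_add, map_sum]
    congr 1
    apply Finset.sum_congr rfl
    intro x _
    rw [pow_add, Module.End.mul_apply]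
  have hSp : S p = 0 := by rw [hS]; exact hb
  have hS_per : ∀ q r, S (r + p * q) = S r := by
    intro q
    induction q with
    | zero => intro r; simp
    | succ q ih =>
      intro r
      rw [Nat.mul_succ, ← add_assoc, hS_add, hSp, map_zero, add_zero, ih]
  have hS_mod : ∀ i, S i = S (i % p) := by
    intro i
    conv_lhs => rw [← Nat.mod_add_div i p]
    exact hS_per _ _
  choose ix hix using exists_nat_pow g hg
  have hkey : ∀ i x, g ^ i = x → S i = S (ix x) := by
    intro i x hx
    have h1 : g ^ i = g ^ (ix x) := by rw [hx, hix]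
    rw [pow_eq_pow_iff_modEq, hord] at h1
    rw [hS_mod i, hS_mod (ix x), h1]
  have hmem : (fun x => S (ix x)) ∈ cocycles₁ A := by
    rw [mem_cocycles₁_iff]
    intro x y
    have h1 : g ^ (ix x + ix y) = x * y := by rw [pow_add, hix, hix]
    rw [← hkey _ _ h1, hS_add, add_comm]
    congr 1
    rw [← map_pow, hix]
  refine ⟨⟨_, hmem⟩, ?_⟩
  show S (ix g) = b
  rw [← hkey 1 g (pow_one g), hS]
  simp

end cyclic

section deriv

variable {k : Type*} [Field k]

lemma X_mul_deriv_X_pow (m : ℕ) :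
    (X : PowerSeries k) * PowerSeries.derivative k (X ^ m) = (m : PowerSeries k) * X ^ m := by
  induction m with
  | zero => simp
  | succ m ih =>
    rw [pow_succ, Derivation.leibniz, PowerSeries.derivative_X]
    simp only [smul_eq_mul]
    push_cast
    linear_combination X * ih

lemma X_mul_deriv_u (n : ℕ) (hn : 0 < n) (hnk : (n : k) ≠ 0) (u : PowerSeries k)
    (hun : u ^ n * (1 + X ^ n) = 1) :
    (X : PowerSeries k) * PowerSeries.derivative k u = -(X ^ n * u ^ (n + 1)) := by
  have hnB : ((n : ℕ) : PowerSeries k) ≠ 0 := by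
    intro h
    apply hnk
    have := congrArg (constantCoeff (R := k)) h
    simpa using this
  have h := congrArg (PowerSeries.derivative k) hun
  rw [Derivation.leibniz, map_add, Derivation.map_one_eq_zero, zero_add] at h
  simp only [smul_eq_mul] at h
  -- multiply by X
  have hu_pow : ∀ j : ℕ, (X : PowerSeries k) * PowerSeries.derivative k (u ^ j) * u =
      (j : PowerSeries k) * u ^ j * (X * PowerSeries.derivative k u) := by
    intro j
    induction j with
    | zero => simp
    | succ j ih =>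
      rw [pow_succ, Derivation.leibniz]
      simp only [smul_eq_mul]
      push_cast
      linear_combination u * ih
  have h2 : ((n : ℕ) : PowerSeries k) *
      (X * PowerSeries.derivative k u + X ^ n * u ^ (n + 1)) = 0 := by
    linear_combination (X * u) * h - (1 + X ^ n) * hu_pow n
      - (u ^ (n + 1)) * X_mul_deriv_X_pow (k := k) n
      - (n : PowerSeries k) * (X * PowerSeries.derivative k u) * hun
  have h3 := (mul_eq_zero.mp h2).resolve_left hnB
  linear_combination h3

lemma X_mul_deriv_u_pow (n : ℕ) (hn : 0 < n) (hnk : (n : k) ≠ 0) (u : PowerSeries k)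
    (hun : u ^ n * (1 + X ^ n) = 1) (j : ℕ) :
    (X : PowerSeries k) * PowerSeries.derivative k (u ^ j) =
      -((j : PowerSeries k) * X ^ n * u ^ (j + n)) := by
  induction j with
  | zero => simp
  | succ j ih =>
    rw [pow_succ, Derivation.leibniz]
    simp only [smul_eq_mul]
    push_cast
    linear_combination u * ih + u ^ j * X_mul_deriv_u n hn hnk u hun

lemma deriv_c (n : ℕ) (hn : 0 < n) (hnk : (n : k) ≠ 0) (u : PowerSeries k)
    (hun : u ^ n * (1 + X ^ n) = 1) (m j : ℕ) (hjm : j + m = n) (c0 c1 : PowerSeries k)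
    (hP : X ^ m * c0 = (1 + X ^ n) * u ^ j - 1) (hQ : X ^ (m + 1) * c1 = u ^ j - 1) :
    PowerSeries.derivative k c0 = -((m : PowerSeries k) * c1) := by
  apply mul_left_cancel₀ (pow_ne_zero (m + 1) (X_ne_zero : (X : PowerSeries k) ≠ 0))
  have hA1 : (X : PowerSeries k) * PowerSeries.derivative k (X ^ m * c0) =
      X ^ (m + 1) * PowerSeries.derivative k c0 + (m : PowerSeries k) * (X ^ m * c0) := by
    rw [Derivation.leibniz]
    simp only [smul_eq_mul]
    linear_combination c0 * X_mul_deriv_X_pow (k := k) m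
  have hA2 : (X : PowerSeries k) * PowerSeries.derivative k ((1 + X ^ n) * u ^ j - 1) =
      (1 + X ^ n) * (-((j : PowerSeries k) * X ^ n * u ^ (j + n))) +
        u ^ j * ((n : PowerSeries k) * X ^ n) := by
    rw [map_sub, Derivation.map_one_eq_zero, sub_zero, Derivation.leibniz, map_add,
      Derivation.map_one_eq_zero, zero_add]
    simp only [smul_eq_mul]
    linear_combination (1 + X ^ n) * X_mul_deriv_u_pow n hn hnk u hun j +
      u ^ j * X_mul_deriv_X_pow (k := k) n
  rw [← hP] at hA2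
  have hcast : ((n : ℕ) : PowerSeries k) = (j : PowerSeries k) + (m : PowerSeries k) := by
    rw [← hjm]; push_cast; ring
  linear_combination hA2 - hA1 - (m : PowerSeries k) * hP + (m : PowerSeries k) * hQ
    - (j : PowerSeries k) * X ^ n * u ^ j * hun + X ^ n * u ^ j * hcast

end deriv

end Groth.Agent.H64.ASC

namespace Groth.Agent.H64.ASC

open PowerSeries Finset CategoryTheory groupCohomology

universe u

lemma card_J (p : ℕ) [Fact p.Prime] (n : ℕ) (hn : 0 < n) (hpn : ¬ p ∣ n) :
    (((Finset.Icc 1 (n - 1)).filter (fun m : ℕ => ¬ p ∣ m ∧ ¬ p ∣ (n - m))).card : ℤ) =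
      ((n + 1) * (p - 1) : ℤ) / p - 1 - (n - 1 : ℤ) / p := by
  have hp := (Fact.out : p.Prime)
  have hp0 : 0 < p := hp.pos
  -- count multiples of p in [1, n-1]
  have hA : ((Finset.Icc 1 (n - 1)).filter (fun m : ℕ => p ∣ m)).card = (n - 1) / p := by
    have := Nat.Ioc_filter_dvd_card_eq_div (n - 1) p
    rw [← this]
    congr 1
  have hB : ((Finset.Icc 1 (n - 1)).filter (fun m : ℕ => p ∣ (n - m))).card = (n - 1) / p := by
    rw [← hA]
    apply Finset.card_bij' (fun (m : ℕ) _ => n - m) (fun (m : ℕ) _ => n - m)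
    · intro m hm
      rw [Finset.mem_filter, Finset.mem_Icc] at hm ⊢
      exact ⟨⟨by omega, by omega⟩, hm.2⟩
    · intro m hm
      rw [Finset.mem_filter, Finset.mem_Icc] at hm ⊢
      refine ⟨⟨by omega, by omega⟩, ?_⟩
      rw [show n - (n - m) = m by omega]
      exact hm.2
    · intro m hm
      rw [Finset.mem_filter, Finset.mem_Icc] at hm
      show n - (n - m) = m
      omega
    · intro m hm
      rw [Finset.mem_filter, Finset.mem_Icc] at hm
      show n - (n - m) = m
      omega
  -- J = complement of the union of the two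
  have hJ : ((Finset.Icc 1 (n - 1)).filter (fun m : ℕ => ¬ p ∣ m ∧ ¬ p ∣ (n - m))).card +
      ((Finset.Icc 1 (n - 1)).filter (fun m : ℕ => p ∣ m)).card +
      ((Finset.Icc 1 (n - 1)).filter (fun m : ℕ => p ∣ (n - m))).card = n - 1 := by
    have h1 := Finset.card_filter_add_card_filter_not (s := Finset.Icc 1 (n - 1))
      (fun m : ℕ => p ∣ m)
    rw [Nat.card_Icc, Nat.add_sub_cancel] at h1
    have h2 := Finset.card_filter_add_card_filter_not
      (s := (Finset.Icc 1 (n - 1)).filter (fun m : ℕ => ¬ p ∣ m)) (fun m : ℕ => p ∣ (n - m))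
    rw [Finset.filter_filter, Finset.filter_filter] at h2
    have h3 : (Finset.Icc 1 (n - 1)).filter (fun m : ℕ => ¬ p ∣ m ∧ p ∣ (n - m)) =
        (Finset.Icc 1 (n - 1)).filter (fun m : ℕ => p ∣ (n - m)) := by
      apply Finset.filter_congr
      intro m hm
      rw [Finset.mem_Icc] at hm
      constructor
      · exact fun h => h.2
      · intro h
        refine ⟨fun h' => hpn ?_, h⟩
        have : p ∣ (n - m) + m := Nat.dvd_add h h'
        rwa [show n - m + m = n by omega] at this
    rw [h3] at h2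
    omega
  rw [hA, hB] at hJ
  -- arithmetic
  obtain ⟨Q, hQ⟩ : ∃ Q : ℕ, Q = (n - 1) / p := ⟨_, rfl⟩
  rw [← hQ] at hJ
  have hR := Nat.div_add_mod (n - 1) p
  have hRlt := Nat.mod_lt (n - 1) hp0
  obtain ⟨R, hRdef⟩ : ∃ R : ℕ, R = (n - 1) % p := ⟨_, rfl⟩
  rw [← hQ, ← hRdef] at hR
  rw [← hRdef] at hRlt
  have hRne : R + 1 ≠ p := by
    intro h
    apply hpn
    refine ⟨Q + 1, ?_⟩
    have : n = p * Q + R + 1 := by omega
    rw [this, ← h]; ring
  have hQi : ((n : ℤ) - 1) / (p : ℤ) = (Q : ℤ) := by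
    have : ((n : ℤ) - 1) = ((n - 1 : ℕ) : ℤ) := by
      rw [Nat.cast_sub (by omega : 1 ≤ n)]; simp
    rw [this, hQ]
    norm_cast
  have hdiv : (((n : ℤ) + 1) * ((p : ℤ) - 1)) / (p : ℤ) = (n : ℤ) - (Q : ℤ) := by
    have hn1 : (n : ℤ) = (p : ℤ) * Q + R + 1 := by
      have : n = p * Q + R + 1 := by omega
      exact_mod_cast this
    have h := (Int.ediv_emod_unique (a := ((n : ℤ) + 1) * ((p : ℤ) - 1)) (b := (p : ℤ))
      (r := (p : ℤ) - R - 2) (q := (n : ℤ) - Q) (by exact_mod_cast hp0)).mpr
      ⟨by rw [hn1]; ring, by omega, by omega⟩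
    exact h.1
  rw [hdiv, hQi]
  omega

end Groth.Agent.H64.ASC
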