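import Mathlib
import Groth.Agent.H64.ASCover4

/-!
Fifth helper library for the Artin-Schreier cover statements (S13862): the image of
`H^1(O) → H^1(Ω)`.
-/

namespace Groth.Agent.H64.ASC

open PowerSeries Finset CategoryTheory groupCohomology

universe u

set_option backward.isDefEq.respectTransparency false in
lemma functor_map_H1π {k G : Type u} [CommRing k] [Group G] {A B : Rep k G} (φ : A ⟶ B)
    (f : cocycles₁ A) :
    ((groupCohomology.functor k G 1).map φ).hom (H1π A f) =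
      H1π B (mapCocycles₁ (MonoidHom.id G) φ f) := by
  exact H1π_comp_map_apply (MonoidHom.id G) φ f

lemma mapCocycles₁_val {k G : Type u} [CommRing k] [Group G] {A B : Rep k G} (φ : A ⟶ B)
    (f : cocycles₁ A) (x : G) :
    ((mapCocycles₁ (MonoidHom.id G) φ f : cocycles₁ B) : G → B) x = φ.hom ((f : G → A) x) := by
  rfl

set_option maxHeartbeats 1600000 in
set_option backward.isDefEq.respectTransparency false in
theorem H1_map_finrank {k : Type u} [Field k] (p : ℕ) [Fact p.Prime] [CharP k p] (n : ℕ)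
    (hn : 0 < n) (hpn : ¬ p ∣ n)
    (u : PowerSeries k) (hu1 : PowerSeries.constantCoeff u = 1)
    (hun : u ^ n * (1 + PowerSeries.X ^ n) = 1)
    {G : Type u} [Group G] [Finite G] (g : G) (hG : Nat.card G = p)
    (hg : ∀ x : G, x ∈ Subgroup.zpowers g)
    (ρ₀ ρ₁ : Representation k G (PowerSeries k))
    (hρ₀ : ∀ h : PowerSeries k, ρ₀ g h = PowerSeries.subst (PowerSeries.X * u) h)
    (hρ₁ : ∀ h : PowerSeries k, ρ₁ g h =
      u ^ (n + 1) * PowerSeries.subst (PowerSeries.X * u) h)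
    (φ : Rep.of ρ₀ ⟶ Rep.of ρ₁)
    (hφ : ∀ h : PowerSeries k, φ.hom h = PowerSeries.derivative k h) :
    Module.Finite k (LinearMap.range ((groupCohomology.functor k G 1).map φ).hom) ∧
      (Module.finrank k (LinearMap.range ((groupCohomology.functor k G 1).map φ).hom) : ℤ) =
        ((n + 1) * (p - 1) : ℤ) / p - 1 - (n - 1 : ℤ) / p := by
  classical
  have hnk : (n : k) ≠ 0 := fun h0 => hpn ((CharP.cast_eq_zero_iff k p n).mp h0)
  have hp2 : 2 ≤ p := (Fact.out : p.Prime).two_le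
  have huU : IsUnit u := by rw [isUnit_iff_constantCoeff, hu1]; exact isUnit_one
  have hUv : (huU.unit : PowerSeries k) = u := huU.unit_spec
  have hord : orderOf g = p := by rw [← hG]; exact orderOf_eq_card_of_forall_mem_zpowers hg
  have hgp : g ^ p = 1 := by rw [← hord]; exact pow_orderOf_eq_one g
  obtain ⟨a1, ha1⟩ : ∃ a1 : ℤ, a1 = ((n + 1 : ℕ) : ℤ) := ⟨_, rfl⟩
  have hρτ0 : ρ₀ g = tau u huU.unit 0 := by
    apply LinearMap.ext; intro h
    rw [hρ₀, tau_apply, zpow_zero, Units.val_one, one_mul, phi_apply]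
  have hρτ1 : ρ₁ g = tau u huU.unit a1 := by
    apply LinearMap.ext; intro h
    rw [hρ₁, tau_apply, ha1, zpow_natCast, Units.val_pow_eq_pow_val, hUv, phi_apply]
  have hτ0 : tau u huU.unit 0 ^ p = 1 := by rw [← hρτ0, ← map_pow, hgp, map_one]
  have hτ1 : tau u huU.unit a1 ^ p = 1 := by rw [← hρτ1, ← map_pow, hgp, map_one]
  have hN0 : ∀ x, ∑ l ∈ range p, ((ρ₀ g) ^ l) x = (Dm u huU.unit 0 ^ (p - 1)) x := by
    intro x
    rw [hρτ0, ← LinearMap.sum_apply, sum_pow_eq (k := k) p (tau u huU.unit 0), Dm_eq]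
  have hN1 : ∀ x, ∑ l ∈ range p, ((ρ₁ g) ^ l) x = (Dm u huU.unit a1 ^ (p - 1)) x := by
    intro x
    rw [hρτ1, ← LinearMap.sum_apply, sum_pow_eq (k := k) p (tau u huU.unit a1), Dm_eq]
  have hD0 : ∀ x, ρ₀ g x - x = Dm u huU.unit 0 x := fun x => by rw [hρτ0]; rfl
  have hD1 : ∀ x, ρ₁ g x - x = Dm u huU.unit a1 x := fun x => by rw [hρτ1]; rfl
  -- equivariance of the derivative
  have hequiv : ∀ x, PowerSeries.derivative k (Dm u huU.unit 0 x) =
      Dm u huU.unit a1 (PowerSeries.derivative k x) := by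
    intro x
    rw [← hD0, ← hD1, map_sub, ← hφ, ← hφ]
    congr 1
    exact Rep.hom_comm_apply φ g x
  -- the cocycle values
  have hcex : ∀ (a : ℤ) (m : ℕ), ∃ cm : PowerSeries k, m ≤ n →
      X ^ m * cm = ((huU.unit ^ (a - m) : (PowerSeries k)ˣ) : PowerSeries k) - 1 := by
    intro a m
    by_cases h : m ≤ n
    · obtain ⟨q, hq⟩ := (pow_dvd_pow (X : PowerSeries k) h).trans
        (X_pow_dvd_zpow n hnk u hu1 hun huU.unit hUv (a - m))
      exact ⟨q, fun _ => hq.symm⟩
    · exact ⟨0, fun h' => absurd h' h⟩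
  choose c hc' using hcex
  have hc : ∀ (a : ℤ) (m : ℕ), 1 ≤ m → m ≤ n →
      X ^ m * c a m = ((huU.unit ^ (a - m) : (PowerSeries k)ˣ) : PowerSeries k) - 1 :=
    fun a m _ h => hc' a m h
  have hQn := one_add_X_pow_eq n u hun huU.unit hUv
  -- derivative of c 0 m
  have hderiv : ∀ m : ℕ, m + 1 ≤ n →
      PowerSeries.derivative k (c 0 m) = -((m : PowerSeries k) * c a1 (m + 1)) := by
    intro m hm
    have hupow : ∀ j : ℕ, u ^ j = ((huU.unit ^ (j : ℤ) : (PowerSeries k)ˣ) : PowerSeries k) :=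
      fun j => by rw [zpow_natCast, Units.val_pow_eq_pow_val, hUv]
    have hP : X ^ m * c 0 m = (1 + X ^ n) * u ^ (n - m) - 1 := by
      rw [hc' 0 m (by omega), hQn, hupow (n - m), ← Units.val_mul, ← zpow_add]
      congr 3
      push_cast [Nat.cast_sub (by omega : m ≤ n)]
      ring
    have hQ : X ^ (m + 1) * c a1 (m + 1) = u ^ (n - m) - 1 := by
      rw [hc' a1 (m + 1) hm, hupow (n - m)]
      congr 3
      rw [ha1]
      push_cast [Nat.cast_sub (by omega : m ≤ n)]
      ring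
    exact deriv_c n hn hnk u hun m (n - m) (by omega) _ _ hP hQ
  have hderivn : PowerSeries.derivative k (c 0 n) = 0 := by
    have h1 : c 0 n = 1 := by
      apply mul_left_cancel₀ (pow_ne_zero n (X_ne_zero : (X : PowerSeries k) ≠ 0))
      rw [hc' 0 n le_rfl, zero_sub, ← hQn]
      ring
    rw [h1, Derivation.map_one_eq_zero]
  -- index sets
  obtain ⟨J, hJ⟩ : ∃ J : Finset ℕ,
      J = (Finset.Icc 1 (n - 1)).filter (fun m : ℕ => ¬ p ∣ m ∧ ¬ p ∣ (n - m)) := ⟨_, rfl⟩
  have hJmem : ∀ m, m ∈ J ↔ (1 ≤ m ∧ m ≤ n - 1) ∧ ¬ p ∣ m ∧ ¬ p ∣ (n - m) := by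
    intro m; rw [hJ, Finset.mem_filter, Finset.mem_Icc]
  have hdvd0 : ∀ m : ℕ, (p : ℤ) ∣ (0 : ℤ) - (m : ℤ) ↔ p ∣ m := by
    intro m
    rw [zero_sub, dvd_neg, Int.natCast_dvd_natCast]
  have hdvd1 : ∀ m : ℕ, m ≤ n → ((p : ℤ) ∣ a1 - ((m + 1 : ℕ) : ℤ) ↔ p ∣ (n - m)) := by
    intro m hm
    have : a1 - ((m + 1 : ℕ) : ℤ) = ((n - m : ℕ) : ℤ) := by
      rw [ha1]; push_cast [Nat.cast_sub hm]; ring
    rw [this, Int.natCast_dvd_natCast]
  -- cocycles for the target
  have hker1 : ∀ m : ℕ, m ≤ n → ∑ l ∈ range p, ((ρ₁ g) ^ l) (c a1 m) = 0 := by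
    intro m hm
    rw [hN1]
    exact Dm_pow_c_eq_zero p n hnk u hu1 hun huU.unit hUv a1 m _ (hc' a1 m hm)
  have hker0 : ∀ m : ℕ, m ≤ n → ∑ l ∈ range p, ((ρ₀ g) ^ l) (c 0 m) = 0 := by
    intro m hm
    rw [hN0]
    exact Dm_pow_c_eq_zero p n hnk u hu1 hun huU.unit hUv 0 m _ (hc' 0 m hm)
  have hJle : ∀ m : ↥J, (m : ℕ) + 1 ≤ n := fun m => by
    have := (hJmem m).mp m.2
    omega
  have hf1ex : ∀ m : ↥J, ∃ f : cocycles₁ (Rep.of ρ₁), (f : G → PowerSeries k) g = c a1 (m + 1) :=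
    fun m => cyc_exists (Rep.of ρ₁) g hg p hp2 hord (c a1 (m + 1)) (hker1 _ (hJle m))
  choose f1 hf1 using hf1ex
  obtain ⟨Γ, hΓ⟩ : ∃ Γ : (↥J → k) →ₗ[k] ↑(groupCohomology.H1 (Rep.of ρ₁)),
      Γ = Fintype.linearCombination k (fun m : ↥J => H1π (Rep.of ρ₁) (f1 m)) := ⟨_, rfl⟩
  have hΓapp : ∀ ν : ↥J → k, Γ ν = H1π (Rep.of ρ₁) (∑ m : ↥J, ν m • f1 m) := by
    intro ν
    rw [hΓ, Fintype.linearCombination_apply, map_sum]
    apply Finset.sum_congr rfl
    intro m _
    rw [map_smul]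
  have hsumval : ∀ ν : ↥J → k, ((∑ m : ↥J, ν m • f1 m : cocycles₁ (Rep.of ρ₁)) : G → PowerSeries k) g =
      ∑ m : ↥J, ν m • c a1 (m + 1) := by
    intro ν
    show (Subtype.val (∑ m : ↥J, ν m • f1 m : cocycles₁ (Rep.of ρ₁))) g = _
    rw [Submodule.coe_sum, Finset.sum_apply]
    apply Finset.sum_congr rfl
    intro m _
    rw [Submodule.coe_smul, Pi.smul_apply]
    congr 1
    exact hf1 m
  -- injectivity of Γ
  have hΓinj : Function.Injective Γ := by
    rw [injective_iff_map_eq_zero]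
    intro ν hν
    rw [hΓapp] at hν
    have h2 := (H1π_eq_zero_iff (∑ m : ↥J, ν m • f1 m)).mp hν
    obtain ⟨y, hy⟩ := h2
    have h3 : ρ₁ g y - y = ∑ m : ↥J, ν m • c a1 (m + 1) := by
      rw [← hsumval ν]
      exact congrFun hy g
    obtain ⟨coef, hcoefdef⟩ : ∃ coef : ℕ → k,
        coef = fun m' => if h : m' - 1 ∈ J then ν ⟨m' - 1, h⟩ else 0 := ⟨_, rfl⟩
    have hcoef : ∀ (m : ℕ) (hm : m ∈ J), coef (m + 1) = ν ⟨m, hm⟩ := by
      intro m hm
      rw [hcoefdef]
      have h' : m + 1 - 1 ∈ J := by rwa [Nat.add_sub_cancel]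
      simp only [dif_pos h']
      congr 1
    have hsub : J.image (· + 1) ⊆
        (Finset.Icc 1 n).filter (fun m : ℕ => ¬ (p : ℤ) ∣ a1 - (m : ℤ)) := by
      intro m' hm'
      rw [Finset.mem_image] at hm'
      obtain ⟨m, hm, rfl⟩ := hm'
      have h := (hJmem m).mp hm
      rw [Finset.mem_filter, Finset.mem_Icc]
      refine ⟨⟨by omega, by omega⟩, ?_⟩
      rw [hdvd1 m (by omega)]
      exact h.2.2
    have hsumeq : ∑ m' ∈ (Finset.Icc 1 n).filter (fun m : ℕ => ¬ (p : ℤ) ∣ a1 - (m : ℤ)),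
        coef m' • c a1 m' = ∑ m : ↥J, ν m • c a1 (m + 1) := by
      rw [← Finset.sum_subset hsub]
      · rw [Finset.sum_image (fun x _ y _ h => Nat.succ_injective h),
          ← Finset.sum_coe_sort J]
        apply Finset.sum_congr rfl
        intro m _
        rw [hcoef m m.2]
      · intro m' _ hnot
        have : m' - 1 ∉ J ∨ m' = 0 := by
          by_contra hcon
          push Not at hcon
          apply hnot
          rw [Finset.mem_image]
          exact ⟨m' - 1, hcon.1, by omega⟩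
        rcases this with h | h
        · rw [hcoefdef]; simp only [dif_neg h, zero_smul]
        · have h0 : (0 : ℕ) - 1 ∉ J := by
            intro h0
            have := (hJmem _).mp h0
            omega
          rw [h, hcoefdef]; simp only [dif_neg h0, zero_smul]
    have hh : ((huU.unit ^ a1 : (PowerSeries k)ˣ) : PowerSeries k) * phi u y - y =
        ∑ m' ∈ (Finset.Icc 1 n).filter (fun m : ℕ => ¬ (p : ℤ) ∣ a1 - (m : ℤ)),
          coef m' • c a1 m' := by
      rw [hsumeq, ← h3, hD1, Dm_apply]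
    have hz := coef_zero p n hn hpn u hu1 hun huU a1 (c a1) (hc a1) coef y hh
    funext m
    have := hz (m + 1) (hsub (Finset.mem_image.mpr ⟨m, m.2, rfl⟩))
    rw [hcoef m m.2] at this
    exact this
  -- the map F
  obtain ⟨F, hF⟩ : ∃ F : ↑(groupCohomology.H1 (Rep.of ρ₀)) →ₗ[k] ↑(groupCohomology.H1 (Rep.of ρ₁)),
      F = ((groupCohomology.functor k G 1).map φ).hom := ⟨_, rfl⟩
  have hFπ : ∀ f : cocycles₁ (Rep.of ρ₀), F (H1π (Rep.of ρ₀) f) =
      H1π (Rep.of ρ₁) (mapCocycles₁ (MonoidHom.id G) φ f) := by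
    intro f
    rw [hF]
    exact functor_map_H1π φ f
  have hmapval : ∀ (f : cocycles₁ (Rep.of ρ₀)) (x : G),
      ((mapCocycles₁ (MonoidHom.id G) φ f : cocycles₁ (Rep.of ρ₁)) : G → PowerSeries k) x =
        PowerSeries.derivative k ((f : G → PowerSeries k) x) := by
    intro f x
    rw [mapCocycles₁_val φ f x]
    exact hφ _
  -- equality of classes from equality at g
  have hclass : ∀ (f f' : cocycles₁ (Rep.of ρ₁)) (h : PowerSeries k),
      (f : G → PowerSeries k) g - (f' : G → PowerSeries k) g = Dm u huU.unit a1 h →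
      H1π (Rep.of ρ₁) f = H1π (Rep.of ρ₁) f' := by
    intro f f' h hval
    rw [H1π_eq_iff]
    refine ⟨h, ?_⟩
    have hcob := d₀₁_apply_mem_cocycles₁ (A := Rep.of ρ₁) h
    have hzero : f - f' - ⟨_, hcob⟩ = 0 := by
      apply cyc_unique (Rep.of ρ₁) g hg
      show (f : G → PowerSeries k) g - (f' : G → PowerSeries k) g - (ρ₁ g h - h) = 0
      rw [hval, hD1, sub_self]
    have h4 : (f - f' - ⟨_, hcob⟩ : cocycles₁ (Rep.of ρ₁)).1 = 0 := by rw [hzero]; rfl
    have h5 : (f : G → PowerSeries k) - (f' : G → PowerSeries k) - (d₀₁ (Rep.of ρ₁)) h = 0 := h4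
    exact (sub_eq_zero.mp h5).symm
  -- range F ≤ range Γ
  have hle1 : LinearMap.range F ≤ LinearMap.range Γ := by
    rintro _ ⟨x, rfl⟩
    induction x using H1_induction_on with
    | h f =>
      have hb : (Dm u huU.unit 0 ^ (p - 1)) ((f : G → PowerSeries k) g) = 0 := by
        rw [← hN0]
        exact cyc_norm (Rep.of ρ₀) g p hgp f
      obtain ⟨lam, h, hbh⟩ := span_claim p n hn hpn u hu1 hun huU.unit hUv 0 hτ0 (c 0) (hc 0)
        _ hb
      -- for each m in M0, the derivative of c 0 m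
      have hdc : ∀ m ∈ (Finset.Icc 1 n).filter (fun m : ℕ => ¬ (p : ℤ) ∣ (0 : ℤ) - (m : ℤ)),
          ∃ gm : PowerSeries k, PowerSeries.derivative k (c 0 m) =
            (if m ∈ J then -((m : k) • c a1 (m + 1)) else 0) + Dm u huU.unit a1 gm := by
        intro m hm
        rw [Finset.mem_filter, Finset.mem_Icc, hdvd0] at hm
        by_cases hmJ : m ∈ J
        · refine ⟨0, ?_⟩
          have := (hJmem m).mp hmJ
          rw [if_pos hmJ, map_zero, add_zero, hderiv m (by omega), Nat.cast_smul_eq_nsmul,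
            nsmul_eq_mul]
        · simp only [if_neg hmJ, zero_add]
          by_cases hmn : m = n
          · refine ⟨0, ?_⟩
            rw [hmn, hderivn, map_zero]
          · have hm1 : m + 1 ≤ n := by omega
            have hpd : p ∣ (n - m) := by
              by_contra hcon
              exact hmJ ((hJmem m).mpr ⟨⟨hm.1.1, by omega⟩, hm.2, hcon⟩)
            obtain ⟨h', hh'⟩ := exists_coboundary p n hpn u hu1 hun huU a1 (m + 1) hm1
              ((hdvd1 m (by omega)).mpr hpd) (c a1 (m + 1)) (hc' a1 (m + 1) hm1)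
            refine ⟨-((m : k) • h'), ?_⟩
            rw [hderiv m hm1, map_neg, map_smul, Dm_apply, hh', Nat.cast_smul_eq_nsmul,
              nsmul_eq_mul]
      choose gm hgm using hdc
      obtain ⟨ν, hν⟩ : ∃ ν : ↥J → k, ν = fun m : ↥J => -((m : ℕ) : k) * lam (m : ℕ) := ⟨_, rfl⟩
      refine ⟨ν, ?_⟩
      rw [hΓapp, hFπ]
      symm
      apply hclass _ _ (PowerSeries.derivative k h +
        ∑ m ∈ ((Finset.Icc 1 n).filter (fun m : ℕ => ¬ (p : ℤ) ∣ (0 : ℤ) - (m : ℤ))).attach,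
          lam m • gm m m.2)
      rw [hmapval, hsumval, hbh, map_add, map_sum, hequiv, map_add, map_sum]
      rw [← Finset.sum_attach ((Finset.Icc 1 n).filter
        (fun m : ℕ => ¬ (p : ℤ) ∣ (0 : ℤ) - (m : ℤ)))
        (fun m => PowerSeries.derivative k (lam m • c 0 m))]
      have hterm : ∀ m : ↥((Finset.Icc 1 n).filter
          (fun m : ℕ => ¬ (p : ℤ) ∣ (0 : ℤ) - (m : ℤ))),
          PowerSeries.derivative k (lam m • c 0 m) =
            (if (m : ℕ) ∈ J then (-((m : ℕ) : k) * lam m) • c a1 (m + 1) else 0) +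
              Dm u huU.unit a1 (lam m • gm m m.2) := by
        intro m
        rw [Derivation.map_smul, hgm m m.2, smul_add, map_smul]
        congr 1
        split_ifs
        · rw [smul_neg, smul_smul, neg_mul, neg_smul, mul_comm]
        · rw [smul_zero]
      rw [Finset.sum_congr rfl (fun m _ => hterm m), Finset.sum_add_distrib]
      have hJsum : ∑ m ∈ ((Finset.Icc 1 n).filter
          (fun m : ℕ => ¬ (p : ℤ) ∣ (0 : ℤ) - (m : ℤ))).attach,
          (if (m : ℕ) ∈ J then (-((m : ℕ) : k) * lam m) • c a1 (m + 1) else 0) =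
          ∑ m : ↥J, ν m • c a1 (m + 1) := by
        rw [Finset.sum_attach ((Finset.Icc 1 n).filter
          (fun m : ℕ => ¬ (p : ℤ) ∣ (0 : ℤ) - (m : ℤ)))
          (fun m => if m ∈ J then (-((m : ℕ) : k) * lam m) • c a1 (m + 1) else 0),
          ← Finset.sum_filter]
        have hfilt : ((Finset.Icc 1 n).filter
            (fun m : ℕ => ¬ (p : ℤ) ∣ (0 : ℤ) - (m : ℤ))).filter (fun m => m ∈ J) = J := by
          ext m
          rw [Finset.mem_filter, Finset.mem_filter, Finset.mem_Icc, hdvd0]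
          constructor
          · exact fun h => h.2
          · intro h
            have := (hJmem m).mp h
            exact ⟨⟨⟨by omega, by omega⟩, this.2.1⟩, h⟩
        rw [hfilt, ← Finset.sum_coe_sort J, hν]
      rw [hJsum]
      simp only [map_sum]
      abel
  -- range Γ ≤ range F
  have hle2 : LinearMap.range Γ ≤ LinearMap.range F := by
    rw [hΓ, Fintype.range_linearCombination, Submodule.span_le]
    rintro _ ⟨m, rfl⟩
    have hmJ := (hJmem m).mp m.2
    have hmk : ((m : ℕ) : k) ≠ 0 := by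
      intro h
      exact hmJ.2.1 ((CharP.cast_eq_zero_iff k p _).mp h)
    obtain ⟨f0, hf0⟩ := cyc_exists (Rep.of ρ₀) g hg p hp2 hord
      ((-((m : ℕ) : k)⁻¹) • c 0 m) (by
        have h0 := hker0 m (Nat.le_of_succ_le (hJle m))
        show ∑ l ∈ range p, ((ρ₀ g) ^ l) ((-((m : ℕ) : k)⁻¹) • c 0 m) = 0
        simp only [map_smul]
        rw [← Finset.smul_sum, h0, smul_zero])
    refine ⟨H1π (Rep.of ρ₀) f0, ?_⟩
    rw [hFπ]
    apply hclass _ _ 0
    have h1 : (((m : ℕ) : ℕ) : PowerSeries k) * c a1 (m + 1) = ((m : ℕ) : k) • c a1 (m + 1) := by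
      rw [Nat.cast_smul_eq_nsmul, nsmul_eq_mul]
    rw [hmapval, hf0, hf1, Derivation.map_smul, hderiv m (hJle m), map_zero, h1, smul_neg, smul_smul,
      neg_mul, inv_mul_cancel₀ hmk, neg_smul, neg_neg, one_smul, sub_self]
  have hrange : LinearMap.range F = LinearMap.range Γ := le_antisymm hle1 hle2
  have key : Module.Finite k (LinearMap.range F) ∧
      (Module.finrank k (LinearMap.range F) : ℤ) =
        ((n + 1) * (p - 1) : ℤ) / p - 1 - (n - 1 : ℤ) / p := by
    rw [hrange]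
    let E : (↥J → k) ≃ₗ[k] ↥(LinearMap.range Γ) := LinearEquiv.ofInjective Γ hΓinj
    refine ⟨Module.Finite.equiv E, ?_⟩
    rw [← LinearEquiv.finrank_eq E, Module.finrank_fintype_fun_eq_card, Fintype.card_coe, hJ]
    exact card_J p n hn hpn
  subst hF
  exact key

end Groth.Agent.H64.ASC
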