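import Mathlib
import Groth.Prelude.Def_Adeq

/-!
# helper64: pushforward of presheaves of modules preserves limits; `Adeq.restr` of `underline`
-/

set_option autoImplicit false
universe v v₁ v₂ u₁ u₂ u₃ u

open CategoryTheory Limits TensorProduct Opposite

namespace Groth.Agent.H64.AdeqRestr

section General

variable {C : Type u₁} [Category.{v₁} C] {D : Type u₂} [Category.{v₂} D] {F : C ⥤ D}
  {R : Dᵒᵖ ⥤ RingCat.{u}} {S : Cᵒᵖ ⥤ RingCat.{u}} (φ : S ⟶ F.op ⋙ R)

open PresheafOfModules in
/-- The pushforward of presheaves of modules preserves kernels. -/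
noncomputable def pushforwardIsLimit {M N : PresheafOfModules.{v} R} (f : M ⟶ N)
    (c : Cone (parallelPair f 0)) (hc : IsLimit c) :
    IsLimit ((pushforward.{v} φ).mapCone c) := by
  apply PresheafOfModules.evaluationJointlyReflectsLimits
  intro X
  exact isLimitOfPreserves (ModuleCat.restrictScalars (φ.app X).hom)
    (isLimitOfPreserves (evaluation R (F.op.obj X)) hc)

noncomputable instance pushforward_preservesKernel {M N : PresheafOfModules.{v} R} (f : M ⟶ N) :
    PreservesLimit (parallelPair f 0) (PresheafOfModules.pushforward.{v} φ) :=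
  ⟨fun {c} hc => ⟨pushforwardIsLimit φ f c hc⟩⟩

end General

section Restr

variable (A A' : Type u) [CommRing A] [CommRing A'] [Algebra A A']

/-- `A' ⊗[A] M` as an `A'`-module. -/
noncomputable abbrev bcMod (M : ModuleCat.{u + 1} A) : ModuleCat.{u + 1} A' :=
  ModuleCat.of A' (A' ⊗[A] M)

/-- `A' ⊗[A] φ`. -/
noncomputable abbrev bcMap {M N : ModuleCat.{u + 1} A} (φ : M ⟶ N) : bcMod A A' M ⟶ bcMod A A' N :=
  ModuleCat.ofHom (φ.hom.baseChange A')

/-- The comparison `B' ⊗[A] M ≃ B' ⊗[A'] (A' ⊗[A] M)`. -/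
noncomputable def cmpEquiv (B' : Adeq.Alg A') (M : ModuleCat.{u + 1} A) :
    letI : Algebra A B' := ((algebraMap A' B').comp (algebraMap A A')).toAlgebra
    (B' ⊗[A] M) ≃ₗ[B'] (B' ⊗[A'] (A' ⊗[A] M)) :=
  letI : Algebra A B' := ((algebraMap A' B').comp (algebraMap A A')).toAlgebra
  haveI : IsScalarTower A A' B' := IsScalarTower.of_algebraMap_eq (fun _ => rfl)
  (TensorProduct.AlgebraTensorModule.cancelBaseChange A A' B' B' M).symm

theorem cmpEquiv_tmul (B' : Adeq.Alg A') (M : ModuleCat.{u + 1} A) (b : B') (m : M) :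
    letI : Algebra A B' := ((algebraMap A' B').comp (algebraMap A A')).toAlgebra
    cmpEquiv A A' B' M (b ⊗ₜ[A] m) = b ⊗ₜ[A'] ((1 : A') ⊗ₜ[A] m) := rfl

/-- `restr (underline M) ≅ underline (A' ⊗ M)`. -/
noncomputable def restrUnderlineIso (M : ModuleCat.{u + 1} A) :
    (Adeq.restr A A').obj ((Adeq.underline A).obj M) ≅ (Adeq.underline A').obj (bcMod A A' M) :=
  PresheafOfModules.isoMk (fun X => (cmpEquiv A A' X.unop.unop M).toModuleIso) (by
    intro X Y f
    ext x
    induction x using TensorProduct.induction_on with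
    | zero => exact (map_zero _).trans (map_zero _).symm
    | tmul b m => rfl
    | add x y hx hy =>
      exact (map_add _ x y).trans ((congrArg₂ (· + ·) hx hy).trans (map_add _ x y).symm))

theorem restrUnderlineIso_naturality {M N : ModuleCat.{u + 1} A} (φ : M ⟶ N) :
    (Adeq.restr A A').map ((Adeq.underline A).map φ) ≫ (restrUnderlineIso A A' N).hom =
      (restrUnderlineIso A A' M).hom ≫ (Adeq.underline A').map (bcMap A A' φ) := by
  ext X x
  induction x using TensorProduct.induction_on with
  | zero => exact (map_zero _).trans (map_zero _).symm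
  | tmul b m => rfl
  | add x y hx hy =>
    exact (map_add _ x y).trans ((congrArg₂ (· + ·) hx hy).trans (map_add _ x y).symm)

theorem adequate_restr (F : Adeq.MVF A) (hF : Adeq.adequate A F) :
    Adeq.adequate A' ((Adeq.restr A A').obj F) := by
  obtain ⟨M, N, φ, ⟨i⟩⟩ := hF
  refine ⟨bcMod A A' M, bcMod A A' N, bcMap A A' φ, ⟨?_⟩⟩
  haveI : PreservesLimit (parallelPair ((Adeq.underline A).map φ) 0) (Adeq.restr A A') := by
    unfold Adeq.restr
    infer_instance
  haveI : (Adeq.restr A A').PreservesZeroMorphisms := ⟨fun _ _ => rfl⟩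
  exact (Adeq.restr A A').mapIso i ≪≫ PreservesKernel.iso (Adeq.restr A A') _ ≪≫
    kernel.mapIso _ _ (restrUnderlineIso A A' M) (restrUnderlineIso A A' N)
      (restrUnderlineIso_naturality A A' φ)


end Restr

end Groth.Agent.H64.AdeqRestr
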