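import Mathlib
import Groth.Prelude.Def_Adeq2
import Groth.Agent.H64.AdeqRestr

/-!
# helper64: adequacy of big-site modules: fppf-local nature (S8758)
-/


set_option autoImplicit false
universe u v v₁ u₁

open CategoryTheory Limits AlgebraicGeometry Opposite

namespace Groth.Agent.H64.AdeqPull

section General
variable {C : Type u₁} [Category.{v₁} C] {R : Cᵒᵖ ⥤ RingCat.{u}} (M : PresheafOfModules.{v} R)

theorem map_iso_cancel {U V : C} (e : U ≅ V) (m : M.obj (op U)) :
    M.map e.hom.op (M.map e.inv.op m) = m :=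
  (M.map_comp_apply e.inv.op e.hom.op m).symm.trans
    ((M.congr_map_apply (show e.inv.op ≫ e.hom.op = 𝟙 _ by
      rw [← op_comp, e.hom_inv_id, op_id]) m).trans (by rw [M.map_id]; rfl))

theorem map_iso_cancel' {U V : C} (e : U ≅ V) (m : M.obj (op V)) :
    M.map e.inv.op (M.map e.hom.op m) = m :=
  map_iso_cancel M e.symm m

theorem map_square {A B B' D : C} (p : A ⟶ B) (q : B ⟶ D) (p' : A ⟶ B') (q' : B' ⟶ D)
    (h : p ≫ q = p' ≫ q') (m : M.obj (op D)) :
    M.map p.op (M.map q.op m) = M.map p'.op (M.map q'.op m) :=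
  (M.map_comp_apply q.op p.op m).symm.trans
    ((M.congr_map_apply (show q.op ≫ p.op = q'.op ≫ p'.op by
      rw [← op_comp, ← op_comp, h]) m).trans (M.map_comp_apply q'.op p'.op m))

end General

variable (K : Precoverage Scheme.{u}) [BigSite.OSh K] {S T : Scheme.{u}} (f : T ⟶ S)
  {R : CommRingCat.{u}} (b : Spec R ⟶ T)

/-- The iso of objects of the big site of `S`. -/
noncomputable def overIsoA (B : Adeq.Alg R) :
    (Over.map f).obj ((Adeq.specOver b).obj (op B)) ≅ (Adeq.specOver (b ≫ f)).obj (op B) :=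
  Over.isoMk (Iso.refl _) (by simp [Adeq.specOver])

noncomputable def compA (M : BigSite.Mod K S) (X : (Adeq.Alg R)ᵒᵖᵒᵖ) :
    ((Adeq.toMVF K b).obj ((BigSite.pullMod K f).obj M)).obj X ≅
      ((Adeq.toMVF K (b ≫ f)).obj M).obj X :=
  LinearEquiv.toModuleIso
    { toFun := fun m => M.val.map (overIsoA f b X.unop.unop).inv.op m
      map_add' := fun x y => map_add _ x y
      map_smul' := fun r m => by
        have h := M.val.map_smul (overIsoA f b X.unop.unop).inv.op
          (Adeq.toSect K b X.unop.unop r) m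
        refine h.trans ?_
        congr 1
      invFun := fun m => M.val.map (overIsoA f b X.unop.unop).hom.op m
      left_inv := fun m => map_iso_cancel M.val (overIsoA f b X.unop.unop) m
      right_inv := fun m => map_iso_cancel' M.val (overIsoA f b X.unop.unop) m }

/-- `F_{f^*M, R} ≅ F_{M, R}` for `b : Spec R ⟶ T`, `f : T ⟶ S`. -/
noncomputable def isoA (M : BigSite.Mod K S) :
    (Adeq.toMVF K b).obj ((BigSite.pullMod K f).obj M) ≅ (Adeq.toMVF K (b ≫ f)).obj M :=
  PresheafOfModules.isoMk (fun X => compA K f b M X) (by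
    intro X Y g
    ext m
    refine map_square M.val _ _ _ _ ?_ m
    ext : 1
    simp [overIsoA, Adeq.specOver] <;> rfl)

theorem adequateMod_of_cover [K.IsStableUnderComposition] (S : Scheme.{u}) (M : BigSite.Mod K S)
    (ι : Type u) (T : ι → Scheme.{u}) (f : ∀ i, T i ⟶ S)
    (hcov : Presieve.ofArrows T f ∈ K.coverings S)
    (h : ∀ i, Adeq.adequateMod K (T i) ((BigSite.pullMod K (f i)).obj M)) :
    Adeq.adequateMod K S M := by
  choose σ R b hb had using h
  refine ⟨Σ i, σ i, fun p => R p.1 p.2, fun p => b p.1 p.2 ≫ f p.1, ?_, fun p => ?_⟩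
  · exact Precoverage.comp_mem_coverings f hcov (fun i j => b i j) hb
  · exact (Adeq.adequate _).prop_of_iso (isoA K (f p.1) (b p.1 p.2) M) (had p.1 p.2)


end Groth.Agent.H64.AdeqPull
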