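import Mathlib
import Groth.Prelude.Def_Adeq2
import Groth.Agent.H64.AdeqRestr
import Groth.Agent.H64.AdeqPull

/-!
# helper64: pullback of adequate big-site modules is adequate (S8757)
-/


set_option autoImplicit false
universe u v v₁ u₁

open CategoryTheory Limits AlgebraicGeometry Opposite

namespace Groth.Agent.H64.AdeqPull

variable (K : Precoverage Scheme.{u}) [BigSite.OSh K] {S T : Scheme.{u}} (f : T ⟶ S)

section B

variable {R R' : CommRingCat.{u}} [Algebra R R'] (a : Spec R ⟶ S)

/-- The iso of objects of the big site of `S`. -/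
noncomputable def overIsoB (B' : Adeq.Alg R') :
    (Adeq.specOver (Spec.map (CommRingCat.ofHom (algebraMap R R')) ≫ a)).obj (op B') ≅
      (Adeq.specOver a).obj (op ((Adeq.Alg.restr R R').obj B')) :=
  Over.isoMk (Iso.refl (Spec (CommRingCat.of B'))) (by
    show 𝟙 _ ≫ (Spec.map (CommRingCat.ofHom (algebraMap R ((Adeq.Alg.restr R R').obj B'))) ≫ a) =
      Spec.map (CommRingCat.ofHom (algebraMap R' B')) ≫
        Spec.map (CommRingCat.ofHom (algebraMap R R')) ≫ a
    have h : CommRingCat.ofHom (algebraMap R ((Adeq.Alg.restr R R').obj B')) =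
        CommRingCat.ofHom (algebraMap R R') ≫ CommRingCat.ofHom (algebraMap R' B') := rfl
    rw [Category.id_comp, h, Spec.map_comp, Category.assoc])

noncomputable def compB (M : BigSite.Mod K S) (X : (Adeq.Alg R')ᵒᵖᵒᵖ) :
    ((Adeq.toMVF K (Spec.map (CommRingCat.ofHom (algebraMap R R')) ≫ a)).obj M).obj X ≅
      ((Adeq.restr R R').obj ((Adeq.toMVF K a).obj M)).obj X :=
  LinearEquiv.toModuleIso
    { toFun := fun m => M.val.map (overIsoB a X.unop.unop).inv.op m
      map_add' := fun x y => map_add _ x y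
      map_smul' := fun r m => by
        have h := M.val.map_smul (overIsoB a X.unop.unop).inv.op
          (Adeq.toSect K (Spec.map (CommRingCat.ofHom (algebraMap R R')) ≫ a) X.unop.unop r) m
        refine h.trans ?_
        congr 1
      invFun := fun m => M.val.map (overIsoB a X.unop.unop).hom.op m
      left_inv := fun m => map_iso_cancel M.val (overIsoB a X.unop.unop) m
      right_inv := fun m => map_iso_cancel' M.val (overIsoB a X.unop.unop) m }


theorem specOver_map_left {R₀ : CommRingCat.{u}} (a₀ : Spec R₀ ⟶ S) {B₁ B₂ : (Adeq.Alg R₀)ᵒᵖ}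
    (φ : B₁ ⟶ B₂) :
    ((Adeq.specOver a₀).map φ).left = Spec.map (CommRingCat.ofHom φ.unop.hom.toRingHom) := rfl

theorem restr_map_left {B₁ B₂ : Adeq.Alg R'} (g : B₁ ⟶ B₂) :
    ((Adeq.specOver a).map ((Adeq.Alg.restr R R').map g).op).left =
      Spec.map (CommRingCat.ofHom g.hom.toRingHom) := rfl

theorem overIsoB_natural {B₁ B₂ : Adeq.Alg R'} (g : B₁ ⟶ B₂) :
    (overIsoB a B₂).inv ≫
        (Adeq.specOver (Spec.map (CommRingCat.ofHom (algebraMap R R')) ≫ a)).map g.op =
      (Adeq.specOver a).map ((Adeq.Alg.restr R R').map g).op ≫ (overIsoB a B₁).inv := by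
  ext : 1
  rw [Over.comp_left, Over.comp_left, restr_map_left, specOver_map_left]
  exact (Category.id_comp _).trans (Category.comp_id _).symm

/-- `F_{M, R'} ≅ restr F_{M, R}` for `R → R'`. -/
noncomputable def isoB (M : BigSite.Mod K S) :
    (Adeq.toMVF K (Spec.map (CommRingCat.ofHom (algebraMap R R')) ≫ a)).obj M ≅
      (Adeq.restr R R').obj ((Adeq.toMVF K a).obj M) :=
  PresheafOfModules.isoMk (fun X => compB K a M X) (by
    intro X Y g
    ext m
    exact map_square M.val _ _ _ _ (overIsoB_natural a g.unop.unop) m)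

end B

theorem adequate_toMVF_congr {R : CommRingCat.{u}} {a a' : Spec R ⟶ S} (h : a = a')
    (M : BigSite.Mod K S) (hM : Adeq.adequate R ((Adeq.toMVF K a).obj M)) :
    Adeq.adequate R ((Adeq.toMVF K a').obj M) := by
  subst h; exact hM

theorem adequateMod_pullMod [K.IsStableUnderBaseChange] [K.IsStableUnderComposition]
    (hK : Scheme.zariskiPrecoverage ≤ K) (M : BigSite.Mod K S)
    (hM : Adeq.adequateMod K S M) : Adeq.adequateMod K T ((BigSite.pullMod K f).obj M) := by
  obtain ⟨ι, R, a, hcov, had⟩ := hM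
  let 𝒰 : ∀ i, (pullback f (a i)).AffineOpenCover := fun i => (pullback f (a i)).affineOpenCover
  refine ⟨Σ i, (𝒰 i).I₀, fun p => (𝒰 p.1).X p.2,
    fun p => (𝒰 p.1).f p.2 ≫ pullback.fst f (a p.1), ?_, fun p => ?_⟩
  · refine Precoverage.comp_mem_coverings (fun i => pullback.fst f (a i)) ?_
      (fun i j => (𝒰 i).f j) (fun i => ?_)
    · exact Precoverage.mem_coverings_of_isPullback a hcov f _ _
        (fun i => IsPullback.of_hasPullback f (a i))
    · exact hK _ ((𝒰 i).openCover.mem₀)
  · obtain ⟨i, j⟩ := p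
    let ψ : R i ⟶ (𝒰 i).X j := Spec.preimage ((𝒰 i).f j ≫ pullback.snd f (a i))
    let _ : Algebra (R i) ((𝒰 i).X j) := ψ.hom.toAlgebra
    have hψ : Spec.map (CommRingCat.ofHom (algebraMap (R i) ((𝒰 i).X j))) =
        (𝒰 i).f j ≫ pullback.snd f (a i) := Spec.map_preimage _
    have e : ((𝒰 i).f j ≫ pullback.fst f (a i)) ≫ f =
        Spec.map (CommRingCat.ofHom (algebraMap (R i) ((𝒰 i).X j))) ≫ a i := by
      rw [hψ, Category.assoc, Category.assoc, pullback.condition]
    refine (Adeq.adequate _).prop_of_iso (isoA K f _ M).symm ?_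
    refine adequate_toMVF_congr K e.symm M ?_
    refine (Adeq.adequate _).prop_of_iso (isoB K (a i) M).symm ?_
    exact AdeqRestr.adequate_restr (R i) ((𝒰 i).X j) _ (had i)

end Groth.Agent.H64.AdeqPull
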