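import Mathlib
import Groth.Prelude.Def_Adeq2
import Groth.Agent.H64.AdeqPullB
import Groth.Agent.S8744

/-!
# helper64: kernel of a map of adequate big-site modules is adequate (S8761)
-/


set_option autoImplicit false
universe u

open CategoryTheory Limits AlgebraicGeometry Opposite

namespace Groth.Agent.H64.AdeqKer

variable (K : Precoverage Scheme.{u}) [BigSite.OSh K] {S : Scheme.{u}}

/-- `toMVFPre` preserves kernels. -/
noncomputable def toMVFPreIsLimit {R : CommRingCat.{u}} (a : Spec R ⟶ S)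
    {P Q : PresheafOfModules.{u + 1} (BigSite.ORing K S).obj} (f : P ⟶ Q)
    (c : Cone (parallelPair f 0)) (hc : IsLimit c) :
    IsLimit ((Adeq.toMVFPre K a).mapCone c) := by
  apply PresheafOfModules.evaluationJointlyReflectsLimits
  intro X
  exact isLimitOfPreserves (ModuleCat.restrictScalars (Adeq.toSect K a X.unop.unop))
    (isLimitOfPreserves (PresheafOfModules.evaluation _ (op ((Adeq.specOver a).obj (op X.unop.unop)))) hc)

/-- `toMVF` preserves kernels. -/
noncomputable def toMVFIsLimit {R : CommRingCat.{u}} (a : Spec R ⟶ S)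
    {M N : BigSite.Mod K S} (φ : M ⟶ N)
    (c : Cone (parallelPair φ 0)) (hc : IsLimit c) :
    IsLimit ((Adeq.toMVF K a).mapCone c) := by
  apply PresheafOfModules.evaluationJointlyReflectsLimits
  intro X
  exact isLimitOfPreserves (ModuleCat.restrictScalars (Adeq.toSect K a X.unop.unop))
    (isLimitOfPreserves (SheafOfModules.evaluation _ (op ((Adeq.specOver a).obj (op X.unop.unop)))) hc)

noncomputable instance toMVF_preservesKernel {R : CommRingCat.{u}} (a : Spec R ⟶ S)
    {M N : BigSite.Mod K S} (φ : M ⟶ N) :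
    PreservesLimit (parallelPair φ 0) (Adeq.toMVF K a) :=
  ⟨fun {c} hc => ⟨toMVFIsLimit K a φ c hc⟩⟩

/-- `F_{ker φ} ≅ ker F_φ`. -/
noncomputable def toMVFKernelIso {R : CommRingCat.{u}} (a : Spec R ⟶ S)
    {M N : BigSite.Mod K S} (φ : M ⟶ N) :
    (Adeq.toMVF K a).obj (kernel φ) ≅ kernel ((Adeq.toMVF K a).map φ) :=
  haveI : (Adeq.toMVF K a).PreservesZeroMorphisms := ⟨fun _ _ => rfl⟩
  PreservesKernel.iso (Adeq.toMVF K a) φ

/-- If `F_{M,R}` is adequate, so is `F_{M,R'}` for any `b : Spec R' ⟶ S` factoring through `a`. -/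
theorem adequate_of_factor {R R' : CommRingCat.{u}} (a : Spec R ⟶ S) (b : Spec R' ⟶ S)
    (g : Spec R' ⟶ Spec R) (hg : g ≫ a = b) (M : BigSite.Mod K S)
    (h : Adeq.adequate R ((Adeq.toMVF K a).obj M)) :
    Adeq.adequate R' ((Adeq.toMVF K b).obj M) := by
  let ψ : R ⟶ R' := Spec.preimage g
  let _ : Algebra R R' := ψ.hom.toAlgebra
  have hψ : Spec.map (CommRingCat.ofHom (algebraMap R R')) = g := Spec.map_preimage _
  refine AdeqPull.adequate_toMVF_congr K
    (show Spec.map (CommRingCat.ofHom (algebraMap R R')) ≫ a = b by rw [hψ, hg]) M ?_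
  refine (Adeq.adequate _).prop_of_iso (AdeqPull.isoB K a M).symm ?_
  exact AdeqRestr.adequate_restr R R' _ h

theorem adequateMod_kernel [K.IsStableUnderBaseChange] [K.IsStableUnderComposition]
    (hK : Scheme.zariskiPrecoverage ≤ K) {M N : BigSite.Mod K S} (φ : M ⟶ N)
    (hM : Adeq.adequateMod K S M) (hN : Adeq.adequateMod K S N) :
    Adeq.adequateMod K S (kernel φ) := by
  obtain ⟨I, R, a, hcov, hadM⟩ := hM
  obtain ⟨J, R', a', hcov', hadN⟩ := hN
  let 𝒰 : ∀ (i : I) (j : J), (pullback (a i) (a' j)).AffineOpenCover :=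
    fun i j => (pullback (a i) (a' j)).affineOpenCover
  refine ⟨Σ i, Σ j, (𝒰 i j).I₀, fun p => (𝒰 p.1 p.2.1).X p.2.2,
    fun p => ((𝒰 p.1 p.2.1).f p.2.2 ≫ pullback.fst (a p.1) (a' p.2.1)) ≫ a p.1, ?_, fun p => ?_⟩
  · refine Precoverage.comp_mem_coverings a hcov (σ := fun i => Σ j, (𝒰 i j).I₀)
      (fun i q => (𝒰 i q.1).f q.2 ≫ pullback.fst (a i) (a' q.1)) (fun i => ?_)
    refine Precoverage.comp_mem_coverings (fun j => pullback.fst (a i) (a' j)) ?_
      (fun j k => (𝒰 i j).f k) (fun j => hK _ ((𝒰 i j).openCover.mem₀))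
    exact Precoverage.mem_coverings_of_isPullback a' hcov' (a i) _ _
      (fun j => IsPullback.of_hasPullback (a i) (a' j))
  · obtain ⟨i, j, k⟩ := p
    refine (Adeq.adequate _).prop_of_iso (toMVFKernelIso K _ φ).symm ?_
    refine Groth.Agent.S8744.result _ _ ?_ ?_
    · exact adequate_of_factor K (a i) _ ((𝒰 i j).f k ≫ pullback.fst (a i) (a' j)) rfl M (hadM i)
    · exact adequate_of_factor K (a' j) _ ((𝒰 i j).f k ≫ pullback.snd (a i) (a' j))
        (by
          show ((𝒰 i j).f k ≫ pullback.snd (a i) (a' j)) ≫ a' j =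
            ((𝒰 i j).f k ≫ pullback.fst (a i) (a' j)) ≫ a i
          rw [Category.assoc, Category.assoc, pullback.condition]) N (hadN j)

end Groth.Agent.H64.AdeqKer
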