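import Mathlib
import Groth.Prelude.Def_Adeq2
import Groth.Agent.H64.AdeqPullB
import Groth.Agent.S8740

/-!
# helper64: parasitic adequate modules (S8767), given adequacy on every affine (S8755)
-/


set_option autoImplicit false
universe u w

open CategoryTheory Limits AlgebraicGeometry Opposite

namespace Groth.Agent.H64.AdeqParasitic

/-- (A) An adequate functor vanishing on `B` vanishes on every flat `B`-algebra. -/
theorem subsingleton_of_flat {A : Type u} [CommRing A] (F : Adeq.MVF A) (hF : Adeq.adequate A F)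
    {B B' : Adeq.Alg A} (f : B ⟶ B') (hf : f.hom.toRingHom.Flat)
    (h0 : Subsingleton (F.obj (Adeq.pt B))) : Subsingleton (F.obj (Adeq.pt B')) := by
  have := Groth.Agent.S8740.result A F hF f hf
  have hE : IsZero ((ModuleCat.extendScalars.{u, u, u + 1} f.hom.toRingHom).obj
      (F.obj (Adeq.pt B))) := by
    rw [IsZero.iff_id_eq_zero]
    apply ModuleCat.ExtendScalars.hom_ext
    intro m
    rw [Subsingleton.elim m 0, TensorProduct.tmul_zero]
    exact (map_zero _).trans (map_zero _).symm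
  have hZ : IsZero (F.obj (Adeq.pt B')) := hE.of_iso (asIso (F.bc f)).symm
  exact ModuleCat.subsingleton_of_isZero hZ

variable (K : Precoverage Scheme.{u}) [BigSite.OSh K] {S : Scheme.{u}}

/-- Vanishing of sections is invariant under isomorphisms of objects. -/
theorem subsingleton_of_overIso (M : BigSite.Mod K S) {U V : Over S} (e : U ≅ V)
    (h : Subsingleton (M.val.obj (op U))) : Subsingleton (M.val.obj (op V)) := by
  refine ⟨fun x y => ?_⟩
  have h1 : M.val.map e.hom.op x = M.val.map e.hom.op y :=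
    @Subsingleton.elim _ h (M.val.map e.hom.op x) (M.val.map e.hom.op y)
  exact (AdeqPull.map_iso_cancel' M.val e x).symm.trans
    ((congrArg (fun t => M.val.map e.inv.op t) h1).trans (AdeqPull.map_iso_cancel' M.val e y))

/-- (G2) Vanishing of sections is local for open covers. -/
theorem subsingleton_of_openCover (hK : Scheme.zariskiPrecoverage ≤ K) (M : BigSite.Mod K S)
    (V : Over S) (𝒰 : Scheme.OpenCover.{w} V.left)
    (h : ∀ j, Subsingleton (M.val.obj (op (Over.mk (𝒰.f j ≫ V.hom))))) :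
    Subsingleton (M.val.obj (op V)) := by
  refine ⟨fun x y => ?_⟩
  let T : Sieve V := Sieve.generate (Presieve.ofArrows (fun j => Over.mk (𝒰.f j ≫ V.hom))
    (fun j => (Over.homMk (𝒰.f j) : Over.mk (𝒰.f j ≫ V.hom) ⟶ V)))
  have hT : T ∈ QuotSh.J K S V := by
    rw [GrothendieckTopology.mem_over_iff]
    refine GrothendieckTopology.superset_covering _ ?_
      (Precoverage.generate_mem_toGrothendieck (hK _ 𝒰.mem₀))
    intro W g hg
    obtain ⟨Y, k, l, hl, rfl⟩ := hg
    obtain ⟨j⟩ := hl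
    refine (Sieve.overEquiv_iff _ _).2 ?_
    refine ⟨Over.mk (𝒰.f j ≫ V.hom), Over.homMk k (by simp), Over.homMk (𝒰.f j), ⟨j⟩, ?_⟩
    ext : 1
    simp
  refine M.isSheaf.isSeparated V T hT x y (fun W i hi => ?_)
  obtain ⟨Y, k, l, hl, rfl⟩ := hi
  obtain ⟨j⟩ := hl
  have h1 : M.val.map (Over.homMk (𝒰.f j) : Over.mk (𝒰.f j ≫ V.hom) ⟶ V).op x =
      M.val.map (Over.homMk (𝒰.f j) : Over.mk (𝒰.f j ≫ V.hom) ⟶ V).op y :=
    @Subsingleton.elim _ (h j) _ _
  show M.val.map (k ≫ (Over.homMk (𝒰.f j) : Over.mk (𝒰.f j ≫ V.hom) ⟶ V)).op x =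
    M.val.map (k ≫ (Over.homMk (𝒰.f j) : Over.mk (𝒰.f j ≫ V.hom) ⟶ V)).op y
  rw [op_comp, PresheafOfModules.map_comp_apply, PresheafOfModules.map_comp_apply, h1]

/-- (G1) If `F_{M,R}` is adequate and `M(Spec R) = 0`, then `M(W) = 0` for every affine `W` flat
over `Spec R`. -/
theorem subsingleton_of_flat_over {R : CommRingCat.{u}} (a : Spec R ⟶ S) (M : BigSite.Mod K S)
    (had : Adeq.adequate R ((Adeq.toMVF K a).obj M))
    (h0 : Subsingleton (M.val.obj (op (Over.mk a))))
    (W : Over S) [IsAffine W.left] (g : W.left ⟶ Spec R) (hg : g ≫ a = W.hom) [Flat g] :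
    Subsingleton (M.val.obj (op W)) := by
  let B : CommRingCat.{u} := Γ(W.left, ⊤)
  let e : W.left ≅ Spec B := W.left.isoSpec
  let ψ : R ⟶ B := Spec.preimage (e.inv ≫ g)
  have hψ : Spec.map ψ = e.inv ≫ g := Spec.map_preimage _
  let _ : Algebra R B := ψ.hom.toAlgebra
  let B₀ : Adeq.Alg R := Adeq.algOf R R
  let B' : Adeq.Alg R := Adeq.algOf R B
  let f : B₀ ⟶ B' := CommAlgCat.ofHom (Algebra.ofId R B)
  have hf : f.hom.toRingHom.Flat := by
    have : Flat (Spec.map ψ) := by rw [hψ]; infer_instance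
    exact (Flat.SpecMap_iff).1 this
  have hB₀ : Subsingleton (((Adeq.toMVF K a).obj M).obj (Adeq.pt B₀)) := by
    have e₀ : Over.mk a ≅ (Adeq.specOver a).obj (op B₀) :=
      Over.isoMk (Iso.refl (Spec R)) (by
        show 𝟙 _ ≫ (Spec.map (CommRingCat.ofHom (algebraMap R R)) ≫ a) = a
        have : CommRingCat.ofHom (algebraMap R R) = 𝟙 R := rfl
        rw [Category.id_comp, this]
        exact (congrArg (· ≫ a) (Spec.map_id R)).trans (Category.id_comp a))
    exact subsingleton_of_overIso K M e₀ h0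
  have hB' := subsingleton_of_flat _ had f hf hB₀
  have e' : (Adeq.specOver a).obj (op B') ≅ W :=
    Over.isoMk e.symm (by
      show e.inv ≫ W.hom = Spec.map (CommRingCat.ofHom (algebraMap R B)) ≫ a
      have : CommRingCat.ofHom (algebraMap R B) = ψ := rfl
      rw [this, hψ, Category.assoc, hg])
  exact subsingleton_of_overIso K M e' hB'

/-- (4) ⇒ (1) -/
theorem parasitic_of_affine_cover (M : BigSite.Mod Scheme.fppfPrecoverage S)
    (h55 : ∀ (R : CommRingCat.{u}) (a : Spec R ⟶ S),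
      Adeq.adequate R ((Adeq.toMVF Scheme.fppfPrecoverage a).obj M))
    (ι : Type u) (U : ι → S.Opens) (hUaff : ∀ i, IsAffineOpen (U i)) (hsup : (⨆ i, U i) = ⊤)
    (hvan : ∀ i, Subsingleton
      (BigSite.sectMod Scheme.fppfPrecoverage M ((BigSite.zarIncl S).obj (U i)))) :
    Adeq.parasitic Scheme.fppfPrecoverage S M := by
  intro V hV
  have : Flat V.hom := hV
  let 𝒰₀ : S.OpenCover := S.openCoverOfIsOpenCover U hsup
  let 𝒰₁ : V.left.OpenCover := 𝒰₀.pullback₁ V.hom
  let 𝒰₂ : V.left.OpenCover := 𝒰₁.bind (fun i => (𝒰₁.X i).affineCover)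
  refine subsingleton_of_openCover Scheme.fppfPrecoverage
    Scheme.zariskiPrecoverage_le_fppfPrecoverage M V 𝒰₂ (fun p => ?_)
  obtain ⟨i, j⟩ := p
  let c : (𝒰₁.X i).affineCover.X j ⟶ pullback V.hom (U i).ι := (𝒰₁.X i).affineCover.f j
  let g : (𝒰₁.X i).affineCover.X j ⟶ Spec Γ(S, U i) :=
    (c ≫ pullback.snd V.hom (U i).ι) ≫ (hUaff i).isoSpec.hom
  have hg : g ≫ (hUaff i).fromSpec = (c ≫ pullback.fst V.hom (U i).ι) ≫ V.hom := by
    simp only [g, Category.assoc, IsAffineOpen.isoSpec_hom_fromSpec]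
    rw [pullback.condition]
  have : Flat g := by
    dsimp only [g, c]
    infer_instance
  have h0 : Subsingleton (M.val.obj (op (Over.mk (hUaff i).fromSpec))) := by
    have e : (BigSite.zarIncl S).obj (U i) ≅ Over.mk (hUaff i).fromSpec :=
      Over.isoMk (hUaff i).isoSpec (hUaff i).isoSpec_hom_fromSpec
    exact subsingleton_of_overIso Scheme.fppfPrecoverage M e (hvan i)
  have : IsAffine (Over.mk ((c ≫ pullback.fst V.hom (U i).ι) ≫ V.hom)).left :=
    inferInstanceAs (IsAffine ((𝒰₁.X i).affineCover.X j))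
  exact subsingleton_of_flat_over Scheme.fppfPrecoverage (hUaff i).fromSpec M (h55 _ _) h0
    (Over.mk ((c ≫ pullback.fst V.hom (U i).ι) ≫ V.hom)) g hg

theorem parasitic_tfae (M : BigSite.Mod Scheme.fppfPrecoverage S)
    (h55 : ∀ (R : CommRingCat.{u}) (a : Spec R ⟶ S),
      Adeq.adequate R ((Adeq.toMVF Scheme.fppfPrecoverage a).obj M)) :
    List.TFAE [Adeq.parasitic Scheme.fppfPrecoverage S M,
      Adeq.parasiticFor Scheme.fppfPrecoverage S M,
      ∀ U : S.Opens, Subsingleton
        (BigSite.sectMod Scheme.fppfPrecoverage M ((BigSite.zarIncl S).obj U)),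
      ∃ (ι : Type u) (U : ι → S.Opens), (∀ i, IsAffineOpen (U i)) ∧ (⨆ i, U i) = ⊤ ∧
        ∀ i, Subsingleton
          (BigSite.sectMod Scheme.fppfPrecoverage M ((BigSite.zarIncl S).obj (U i)))] := by
  tfae_have 1 → 2 := by
    intro h P hP V g hg
    exact h (Over.mk g) (hP.2 hg).1
  tfae_have 2 → 3 := by
    intro h U
    let W : Bool → S.Opens := fun b => cond b U ⊤
    have hW : TopologicalSpace.IsOpenCover W :=
      top_le_iff.1 (le_iSup_of_le (f := W) false (le_refl ⊤))
    let 𝒰 : S.OpenCover := S.openCoverOfIsOpenCover W hW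
    have hcov := Scheme.zariskiPrecoverage_le_fppfPrecoverage _ 𝒰.mem₀
    exact h hcov U.ι (Presieve.ofArrows.mk (ι := Bool) true)
  tfae_have 3 → 4 := by
    intro h
    exact ⟨S.affineOpens, fun i => i.1, fun i => i.2, iSup_affineOpens_eq_top S, fun i => h i.1⟩
  tfae_have 4 → 1 := by
    rintro ⟨ι, U, hUaff, hsup, hvan⟩
    exact parasitic_of_affine_cover M h55 ι U hUaff hsup hvan
  tfae_finish

end Groth.Agent.H64.AdeqParasitic
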