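import Mathlib
import Groth.Prelude.Def_Adeq
import Groth.Agent.H64.AdeqRestr

/-!
# helper64: `Adeq.push` of `underline`
-/

set_option autoImplicit false
universe u

open CategoryTheory Limits TensorProduct Opposite

namespace Groth.Agent.H64.AdeqPush

variable (A A' : Type u) [CommRing A] [CommRing A'] [Algebra A A']

/-- `M'` as an `A`-module. -/
noncomputable abbrev resMod (M' : ModuleCat.{u + 1} A') : ModuleCat.{u + 1} A :=
  (ModuleCat.restrictScalars (algebraMap A A')).obj M'

/-- restriction of scalars of a map. -/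
noncomputable abbrev resMap {M' N' : ModuleCat.{u + 1} A'} (φ : M' ⟶ N') :
    resMod A A' M' ⟶ resMod A A' N' :=
  (ModuleCat.restrictScalars (algebraMap A A')).map φ

/-- The additive comparison `(A' ⊗[A] B) ⊗[A'] M' ≃ B ⊗[A] M'`. -/
noncomputable def pushAddEquiv (B : Adeq.Alg A) (M' : ModuleCat.{u + 1} A') :
    letI : Module A M' := Module.compHom M' (algebraMap A A')
    ((A' ⊗[A] B) ⊗[A'] M') ≃+ (B ⊗[A] M') :=
  letI : Module A M' := Module.compHom M' (algebraMap A A')
  haveI : IsScalarTower A A' M' := ⟨fun a a' m => by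
    show (a • a') • m = algebraMap A A' a • (a' • m)
    rw [Algebra.smul_def, mul_smul]⟩
  ((TensorProduct.comm A' (A' ⊗[A] B) M').toAddEquiv.trans
    (TensorProduct.AlgebraTensorModule.cancelBaseChange A A' A' M' B).toAddEquiv).trans
    (TensorProduct.comm A M' B).toAddEquiv

/-- The `B`-linear comparison `B ⊗[A] M' ≃ (A' ⊗[A] B) ⊗[A'] M'`. -/
noncomputable def pushEquiv (B : Adeq.Alg A) (M' : ModuleCat.{u + 1} A') :
    letI : Module A M' := Module.compHom M' (algebraMap A A')
    letI : Module B ((A' ⊗[A] B) ⊗[A'] M') :=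
      Module.compHom _ (Algebra.TensorProduct.includeRight (R := A) (A := A') (B := B)).toRingHom
    (B ⊗[A] M') ≃ₗ[B] ((A' ⊗[A] B) ⊗[A'] M') :=
  letI : Module A M' := Module.compHom M' (algebraMap A A')
  letI : Module B ((A' ⊗[A] B) ⊗[A'] M') :=
      Module.compHom _ (Algebra.TensorProduct.includeRight (R := A) (A := A') (B := B)).toRingHom
  { (pushAddEquiv A A' B M').symm with
    map_smul' := fun c x => by
      induction x using TensorProduct.induction_on with
      | zero => 
        show (pushAddEquiv A A' B M').symm (c • 0) = c • (pushAddEquiv A A' B M').symm 0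
        rw [smul_zero, map_zero, smul_zero]
      | tmul b m =>
        show ((1 : A') ⊗ₜ[A] (c * b)) ⊗ₜ[A'] m =
          ((1 : A') ⊗ₜ[A] c) • (((1 : A') ⊗ₜ[A] b) ⊗ₜ[A'] m)
        rw [TensorProduct.smul_tmul', smul_eq_mul, Algebra.TensorProduct.tmul_mul_tmul, one_mul]
      | add x y hx hy =>
        show (pushAddEquiv A A' B M').symm (c • (x + y)) =
          c • (pushAddEquiv A A' B M').symm (x + y)
        rw [smul_add, map_add, map_add, smul_add]
        exact congrArg₂ (· + ·) hx hy }

/-- `underline (M' as A-module) ≅ push (underline M')`. -/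
noncomputable def pushUnderlineIso (M' : ModuleCat.{u + 1} A') :
    (Adeq.underline A).obj (resMod A A' M') ≅ (Adeq.push A A').obj ((Adeq.underline A').obj M') :=
  PresheafOfModules.isoMk (fun X => (pushEquiv A A' X.unop.unop M').toModuleIso) (by
    intro X Y f
    ext x
    induction x using TensorProduct.induction_on with
    | zero => exact (map_zero _).trans (map_zero _).symm
    | tmul b m => rfl
    | add x y hx hy =>
      exact (map_add _ x y).trans ((congrArg₂ (· + ·) hx hy).trans (map_add _ x y).symm))

theorem pushUnderlineIso_naturality {M' N' : ModuleCat.{u + 1} A'} (φ : M' ⟶ N') :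
    (Adeq.underline A).map (resMap A A' φ) ≫ (pushUnderlineIso A A' N').hom =
      (pushUnderlineIso A A' M').hom ≫ (Adeq.push A A').map ((Adeq.underline A').map φ) := by
  ext X x
  induction x using TensorProduct.induction_on with
  | zero => exact (map_zero _).trans (map_zero _).symm
  | tmul b m => rfl
  | add x y hx hy =>
    exact (map_add _ x y).trans ((congrArg₂ (· + ·) hx hy).trans (map_add _ x y).symm)

theorem adequate_push (F' : Adeq.MVF A') (hF' : Adeq.adequate A' F') :
    Adeq.adequate A ((Adeq.push A A').obj F') := by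
  obtain ⟨M', N', φ', ⟨i⟩⟩ := hF'
  refine ⟨resMod A A' M', resMod A A' N', resMap A A' φ', ⟨?_⟩⟩
  haveI : PreservesLimit (parallelPair ((Adeq.underline A').map φ') 0) (Adeq.push A A') := by
    unfold Adeq.push
    infer_instance
  haveI : (Adeq.push A A').PreservesZeroMorphisms := ⟨fun _ _ => rfl⟩
  exact (Adeq.push A A').mapIso i ≪≫ PreservesKernel.iso (Adeq.push A A') _ ≪≫
    (kernel.mapIso _ _ (pushUnderlineIso A A' M') (pushUnderlineIso A A' N')
      (pushUnderlineIso_naturality A A' φ')).symm

end Groth.Agent.H64.AdeqPush
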