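import Mathlib
import Groth.Prelude.Def_Adeq2
import Groth.Agent.H64.AdeqPullB

set_option autoImplicit false
universe u

open CategoryTheory Limits AlgebraicGeometry Opposite

namespace Groth.Agent.H64.AdeqPush2

/-- (E) every compact scheme has an affine fppf cover by a single morphism. -/
theorem exists_affine_fppf_cover (X : Scheme.{u}) [CompactSpace X] :
    ∃ (C : CommRingCat.{u}) (h : Spec C ⟶ X),
      Surjective h ∧ Flat h ∧ LocallyOfFinitePresentation h := by
  let 𝒰 : X.OpenCover := X.affineCover.finiteSubcover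
  have hF : Flat (Sigma.desc 𝒰.f) := IsZariskiLocalAtSource.sigmaDesc (fun i => inferInstance)
  have hL : LocallyOfFinitePresentation (Sigma.desc 𝒰.f) :=
    IsZariskiLocalAtSource.sigmaDesc (fun i => inferInstance)
  refine ⟨Γ(∐ 𝒰.X, ⊤), (∐ 𝒰.X).isoSpec.inv ≫ Sigma.desc 𝒰.f, ?_, ?_, ?_⟩ <;> infer_instance

section Sheaf

variable {T : Scheme.{u}} (M : BigSite.Mod Scheme.fppfPrecoverage T)

/-- A single surjective flat lfp morphism generates a covering sieve of the big fppf site. -/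
theorem cov_single (Z : Over T) {Z' : Scheme.{u}} (t : Z' ⟶ Z.left) [Surjective t] [Flat t]
    [LocallyOfFinitePresentation t] :
    Sieve.generate (Presieve.singleton (Over.homMk t : Over.mk (t ≫ Z.hom) ⟶ Z)) ∈
      QuotSh.J Scheme.fppfPrecoverage T Z := by
  rw [GrothendieckTopology.mem_over_iff]
  refine GrothendieckTopology.superset_covering _ ?_
    (Precoverage.generate_mem_toGrothendieck t.singleton_mem_fppfPrecoverage)
  intro W g hg
  obtain ⟨Y, k, l, hl, rfl⟩ := hg
  obtain ⟨⟩ := hl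
  refine (Sieve.overEquiv_iff _ _).2 ?_
  refine ⟨Over.mk (t ≫ Z.hom), Over.homMk k (by simp), Over.homMk t, ⟨⟩, ?_⟩
  ext : 1
  simp

/-- A morphism of the big site whose underlying morphism is surjective flat lfp generates a
covering sieve. -/
theorem cov_hom {Q X₀ : Over T} (h : X₀ ⟶ Q) [Surjective h.left] [Flat h.left]
    [LocallyOfFinitePresentation h.left] :
    Sieve.generate (Presieve.singleton h) ∈ QuotSh.J Scheme.fppfPrecoverage T Q := by
  rw [GrothendieckTopology.mem_over_iff]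
  refine GrothendieckTopology.superset_covering _ ?_
    (Precoverage.generate_mem_toGrothendieck h.left.singleton_mem_fppfPrecoverage)
  intro W g hg
  obtain ⟨Y, k, l, hl, rfl⟩ := hg
  obtain ⟨⟩ := hl
  refine (Sieve.overEquiv_iff _ _).2 ?_
  refine ⟨X₀, Over.homMk k (by simp), h, ⟨⟩, ?_⟩
  ext : 1
  simp

theorem sheaf_exact {Q X₀ X₁ : Over T} (h : X₀ ⟶ Q) (q₁ q₂ : X₁ ⟶ X₀)
    [Surjective h.left] [Flat h.left] [LocallyOfFinitePresentation h.left]
    (c1 : ∀ (Z : Scheme.{u}) (v₁ v₂ : Z ⟶ X₀.left), v₁ ≫ h.left = v₂ ≫ h.left →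
      ∃ (Z' : Scheme.{u}) (t : Z' ⟶ Z) (r : Z' ⟶ X₁.left), Surjective t ∧ Flat t ∧
        LocallyOfFinitePresentation t ∧ r ≫ q₁.left = t ≫ v₁ ∧ r ≫ q₂.left = t ≫ v₂) :
    Function.Injective (M.val.map h.op) ∧
      ∀ y : M.val.obj (op X₀), M.val.map q₁.op y = M.val.map q₂.op y →
        ∃ x : M.val.obj (op Q), M.val.map h.op x = y := by
  have hS := cov_hom h
  constructor
  · intro x x' hx
    refine M.isSheaf.isSeparated Q _ hS x x' (fun W i hi => ?_)
    obtain ⟨Y, k, l, hl, rfl⟩ := hi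
    obtain ⟨⟩ := hl
    show M.val.map (k ≫ h).op x = M.val.map (k ≫ h).op x'
    rw [op_comp, PresheafOfModules.map_comp_apply, PresheafOfModules.map_comp_apply]
    exact congrArg (fun t => M.val.map k.op t) hx
  · intro y hy
    have hP : Presieve.IsSheaf (QuotSh.J Scheme.fppfPrecoverage T)
        (M.val.presheaf ⋙ forget AddCommGrpCat.{u+1}) :=
      (isSheaf_iff_isSheaf_of_type _ _).1
        ((sheafCompose (QuotSh.J Scheme.fppfPrecoverage T) (forget AddCommGrpCat.{u+1})).obj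
          ⟨M.val.presheaf, M.isSheaf⟩).2
    have h1 : Presieve.IsSheafFor (M.val.presheaf ⋙ forget AddCommGrpCat.{u+1})
        (Presieve.singleton h) :=
      (Presieve.isSheafFor_iff_generate _).2 (hP _ hS)
    obtain ⟨x, hx, -⟩ := Presieve.isSheafFor_singleton.1 h1 y (by
      intro Z u₁ u₂ hu
      obtain ⟨Z', t, r, ht1, ht2, ht3, hr1, hr2⟩ := c1 Z.left u₁.left u₂.left
        (by rw [← Over.comp_left, ← Over.comp_left, hu])
      have hS' := cov_single Z t
      have hrw : r ≫ X₁.hom = t ≫ Z.hom := by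
        rw [← Over.w q₁, ← Category.assoc, hr1, Category.assoc, Over.w u₁]
      let tO : Over.mk (t ≫ Z.hom) ⟶ Z := Over.homMk t
      let rO : Over.mk (t ≫ Z.hom) ⟶ X₁ := Over.homMk r hrw
      have e1 : tO ≫ u₁ = rO ≫ q₁ := by ext : 1; exact hr1.symm
      have e2 : tO ≫ u₂ = rO ≫ q₂ := by ext : 1; exact hr2.symm
      have key : M.val.map tO.op (M.val.map u₁.op y) = M.val.map tO.op (M.val.map u₂.op y) := by
        rw [AdeqPull.map_square M.val tO u₁ rO q₁ e1 y, AdeqPull.map_square M.val tO u₂ rO q₂ e2 y, hy]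
      refine M.isSheaf.isSeparated Z _ hS' (M.val.map u₁.op y) (M.val.map u₂.op y) (fun W i hi => ?_)
      obtain ⟨Y, k, l, hl, rfl⟩ := hi
      obtain ⟨⟩ := hl
      show M.val.map (k ≫ tO).op _ = M.val.map (k ≫ tO).op _
      rw [op_comp, PresheafOfModules.map_comp_apply, PresheafOfModules.map_comp_apply]
      exact congrArg (fun t => M.val.map k.op t) key)
    exact ⟨x, hx⟩

end Sheaf

section MapAt

variable {T : Scheme.{u}} (M : BigSite.Mod Scheme.fppfPrecoverage T)

/-- Restriction of sections, with the plain type of sections as codomain. -/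
noncomputable def mapAt {U V : Over T} (g : U ⟶ V) (y : M.val.obj (op V)) : M.val.obj (op U) :=
  M.val.map g.op y

theorem mapAt_square {U V V' W : Over T} (p : U ⟶ V) (q : V ⟶ W) (p' : U ⟶ V') (q' : V' ⟶ W)
    (hpq : p ≫ q = p' ≫ q') (m : M.val.obj (op W)) :
    mapAt M p (mapAt M q m) = mapAt M p' (mapAt M q' m) :=
  AdeqPull.map_square M.val p q p' q' hpq m

theorem sheaf_exact' {Q X₀ X₁ : Over T} (h : X₀ ⟶ Q) (q₁ q₂ : X₁ ⟶ X₀)
    [Surjective h.left] [Flat h.left] [LocallyOfFinitePresentation h.left]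
    (c1 : ∀ (Z : Scheme.{u}) (v₁ v₂ : Z ⟶ X₀.left), v₁ ≫ h.left = v₂ ≫ h.left →
      ∃ (Z' : Scheme.{u}) (t : Z' ⟶ Z) (r : Z' ⟶ X₁.left), Surjective t ∧ Flat t ∧
        LocallyOfFinitePresentation t ∧ r ≫ q₁.left = t ≫ v₁ ∧ r ≫ q₂.left = t ≫ v₂) :
    Function.Injective (mapAt M h) ∧
      ∀ y : M.val.obj (op X₀), mapAt M q₁ y = mapAt M q₂ y →
        ∃ x : M.val.obj (op Q), mapAt M h x = y :=
  sheaf_exact M h q₁ q₂ c1

end MapAt

end Groth.Agent.H64.AdeqPush2
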