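import Mathlib
import Groth.Prelude.Def_Adeq2
import Groth.Agent.H64.AdeqSheafEx
import Groth.Agent.H92.AdeqBase
import Groth.Agent.H92.AdeqCok
import Groth.Agent.S8750

set_option autoImplicit false
universe u

open CategoryTheory Limits AlgebraicGeometry Opposite TensorProduct

namespace Groth.Agent.H64.AdeqPush2

open Adeq

variable {S T : Scheme.{u}} (f : T ⟶ S) {A : CommRingCat.{u}} (a : Spec A ⟶ S)

section Rings

variable (C : Type u) [CommRing C] [Algebra A C] (B : Alg A)

/-- `c ↦ c ⊗ 1`. -/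
noncomputable abbrev inL : CommRingCat.of C ⟶ CommRingCat.of (C ⊗[A] B) :=
  CommRingCat.ofHom (algebraMap C (C ⊗[A] B))

/-- `b ↦ 1 ⊗ b`. -/
noncomputable abbrev inR : CommRingCat.of B ⟶ CommRingCat.of (C ⊗[A] B) :=
  CommRingCat.ofHom (Algebra.TensorProduct.includeRight (R := A) (A := C) (B := B)).toRingHom

theorem in_sq : CommRingCat.ofHom (algebraMap A C) ≫ inL C B =
    CommRingCat.ofHom (algebraMap A B) ≫ inR C B := by
  ext x
  show algebraMap C (C ⊗[A] B) (algebraMap A C x) =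
    (Algebra.TensorProduct.includeRight (R := A) (A := C) (B := B)) (algebraMap A B x)
  rw [AlgHom.commutes, ← IsScalarTower.algebraMap_apply]

theorem spec_in_sq : Spec.map (inL C B) ≫ Spec.map (CommRingCat.ofHom (algebraMap A C)) =
    Spec.map (inR C B) ≫ Spec.map (CommRingCat.ofHom (algebraMap A B)) := by
  rw [← Spec.map_comp, ← Spec.map_comp, in_sq]

theorem isPullback_in : IsPullback (Spec.map (inL C B)) (Spec.map (inR C B))
    (Spec.map (CommRingCat.ofHom (algebraMap A C))) (Spec.map (CommRingCat.ofHom (algebraMap A B))) :=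
  isPullback_SpecMap_of_isPushout _ _ _ _ (CommRingCat.isPushout_tensorProduct A C B)

end Rings

section Objects

variable (C : Type u) [CommRing C] [Algebra A C] (b : Spec (CommRingCat.of C) ⟶ T)

/-- The object `Spec (C ⊗ B) → Spec C → T`. -/
noncomputable abbrev Xo (B : Alg A) : Over T :=
  (specOver b).obj (op ((Alg.baseChange A C).obj B))

/-- The object `T ×_S Spec B → T`. -/
noncomputable abbrev Qo (B : Alg A) : Over T := (Over.pullback f).obj ((specOver a).obj (op B))

theorem Xo_hom (B : Alg A) : (Xo C b B).hom = Spec.map (inL C B) ≫ b := rfl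

theorem Qo_hom (B : Alg A) : (Qo f a B).hom =
    pullback.snd (Spec.map (CommRingCat.ofHom (algebraMap A B)) ≫ a) f := rfl

variable (h : Spec (CommRingCat.of C) ⟶ pullback a f)
  (hh : h ≫ pullback.fst a f = Spec.map (CommRingCat.ofHom (algebraMap A C)))

include hh in
theorem hB_cond (B : Alg A) :
    Spec.map (inR C B) ≫ (Spec.map (CommRingCat.ofHom (algebraMap A B)) ≫ a) =
      (Spec.map (inL C B) ≫ h ≫ pullback.snd a f) ≫ f := by
  rw [Category.assoc, Category.assoc, ← pullback.condition, ← Category.assoc h, hh,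
    ← Category.assoc, ← Category.assoc, spec_in_sq]

/-- `Spec (C ⊗ B) → T ×_S Spec B`, as a morphism of schemes. -/
noncomputable def hBl (B : Alg A) : Spec (CommRingCat.of (C ⊗[A] B)) ⟶
    pullback (Spec.map (CommRingCat.ofHom (algebraMap A B)) ≫ a) f :=
  pullback.lift (Spec.map (inR C B)) (Spec.map (inL C B) ≫ h ≫ pullback.snd a f)
    (hB_cond f a C h hh B)

theorem hBl_fst (B : Alg A) :
    hBl f a C h hh B ≫ pullback.fst _ _ = Spec.map (inR C B) := pullback.lift_fst _ _ _

theorem hBl_snd (B : Alg A) :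
    hBl f a C h hh B ≫ pullback.snd _ _ = Spec.map (inL C B) ≫ h ≫ pullback.snd a f :=
  pullback.lift_snd _ _ _

/-- `Spec (C ⊗ B) → T ×_S Spec B`. -/
noncomputable def hB (B : Alg A) : Xo C (h ≫ pullback.snd a f) B ⟶ Qo f a B :=
  Over.homMk (hBl f a C h hh B) (hBl_snd f a C h hh B)

theorem hB_left (B : Alg A) : (hB f a C h hh B).left = hBl f a C h hh B := rfl

/-- The projection `T ×_S Spec B → T ×_S Spec A`. -/
noncomputable def prB (B : Alg A) :
    pullback (Spec.map (CommRingCat.ofHom (algebraMap A B)) ≫ a) f ⟶ pullback a f :=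
  (IsPullback.of_hasPullback a f).lift
    (pullback.fst _ _ ≫ Spec.map (CommRingCat.ofHom (algebraMap A B))) (pullback.snd _ _)
    (by rw [Category.assoc, (IsPullback.of_hasPullback
      (Spec.map (CommRingCat.ofHom (algebraMap A B)) ≫ a) f).w])

theorem prB_fst (B : Alg A) : prB f a B ≫ pullback.fst a f =
    pullback.fst _ _ ≫ Spec.map (CommRingCat.ofHom (algebraMap A B)) :=
  IsPullback.lift_fst _ _ _ _

theorem prB_snd (B : Alg A) : prB f a B ≫ pullback.snd a f = pullback.snd _ _ :=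
  IsPullback.lift_snd _ _ _ _

theorem isPullback_prB (B : Alg A) :
    IsPullback (pullback.fst (Spec.map (CommRingCat.ofHom (algebraMap A B)) ≫ a) f) (prB f a B)
      (Spec.map (CommRingCat.ofHom (algebraMap A B))) (pullback.fst a f) :=
  IsPullback.of_bot' (IsPullback.of_hasPullback
    (Spec.map (CommRingCat.ofHom (algebraMap A B)) ≫ a) f) (IsPullback.of_hasPullback a f)

include hh in
theorem hB_prB (B : Alg A) : hBl f a C h hh B ≫ prB f a B = Spec.map (inL C B) ≫ h := by
  apply pullback.hom_ext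
  · rw [Category.assoc, Category.assoc, prB_fst, ← Category.assoc, hBl_fst, hh, spec_in_sq]
  · rw [Category.assoc, Category.assoc, prB_snd, hBl_snd]

theorem isPullback_hB (B : Alg A) :
    IsPullback (hBl f a C h hh B) (Spec.map (inL C B)) (prB f a B) h := by
  refine IsPullback.of_right ?_ (hB_prB f a C h hh B) (isPullback_prB f a B)
  rw [hBl_fst, hh]
  exact (isPullback_in C B).flip

instance hB_surj (B : Alg A) [Surjective h] : Surjective (hB f a C h hh B).left :=
  MorphismProperty.of_isPullback (P := @Surjective) (isPullback_hB f a C h hh B).flip inferInstance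

instance hB_flat (B : Alg A) [Flat h] : Flat (hB f a C h hh B).left :=
  MorphismProperty.of_isPullback (P := @Flat) (isPullback_hB f a C h hh B).flip inferInstance

instance hB_lfp (B : Alg A) [LocallyOfFinitePresentation h] :
    LocallyOfFinitePresentation (hB f a C h hh B).left :=
  MorphismProperty.of_isPullback (P := @LocallyOfFinitePresentation)
    (isPullback_hB f a C h hh B).flip inferInstance

end Objects

section Sect

variable {R₁ R₂ : CommRingCat.{u}} (a₁ : Spec R₁ ⟶ T) (a₂ : Spec R₂ ⟶ T)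

theorem toSect_nat (B₁ : Alg R₁) (B₂ : Alg R₂) (ψ : (B₁ : Type u) →+* (B₂ : Type u))
    (g : (specOver a₂).obj (op B₂) ⟶ (specOver a₁).obj (op B₁))
    (hg : g.left = Spec.map (CommRingCat.ofHom ψ)) (x : B₁) :
    (BigSite.ORing Scheme.fppfPrecoverage T).obj.map g.op (toSect Scheme.fppfPrecoverage a₁ B₁ x) =
      toSect Scheme.fppfPrecoverage a₂ B₂ (ψ x) := by
  apply ULift.ext
  change ((Scheme.ΓSpecIso (CommRingCat.of B₁)).inv ≫ g.left.appTop) x =
    (CommRingCat.ofHom ψ ≫ (Scheme.ΓSpecIso (CommRingCat.of B₂)).inv) x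
  rw [hg, Scheme.ΓSpecIso_inv_naturality]
  rfl

theorem toSect_nat' (B₁ : Type u) [CommRing B₁] (B₂ : Alg R₂) (ψ : B₁ →+* (B₂ : Type u))
    (Y : Scheme.{u}) (k : Y ⟶ Spec (CommRingCat.of B₁)) (g : Spec (CommRingCat.of B₂) ⟶ Y)
    (hg : g ≫ k = Spec.map (CommRingCat.ofHom ψ)) (x : B₁) :
    (BigSite.ORingAbs Scheme.fppfPrecoverage).obj.map g.op
      ((BigSite.ORingAbs Scheme.fppfPrecoverage).obj.map k.op
        (ULift.up ((Scheme.ΓSpecIso (CommRingCat.of B₁)).inv x))) =
      toSect Scheme.fppfPrecoverage a₂ B₂ (ψ x) := by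
  apply ULift.ext
  change ((Scheme.ΓSpecIso (CommRingCat.of B₁)).inv ≫ k.appTop ≫ g.appTop) x =
    (CommRingCat.ofHom ψ ≫ (Scheme.ΓSpecIso (CommRingCat.of B₂)).inv) x
  rw [← Scheme.Hom.comp_appTop, hg, Scheme.ΓSpecIso_inv_naturality]

end Sect

section Rho

variable (C₀ C₁ : Type u) [CommRing C₀] [Algebra A C₀] [CommRing C₁] [Algebra A C₁]
  (ρ : C₀ →ₐ[A] C₁)

/-- `ρ ⊗ id`. -/
noncomputable abbrev rhoB (B : Alg A) : CommRingCat.of (C₀ ⊗[A] B) ⟶ CommRingCat.of (C₁ ⊗[A] B) :=
  CommRingCat.ofHom (Algebra.TensorProduct.map ρ (AlgHom.id A B)).toRingHom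

theorem inL_rhoB (B : Alg A) :
    inL C₀ B ≫ rhoB C₀ C₁ ρ B = CommRingCat.ofHom ρ.toRingHom ≫ inL C₁ B := by
  ext x
  show (Algebra.TensorProduct.map ρ (AlgHom.id A B)) (x ⊗ₜ[A] (1 : B)) = ρ x ⊗ₜ[A] (1 : B)
  simp

theorem inR_rhoB (B : Alg A) : inR C₀ B ≫ rhoB C₀ C₁ ρ B = inR C₁ B := by
  ext x
  show (Algebra.TensorProduct.map ρ (AlgHom.id A B)) ((1 : C₀) ⊗ₜ[A] x) = (1 : C₁) ⊗ₜ[A] x
  simp

variable (b₀ : Spec (CommRingCat.of C₀) ⟶ T) (b₁ : Spec (CommRingCat.of C₁) ⟶ T)
  (hb : Spec.map (CommRingCat.ofHom ρ.toRingHom) ≫ b₀ = b₁)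

/-- `Spec (C₁ ⊗ B) → Spec (C₀ ⊗ B)` over `T`. -/
noncomputable def qB (B : Alg A) : Xo C₁ b₁ B ⟶ Xo C₀ b₀ B :=
  Over.homMk (Spec.map (rhoB C₀ C₁ ρ B)) (by
    show Spec.map (rhoB C₀ C₁ ρ B) ≫ Spec.map (inL C₀ B) ≫ b₀ = Spec.map (inL C₁ B) ≫ b₁
    rw [← Category.assoc, ← Spec.map_comp, inL_rhoB, Spec.map_comp, Category.assoc, hb])

theorem qB_left (B : Alg A) : (qB C₀ C₁ ρ b₀ b₁ hb B).left = Spec.map (rhoB C₀ C₁ ρ B) := rfl

theorem qB_natural {B B' : Alg A} (k : B ⟶ B') :
    qB C₀ C₁ ρ b₀ b₁ hb B' ≫ (specOver b₀).map ((Alg.baseChange A C₀).map k).op =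
      (specOver b₁).map ((Alg.baseChange A C₁).map k).op ≫ qB C₀ C₁ ρ b₀ b₁ hb B := by
  ext : 1
  show Spec.map (rhoB C₀ C₁ ρ B') ≫ Spec.map (CommRingCat.ofHom
      (Algebra.TensorProduct.map (AlgHom.id C₀ C₀) k.hom).toRingHom) =
    Spec.map (CommRingCat.ofHom (Algebra.TensorProduct.map (AlgHom.id C₁ C₁) k.hom).toRingHom) ≫
      Spec.map (rhoB C₀ C₁ ρ B)
  rw [← Spec.map_comp, ← Spec.map_comp]
  congr 1
  refine CommRingCat.hom_ext (RingHom.ext fun x => ?_)
  show (Algebra.TensorProduct.map ρ (AlgHom.id A B'))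
      ((Algebra.TensorProduct.map (AlgHom.id C₀ C₀) k.hom) x) =
    (Algebra.TensorProduct.map (AlgHom.id C₁ C₁) k.hom)
      ((Algebra.TensorProduct.map ρ (AlgHom.id A B)) x)
  induction x using TensorProduct.induction_on with
  | zero => simp
  | tmul c b => simp
  | add x y hx hy => simp [map_add, hx, hy]

variable (M : BigSite.Mod Scheme.fppfPrecoverage T)

/-- `B ↦ M(Spec (C ⊗ B))`. -/
noncomputable abbrev Gf (A : CommRingCat.{u}) (M : BigSite.Mod Scheme.fppfPrecoverage T)
    (C : Type u) [CommRing C] [Algebra A C] (b : Spec (CommRingCat.of C) ⟶ T) :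
    MVF A :=
  (push A C).obj ((toMVF Scheme.fppfPrecoverage b).obj M)

/-- The map `M(Spec (C₀ ⊗ B)) → M(Spec (C₁ ⊗ B))` induced by `ρ`. -/
noncomputable def betaHom : Gf A M C₀ b₀ ⟶ Gf A M C₁ b₁ where
  app X := ModuleCat.ofHom (X := (Gf A M C₀ b₀).obj X) (Y := (Gf A M C₁ b₁).obj X)
    ({ toFun := fun y => M.val.map (qB C₀ C₁ ρ b₀ b₁ hb X.unop.unop).op y
       map_add' := fun x y => map_add _ x y
       map_smul' := fun r y => by
        have h := M.val.map_smul (qB C₀ C₁ ρ b₀ b₁ hb X.unop.unop).op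
          (toSect Scheme.fppfPrecoverage b₀ ((Alg.baseChange A C₀).obj X.unop.unop)
            ((1 : C₀) ⊗ₜ[A] r)) y
        refine h.trans ?_
        congr 1
        refine (toSect_nat b₀ b₁ _ _ (rhoB C₀ C₁ ρ X.unop.unop).hom _ rfl _).trans ?_
        refine congrArg _ ?_
        show (Algebra.TensorProduct.map ρ (AlgHom.id A X.unop.unop)) ((1 : C₀) ⊗ₜ[A] r) = _
        simp } :
      (Gf A M C₀ b₀).obj X →ₗ[(ringOf A).obj X] (Gf A M C₁ b₁).obj X)
  naturality := by
    intro X Y k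
    ext x
    exact AdeqPull.map_square M.val _ _ _ _ (qB_natural C₀ C₁ ρ b₀ b₁ hb k.unop.unop) x

end Rho

section J

variable (M : BigSite.Mod Scheme.fppfPrecoverage T) (C : Type u) [CommRing C] [Algebra A C]
  (h : Spec (CommRingCat.of C) ⟶ pullback a f)
  (hh : h ≫ pullback.fst a f = Spec.map (CommRingCat.ofHom (algebraMap A C)))

/-- `B ↦ (f_* M)(Spec B) = M(T ×_S Spec B)`. -/
noncomputable abbrev Ff : MVF A :=
  (toMVF Scheme.fppfPrecoverage a).obj ((BigSite.pushMod Scheme.fppfPrecoverage f).obj M)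

/-- The left component of `Over.pullback f` applied to `specOver a` of an algebra map. -/
noncomputable def pbMap {B B' : Alg A} (k : B ⟶ B') :
    pullback (Spec.map (CommRingCat.ofHom (algebraMap A B')) ≫ a) f ⟶
      pullback (Spec.map (CommRingCat.ofHom (algebraMap A B)) ≫ a) f :=
  ((Over.pullback f).map ((specOver a).map k.op)).left

theorem pbMap_fst {B B' : Alg A} (k : B ⟶ B') :
    pbMap f a k ≫ pullback.fst _ _ =
      pullback.fst _ _ ≫ Spec.map (CommRingCat.ofHom k.hom.toRingHom) :=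
  pullback.lift_fst _ _ _

theorem pbMap_snd {B B' : Alg A} (k : B ⟶ B') :
    pbMap f a k ≫ pullback.snd _ _ = pullback.snd _ _ :=
  pullback.lift_snd _ _ _

theorem hB_natural {B B' : Alg A} (k : B ⟶ B') :
    hB f a C h hh B' ≫ (Over.pullback f).map ((specOver a).map k.op) =
      (specOver (h ≫ pullback.snd a f)).map ((Alg.baseChange A C).map k).op ≫ hB f a C h hh B := by
  ext : 1
  show hBl f a C h hh B' ≫ pbMap f a k =
    Spec.map (CommRingCat.ofHom (Algebra.TensorProduct.map (AlgHom.id C C) k.hom).toRingHom) ≫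
      hBl f a C h hh B
  apply pullback.hom_ext
  · rw [Category.assoc, Category.assoc, pbMap_fst, ← Category.assoc, hBl_fst, hBl_fst,
      ← Spec.map_comp, ← Spec.map_comp]
    congr 1
  · rw [Category.assoc, Category.assoc, pbMap_snd, hBl_snd, hBl_snd]
    have e : Spec.map (CommRingCat.ofHom
        (Algebra.TensorProduct.map (AlgHom.id C C) k.hom).toRingHom) ≫ Spec.map (inL C B) =
        Spec.map (inL C B') := by
      rw [← Spec.map_comp]
      congr 1
      refine CommRingCat.hom_ext (RingHom.ext fun x => ?_)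
      show (Algebra.TensorProduct.map (AlgHom.id C C) k.hom) (x ⊗ₜ[A] (1 : B)) =
        x ⊗ₜ[A] (1 : B')
      simp
    rw [← Category.assoc (Spec.map _) (Spec.map _), e]

/-- `M(T ×_S Spec B) → M(Spec (C ⊗ B))`. -/
noncomputable def jHom : Ff f a M ⟶ Gf A M C (h ≫ pullback.snd a f) where
  app X := ModuleCat.ofHom (X := (Ff f a M).obj X)
      (Y := (Gf A M C (h ≫ pullback.snd a f)).obj X)
    ({ toFun := fun x => M.val.map (hB f a C h hh X.unop.unop).op x
       map_add' := fun x y => map_add _ x y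
       map_smul' := fun r x => by
        have h1 := M.val.map_smul (hB f a C h hh X.unop.unop).op
          ((BigSite.ORingAbs Scheme.fppfPrecoverage).obj.map
            (pullback.fst (Spec.map (CommRingCat.ofHom (algebraMap A X.unop.unop)) ≫ a) f).op
            (toSect Scheme.fppfPrecoverage a X.unop.unop r)) x
        refine h1.trans ?_
        congr 1
        exact toSect_nat' (h ≫ pullback.snd a f) (X.unop.unop)
          ((Alg.baseChange A C).obj X.unop.unop) (inR C X.unop.unop).hom _ (pullback.fst _ _)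
          (hBl f a C h hh X.unop.unop) (hBl_fst f a C h hh X.unop.unop) r } :
      (Ff f a M).obj X →ₗ[(ringOf A).obj X] (Gf A M C (h ≫ pullback.snd a f)).obj X)
  naturality := by
    intro X Y k
    ext x
    exact AdeqPull.map_square M.val _ _ _ _ (hB_natural f a C h hh k.unop.unop) x

end J

end Groth.Agent.H64.AdeqPush2
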