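import Mathlib
import Groth.Prelude.Def_Adeq2
import Groth.Agent.H64.AdeqPushCore

set_option autoImplicit false
universe u

open CategoryTheory Limits AlgebraicGeometry Opposite TensorProduct

namespace Groth.Agent.H64.AdeqPush2

open Adeq Groth.Agent.H92.AdeqBase Groth.Agent.H92.AdeqCok

variable {S T : Scheme.{u}} (f : T ⟶ S) {A : CommRingCat.{u}} (a : Spec A ⟶ S)

section Generic

variable {A' : Type u} [CommRing A']

theorem isKer_of_exact {F G₀ G₁ : MVF A'} (j : F ⟶ G₀) (β₁ β₂ : G₀ ⟶ G₁)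
    (hinj : ∀ X, Function.Injective (j.app X))
    (hzero : ∀ X (x : F.obj X), β₁.app X (j.app X x) = β₂.app X (j.app X x))
    (hex : ∀ X (y : G₀.obj X), β₁.app X y = β₂.app X y → ∃ x : F.obj X, j.app X x = y) :
    IsKer j (β₁ - β₂) := by
  have hsub : ∀ (X : (Alg A')ᵒᵖᵒᵖ) (y : G₀.obj X), (β₁ - β₂).app X y =
      β₁.app X y - β₂.app X y := fun X y => rfl
  refine ⟨hinj, fun X x => ?_, fun X y hy => ?_⟩
  · rw [hsub, hzero, sub_self]
  · rw [hsub, sub_eq_zero] at hy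
    exact hex X y hy

end Generic

section Lift

variable (C₀ C₁ : Type u) [CommRing C₀] [Algebra A C₀] [CommRing C₁] [Algebra A C₁]
  (ρ : C₀ →ₐ[A] C₁)

theorem lift_rho (B : Alg A) {Z' : Scheme.{u}} (r : Z' ⟶ Spec (CommRingCat.of (C₁ ⊗[A] B)))
    (v : Z' ⟶ Spec (CommRingCat.of (C₀ ⊗[A] B)))
    (h1 : r ≫ Spec.map (inL C₁ B) ≫ Spec.map (CommRingCat.ofHom ρ.toRingHom) =
      v ≫ Spec.map (inL C₀ B))
    (h2 : r ≫ Spec.map (inR C₁ B) = v ≫ Spec.map (inR C₀ B)) :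
    r ≫ Spec.map (rhoB C₀ C₁ ρ B) = v := by
  apply (isPullback_in C₀ B).hom_ext
  · rw [Category.assoc, ← Spec.map_comp, inL_rhoB, Spec.map_comp]
    exact h1
  · rw [Category.assoc, ← Spec.map_comp, inR_rhoB]
    exact h2

theorem spec_algebraMap_rho :
    Spec.map (CommRingCat.ofHom ρ.toRingHom) ≫ Spec.map (CommRingCat.ofHom (algebraMap A C₀)) =
      Spec.map (CommRingCat.ofHom (algebraMap A C₁)) := by
  rw [← Spec.map_comp]
  congr 1
  refine CommRingCat.hom_ext (RingHom.ext fun x => ?_)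
  exact ρ.commutes x

end Lift

section Ker

variable (M : BigSite.Mod Scheme.fppfPrecoverage T)
  (C₀ C₁ : Type u) [CommRing C₀] [Algebra A C₀] [CommRing C₁] [Algebra A C₁]
  (ρ₁ ρ₂ : C₀ →ₐ[A] C₁)
  (h : Spec (CommRingCat.of C₀) ⟶ pullback a f)
  (hh : h ≫ pullback.fst a f = Spec.map (CommRingCat.ofHom (algebraMap A C₀)))
  (e : Spec (CommRingCat.of C₁) ⟶ pullback h h)
  (he₁ : e ≫ pullback.fst h h = Spec.map (CommRingCat.ofHom ρ₁.toRingHom))
  (he₂ : e ≫ pullback.snd h h = Spec.map (CommRingCat.ofHom ρ₂.toRingHom))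

include he₁ he₂ in
theorem hb₂ : Spec.map (CommRingCat.ofHom ρ₂.toRingHom) ≫ h ≫ pullback.snd a f =
    Spec.map (CommRingCat.ofHom ρ₁.toRingHom) ≫ h ≫ pullback.snd a f := by
  rw [← he₁, ← he₂, Category.assoc, Category.assoc, ← Category.assoc (pullback.snd h h),
    ← pullback.condition, Category.assoc]

include hh he₁ he₂ in
theorem c1 [Surjective e] [Flat e] [LocallyOfFinitePresentation e] (B : Alg A) (Z : Scheme.{u})
    (v₁ v₂ : Z ⟶ Spec (CommRingCat.of (C₀ ⊗[A] B)))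
    (hv : v₁ ≫ hBl f a C₀ h hh B = v₂ ≫ hBl f a C₀ h hh B) :
    ∃ (Z' : Scheme.{u}) (t : Z' ⟶ Z) (r : Z' ⟶ Spec (CommRingCat.of (C₁ ⊗[A] B))),
      Surjective t ∧ Flat t ∧ LocallyOfFinitePresentation t ∧
        r ≫ Spec.map (rhoB C₀ C₁ ρ₁ B) = t ≫ v₁ ∧ r ≫ Spec.map (rhoB C₀ C₁ ρ₂ B) = t ≫ v₂ := by
  have hw : (v₁ ≫ Spec.map (inL C₀ B)) ≫ h = (v₂ ≫ Spec.map (inL C₀ B)) ≫ h := by
    rw [Category.assoc, Category.assoc, ← hB_prB f a C₀ h hh B, ← Category.assoc, hv,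
      Category.assoc]
  have hR : v₁ ≫ Spec.map (inR C₀ B) = v₂ ≫ Spec.map (inR C₀ B) := by
    rw [← hBl_fst f a C₀ h hh B, ← Category.assoc, hv, Category.assoc]
  let w : Z ⟶ pullback h h :=
    pullback.lift (v₁ ≫ Spec.map (inL C₀ B)) (v₂ ≫ Spec.map (inL C₀ B)) hw
  have hw1 : w ≫ pullback.fst h h = v₁ ≫ Spec.map (inL C₀ B) := pullback.lift_fst _ _ _
  have hw2 : w ≫ pullback.snd h h = v₂ ≫ Spec.map (inL C₀ B) := pullback.lift_snd _ _ _
  let t : pullback w e ⟶ Z := pullback.fst w e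
  let s : pullback w e ⟶ Spec (CommRingCat.of C₁) := pullback.snd w e
  have hts : t ≫ w = s ≫ e := pullback.condition
  have hs1 : s ≫ Spec.map (CommRingCat.ofHom ρ₁.toRingHom) = t ≫ v₁ ≫ Spec.map (inL C₀ B) := by
    rw [← he₁, ← Category.assoc, ← hts, Category.assoc, hw1]
  have hs2 : s ≫ Spec.map (CommRingCat.ofHom ρ₂.toRingHom) = t ≫ v₂ ≫ Spec.map (inL C₀ B) := by
    rw [← he₂, ← Category.assoc, ← hts, Category.assoc, hw2]
  have hr : s ≫ Spec.map (CommRingCat.ofHom (algebraMap A C₁)) =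
      (t ≫ v₁ ≫ Spec.map (inR C₀ B)) ≫ Spec.map (CommRingCat.ofHom (algebraMap A B)) := by
    rw [← spec_algebraMap_rho C₀ C₁ ρ₁, ← Category.assoc, hs1, Category.assoc, Category.assoc,
      Category.assoc, Category.assoc, spec_in_sq]
  let r : pullback w e ⟶ Spec (CommRingCat.of (C₁ ⊗[A] B)) :=
    (isPullback_in C₁ B).lift s (t ≫ v₁ ≫ Spec.map (inR C₀ B)) hr
  have hr1 : r ≫ Spec.map (inL C₁ B) = s := (isPullback_in C₁ B).lift_fst _ _ _
  have hr2 : r ≫ Spec.map (inR C₁ B) = t ≫ v₁ ≫ Spec.map (inR C₀ B) :=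
    (isPullback_in C₁ B).lift_snd _ _ _
  refine ⟨pullback w e, t, r, inferInstance, inferInstance, inferInstance, ?_, ?_⟩
  · refine lift_rho C₀ C₁ ρ₁ B r (t ≫ v₁) ?_ ?_
    · rw [← Category.assoc, hr1, hs1, Category.assoc]
    · rw [hr2, Category.assoc]
  · refine lift_rho C₀ C₁ ρ₂ B r (t ≫ v₂) ?_ ?_
    · rw [← Category.assoc, hr1, hs2, Category.assoc]
    · rw [hr2, hR, Category.assoc]

include he₁ he₂ in
theorem q_hB (B : Alg A) :
    qB C₀ C₁ ρ₁ (h ≫ pullback.snd a f)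
        (Spec.map (CommRingCat.ofHom ρ₁.toRingHom) ≫ h ≫ pullback.snd a f) rfl B ≫
        hB f a C₀ h hh B =
      qB C₀ C₁ ρ₂ (h ≫ pullback.snd a f)
        (Spec.map (CommRingCat.ofHom ρ₁.toRingHom) ≫ h ≫ pullback.snd a f)
        (hb₂ f a C₀ C₁ ρ₁ ρ₂ h e he₁ he₂) B ≫ hB f a C₀ h hh B := by
  ext : 1
  show Spec.map (rhoB C₀ C₁ ρ₁ B) ≫ hBl f a C₀ h hh B =
    Spec.map (rhoB C₀ C₁ ρ₂ B) ≫ hBl f a C₀ h hh B
  apply pullback.hom_ext
  · rw [Category.assoc, Category.assoc, hBl_fst, ← Spec.map_comp, ← Spec.map_comp, inR_rhoB,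
      inR_rhoB]
  · have e' : ∀ (ρ : C₀ →ₐ[A] C₁), Spec.map (rhoB C₀ C₁ ρ B) ≫ Spec.map (inL C₀ B) =
        Spec.map (inL C₁ B) ≫ Spec.map (CommRingCat.ofHom ρ.toRingHom) := fun ρ => by
      rw [← Spec.map_comp, inL_rhoB, Spec.map_comp]
    rw [Category.assoc, Category.assoc, hBl_snd, ← Category.assoc, e' ρ₁,
      ← Category.assoc (Spec.map (rhoB C₀ C₁ ρ₂ B)), e' ρ₂, Category.assoc, Category.assoc,
      hb₂ f a C₀ C₁ ρ₁ ρ₂ h e he₁ he₂]

include hh he₁ he₂ in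
theorem c1' [Surjective e] [Flat e] [LocallyOfFinitePresentation e] (B : Alg A) (Z : Scheme.{u})
    (v₁ v₂ : Z ⟶ (Xo C₀ (h ≫ pullback.snd a f) B).left)
    (hv : v₁ ≫ (hB f a C₀ h hh B).left = v₂ ≫ (hB f a C₀ h hh B).left) :
    ∃ (Z' : Scheme.{u}) (t : Z' ⟶ Z)
      (r : Z' ⟶ (Xo C₁ (Spec.map (CommRingCat.ofHom ρ₁.toRingHom) ≫ h ≫ pullback.snd a f) B).left),
      Surjective t ∧ Flat t ∧ LocallyOfFinitePresentation t ∧
        r ≫ (qB C₀ C₁ ρ₁ (h ≫ pullback.snd a f)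
          (Spec.map (CommRingCat.ofHom ρ₁.toRingHom) ≫ h ≫ pullback.snd a f) rfl B).left = t ≫ v₁ ∧
        r ≫ (qB C₀ C₁ ρ₂ (h ≫ pullback.snd a f)
          (Spec.map (CommRingCat.ofHom ρ₁.toRingHom) ≫ h ≫ pullback.snd a f)
          (hb₂ f a C₀ C₁ ρ₁ ρ₂ h e he₁ he₂) B).left = t ≫ v₂ :=
  c1 f a C₀ C₁ ρ₁ ρ₂ h hh e he₁ he₂ B Z v₁ v₂ hv

theorem exactB [Surjective h] [Flat h] [LocallyOfFinitePresentation h]
    [Surjective e] [Flat e] [LocallyOfFinitePresentation e] (B : Alg A) :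
    Function.Injective (mapAt M (hB f a C₀ h hh B)) ∧
      ∀ y : M.val.obj (op (Xo C₀ (h ≫ pullback.snd a f) B)),
        mapAt M (qB C₀ C₁ ρ₁ (h ≫ pullback.snd a f)
          (Spec.map (CommRingCat.ofHom ρ₁.toRingHom) ≫ h ≫ pullback.snd a f) rfl B) y =
        mapAt M (qB C₀ C₁ ρ₂ (h ≫ pullback.snd a f)
          (Spec.map (CommRingCat.ofHom ρ₁.toRingHom) ≫ h ≫ pullback.snd a f)
          (hb₂ f a C₀ C₁ ρ₁ ρ₂ h e he₁ he₂) B) y →
        ∃ x : M.val.obj (op (Qo f a B)), mapAt M (hB f a C₀ h hh B) x = y :=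
  @sheaf_exact' T M (Qo f a B) (Xo C₀ (h ≫ pullback.snd a f) B)
    (Xo C₁ (Spec.map (CommRingCat.ofHom ρ₁.toRingHom) ≫ h ≫ pullback.snd a f) B)
    (hB f a C₀ h hh B)
    (qB C₀ C₁ ρ₁ (h ≫ pullback.snd a f)
          (Spec.map (CommRingCat.ofHom ρ₁.toRingHom) ≫ h ≫ pullback.snd a f) rfl B)
    (qB C₀ C₁ ρ₂ (h ≫ pullback.snd a f)
          (Spec.map (CommRingCat.ofHom ρ₁.toRingHom) ≫ h ≫ pullback.snd a f)
          (hb₂ f a C₀ C₁ ρ₁ ρ₂ h e he₁ he₂) B)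
    (hB_surj f a C₀ h hh B) (hB_flat f a C₀ h hh B) (hB_lfp f a C₀ h hh B)
    (c1' f a C₀ C₁ ρ₁ ρ₂ h hh e he₁ he₂ B)

theorem isKer [Surjective h] [Flat h] [LocallyOfFinitePresentation h]
    [Surjective e] [Flat e] [LocallyOfFinitePresentation e] :
    IsKer (jHom f a M C₀ h hh)
      (betaHom C₀ C₁ ρ₁ (h ≫ pullback.snd a f)
          (Spec.map (CommRingCat.ofHom ρ₁.toRingHom) ≫ h ≫ pullback.snd a f) rfl M -
        betaHom C₀ C₁ ρ₂ (h ≫ pullback.snd a f)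
          (Spec.map (CommRingCat.ofHom ρ₁.toRingHom) ≫ h ≫ pullback.snd a f)
          (hb₂ f a C₀ C₁ ρ₁ ρ₂ h e he₁ he₂) M) := by
  refine isKer_of_exact _ _ _ (fun X => ?_) (fun X x => ?_) (fun X y hy => ?_)
  · exact (exactB f a M C₀ C₁ ρ₁ ρ₂ h hh e he₁ he₂ X.unop.unop).1
  · exact mapAt_square M _ _ _ _ (q_hB f a C₀ C₁ ρ₁ ρ₂ h hh e he₁ he₂ X.unop.unop) x
  · exact (exactB f a M C₀ C₁ ρ₁ ρ₂ h hh e he₁ he₂ X.unop.unop).2 y hy

include ρ₂ hh he₁ he₂ in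
/-- The core: adequacy of `F_{f_*M, A}` from an affine fppf hypercover of `T ×_S Spec A`
of length one. -/
theorem adequate_push_core [Surjective h] [Flat h] [LocallyOfFinitePresentation h]
    [Surjective e] [Flat e] [LocallyOfFinitePresentation e]
    (h₀ : adequate C₀ ((toMVF Scheme.fppfPrecoverage (h ≫ pullback.snd a f)).obj M))
    (h₁ : adequate C₁ ((toMVF Scheme.fppfPrecoverage
      (Spec.map (CommRingCat.ofHom ρ₁.toRingHom) ≫ h ≫ pullback.snd a f)).obj M)) :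
    adequate A (Ff f a M) :=
  (adequate A).prop_of_iso (isKer f a M C₀ C₁ ρ₁ ρ₂ h hh e he₁ he₂).iso.symm
    (adequate_kernel _ (Groth.Agent.S8750.result A C₀ _ h₀) (Groth.Agent.S8750.result A C₁ _ h₁))

end Ker

section Final

theorem exists_affine_fppf_cover' (X : Scheme.{u}) [CompactSpace X] :
    ∃ (C : Type u) (_ : CommRing C) (h : Spec (CommRingCat.of C) ⟶ X),
      Surjective h ∧ Flat h ∧ LocallyOfFinitePresentation h := by
  obtain ⟨C, h, h1, h2, h3⟩ := exists_affine_fppf_cover X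
  exact ⟨C, inferInstance, h, h1, h2, h3⟩

theorem adequate_push_affine [QuasiCompact f] [QuasiSeparated f]
    (M : BigSite.Mod Scheme.fppfPrecoverage T)
    (h55 : ∀ (R : CommRingCat.{u}) (b : Spec R ⟶ T),
      adequate R ((toMVF Scheme.fppfPrecoverage b).obj M)) :
    adequate A (Ff f a M) := by
  haveI : QuasiSeparatedSpace ↑(pullback a f) :=
    quasiSeparatedSpace_of_quasiSeparated (pullback.fst a f)
  obtain ⟨C₀, _, h, hs, hf, hl⟩ := exists_affine_fppf_cover' (pullback a f)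
  haveI : QuasiCompact h := inferInstance
  obtain ⟨C₁, _, e, es, ef, el⟩ := exists_affine_fppf_cover' (pullback h h)
  let φ₀ : A ⟶ CommRingCat.of C₀ := Spec.preimage (h ≫ pullback.fst a f)
  let _ : Algebra A C₀ := φ₀.hom.toAlgebra
  have hh : h ≫ pullback.fst a f = Spec.map (CommRingCat.ofHom (algebraMap A C₀)) :=
    (Spec.map_preimage _).symm
  let r₁ : CommRingCat.of C₀ ⟶ CommRingCat.of C₁ := Spec.preimage (e ≫ pullback.fst h h)
  let r₂ : CommRingCat.of C₀ ⟶ CommRingCat.of C₁ := Spec.preimage (e ≫ pullback.snd h h)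
  have hr₁ : Spec.map r₁ = e ≫ pullback.fst h h := Spec.map_preimage _
  have hr₂ : Spec.map r₂ = e ≫ pullback.snd h h := Spec.map_preimage _
  have h12 : φ₀ ≫ r₁ = φ₀ ≫ r₂ := by
    apply Spec.map_injective
    rw [Spec.map_comp, Spec.map_comp, hr₁, hr₂, Category.assoc, Category.assoc]
    have : Spec.map φ₀ = h ≫ pullback.fst a f := Spec.map_preimage _
    rw [this, ← Category.assoc (pullback.fst h h), pullback.condition, Category.assoc]
  let _ : Algebra A C₁ := (φ₀ ≫ r₁).hom.toAlgebra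
  let ρ₁ : C₀ →ₐ[A] C₁ := { r₁.hom with commutes' := fun x => rfl }
  let ρ₂ : C₀ →ₐ[A] C₁ :=
    { r₂.hom with commutes' := fun x => (congrArg (fun k => k.hom x) h12).symm }
  have he₁ : e ≫ pullback.fst h h = Spec.map (CommRingCat.ofHom ρ₁.toRingHom) := hr₁.symm
  have he₂ : e ≫ pullback.snd h h = Spec.map (CommRingCat.ofHom ρ₂.toRingHom) := hr₂.symm
  exact adequate_push_core f a M C₀ C₁ ρ₁ ρ₂ h hh e he₁ he₂ (h55 (CommRingCat.of C₀) _)
    (h55 (CommRingCat.of C₁) _)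

theorem adequateMod_pushMod [QuasiCompact f] [QuasiSeparated f]
    (M : BigSite.Mod Scheme.fppfPrecoverage T)
    (h55 : ∀ (R : CommRingCat.{u}) (b : Spec R ⟶ T),
      adequate R ((toMVF Scheme.fppfPrecoverage b).obj M)) :
    adequateMod Scheme.fppfPrecoverage S ((BigSite.pushMod Scheme.fppfPrecoverage f).obj M) := by
  let 𝒰 := S.affineOpenCover
  exact ⟨𝒰.I₀, 𝒰.X, 𝒰.f, Scheme.zariskiPrecoverage_le_fppfPrecoverage _ 𝒰.openCover.mem₀,
    fun i => adequate_push_affine f (𝒰.f i) M h55⟩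

end Final

end Groth.Agent.H64.AdeqPush2
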