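import Mathlib
import Groth.Prelude.Def_ChGrp
import Groth.Prelude.Def_NonAbH2

/-!
# (LOC) for helper40's S19098: `Φ : G ⊗ Xh ⟶ SΨ` has sections fppf-locally on `SΨ` (helper64)
-/

set_option autoImplicit false
universe u
open CategoryTheory CategoryTheory.Limits AlgebraicGeometry MonoidalCategory CartesianMonoidalCategory MonObj

namespace Groth.Agent.H64.BalStab_LOC

variable {S : Scheme.{u}} {G X Z Ψ Xh SΨ : Over S} [GrpObj G] [GrpObj Z]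
    (a : AlgGrp.Action G X) (h : 𝟙_ (Over S) ⟶ G)
    (i : Z ⟶ G) [IsMonHom i]
    (ψ : Ψ ⟶ G) [Mono ψ] (aΨ : AlgGrp.Action G Ψ)
    (hψ : aΨ.act ≫ ψ = fst G Ψ * (snd G Ψ ≫ ψ) * (fst G Ψ)⁻¹)
    (o : 𝟙_ (Over S) ⟶ Ψ) (ho : o ≫ ψ = h)
    (hhom : ChGrp.IsHomog Scheme.fppfPrecoverage i aΨ o)
    (incl : Xh ⟶ X) [Mono incl]
    (hXh : ∀ (T : Over S) (x : T ⟶ X), (∃ y : T ⟶ Xh, y ≫ incl = x) ↔ lift (toUnit T ≫ h) x ≫ a.act = x)
    (aXh : AlgGrp.Action Z Xh) (hincl : AlgGrp.Action.IsEquivariant aXh (a.restrict i) incl)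
    (σ : SΨ ⟶ G ⊗ X) [Mono σ]
    (hSΨ : ∀ (T : Over S) (g : T ⟶ G) (x : T ⟶ X),
      (∃ q : T ⟶ SΨ, q ≫ σ = lift g x) ↔ ((∃ y : T ⟶ Ψ, y ≫ ψ = g) ∧ lift g x ≫ a.act = x))
    (aS : AlgGrp.Action G SΨ)
    (hσ : aS.act ≫ σ = lift (fst G SΨ * (snd G SΨ ≫ σ ≫ fst G X) * (fst G SΨ)⁻¹)
      (lift (fst G SΨ) (snd G SΨ ≫ σ ≫ snd G X) ≫ a.act))
    (Φ : G ⊗ Xh ⟶ SΨ)
    (hΦ : Φ ≫ σ = lift (fst G Xh * (toUnit (G ⊗ Xh) ≫ h) * (fst G Xh)⁻¹)
      (lift (fst G Xh) (snd G Xh ≫ incl) ≫ a.act))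

include hψ ho hhom hXh hSΨ hΦ in
/-- (LOC) `Φ` has sections fppf-locally on `SΨ` -/
theorem LOC : NonAbH1.IsLocallyTrivialFor Scheme.fppfPrecoverage (Over.mk Φ.left : Over SΨ.left) := by
  -- the map `SΨ ⟶ Ψ` and the fixed-point equation for the universal point
  obtain ⟨⟨y, hy⟩, hfix⟩ := (hSΨ SΨ (σ ≫ fst G X) (σ ≫ snd G X)).1
    ⟨𝟙 SΨ, by
      rw [Category.id_comp]
      apply CartesianMonoidalCategory.hom_ext
      · rw [lift_fst]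
      · rw [lift_snd]⟩
  obtain ⟨R₀, hR₀, hsec⟩ := hhom.2.2
  refine ⟨R₀.pullbackArrows y.left, Precoverage.pullbackArrows_mem y.left hR₀, ?_⟩
  rintro T' π ⟨Z', p, hp⟩
  obtain ⟨s, hs⟩ := hsec p hp
  change s ≫ (aΨ.orbitMap o).left = p at hs
  -- the test object
  have hw : (pullback.fst p y.left ≫ s) ≫ G.hom = pullback.snd p y.left ≫ SΨ.hom := by
    rw [← Over.w (aΨ.orbitMap o), Category.assoc, ← Category.assoc s, hs, pullback.condition_assoc, Over.w y]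
  let T : Over S := Over.mk (pullback.snd p y.left ≫ SΨ.hom)
  let q : T ⟶ SΨ := Over.homMk (pullback.snd p y.left) rfl
  let g₀ : T ⟶ G := Over.homMk (pullback.fst p y.left ≫ s) hw
  have hg₀ : g₀ ≫ aΨ.orbitMap o = q ≫ y := by
    ext1
    change (pullback.fst p y.left ≫ s) ≫ (aΨ.orbitMap o).left = pullback.snd p y.left ≫ y.left
    rw [Category.assoc, hs, pullback.condition]
  -- `γ = g₀ h g₀⁻¹`
  have hγ : q ≫ σ ≫ fst G X = g₀ * (toUnit T ≫ h) * g₀⁻¹ := by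
    rw [← hy, ← Category.assoc, ← hg₀, AlgGrp.Action.comp_orbitMap, Category.assoc, hψ, comp_mul, comp_mul,
      GrpObj.comp_inv, lift_fst, lift_snd_assoc, Category.assoc, ho]
  have hx : lift (q ≫ σ ≫ fst G X) (q ≫ σ ≫ snd G X) ≫ a.act = q ≫ σ ≫ snd G X := by
    rw [← comp_lift, Category.assoc, hfix]
  -- `x' = g₀⁻¹ x` is `h`-fixed
  have hx' : lift (toUnit T ≫ h) (lift g₀⁻¹ (q ≫ σ ≫ snd G X) ≫ a.act) ≫ a.act =
      lift g₀⁻¹ (q ≫ σ ≫ snd G X) ≫ a.act := by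
    rw [← AlgGrp.Action.lift_mul_act]
    conv_rhs => rw [← hx, ← AlgGrp.Action.lift_mul_act, hγ]
    congr 2
    group
  obtain ⟨z, hz⟩ := (hXh T _).2 hx'
  -- the section
  have hkey : lift g₀ z ≫ Φ = q := by
    rw [← cancel_mono σ, Category.assoc, hΦ]
    apply CartesianMonoidalCategory.hom_ext
    · rw [comp_lift, lift_fst, comp_mul, comp_mul, GrpObj.comp_inv, lift_fst, Category.assoc, hγ,
        comp_toUnit_assoc]
    · rw [comp_lift, lift_snd, comp_lift_assoc, lift_fst, lift_snd_assoc, hz, ← AlgGrp.Action.lift_mul_act,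
        mul_inv_cancel, AlgGrp.Action.lift_one_act, Category.assoc]
  exact ⟨(lift g₀ z).left, congrArg (fun m => m.left) hkey⟩

end Groth.Agent.H64.BalStab_LOC
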