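import Mathlib

/-!
Helper for S10849: Birkhoff factorization of invertible matrices over `k[T, T⁻¹]`.
-/

namespace Groth.Agent.H64.Birkhoff

open Polynomial Matrix
open scoped LaurentPolynomial

variable {k : Type*} [Field k] {n : ℕ}

/-! ### Reversal with respect to a bound `N` -/

/-- `T^N f(1/T)` for `natDegree f ≤ N`. -/
noncomputable def rev (N : ℕ) (f : k[X]) : k[X] :=
  ∑ l ∈ Finset.range (N + 1), monomial (N - l) (f.coeff l)

lemma toLaurent_rev (N : ℕ) (f : k[X]) (hf : f.natDegree ≤ N) :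
    toLaurent f = LaurentPolynomial.invert (toLaurent (rev N f)) * LaurentPolynomial.T N := by
  have hsum : f = ∑ l ∈ Finset.range (N + 1), monomial l (f.coeff l) :=
    f.as_sum_range' (N + 1) (by omega)
  conv_lhs => rw [hsum]
  rw [rev, map_sum, map_sum, map_sum, Finset.sum_mul]
  apply Finset.sum_congr rfl
  intro l hl
  have hl' : l ≤ N := by
    have := Finset.mem_range.mp hl
    omega
  rw [Polynomial.toLaurent_C_mul_T, Polynomial.toLaurent_C_mul_T, map_mul,
    LaurentPolynomial.invert_C, LaurentPolynomial.invert_T, mul_assoc, ← LaurentPolynomial.T_add]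
  congr 2
  push_cast [Nat.cast_sub hl']
  ring

lemma coeff_rev_zero (N : ℕ) (f : k[X]) : (rev N f).coeff 0 = f.coeff N := by
  rw [rev, Polynomial.finset_sum_coeff]
  rw [Finset.sum_eq_single N]
  · simp
  · intro l hl hne
    have := Finset.mem_range.mp hl
    rw [Polynomial.coeff_monomial, if_neg]
    omega
  · intro h
    exact absurd (Finset.mem_range.mpr (Nat.lt_succ_self N)) h

lemma isUnit_of_toLaurent (g : k[X]) (hu : IsUnit (toLaurent g)) (h0 : g.coeff 0 ≠ 0) :
    IsUnit g := by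
  obtain ⟨h, hh⟩ := hu.exists_right_inv
  obtain ⟨M, h', hh'⟩ := LaurentPolynomial.exists_T_pow h
  have hgh : g * h' = X ^ M := by
    apply Polynomial.toLaurent_injective
    rw [map_mul, hh', ← mul_assoc, hh, one_mul, Polynomial.toLaurent_X_pow]
  have hdvd : g ∣ X ^ M := ⟨h', hgh.symm⟩
  obtain ⟨i, -, hi⟩ := (dvd_prime_pow Polynomial.prime_X M).mp hdvd
  obtain ⟨u, hu'⟩ := hi
  rcases Nat.eq_zero_or_pos i with rfl | hipos
  · rw [pow_zero] at hu'
    exact IsUnit.of_mul_eq_one _ hu'
  · exfalso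
    have h1 := congrArg (fun p => Polynomial.coeff p 0) hu'
    simp only [Polynomial.mul_coeff_zero, Polynomial.coeff_X_pow] at h1
    rw [if_neg (by omega)] at h1
    rcases mul_eq_zero.mp h1 with h2 | h2
    · exact h0 h2
    · obtain ⟨r, hr, hru⟩ := Polynomial.isUnit_iff.mp u.isUnit
      rw [← hru, Polynomial.coeff_C_zero] at h2
      exact hr.ne_zero h2

lemma exists_poly_matrix (M : Matrix (Fin n) (Fin n) k[T;T⁻¹]) :
    ∃ (N : ℕ) (C0 : Matrix (Fin n) (Fin n) k[X]),
      ∀ i j, toLaurent (C0 i j) = M i j * LaurentPolynomial.T N := by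
  choose nn g hg using fun i j => LaurentPolynomial.exists_T_pow (M i j)
  refine ⟨Finset.univ.sup (fun p : Fin n × Fin n => nn p.1 p.2),
    fun i j => g i j * X ^ (Finset.univ.sup (fun p : Fin n × Fin n => nn p.1 p.2) - nn i j), ?_⟩
  intro i j
  have hle : nn i j ≤ Finset.univ.sup (fun p : Fin n × Fin n => nn p.1 p.2) :=
    Finset.le_sup (f := fun p : Fin n × Fin n => nn p.1 p.2) (Finset.mem_univ (i, j))
  rw [map_mul, hg, Polynomial.toLaurent_X_pow, mul_assoc, ← LaurentPolynomial.T_add]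
  congr 2
  push_cast [Nat.cast_sub hle]
  ring

/-! ### Column degrees and the reduction step -/

/-- column degree -/
noncomputable def cdeg (M : Matrix (Fin n) (Fin n) k[X]) (j : Fin n) : ℕ :=
  Finset.univ.sup (fun i => (M i j).natDegree)

/-- sum of column degrees -/
noncomputable def colsum (M : Matrix (Fin n) (Fin n) k[X]) : ℕ := ∑ j, cdeg M j

/-- matrix of leading coefficients of the columns -/
noncomputable def lead (M : Matrix (Fin n) (Fin n) k[X]) : Matrix (Fin n) (Fin n) k :=
  fun i j => (M i j).coeff (cdeg M j)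

lemma natDegree_le_cdeg (M : Matrix (Fin n) (Fin n) k[X]) (i j : Fin n) :
    (M i j).natDegree ≤ cdeg M j :=
  Finset.le_sup (f := fun i => (M i j).natDegree) (Finset.mem_univ i)

lemma step (M : Matrix (Fin n) (Fin n) k[X]) (hM : M.det ≠ 0) (hl : (lead M).det = 0) :
    ∃ E : Matrix (Fin n) (Fin n) k[X], IsUnit E ∧ colsum (M * E) < colsum M := by
  classical
  obtain ⟨lam, hlam0, hlam⟩ := Matrix.exists_mulVec_eq_zero_iff.mpr hl
  have hJ : (Finset.univ.filter fun j => lam j ≠ 0).Nonempty := by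
    by_contra h
    rw [Finset.not_nonempty_iff_eq_empty, Finset.filter_eq_empty_iff] at h
    apply hlam0
    ext j
    have := h (Finset.mem_univ j)
    simpa using this
  obtain ⟨j0, hj0mem, hj0max⟩ := Finset.exists_max_image _ (fun j => cdeg M j) hJ
  have hj0 : lam j0 ≠ 0 := (Finset.mem_filter.mp hj0mem).2
  obtain ⟨N, hN⟩ : ∃ N, N = cdeg M j0 := ⟨_, rfl⟩
  have hmax : ∀ j, lam j ≠ 0 → cdeg M j ≤ N := fun j hj => by
    rw [hN]; exact hj0max j (Finset.mem_filter.mpr ⟨Finset.mem_univ j, hj⟩)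
  obtain ⟨u, hu⟩ : ∃ u : Fin n → k[X], u = fun j => C (lam j) * X ^ (N - cdeg M j) := ⟨_, rfl⟩
  obtain ⟨E, hE⟩ : ∃ E : Matrix (Fin n) (Fin n) k[X],
      E = (1 : Matrix (Fin n) (Fin n) k[X]).updateCol j0 u := ⟨_, rfl⟩
  have hdetE : E.det = u j0 := by
    rw [hE, ← Matrix.cramer_apply, Matrix.cramer_one]
    rfl
  have huj0 : u j0 = C (lam j0) := by
    rw [hu]
    simp only
    rw [hN, Nat.sub_self, pow_zero, mul_one]
  have hEunit : IsUnit E := by
    rw [Matrix.isUnit_iff_isUnit_det, hdetE, huj0]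
    exact Polynomial.isUnit_C.mpr (isUnit_iff_ne_zero.mpr hj0)
  have hME : M * E = M.updateCol j0 (M *ᵥ u) := by
    rw [hE, Matrix.mul_updateCol, Matrix.mul_one]
  have hentry_deg : ∀ i, ((M *ᵥ u) i).natDegree ≤ N := by
    intro i
    show (∑ j, M i j * u j).natDegree ≤ N
    apply Polynomial.natDegree_sum_le_of_forall_le
    intro j _
    rw [hu]
    by_cases hj : lam j = 0
    · simp [hj]
    · have h1 := natDegree_le_cdeg M i j
      have h2 := hmax j hj
      calc (M i j * (C (lam j) * X ^ (N - cdeg M j))).natDegree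
          ≤ (M i j).natDegree + (C (lam j) * X ^ (N - cdeg M j)).natDegree :=
            Polynomial.natDegree_mul_le
        _ ≤ cdeg M j + (N - cdeg M j) :=
            add_le_add h1 (Polynomial.natDegree_C_mul_X_pow_le _ _)
        _ = N := by omega
  have hterm : ∀ i j, (M i j * u j).coeff N = lead M i j * lam j := by
    intro i j
    rw [hu]
    by_cases hj : lam j = 0
    · simp [hj]
    · have h2 := hmax j hj
      simp only
      rw [← mul_assoc, Polynomial.coeff_mul_X_pow', if_pos (by omega), Polynomial.coeff_mul_C, lead]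
      have : N - (N - cdeg M j) = cdeg M j := by omega
      rw [this]
  have hentry_coeff : ∀ i, ((M *ᵥ u) i).coeff N = 0 := by
    intro i
    have h0 := congrFun hlam i
    show (∑ j, M i j * u j).coeff N = 0
    rw [Polynomial.finset_sum_coeff]
    simp_rw [hterm]
    exact h0
  have hNpos : 0 < N := by
    by_contra h0
    have hN0 : N = 0 := by omega
    have hcolzero : ∀ i, (M * E) i j0 = 0 := by
      intro i
      rw [hME, Matrix.updateCol_self]
      have h1 := hentry_deg i
      have h2 := hentry_coeff i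
      rw [hN0] at h1 h2
      have h3 := Polynomial.eq_C_of_natDegree_le_zero h1
      rw [h3, h2, map_zero]
    have hdet0 : (M * E).det = 0 := Matrix.det_eq_zero_of_column_eq_zero j0 hcolzero
    rw [Matrix.det_mul, hdetE, huj0] at hdet0
    rcases mul_eq_zero.mp hdet0 with h | h
    · exact hM h
    · exact hj0 (by simpa using h)
  have hlt : cdeg (M * E) j0 < cdeg M j0 := by
    rw [← hN, cdeg, Finset.sup_lt_iff (by simpa using hNpos)]
    intro i _
    rw [hME, Matrix.updateCol_self]
    have h1 := hentry_deg i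
    have h2 := hentry_coeff i
    by_contra hge
    have heq : ((M *ᵥ u) i).natDegree = N := by omega
    have hne : (M *ᵥ u) i ≠ 0 := by
      intro h0
      rw [h0, Polynomial.natDegree_zero] at heq
      omega
    have h3 := Polynomial.leadingCoeff_ne_zero.mpr hne
    rw [Polynomial.leadingCoeff, heq] at h3
    exact h3 h2
  have hsame : ∀ j, j ≠ j0 → cdeg (M * E) j = cdeg M j := by
    intro j hj
    rw [cdeg, cdeg]
    apply Finset.sup_congr rfl
    intro i _
    rw [hME, Matrix.updateCol_ne hj]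
  refine ⟨E, hEunit, ?_⟩
  rw [colsum, colsum]
  apply Finset.sum_lt_sum
  · intro j _
    by_cases hj : j = j0
    · rw [hj]; exact hlt.le
    · exact (hsame j hj).le
  · exact ⟨j0, Finset.mem_univ _, hlt⟩

lemma exists_reduced (C0 : Matrix (Fin n) (Fin n) k[X]) (hC : C0.det ≠ 0) :
    ∃ P : Matrix (Fin n) (Fin n) k[X], IsUnit P ∧ (lead (C0 * P)).det ≠ 0 := by
  classical
  obtain ⟨S, hSdef⟩ : ∃ S : Set ℕ,
      S = {s | ∃ P : Matrix (Fin n) (Fin n) k[X], IsUnit P ∧ colsum (C0 * P) = s} := ⟨_, rfl⟩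
  have hS : S.Nonempty := by
    rw [hSdef]; exact ⟨_, 1, isUnit_one, rfl⟩
  have hmem := Nat.sInf_mem hS
  have hmem' : sInf S ∈ {s | ∃ P : Matrix (Fin n) (Fin n) k[X], IsUnit P ∧ colsum (C0 * P) = s} := by
    rw [← hSdef]; exact hmem
  obtain ⟨P, hP, hPs⟩ := hmem'
  refine ⟨P, hP, ?_⟩
  intro hdet
  have hdetCP : (C0 * P).det ≠ 0 := by
    rw [Matrix.det_mul]
    exact mul_ne_zero hC ((Matrix.isUnit_iff_isUnit_det P).mp hP).ne_zero
  obtain ⟨E, hE, hlt⟩ := step (C0 * P) hdetCP hdet
  have hmem2 : colsum (C0 * (P * E)) ∈ S := by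
    rw [hSdef]; exact ⟨P * E, hP.mul hE, rfl⟩
  have hle := Nat.sInf_le hmem2
  rw [Matrix.mul_assoc] at hlt
  omega

/-! ### The factorization -/

lemma unsorted (A : Matrix (Fin n) (Fin n) k[T;T⁻¹]) (hA : IsUnit A) :
    ∃ (P Q : Matrix (Fin n) (Fin n) k[X]) (d : Fin n → ℤ),
      IsUnit P ∧ IsUnit Q ∧
        A = P.map toLaurent * Matrix.diagonal (fun i => LaurentPolynomial.T (d i)) *
          (Q.map toLaurent).map LaurentPolynomial.invert := by
  classical
  have hdetA : IsUnit A.det := (Matrix.isUnit_iff_isUnit_det A).mp hA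
  have hAinv : A * A⁻¹ = 1 := Matrix.mul_nonsing_inv A hdetA
  obtain ⟨N, C0, hC0⟩ := exists_poly_matrix A⁻¹
  have hC0L : C0.map toLaurent = (LaurentPolynomial.T (N : ℤ) : k[T;T⁻¹]) • A⁻¹ := by
    ext i j
    simp only [Matrix.map_apply, Matrix.smul_apply, smul_eq_mul]
    rw [hC0, mul_comm]
  have hAC : A * C0.map toLaurent =
      (LaurentPolynomial.T (N : ℤ) : k[T;T⁻¹]) • (1 : Matrix (Fin n) (Fin n) k[T;T⁻¹]) := by
    rw [hC0L, Matrix.mul_smul, hAinv]
  have hmapdet : ∀ M : Matrix (Fin n) (Fin n) k[X], (M.map toLaurent).det = toLaurent M.det := by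
    intro M
    rw [← RingHom.mapMatrix_apply, ← RingHom.map_det]
  have hdetC0 : C0.det ≠ 0 := by
    intro h0
    have h1 := congrArg Matrix.det hAC
    rw [Matrix.det_mul, Matrix.det_smul, Matrix.det_one, mul_one, hmapdet, h0, map_zero,
      mul_zero] at h1
    have h2 : IsUnit ((LaurentPolynomial.T (N : ℤ) : k[T;T⁻¹]) ^ Fintype.card (Fin n)) :=
      (LaurentPolynomial.isUnit_T _).pow _
    rw [← h1] at h2
    exact not_isUnit_zero h2
  obtain ⟨P, hP, hlead⟩ := exists_reduced C0 hdetC0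
  obtain ⟨Bm, hBm⟩ : ∃ Bm, Bm = C0 * P := ⟨_, rfl⟩
  rw [← hBm] at hlead
  obtain ⟨e, he⟩ : ∃ e : Fin n → ℕ, e = fun j => cdeg Bm j := ⟨_, rfl⟩
  obtain ⟨Rt, hRt⟩ : ∃ Rt : Matrix (Fin n) (Fin n) k[X], Rt = fun i j => rev (e j) (Bm i j) :=
    ⟨_, rfl⟩
  have h4a : Bm.map toLaurent = (Rt.map toLaurent).map LaurentPolynomial.invert *
      Matrix.diagonal (fun j => (LaurentPolynomial.T (e j : ℤ) : k[T;T⁻¹])) := by
    apply Matrix.ext
    intro i j
    rw [Matrix.mul_diagonal]
    simp only [Matrix.map_apply]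
    rw [hRt]
    simp only
    apply toLaurent_rev
    rw [he]
    exact natDegree_le_cdeg Bm i j
  have h4b : (Rt.det).coeff 0 ≠ 0 := by
    have hcoe : (Rt.det).coeff 0 = (lead Bm).det := by
      rw [Polynomial.coeff_zero_eq_eval_zero]
      have h2 : Polynomial.eval 0 Rt.det = ((Polynomial.evalRingHom (0 : k)).mapMatrix Rt).det := by
        rw [← RingHom.map_det]; rfl
      rw [h2]
      congr 1
      ext i j
      simp only [RingHom.mapMatrix_apply, Matrix.map_apply, Polynomial.coe_evalRingHom]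
      rw [← Polynomial.coeff_zero_eq_eval_zero, hRt]
      simp only
      rw [coeff_rev_zero, he]
      rfl
    rw [hcoe]; exact hlead
  have hPL : IsUnit (P.map toLaurent) := by
    have := hP.map (RingHom.mapMatrix (Polynomial.toLaurent (R := k)))
    simpa [RingHom.mapMatrix_apply] using this
  have hABm : A * Bm.map toLaurent =
      (LaurentPolynomial.T (N : ℤ) : k[T;T⁻¹]) • P.map toLaurent := by
    rw [hBm, Matrix.map_mul, ← Matrix.mul_assoc, hAC, Matrix.smul_mul, Matrix.one_mul]
  have hR : ((Rt.map toLaurent).map LaurentPolynomial.invert).det =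
      LaurentPolynomial.invert (toLaurent Rt.det) := by
    rw [← hmapdet, AlgEquiv.map_det, AlgEquiv.mapMatrix_apply]
  have h4c : IsUnit (toLaurent Rt.det) := by
    have h1 := congrArg Matrix.det hABm
    rw [Matrix.det_mul, h4a, Matrix.det_mul, Matrix.det_diagonal, Matrix.det_smul] at h1
    have hunit : IsUnit (A.det * (((Rt.map toLaurent).map LaurentPolynomial.invert).det *
        ∏ j, (LaurentPolynomial.T (e j : ℤ) : k[T;T⁻¹]))) := by
      rw [h1]
      exact ((LaurentPolynomial.isUnit_T _).pow _).mul ((Matrix.isUnit_iff_isUnit_det _).mp hPL)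
    have h2 : IsUnit (((Rt.map toLaurent).map LaurentPolynomial.invert).det) :=
      isUnit_of_mul_isUnit_left (isUnit_of_mul_isUnit_right hunit)
    rw [hR] at h2
    have h3 := h2.map (LaurentPolynomial.invert (R := k))
    rwa [LaurentPolynomial.involutive_invert] at h3
  have hRtunit : IsUnit Rt.det := isUnit_of_toLaurent _ h4c h4b
  have hRtQ : Rt * Rt⁻¹ = 1 := Matrix.mul_nonsing_inv Rt hRtunit
  refine ⟨P, Rt⁻¹, fun j => (N : ℤ) - e j, hP, (Matrix.isUnit_iff_isUnit_det _).mpr (Matrix.isUnit_det_of_left_inverse hRtQ), ?_⟩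
  have hRQ : (Rt.map toLaurent).map LaurentPolynomial.invert *
      ((Rt⁻¹).map toLaurent).map LaurentPolynomial.invert = 1 := by
    rw [← Matrix.map_mul, ← Matrix.map_mul, hRtQ, Matrix.map_one _ (map_zero _) (map_one _),
      Matrix.map_one _ (map_zero _) (map_one _)]
  have hD : Matrix.diagonal (fun j => (LaurentPolynomial.T (e j : ℤ) : k[T;T⁻¹])) *
      Matrix.diagonal (fun j => (LaurentPolynomial.T (-(e j : ℤ)) : k[T;T⁻¹])) = 1 := by
    rw [Matrix.diagonal_mul_diagonal]
    simp only [← LaurentPolynomial.T_add, add_neg_cancel, LaurentPolynomial.T_zero]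
    exact Matrix.diagonal_one
  have h1 : A * Bm.map toLaurent *
      Matrix.diagonal (fun j => (LaurentPolynomial.T (-(e j : ℤ)) : k[T;T⁻¹])) *
      ((Rt⁻¹).map toLaurent).map LaurentPolynomial.invert = A := by
    rw [h4a]
    calc A * ((Rt.map toLaurent).map LaurentPolynomial.invert *
            Matrix.diagonal (fun j => (LaurentPolynomial.T (e j : ℤ) : k[T;T⁻¹]))) *
          Matrix.diagonal (fun j => (LaurentPolynomial.T (-(e j : ℤ)) : k[T;T⁻¹])) *
          ((Rt⁻¹).map toLaurent).map LaurentPolynomial.invert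
        = A * ((Rt.map toLaurent).map LaurentPolynomial.invert *
            (Matrix.diagonal (fun j => (LaurentPolynomial.T (e j : ℤ) : k[T;T⁻¹])) *
              Matrix.diagonal (fun j => (LaurentPolynomial.T (-(e j : ℤ)) : k[T;T⁻¹]))) *
            ((Rt⁻¹).map toLaurent).map LaurentPolynomial.invert) := by
          simp only [Matrix.mul_assoc]
      _ = A := by rw [hD, Matrix.mul_one, hRQ, Matrix.mul_one]
  rw [hABm] at h1
  rw [← h1, Matrix.smul_mul, ← Matrix.mul_smul]
  congr 2
  apply Matrix.ext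
  intro i j
  rw [Matrix.smul_apply, Matrix.diagonal_apply, Matrix.diagonal_apply]
  split_ifs with h
  · rw [smul_eq_mul, ← LaurentPolynomial.T_add]
    congr 1 <;> ring
  · simp

theorem main (A : Matrix (Fin n) (Fin n) k[T;T⁻¹]) (hA : IsUnit A) :
    ∃ (P Q : Matrix (Fin n) (Fin n) k[X]) (d : Fin n → ℤ),
      IsUnit P ∧ IsUnit Q ∧ Antitone d ∧
        A = P.map toLaurent * Matrix.diagonal (fun i => LaurentPolynomial.T (d i)) *
          (Q.map toLaurent).map LaurentPolynomial.invert := by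
  classical
  obtain ⟨P, Q, d, hP, hQ, hAeq⟩ := unsorted A hA
  obtain ⟨σ, hσ⟩ : ∃ σ : Equiv.Perm (Fin n), σ = Tuple.sort (fun i => -d i) := ⟨_, rfl⟩
  have hmono : Monotone ((fun i => -d i) ∘ σ) := by
    rw [hσ]; exact Tuple.monotone_sort _
  have hPinv : P * P⁻¹ = 1 := Matrix.mul_nonsing_inv P ((Matrix.isUnit_iff_isUnit_det P).mp hP)
  have hQinv : Q⁻¹ * Q = 1 := Matrix.nonsing_inv_mul Q ((Matrix.isUnit_iff_isUnit_det Q).mp hQ)
  refine ⟨P.submatrix id σ, Q.submatrix σ id, d ∘ σ, ?_, ?_, ?_, ?_⟩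
  · rw [Matrix.isUnit_iff_isUnit_det]
    apply Matrix.isUnit_det_of_right_inverse (B := P⁻¹.submatrix σ id)
    rw [Matrix.submatrix_mul_equiv, hPinv, Matrix.submatrix_id_id]
  · rw [Matrix.isUnit_iff_isUnit_det]
    apply Matrix.isUnit_det_of_left_inverse (B := Q⁻¹.submatrix id σ)
    rw [Matrix.submatrix_mul_equiv, hQinv, Matrix.submatrix_id_id]
  · intro a b hab
    have := hmono hab
    simp only [Function.comp_apply, neg_le_neg_iff] at this
    exact this
  · have e1 : (P.submatrix id σ).map toLaurent = (P.map toLaurent).submatrix id σ :=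
      (Matrix.submatrix_map _ _ _ _).symm
    have e2 : ((Q.submatrix σ id).map toLaurent).map LaurentPolynomial.invert =
        ((Q.map toLaurent).map LaurentPolynomial.invert).submatrix σ id := by
      rw [← Matrix.submatrix_map, ← Matrix.submatrix_map]
    have e3 : Matrix.diagonal (fun i => (LaurentPolynomial.T ((d ∘ σ) i) : k[T;T⁻¹])) =
        (Matrix.diagonal (fun i => (LaurentPolynomial.T (d i) : k[T;T⁻¹]))).submatrix σ σ := by
      rw [Matrix.submatrix_diagonal_equiv]; rfl
    rw [e1, e2, e3, Matrix.submatrix_mul_equiv, Matrix.submatrix_mul_equiv,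
      Matrix.submatrix_id_id]
    exact hAeq

end Groth.Agent.H64.Birkhoff
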