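import Mathlib

namespace Groth.Agent.H64.BunLat

open Module

theorem exists_basis_gcd (n : ℕ) (d : Fin (n+1) → ℤ) :
    ∃ β : Basis (Fin (n+1)) ℤ (Fin (n+1) → ℤ), d = (Finset.univ.gcd d) • β 0 := by
  classical
  by_cases hd : d = 0
  · refine ⟨Pi.basisFun ℤ (Fin (n+1)), ?_⟩
    have : Finset.univ.gcd d = 0 := by
      rw [Finset.gcd_eq_zero_iff]; intro x _; rw [hd]; rfl
    rw [this, zero_smul, hd]
  · obtain ⟨m, snf⟩ := Submodule.smithNormalForm (Pi.basisFun ℤ (Fin (n+1)))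
      (Submodule.span ℤ {d})
    have hdN : d ∈ Submodule.span ℤ {d} := Submodule.mem_span_singleton_self d
    have hfr : Module.finrank ℤ (Submodule.span ℤ {d}) = 1 := by
      rw [← (LinearEquiv.toSpanNonzeroSingleton ℤ (Fin (n+1) → ℤ) d hd).finrank_eq,
        Module.finrank_self]
    have hm : m = 1 := by
      have := Module.finrank_eq_card_basis snf.bN
      rw [hfr, Fintype.card_fin] at this
      exact this.symm
    subst hm
    have hrep := snf.bN.sum_repr ⟨d, hdN⟩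
    rw [Fin.sum_univ_one] at hrep
    have hd1 : d = (snf.bN.repr ⟨d, hdN⟩ 0) • (snf.bN 0 : Fin (n+1) → ℤ) := by
      have := congrArg Subtype.val hrep
      simpa using this.symm
    have hd2 : d = (snf.bN.repr ⟨d, hdN⟩ 0 * snf.a 0) • snf.bM (snf.f 0) := by
      calc d = (snf.bN.repr ⟨d, hdN⟩ 0) • (snf.bN 0 : Fin (n+1) → ℤ) := hd1
        _ = (snf.bN.repr ⟨d, hdN⟩ 0) • (snf.a 0 • snf.bM (snf.f 0)) := by rw [snf.snf 0]
        _ = _ := smul_smul _ _ _
    generalize snf.bN.repr ⟨d, hdN⟩ 0 * snf.a 0 = α at hd2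
    generalize snf.f 0 = j at hd2
    generalize snf.bM = bM at hd2
    clear hd1 hrep snf hfr
    -- α divides the gcd
    have h1 : α ∣ Finset.univ.gcd d := by
      apply Finset.dvd_gcd
      intro i _
      have := congrFun hd2 i
      rw [Pi.smul_apply, smul_eq_mul] at this
      exact Dvd.intro _ this.symm
    -- the gcd divides α
    have h2 : Finset.univ.gcd d ∣ α := by
      have hα : bM.coord j d = α := by
        conv_lhs => rw [hd2]
        rw [map_smul, Basis.coord_apply, Basis.repr_self, Finsupp.single_eq_same, smul_eq_mul,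
          mul_one]
      rw [← hα, LinearMap.pi_apply_eq_sum_univ]
      refine Finset.dvd_sum fun i _ => ?_
      rw [smul_eq_mul]
      exact Dvd.dvd.mul_right (Finset.gcd_dvd (Finset.mem_univ i)) _
    obtain ⟨ε, hε⟩ : ∃ ε : ℤˣ, d = (Finset.univ.gcd d) • (ε • bM j) := by
      rcases Int.associated_iff.1 (associated_of_dvd_dvd h1 h2) with h | h
      · refine ⟨1, ?_⟩
        rw [one_smul, ← h]; exact hd2
      · refine ⟨-1, ?_⟩
        have h' : Finset.univ.gcd d = -α := by rw [h, neg_neg]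
        rw [h', Units.smul_def, Units.val_neg, Units.val_one]
        simp only [neg_smul, one_smul, smul_neg, neg_neg]
        exact hd2
    refine ⟨(bM.unitsSMul (Function.update (fun _ => 1) j ε)).reindex (Equiv.swap j 0), ?_⟩
    rw [Basis.reindex_apply, Equiv.symm_swap, Equiv.swap_apply_right, Basis.unitsSMul_apply,
      Function.update_self]
    exact hε

section main

variable {n : ℕ} (δ : ℕ) (g : ℤ) (d : Fin (n+1) → ℤ) (D : ℤ)
  (β : Basis (Fin (n+1)) ℤ (Fin (n+1) → ℤ))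

/-- the generating set -/
def Sset : Set ((Fin (n+1) → ℤ) →+ ZMod δ) :=
  {φ | ∃ b : LinearMap.BilinForm ℤ (Fin (n+1) → ℤ), b.IsSymm ∧
      ∀ x, φ x = ((b d x + (1 - g) * b x x : ℤ) : ZMod δ)}

noncomputable def bform (p q : ℤ) (i : Fin (n+1)) : LinearMap.BilinForm ℤ (Fin (n+1) → ℤ) :=
  LinearMap.mk₂ ℤ (fun x y => p * (β.coord i x * β.coord i y) +
      q * (β.coord 0 x * β.coord i y + β.coord i x * β.coord 0 y))
    (by intro x x' y; simp only [map_add]; ring)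
    (by intro c x y; simp only [map_smul, smul_eq_mul]; ring)
    (by intro x y y'; simp only [map_add]; ring)
    (by intro c x y; simp only [map_smul, smul_eq_mul]; ring)

theorem bform_apply (p q : ℤ) (i : Fin (n+1)) (x y : Fin (n+1) → ℤ) :
    bform β p q i x y = p * (β.coord i x * β.coord i y) +
      q * (β.coord 0 x * β.coord i y + β.coord i x * β.coord 0 y) := rfl

theorem bform_symm (p q : ℤ) (i : Fin (n+1)) : (bform β p q i).IsSymm :=
  ⟨fun x y => by rw [bform_apply, bform_apply]; ring⟩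

noncomputable def coordHom (j : Fin (n+1)) : (Fin (n+1) → ℤ) →+ ZMod δ :=
  (Int.castAddHom (ZMod δ)).comp (β.coord j).toAddMonoidHom

theorem coordHom_apply (j : Fin (n+1)) (x : Fin (n+1) → ℤ) :
    coordHom δ β j x = ((β.coord j x : ℤ) : ZMod δ) := rfl

variable {d D β}

theorem coord_d (hβ : d = D • β 0) (k : Fin (n+1)) : β.coord k d = if k = 0 then D else 0 := by
  rw [hβ, map_smul, Basis.coord_apply, Basis.repr_self, smul_eq_mul]
  by_cases hk : k = 0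
  · subst hk; simp
  · rw [if_neg hk, Finsupp.single_eq_of_ne hk, mul_zero]

theorem chi0_mem (hδ : (δ : ℤ) ∣ 2 * (g - 1)) (hβ : d = D • β 0) :
    ((Int.gcd δ (D + 1 - g) : ℕ) : ℤ) • coordHom δ β 0 ∈ Sset δ g d := by
  refine ⟨bform β (Int.gcdB δ (D + 1 - g)) 0 0, bform_symm β _ _ _, fun x => ?_⟩
  obtain ⟨k, hk⟩ := Int.even_mul_pred_self (β.coord 0 x)
  obtain ⟨w, hw⟩ := hδ
  have hbez := Int.gcd_eq_gcd_ab (δ : ℤ) (D + 1 - g)
  rw [AddMonoidHom.smul_apply, coordHom_apply, zsmul_eq_mul, ← Int.cast_mul,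
    ZMod.intCast_eq_intCast_iff_dvd_sub, bform_apply, bform_apply, coord_d hβ, if_pos rfl]
  refine ⟨-(w * Int.gcdB δ (D + 1 - g) * k + Int.gcdA δ (D + 1 - g) * β.coord 0 x), ?_⟩
  linear_combination (-(β.coord 0 x)) * hbez + ((1 - g) * Int.gcdB δ (D + 1 - g)) * hk -
    (Int.gcdB δ (D + 1 - g) * k) * hw

theorem chi_succ_mem (hδ : (δ : ℤ) ∣ 2 * (g - 1)) (hβ : d = D • β 0) (i : Fin n) :
    ((Int.gcd δ (Int.gcd (g - 1) D) : ℕ) : ℤ) • coordHom δ β i.succ ∈ Sset δ g d := by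
  set γ : ℤ := ((Int.gcd (g - 1) D : ℕ) : ℤ) with hγ
  set u := Int.gcdA δ γ with hu
  set v := Int.gcdB δ γ with hv
  set u' := Int.gcdA (g - 1) D with hu'
  set v' := Int.gcdB (g - 1) D with hv'
  have hbez2 : ((Int.gcd δ γ : ℕ) : ℤ) = δ * u + γ * v := Int.gcd_eq_gcd_ab (δ : ℤ) γ
  have hbez3 : γ = (g - 1) * u' + D * v' := Int.gcd_eq_gcd_ab (g - 1) D
  refine ⟨bform β (-(v * u')) (v * v') i.succ, bform_symm β _ _ _, fun x => ?_⟩
  obtain ⟨k, hk⟩ := Int.even_mul_pred_self (β.coord i.succ x)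
  obtain ⟨w, hw⟩ := hδ
  rw [AddMonoidHom.smul_apply, coordHom_apply, zsmul_eq_mul, ← Int.cast_mul,
    ZMod.intCast_eq_intCast_iff_dvd_sub, bform_apply, bform_apply, coord_d hβ, coord_d hβ,
    if_pos rfl, if_neg (Fin.succ_ne_zero i)]
  refine ⟨w * (v * u' * k - v * v' * (β.coord 0 x * β.coord i.succ x)) - u * β.coord i.succ x, ?_⟩
  linear_combination (-(β.coord i.succ x)) * hbez2 - (v * β.coord i.succ x) * hbez3 +
    ((g - 1) * v * u') * hk + (v * u' * k - v * v' * (β.coord 0 x * β.coord i.succ x)) * hw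

end main

theorem hom_ext_basis {ι V A : Type*} [AddCommGroup V] [AddCommGroup A]
    (β : Basis ι ℤ V) (f f' : V →+ A) (h : ∀ i, f (β i) = f' (β i)) : f = f' := by
  have : f.toIntLinearMap = f'.toIntLinearMap := β.ext h
  ext x
  exact LinearMap.congr_fun this x

theorem castHom_eq_zero_iff {m δ : ℕ} (h : m ∣ δ) (x : ZMod δ) :
    ZMod.castHom h (ZMod m) x = 0 ↔ ∃ t : ℤ, x = (((m : ℤ) * t : ℤ) : ZMod δ) := by
  constructor
  · obtain ⟨z, rfl⟩ := ZMod.intCast_surjective x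
    intro hz
    rw [map_intCast] at hz
    obtain ⟨q, rfl⟩ := (CharP.intCast_eq_zero_iff (ZMod m) m z).1 hz
    exact ⟨q, rfl⟩
  · rintro ⟨t, rfl⟩
    rw [map_intCast]
    exact (CharP.intCast_eq_zero_iff (ZMod m) m _).2 (dvd_mul_right _ _)

section main

variable {n : ℕ} (δ : ℕ) (g : ℤ) (d : Fin (n+1) → ℤ) (D : ℤ)
  (β : Basis (Fin (n+1)) ℤ (Fin (n+1) → ℤ))

noncomputable def Psi (g₁ g₂ : ℕ) (h1 : g₁ ∣ δ) (h2 : g₂ ∣ δ) :
    ((Fin (n+1) → ℤ) →+ ZMod δ) →+ ZMod g₁ × (Fin n → ZMod g₂) where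
  toFun φ := (ZMod.castHom h1 (ZMod g₁) (φ (β 0)),
    fun i => ZMod.castHom h2 (ZMod g₂) (φ (β i.succ)))
  map_zero' := Prod.ext (map_zero _) (funext fun i => map_zero _)
  map_add' φ ψ := by
    refine Prod.ext ?_ ?_
    · exact map_add (ZMod.castHom h1 (ZMod g₁)) _ _
    · funext i
      exact map_add (ZMod.castHom h2 (ZMod g₂)) _ _

theorem mem_ker_Psi (g₁ g₂ : ℕ) (h1 : g₁ ∣ δ) (h2 : g₂ ∣ δ) (φ : (Fin (n+1) → ℤ) →+ ZMod δ) :
    φ ∈ (Psi δ β g₁ g₂ h1 h2).ker ↔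
      (∃ t : ℤ, φ (β 0) = (((g₁ : ℤ) * t : ℤ) : ZMod δ)) ∧
      ∀ i : Fin n, ∃ t : ℤ, φ (β i.succ) = (((g₂ : ℤ) * t : ℤ) : ZMod δ) := by
  rw [AddMonoidHom.mem_ker]
  constructor
  · intro h
    have ha := congrArg Prod.fst h
    have hb := congrArg Prod.snd h
    refine ⟨(castHom_eq_zero_iff h1 _).1 ha, fun i => (castHom_eq_zero_iff h2 _).1 (congrFun hb i)⟩
  · rintro ⟨ha, hb⟩
    refine Prod.ext ((castHom_eq_zero_iff h1 _).2 ha) ?_
    funext i
    exact (castHom_eq_zero_iff h2 _).2 (hb i)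

theorem Psi_surjective (g₁ g₂ : ℕ) (h1 : g₁ ∣ δ) (h2 : g₂ ∣ δ) :
    Function.Surjective (Psi δ β g₁ g₂ h1 h2) := by
  rintro ⟨a, c⟩
  obtain ⟨a', ha'⟩ := ZMod.ringHom_surjective (ZMod.castHom h1 (ZMod g₁)) a
  have hc : ∀ i, ∃ c', ZMod.castHom h2 (ZMod g₂) c' = c i :=
    fun i => ZMod.ringHom_surjective (ZMod.castHom h2 (ZMod g₂)) (c i)
  choose c' hc' using hc
  refine ⟨(β.constr ℤ (Fin.cons a' c' : Fin (n+1) → ZMod δ)).toAddMonoidHom, ?_⟩
  refine Prod.ext ?_ ?_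
  · show ZMod.castHom h1 (ZMod g₁) ((β.constr ℤ (Fin.cons a' c' : Fin (n+1) → ZMod δ)) (β 0)) = a
    rw [Basis.constr_basis, Fin.cons_zero, ha']
  · funext i
    show ZMod.castHom h2 (ZMod g₂)
      ((β.constr ℤ (Fin.cons a' c' : Fin (n+1) → ZMod δ)) (β i.succ)) = c i
    rw [Basis.constr_basis, Fin.cons_succ, hc']

variable {d D β}

theorem closure_eq_ker (hδ : (δ : ℤ) ∣ 2 * (g - 1)) (hβ : d = D • β 0)
    (h1 : Int.gcd δ (D + 1 - g) ∣ δ) (h2 : Int.gcd δ (Int.gcd (g - 1) D) ∣ δ) :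
    AddSubgroup.closure (Sset δ g d) =
      (Psi δ β (Int.gcd δ (D + 1 - g)) (Int.gcd δ (Int.gcd (g - 1) D)) h1 h2).ker := by
  apply le_antisymm
  · rw [AddSubgroup.closure_le]
    rintro φ ⟨b, -, hφ⟩
    rw [SetLike.mem_coe, mem_ker_Psi]
    have hd0 : b d = D • b (β 0) := by rw [hβ, map_smul]
    constructor
    · obtain ⟨q, hq⟩ : ((Int.gcd δ (D + 1 - g) : ℕ) : ℤ) ∣ D + 1 - g := Int.gcd_dvd_right _ _
      refine ⟨q * b (β 0) (β 0), ?_⟩
      rw [hφ, hd0, LinearMap.smul_apply, smul_eq_mul]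
      congr 1
      linear_combination (b (β 0) (β 0)) * hq
    · intro i
      obtain ⟨q1, hq1⟩ : ((Int.gcd δ (Int.gcd (g - 1) D) : ℕ) : ℤ) ∣ g - 1 :=
        (Int.gcd_dvd_right _ _).trans (Int.gcd_dvd_left _ _)
      obtain ⟨q2, hq2⟩ : ((Int.gcd δ (Int.gcd (g - 1) D) : ℕ) : ℤ) ∣ D :=
        (Int.gcd_dvd_right _ _).trans (Int.gcd_dvd_right _ _)
      refine ⟨q2 * b (β 0) (β i.succ) - q1 * b (β i.succ) (β i.succ), ?_⟩
      rw [hφ, hd0, LinearMap.smul_apply, smul_eq_mul]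
      congr 1
      linear_combination (b (β 0) (β i.succ)) * hq2 - (b (β i.succ) (β i.succ)) * hq1
  · intro φ hφ
    rw [mem_ker_Psi] at hφ
    obtain ⟨⟨m0, hm0⟩, hm⟩ := hφ
    choose m hm using hm
    have key : φ = m0 • (((Int.gcd δ (D + 1 - g) : ℕ) : ℤ) • coordHom δ β 0) +
        ∑ i : Fin n, m i • (((Int.gcd δ (Int.gcd (g - 1) D) : ℕ) : ℤ) • coordHom δ β i.succ) := by
      apply hom_ext_basis β
      intro j
      refine Fin.cases ?_ (fun k => ?_) j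
      · rw [hm0]
        simp only [AddMonoidHom.add_apply, AddMonoidHom.smul_apply, AddMonoidHom.finsetSum_apply,
          coordHom_apply, Basis.coord_apply, Basis.repr_self, Finsupp.single_eq_same]
        rw [Finset.sum_eq_zero]
        · push_cast; simp only [zsmul_eq_mul]; push_cast; ring
        · intro i _
          rw [Finsupp.single_eq_of_ne (Fin.succ_ne_zero i)]
          simp
      · rw [hm k]
        simp only [AddMonoidHom.add_apply, AddMonoidHom.smul_apply, AddMonoidHom.finsetSum_apply,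
          coordHom_apply, Basis.coord_apply, Basis.repr_self]
        rw [Finsupp.single_eq_of_ne (Fin.succ_ne_zero k).symm, Finset.sum_eq_single k]
        · rw [Finsupp.single_eq_same]
          push_cast; simp only [zsmul_eq_mul]; push_cast; ring
        · intro i _ hik
          rw [Finsupp.single_eq_of_ne (fun h => hik (Fin.succ_injective _ h))]
          simp
        · intro h; exact absurd (Finset.mem_univ _) h
    rw [key]
    refine AddSubgroup.add_mem _ (AddSubgroup.zsmul_mem _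
      (AddSubgroup.subset_closure (chi0_mem δ g hδ hβ)) _) (AddSubgroup.sum_mem _ fun i _ =>
      AddSubgroup.zsmul_mem _ (AddSubgroup.subset_closure (chi_succ_mem δ g hδ hβ i)) _)

theorem quot_equiv (hδ : (δ : ℤ) ∣ 2 * (g - 1)) (hβ : d = D • β 0) :
    Nonempty ((((Fin (n+1) → ℤ) →+ ZMod δ) ⧸ AddSubgroup.closure (Sset δ g d)) ≃+
      (ZMod (Int.gcd δ (D + 1 - g)) × (Fin n → ZMod (Int.gcd δ (Int.gcd (g - 1) D))))) := by
  have h1 : Int.gcd δ (D + 1 - g) ∣ δ :=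
    Int.natCast_dvd_natCast.1 (Int.gcd_dvd_left _ _)
  have h2 : Int.gcd δ (Int.gcd (g - 1) D) ∣ δ :=
    Int.natCast_dvd_natCast.1 (Int.gcd_dvd_left _ _)
  exact ⟨(QuotientAddGroup.quotientAddEquivOfEq (closure_eq_ker δ g hδ hβ h1 h2)).trans
    (QuotientAddGroup.quotientKerEquivOfSurjective _ (Psi_surjective δ β _ _ h1 h2))⟩

end main

/-- multiplication by `g` as a map `ZMod (δ / g) →+ ZMod δ` -/
noncomputable def mulHom (δ g : ℕ) (hg : g ∣ δ) : ZMod (δ / g) →+ ZMod δ :=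
  ZMod.lift (δ / g) ⟨(AddMonoidHom.mulLeft ((g : ZMod δ))).comp (Int.castAddHom (ZMod δ)), by
    show (g : ZMod δ) * ((((δ / g : ℕ) : ℤ)) : ZMod δ) = 0
    rw [Int.cast_natCast, ← Nat.cast_mul, Nat.mul_div_cancel' hg, ZMod.natCast_self]⟩

theorem mulHom_intCast (δ g : ℕ) (hg : g ∣ δ) (t : ℤ) :
    mulHom δ g hg (t : ZMod (δ / g)) = (((g : ℤ) * t : ℤ) : ZMod δ) := by
  unfold mulHom
  rw [ZMod.lift_coe]
  show (g : ZMod δ) * ((t : ℤ) : ZMod δ) = _
  push_cast; rfl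

theorem mulHom_injective (δ g : ℕ) (hδ0 : 0 < δ) (hg : g ∣ δ) :
    Function.Injective (mulHom δ g hg) := by
  rw [injective_iff_map_eq_zero]
  intro a ha
  obtain ⟨t, rfl⟩ := ZMod.intCast_surjective a
  rw [mulHom_intCast, CharP.intCast_eq_zero_iff (ZMod δ) δ] at ha
  rw [CharP.intCast_eq_zero_iff (ZMod (δ / g)) (δ / g)]
  have hg0 : (g : ℤ) ≠ 0 := by
    intro h
    have : g = 0 := by exact_mod_cast h
    subst this
    rw [zero_dvd_iff] at hg
    omega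
  have hδg : (δ : ℤ) = (g : ℤ) * ((δ / g : ℕ) : ℤ) := by
    rw [← Nat.cast_mul, Nat.mul_div_cancel' hg]
  rw [hδg] at ha
  exact (mul_dvd_mul_iff_left hg0).1 ha

section main

variable {n : ℕ} (δ : ℕ) (g : ℤ) (d : Fin (n+1) → ℤ) (D : ℤ)
  (β : Basis (Fin (n+1)) ℤ (Fin (n+1) → ℤ))

noncomputable def Phi {k₁ k₂ : ℕ} (ι₁ : ZMod k₁ →+ ZMod δ) (ι₂ : ZMod k₂ →+ ZMod δ) :
    ZMod k₁ × (Fin n → ZMod k₂) →+ ((Fin (n+1) → ℤ) →+ ZMod δ) where
  toFun p := (β.constr ℤ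
    (Fin.cons (ι₁ p.1) (fun i => ι₂ (p.2 i)) : Fin (n+1) → ZMod δ)).toAddMonoidHom
  map_zero' := by
    apply hom_ext_basis β
    intro j
    simp only [AddMonoidHom.zero_apply, LinearMap.toAddMonoidHom_coe, Basis.constr_basis]
    refine Fin.cases ?_ (fun i => ?_) j <;> simp
  map_add' p q := by
    apply hom_ext_basis β
    intro j
    simp only [AddMonoidHom.add_apply, LinearMap.toAddMonoidHom_coe, Basis.constr_basis]
    refine Fin.cases ?_ (fun i => ?_) j <;> simp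

theorem Phi_apply_basis {k₁ k₂ : ℕ} (ι₁ : ZMod k₁ →+ ZMod δ) (ι₂ : ZMod k₂ →+ ZMod δ)
    (p : ZMod k₁ × (Fin n → ZMod k₂)) (j : Fin (n+1)) :
    Phi δ β ι₁ ι₂ p (β j) = (Fin.cons (ι₁ p.1) (fun i => ι₂ (p.2 i)) : Fin (n+1) → ZMod δ) j := by
  show (β.constr ℤ _) (β j) = _
  rw [Basis.constr_basis]

theorem Phi_injective {k₁ k₂ : ℕ} (ι₁ : ZMod k₁ →+ ZMod δ) (ι₂ : ZMod k₂ →+ ZMod δ)
    (h₁ : Function.Injective ι₁) (h₂ : Function.Injective ι₂) :
    Function.Injective (Phi δ β ι₁ ι₂) := by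
  rw [injective_iff_map_eq_zero]
  rintro ⟨a, c⟩ hp
  have h0 := Phi_apply_basis δ β ι₁ ι₂ (a, c) 0
  rw [hp, Fin.cons_zero, AddMonoidHom.zero_apply] at h0
  have ha : a = 0 := h₁ (by rw [← h0, map_zero])
  have hc : c = 0 := by
    funext i
    have hi := Phi_apply_basis δ β ι₁ ι₂ (a, c) i.succ
    rw [hp, Fin.cons_succ, AddMonoidHom.zero_apply] at hi
    exact h₂ (by rw [← hi]; simp)
  rw [ha, hc]; rfl

theorem range_Phi_eq_ker (g₁ g₂ : ℕ) (h1 : g₁ ∣ δ) (h2 : g₂ ∣ δ) :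
    (Phi δ β (mulHom δ g₁ h1) (mulHom δ g₂ h2)).range = (Psi δ β g₁ g₂ h1 h2).ker := by
  ext φ
  rw [mem_ker_Psi, AddMonoidHom.mem_range]
  constructor
  · rintro ⟨⟨a, c⟩, rfl⟩
    refine ⟨?_, fun i => ?_⟩
    · obtain ⟨t, rfl⟩ := ZMod.intCast_surjective a
      exact ⟨t, by rw [Phi_apply_basis, Fin.cons_zero, mulHom_intCast]⟩
    · obtain ⟨t, ht⟩ := ZMod.intCast_surjective (c i)
      refine ⟨t, ?_⟩
      rw [Phi_apply_basis, Fin.cons_succ]
      show mulHom δ g₂ h2 (c i) = _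
      rw [← ht, mulHom_intCast]
  · rintro ⟨⟨t0, h0⟩, h⟩
    choose t ht using h
    refine ⟨((t0 : ZMod (δ / g₁)), fun i => (t i : ZMod (δ / g₂))), ?_⟩
    apply hom_ext_basis β
    intro j
    rw [Phi_apply_basis]
    refine Fin.cases ?_ (fun i => ?_) j
    · rw [Fin.cons_zero, mulHom_intCast, h0]
    · rw [Fin.cons_succ, mulHom_intCast, ht]

variable {d D β}

theorem closure_equiv (hδ0 : 0 < δ) (hδ : (δ : ℤ) ∣ 2 * (g - 1)) (hβ : d = D • β 0) :
    Nonempty (AddSubgroup.closure (Sset δ g d) ≃+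
      (ZMod (δ / Int.gcd δ (D + 1 - g)) ×
        (Fin n → ZMod (δ / Int.gcd δ (Int.gcd (g - 1) D))))) := by
  have h1 : Int.gcd δ (D + 1 - g) ∣ δ :=
    Int.natCast_dvd_natCast.1 (Int.gcd_dvd_left _ _)
  have h2 : Int.gcd δ (Int.gcd (g - 1) D) ∣ δ :=
    Int.natCast_dvd_natCast.1 (Int.gcd_dvd_left _ _)
  have hcl : AddSubgroup.closure (Sset δ g d) =
      (Phi δ β (mulHom δ _ h1) (mulHom δ _ h2)).range := by
    rw [range_Phi_eq_ker, closure_eq_ker δ g hδ hβ h1 h2]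
  exact ⟨(AddEquiv.addSubgroupCongr hcl).trans (AddMonoidHom.ofInjective
    (Phi_injective δ β _ _ (mulHom_injective δ _ hδ0 h1) (mulHom_injective δ _ hδ0 h2))).symm⟩

end main

end Groth.Agent.H64.BunLat
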