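import Mathlib

/-!
# (P3a) for helper58's S1720 squad: colon ideals commute with flat base change
-/

set_option autoImplicit false

universe u

namespace Groth.Agent.H64.CD_P3a

open TensorProduct

theorem tmul_mk_one_eq_zero (A B : Type u) [CommRing A] [CommRing B] [Algebra A B]
    (J : Ideal A) (y : B) (hy : y ∈ J.map (algebraMap A B)) :
    y ⊗ₜ[A] (Ideal.Quotient.mk J 1 : A ⧸ J) = 0 := by
  rw [Ideal.map] at hy
  refine Submodule.span_induction ?_ ?_ ?_ ?_ hy
  · rintro _ ⟨j, hj, rfl⟩
    rw [Algebra.algebraMap_eq_smul_one, TensorProduct.smul_tmul]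
    have : j • (Ideal.Quotient.mk J 1 : A ⧸ J) = 0 := by
      rw [← Ideal.Quotient.mk_eq_mk, ← Submodule.Quotient.mk_smul, smul_eq_mul, mul_one]
      exact (Submodule.Quotient.mk_eq_zero _).mpr hj
    rw [this, tmul_zero]
  · exact zero_tmul _ _
  · intro u v _ _ hu hv
    rw [add_tmul, hu, hv, add_zero]
  · intro c u _ hu
    rw [← TensorProduct.smul_tmul', hu, smul_zero]

theorem mem_map_of_forall_mul_mem_map (A B : Type u) [CommRing A] [CommRing B] [Algebra A B]
    [Module.Flat A B] [IsNoetherianRing A] (J K L : Ideal A)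
    (hcolon : ∀ a : A, (∀ b ∈ K, b * a ∈ J) → a ∈ L) (x : B)
    (hx : ∀ b ∈ K.map (algebraMap A B), b * x ∈ J.map (algebraMap A B)) :
    x ∈ L.map (algebraMap A B) := by
  classical
  obtain ⟨S, hS⟩ := (isNoetherianRing_iff_ideal_fg A).mp inferInstance K
  let g : A →ₗ[A] (S → A ⧸ J) :=
    LinearMap.pi (fun i => (Submodule.mkQ J) ∘ₗ (LinearMap.mulLeft A (i : A)))
  have hg : ∀ a, g a = fun i : S => Ideal.Quotient.mk J ((i : A) * a) := fun a => rfl
  have hker : ∀ a ∈ LinearMap.ker g, a ∈ L := by
    intro a ha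
    apply hcolon
    intro b hb
    rw [← hS] at hb
    refine Submodule.span_induction ?_ ?_ ?_ ?_ hb
    · intro r hr
      have := congrFun (LinearMap.mem_ker.mp ha) ⟨r, hr⟩
      rw [hg] at this
      exact Ideal.Quotient.eq_zero_iff_mem.mp this
    · simp
    · intro u v _ _ hu hv
      rw [add_mul]
      exact J.add_mem hu hv
    · intro c u _ hu
      rw [smul_eq_mul, mul_assoc]
      exact J.mul_mem_left c hu
  have hex : Function.Exact (LinearMap.ker g).subtype g := LinearMap.exact_subtype_ker_map g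
  have hexB := Module.Flat.lTensor_exact B hex
  have hz : (g.lTensor B) (x ⊗ₜ[A] (1 : A)) = 0 := by
    apply (TensorProduct.piRight A A B (fun _ : S => A ⧸ J)).injective
    rw [map_zero, LinearMap.lTensor_tmul, TensorProduct.piRight_apply,
      TensorProduct.piRightHom_tmul]
    funext i
    rw [hg]
    show x ⊗ₜ[A] (Ideal.Quotient.mk J ((i : A) * 1)) = 0
    have h1 : (Ideal.Quotient.mk J ((i : A) * 1) : A ⧸ J)
        = (i : A) • (Ideal.Quotient.mk J 1 : A ⧸ J) := by
      rw [← Ideal.Quotient.mk_eq_mk, ← Ideal.Quotient.mk_eq_mk, ← Submodule.Quotient.mk_smul,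
        smul_eq_mul]
    rw [h1, ← TensorProduct.smul_tmul, Algebra.smul_def]
    apply tmul_mk_one_eq_zero
    apply hx
    apply Ideal.mem_map_of_mem
    rw [← hS]
    exact Ideal.subset_span i.2
  obtain ⟨w, hw⟩ := (hexB _).mp hz
  have key : ∀ w : B ⊗[A] (LinearMap.ker g),
      (TensorProduct.rid A B) ((LinearMap.ker g).subtype.lTensor B w)
        ∈ L.map (algebraMap A B) := by
    intro w
    induction w using TensorProduct.induction_on with
    | zero => simp
    | tmul b a =>
      rw [LinearMap.lTensor_tmul, TensorProduct.rid_tmul, Submodule.subtype_apply,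
        Algebra.smul_def]
      exact Ideal.mul_mem_right _ _ (Ideal.mem_map_of_mem _ (hker _ a.2))
    | add u v hu hv =>
      rw [map_add, map_add]
      exact Ideal.add_mem _ hu hv
  have := key w
  rw [hw, TensorProduct.rid_tmul, one_smul] at this
  exact this

end Groth.Agent.H64.CD_P3a
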