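import Mathlib

/-!
# A "leaf" lemma for Cartan matrices of bases of crystallographic root pairings

For a base `b` of a finite crystallographic root pairing and a nonempty subset `S` of its support
there is `i ∈ S` whose Cartan row sum over `S` is positive.  This is a consequence of the
positive definiteness of the canonical bilinear form on the coroot lattice.  We deduce that a
system of equations `a_ij x_i - a_ji x_j = e_ij` with antisymmetric right hand side vanishing on
orthogonal pairs has an integral solution.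
-/

namespace Groth.Agent.H64.CartanLeaf

open Set Function

variable {ι : Type*} {R : Type*} {M : Type*} {N : Type*} [CommRing R] [IsDomain R] [CharZero R]
    [AddCommGroup M] [Module R M] [AddCommGroup N] [Module R N]

omit [IsDomain R] in
theorem pairingIn_flip' (P : RootPairing ι R M N) [P.IsCrystallographic] (i j : ι) :
    P.flip.pairingIn ℤ i j = P.pairingIn ℤ j i := by
  apply FaithfulSMul.algebraMap_injective ℤ R
  rw [RootPairing.algebraMap_pairingIn, RootPairing.algebraMap_pairingIn, RootPairing.pairing_flip]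

/-- column-sum version, from positivity of the root form on the root lattice. -/
theorem exists_colsum_pos (P : RootPairing ι R M N) [Fintype ι] [P.IsCrystallographic]
    (b : P.Base) (S : Finset ι) (hS : S ⊆ b.support) (hne : S.Nonempty) :
    ∃ j ∈ S, 0 < ∑ i ∈ S, P.pairingIn ℤ i j := by
  classical
  by_contra! hcon
  have hδ0 : (∑ i ∈ S, P.rootSpanMem ℤ i) ≠ 0 := by
    intro h
    have h1 : ((∑ i ∈ S, P.rootSpanMem ℤ i : P.rootSpan ℤ) : M) = 0 := by rw [h]; rfl
    rw [Submodule.coe_sum] at h1
    have h2 : ∑ i ∈ b.support, (if i ∈ S then (1:R) else 0) • P.root i = ∑ i ∈ S, P.root i := by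
      rw [← Finset.sum_subset hS (fun i _ hi => by simp [hi])]
      exact Finset.sum_congr rfl (fun i hi => by simp [hi])
    have hli := linearIndepOn_finset_iff.mp b.linearIndepOn_root
      (fun i => if i ∈ S then (1:R) else 0) (h2.trans h1)
    obtain ⟨i, hi⟩ := hne
    have := hli i (hS hi)
    simp [hi] at this
  have hpos := P.posRootForm_posForm_pos_of_ne_zero ℤ hδ0
  have key : ∀ i j, 2 * (P.posRootForm ℤ).posForm (P.rootSpanMem ℤ i) (P.rootSpanMem ℤ j) =
      P.pairingIn ℤ i j * (P.posRootForm ℤ).rootLength j := by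
    intro i j
    apply FaithfulSMul.algebraMap_injective ℤ R
    have h := (P.posRootForm ℤ).toInvariantForm.two_mul_apply_root_root i j
    rw [map_mul, map_mul, map_ofNat, RootPairing.RootPositiveForm.algebraMap_posForm,
      RootPairing.RootPositiveForm.algebraMap_rootLength, RootPairing.algebraMap_pairingIn]
    exact h
  have h2 : 2 * (P.posRootForm ℤ).posForm (∑ i ∈ S, P.rootSpanMem ℤ i)
      (∑ i ∈ S, P.rootSpanMem ℤ i) =
      ∑ j ∈ S, (∑ i ∈ S, P.pairingIn ℤ i j) * (P.posRootForm ℤ).rootLength j := by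
    simp only [map_sum, LinearMap.sum_apply, Finset.mul_sum, key, Finset.sum_mul]
  have h3 : 2 * (P.posRootForm ℤ).posForm (∑ i ∈ S, P.rootSpanMem ℤ i)
      (∑ i ∈ S, P.rootSpanMem ℤ i) ≤ 0 := by
    rw [h2]
    exact Finset.sum_nonpos (fun j hj => mul_nonpos_iff.mpr
      (Or.inr ⟨hcon j hj, ((P.posRootForm ℤ).rootLength_pos j).le⟩))
  linarith

/-- row-sum version. -/
theorem exists_rowsum_pos (P : RootPairing ι R M N) [Finite ι] [P.IsCrystallographic]
    (b : P.Base) (S : Finset ι) (hS : S ⊆ b.support) (hne : S.Nonempty) :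
    ∃ i ∈ S, 0 < ∑ j ∈ S, P.pairingIn ℤ i j := by
  have : Fintype ι := Fintype.ofFinite ι
  obtain ⟨i, hi, h⟩ := exists_colsum_pos P.flip b.flip S (by simpa using hS) hne
  refine ⟨i, hi, ?_⟩
  simpa only [pairingIn_flip'] using h

theorem exists_diag (P : RootPairing ι R M N) [Finite ι] [P.IsCrystallographic] (b : P.Base)
    (e : ι → ι → ℤ) (hanti : ∀ i j, e j i = - e i j)
    (he : ∀ i ∈ b.support, ∀ j ∈ b.support, i ≠ j → P.pairingIn ℤ i j = 0 → e i j = 0) :
    ∀ n : ℕ, ∀ S : Finset ι, S.card = n → S ⊆ b.support →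
      ∃ x : ι → ℤ, ∀ i ∈ S, ∀ j ∈ S, i ≠ j →
        P.pairingIn ℤ i j * x i - P.pairingIn ℤ j i * x j = e i j := by
  classical
  have hz : ∀ i ∈ b.support, ∀ j ∈ b.support, i ≠ j → P.pairingIn ℤ i j = 0 →
      P.pairingIn ℤ j i = 0 := by
    intro i hi j hj hij h
    have h1 := b.pairingIn_le_zero_of_ne hij.symm hj hi
    have h2 : ¬ P.pairingIn ℤ j i < 0 := by
      rw [P.pairingIn_lt_zero_iff ℤ, h]
      exact lt_irrefl 0
    omega
  intro n
  induction n with
  | zero =>
    intro S hS _
    rw [Finset.card_eq_zero] at hS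
    subst hS
    exact ⟨fun _ => 0, fun i hi => absurd hi (Finset.notMem_empty i)⟩
  | succ n ih =>
    intro S hcard hS
    have hne : S.Nonempty := by
      rw [← Finset.card_pos]; omega
    obtain ⟨i, hi, hsum⟩ := exists_rowsum_pos P b S hS hne
    have hTcard : (S.erase i).card = n := by
      rw [Finset.card_erase_of_mem hi, hcard]; rfl
    have hTS : S.erase i ⊆ b.support := (Finset.erase_subset i S).trans hS
    obtain ⟨x', hx'⟩ := ih (S.erase i) hTcard hTS
    have hib : i ∈ b.support := hS hi
    have hnonpos : ∀ j ∈ S.erase i, P.pairingIn ℤ i j ≤ 0 := by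
      intro j hj
      exact b.pairingIn_le_zero_of_ne (Finset.ne_of_mem_erase hj).symm hib (hTS hj)
    have hsum' : 0 < 2 + ∑ j ∈ S.erase i, P.pairingIn ℤ i j := by
      have := Finset.add_sum_erase S (fun j => P.pairingIn ℤ i j) hi
      rw [P.pairingIn_same ℤ i] at this
      rw [this]; exact hsum
    obtain ⟨v, hv⟩ : ∃ v : ℤ, ∀ j ∈ S.erase i,
        P.pairingIn ℤ i j * v - P.pairingIn ℤ j i * x' j = e i j := by
      by_cases hall : ∀ j ∈ S.erase i, P.pairingIn ℤ i j = 0
      · refine ⟨0, fun j hj => ?_⟩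
        have hij : i ≠ j := (Finset.ne_of_mem_erase hj).symm
        rw [hall j hj, hz i hib j (hTS hj) hij (hall j hj), he i hib j (hTS hj) hij (hall j hj)]
        ring
      · push Not at hall
        obtain ⟨j0, hj0, hj0ne⟩ := hall
        have hsplit := Finset.add_sum_erase (S.erase i) (fun j => P.pairingIn ℤ i j) hj0
        have hrest : ∑ k ∈ (S.erase i).erase j0, P.pairingIn ℤ i k ≤ 0 :=
          Finset.sum_nonpos (fun k hk => hnonpos k (Finset.mem_of_mem_erase hk))
        have hj0le := hnonpos j0 hj0
        have hA : P.pairingIn ℤ i j0 = -1 := by omega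
        have hr : ∑ k ∈ (S.erase i).erase j0, P.pairingIn ℤ i k = 0 := by omega
        have hzero : ∀ k ∈ (S.erase i).erase j0, P.pairingIn ℤ i k = 0 :=
          (Finset.sum_eq_zero_iff_of_nonpos
            (fun k hk => hnonpos k (Finset.mem_of_mem_erase hk))).mp hr
        refine ⟨-(e i j0 + P.pairingIn ℤ j0 i * x' j0), fun j hj => ?_⟩
        by_cases hjj : j = j0
        · subst hjj
          rw [hA]; ring
        · have hij : i ≠ j := (Finset.ne_of_mem_erase hj).symm
          have h0 := hzero j (Finset.mem_erase.mpr ⟨hjj, hj⟩)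
          rw [h0, hz i hib j (hTS hj) hij h0, he i hib j (hTS hj) hij h0]
          ring
    refine ⟨Function.update x' i v, ?_⟩
    intro p hp q hq hpq
    by_cases hpi : p = i
    · subst hpi
      have hqp : q ≠ p := fun h => hpq h.symm
      rw [Function.update_self, Function.update_of_ne hqp]
      exact hv q (Finset.mem_erase.mpr ⟨hqp, hq⟩)
    · by_cases hqi : q = i
      · subst hqi
        rw [Function.update_self, Function.update_of_ne hpi]
        have := hv p (Finset.mem_erase.mpr ⟨hpi, hp⟩)
        rw [hanti q p]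
        linarith
      · rw [Function.update_of_ne hpi, Function.update_of_ne hqi]
        exact hx' p (Finset.mem_erase.mpr ⟨hpi, hp⟩) q (Finset.mem_erase.mpr ⟨hqi, hq⟩) hpq

end Groth.Agent.H64.CartanLeaf
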