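import Mathlib

/-!
# Characteristic polynomial of `(A - 1)^2`, scaling of characteristic polynomials, and an
`ℓ`-adic divisibility criterion.  Helper material for S18600.
-/

namespace Groth.Agent.H64.CharpolySq

open Polynomial

variable {R : Type*} [CommRing R] [IsDomain R] [Infinite R]

theorem scalar_eq_algebraMap (g : ℕ) (t : R) :
    Matrix.scalar (Fin g) t = algebraMap R (Matrix (Fin g) (Fin g) R) t := rfl

/-- `(-1)^g χ_A(1+X) χ_A(1-X) = χ_{(A-1)^2}(X^2)`. -/
theorem charpoly_sub_one_sq (g : ℕ) (A : Matrix (Fin g) (Fin g) R) :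
    C ((-1 : R) ^ g) * (A.charpoly.comp (1 + X)) * (A.charpoly.comp (1 - X)) =
      expand R 2 ((A - 1) ^ 2).charpoly := by
  apply Polynomial.funext
  intro t
  rw [expand_eval, eval_mul, eval_mul, eval_C, eval_comp, eval_comp, Matrix.eval_charpoly,
    Matrix.eval_charpoly, Matrix.eval_charpoly]
  simp only [eval_add, eval_sub, eval_one, eval_X]
  have hc : algebraMap R (Matrix (Fin g) (Fin g) R) t * A =
      A * algebraMap R (Matrix (Fin g) (Fin g) R) t := Algebra.commutes t A
  have hmat : Matrix.scalar (Fin g) (t ^ 2) - (A - 1) ^ 2 =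
      (Matrix.scalar (Fin g) (1 + t) - A) * (-(Matrix.scalar (Fin g) (1 - t) - A)) := by
    rw [scalar_eq_algebraMap, scalar_eq_algebraMap, scalar_eq_algebraMap, map_pow, map_add,
      map_sub, map_one]
    have h1 : (1 + algebraMap R (Matrix (Fin g) (Fin g) R) t - A) *
        (-(1 - algebraMap R (Matrix (Fin g) (Fin g) R) t - A)) =
        algebraMap R (Matrix (Fin g) (Fin g) R) t ^ 2 +
          (algebraMap R (Matrix (Fin g) (Fin g) R) t * A -
            A * algebraMap R (Matrix (Fin g) (Fin g) R) t) - (A - 1) ^ 2 := by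
      noncomm_ring
    rw [h1, hc, sub_self, add_zero]
  rw [hmat, Matrix.det_mul, Matrix.det_neg, Fintype.card_fin]
  ring

/-- Scaling: the `k`-th coefficient of `χ_{cB}` is `c^(g-k)` times that of `χ_B`. -/
theorem charpoly_smul_coeff (g : ℕ) (c : R) (hc : c ≠ 0) (B : Matrix (Fin g) (Fin g) R)
    (k : ℕ) (hk : k ≤ g) :
    (c • B).charpoly.coeff k = c ^ (g - k) * B.charpoly.coeff k := by
  have hpoly : (c • B).charpoly.comp (C c * X) = C (c ^ g) * B.charpoly := by
    apply Polynomial.funext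
    intro t
    rw [eval_comp, eval_mul, eval_C, eval_mul, eval_C, eval_X, Matrix.eval_charpoly,
      Matrix.eval_charpoly]
    have hmat : Matrix.scalar (Fin g) (c * t) - c • B = c • (Matrix.scalar (Fin g) t - B) := by
      rw [scalar_eq_algebraMap, scalar_eq_algebraMap, map_mul, Algebra.smul_def c B, ← mul_sub,
        ← Algebra.smul_def]
    rw [hmat, Matrix.det_smul, Fintype.card_fin]
  have h1 := congrArg (fun p => p.coeff k) hpoly
  simp only [comp_C_mul_X_coeff, coeff_C_mul] at h1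
  have h2 : c ^ g = c ^ k * c ^ (g - k) := by rw [← pow_add, Nat.add_sub_cancel' hk]
  rw [h2] at h1
  have h3 : c ^ k * (c • B).charpoly.coeff k = c ^ k * (c ^ (g - k) * B.charpoly.coeff k) := by
    rw [← mul_assoc, ← h1, mul_comm]
  exact mul_left_cancel₀ (pow_ne_zero k hc) h3

/-- An integer divisible by `N` in every `ℤ_ℓ`, `ℓ ∣ N`, is divisible by `N`. -/
theorem dvd_of_forall_padic_dvd : ∀ (N : ℕ), 0 < N → ∀ a : ℤ,
    (∀ (ℓ : ℕ) [Fact ℓ.Prime], ℓ ∣ N → ((N : ℤ_[ℓ])) ∣ (a : ℤ_[ℓ])) → (N : ℤ) ∣ a := by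
  intro N
  induction N using Nat.strong_induction_on with
  | _ N ih =>
    intro hN a h
    rcases Nat.lt_or_ge N 2 with h2 | h2
    · have : N = 1 := by omega
      subst this
      simp
    · obtain ⟨ℓ, hℓ, hℓN⟩ := Nat.exists_prime_and_dvd (show N ≠ 1 by omega)
      haveI : Fact ℓ.Prime := ⟨hℓ⟩
      obtain ⟨M, rfl⟩ := hℓN
      have hM : 0 < M := Nat.pos_of_ne_zero (by rintro rfl; simp at hN)
      -- ℓ ∣ a
      have h1 : ((ℓ : ℤ_[ℓ])) ∣ (a : ℤ_[ℓ]) := by
        have := h ℓ (Dvd.intro M rfl)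
        refine Dvd.dvd.trans ?_ this
        push_cast
        exact Dvd.intro _ rfl
      have h2' : ((ℓ : ℤ) ^ 1) ∣ a := by
        apply (PadicInt.pow_p_dvd_int_iff (p := ℓ) 1 a).mp
        rw [pow_one]; exact h1
      rw [pow_one] at h2'
      obtain ⟨a₁, rfl⟩ := h2'
      have hMlt : M < ℓ * M := by
        have := hℓ.two_le
        nlinarith
      have hih := ih M hMlt hM a₁ (by
        intro ℓ' _ hℓ'M
        have h3 := h ℓ' (Dvd.dvd.mul_left hℓ'M ℓ)
        push_cast at h3
        have hne : ((ℓ : ℤ_[ℓ'])) ≠ 0 := by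
          exact_mod_cast hℓ.ne_zero
        exact (mul_dvd_mul_iff_left hne).mp h3)
      push_cast
      exact mul_dvd_mul_left _ hih

end Groth.Agent.H64.CharpolySq
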