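import Mathlib

namespace Groth.Agent.H64.Conic

open MvPolynomial

variable {k : Type*} [Field k]

/-- the linear form with coefficient vector `a` -/
noncomputable def L (a : Fin 3 → k) : MvPolynomial (Fin 3) k := ∑ i : Fin 3, a i • X i

/-- the quadratic form with matrix `Q` -/
noncomputable def qf (Q : Matrix (Fin 3) (Fin 3) k) : MvPolynomial (Fin 3) k :=
  ∑ i : Fin 3, ∑ j : Fin 3, Q i j • (X i * X j)

theorem pderiv_L (a : Fin 3 → k) (i : Fin 3) : pderiv i (L a) = C (a i) := by
  unfold L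
  rw [map_sum, Finset.sum_eq_single i]
  · rw [Derivation.map_smul, pderiv_X_self, smul_eq_C_mul, mul_one]
  · intro j _ hj
    rw [Derivation.map_smul, pderiv_X_of_ne hj, smul_zero]
  · intro h; exact absurd (Finset.mem_univ _) h

theorem pderiv_aff (c : k) (a : Fin 3 → k) (i : Fin 3) : pderiv i (C c + L a) = C (a i) := by
  rw [map_add, pderiv_C, zero_add, pderiv_L]

theorem pderiv2_mul (c d : k) (a b : Fin 3 → k) (i j : Fin 3) :
    pderiv j (pderiv i ((C c + L a) * (C d + L b))) = C (a i * b j + a j * b i) := by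
  rw [pderiv_mul, pderiv_aff, pderiv_aff, map_add, pderiv_mul, pderiv_mul, pderiv_aff, pderiv_aff,
    pderiv_C, pderiv_C, C_add, C_mul, C_mul]
  ring

theorem pderiv_qf (Q : Matrix (Fin 3) (Fin 3) k) (l : Fin 3) :
    pderiv l (qf Q) = L (fun j => Q l j + Q j l) := by
  unfold qf L
  simp only [Fin.sum_univ_three, smul_eq_C_mul, C_add]
  fin_cases l <;> simp <;> ring

theorem pderiv2_qf (Q : Matrix (Fin 3) (Fin 3) k) (l m : Fin 3) :
    pderiv m (pderiv l (qf Q)) = C (Q l m + Q m l) := by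
  rw [pderiv_qf, pderiv_L]

theorem eval_pderiv_qf (Q : Matrix (Fin 3) (Fin 3) k) (hQ : Q.IsSymm) (u : Fin 3 → k) (l : Fin 3) :
    eval u (pderiv l (qf Q)) = 2 * (Q.mulVec u) l := by
  rw [pderiv_qf]
  unfold L
  simp only [map_sum, smul_eq_C_mul, map_mul, eval_C, eval_X, Matrix.mulVec, dotProduct,
    Finset.mul_sum]
  refine Finset.sum_congr rfl fun j _ => ?_
  have : Q j l = Q l j := by
    have := congrFun (congrFun hQ.eq l) j
    simpa [Matrix.transpose_apply] using this
  rw [this]; ring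

/-- the matrix is determined by a factorization into affine linear forms -/
theorem rel_of_factor (Q : Matrix (Fin 3) (Fin 3) k) (hQ : Q.IsSymm) (c d : k) (a b : Fin 3 → k)
    (h : qf Q = (C c + L a) * (C d + L b)) (i j : Fin 3) :
    2 * Q i j = a i * b j + a j * b i := by
  have h1 := pderiv2_qf Q i j
  rw [h, pderiv2_mul] at h1
  have h2 := C_injective _ _ h1
  have : Q j i = Q i j := by
    have := congrFun (congrFun hQ.eq i) j
    simpa [Matrix.transpose_apply] using this
  rw [this] at h2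
  rw [two_mul]; exact h2.symm

theorem qf_eq_mul (h2 : (2 : k) ≠ 0) (Q : Matrix (Fin 3) (Fin 3) k) (a b : Fin 3 → k)
    (h : ∀ i j, 2 * Q i j = a i * b j + a j * b i) : qf Q = L a * L b := by
  have h2' : (2 : MvPolynomial (Fin 3) k) ≠ 0 := by
    have : (2 : MvPolynomial (Fin 3) k) = C 2 := (map_ofNat C 2).symm
    rw [this, Ne, C_eq_zero]; exact h2
  apply mul_left_cancel₀ h2'
  have hC : ∀ i j, (2 : MvPolynomial (Fin 3) k) * C (Q i j) =
      C (a i) * C (b j) + C (a j) * C (b i) := by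
    intro i j
    have : (2 : MvPolynomial (Fin 3) k) = C 2 := (map_ofNat C 2).symm
    rw [this, ← C_mul, ← C_mul, ← C_mul, ← C_add, h]
  unfold qf L
  simp only [Fin.sum_univ_three, smul_eq_C_mul]
  linear_combination (X 0 * X 0) * hC 0 0 + (X 0 * X 1) * hC 0 1 + (X 0 * X 2) * hC 0 2 +
    (X 1 * X 0) * hC 1 0 + (X 1 * X 1) * hC 1 1 + (X 1 * X 2) * hC 1 2 +
    (X 2 * X 0) * hC 2 0 + (X 2 * X 1) * hC 2 1 + (X 2 * X 2) * hC 2 2

theorem det_eq_zero_of_rel (h2 : (2 : k) ≠ 0) (Q : Matrix (Fin 3) (Fin 3) k) (a b : Fin 3 → k)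
    (h : ∀ i j, 2 * Q i j = a i * b j + a j * b i) : Q.det = 0 := by
  have hQ' : ∀ i j, Q i j = (a i * b j + a j * b i) / 2 := by
    intro i j
    rw [eq_div_iff h2, mul_comm]; exact h i j
  rw [Matrix.det_fin_three]
  simp only [hQ']
  ring

theorem rank_le_one_of_sq (Q : Matrix (Fin 3) (Fin 3) k) (c : Fin 3 → k)
    (h : ∀ i j, Q i j = c i * c j) : Q.rank ≤ 1 := by
  have : Q = Matrix.vecMulVec c c := by
    ext i j
    rw [h, Matrix.vecMulVec_apply]
  rw [this]
  exact Matrix.rank_vecMulVec_le c c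

theorem rank_ne_zero (Q : Matrix (Fin 3) (Fin 3) k) (hQ0 : Q ≠ 0) : Q.rank ≠ 0 := by
  intro h
  apply hQ0
  unfold Matrix.rank at h
  rw [Submodule.finrank_eq_zero, LinearMap.range_eq_bot] at h
  have h' : Matrix.toLin' Q = 0 := h
  exact (LinearEquiv.map_eq_zero_iff Matrix.toLin').1 h'

theorem mulVec_of_rel (h2 : (2 : k) ≠ 0) (Q : Matrix (Fin 3) (Fin 3) k) (a b : Fin 3 → k)
    (h : ∀ i j, 2 * Q i j = a i * b j + a j * b i) (u : Fin 3 → k) :
    (2 : k) • Q.mulVec u = (b ⬝ᵥ u) • a + (a ⬝ᵥ u) • b := by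
  ext i
  simp only [Matrix.mulVec, dotProduct, Pi.smul_apply, Pi.add_apply, smul_eq_mul, Finset.mul_sum,
    Finset.sum_mul, ← Finset.sum_add_distrib]
  refine Finset.sum_congr rfl fun j _ => ?_
  rw [← mul_assoc, h i j]; ring

theorem rank_eq_two_of_rel (h2 : (2 : k) ≠ 0) (Q : Matrix (Fin 3) (Fin 3) k) (a b : Fin 3 → k)
    (h : ∀ i j, 2 * Q i j = a i * b j + a j * b i) (hli : LinearIndependent k ![a, b]) :
    Q.rank = 2 := by
  let M : Matrix (Fin 2) (Fin 3) k := Matrix.of ![a, b]
  have hM : M.rank = 2 := by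
    have : LinearIndependent k M.row := hli
    rw [this.rank_matrix, Fintype.card_fin]
  have hMu : ∀ u : Fin 3 → k, M.mulVec u = ![a ⬝ᵥ u, b ⬝ᵥ u] := by
    intro u
    ext i
    fin_cases i <;> simp [M, Matrix.mulVec]
  have hker : LinearMap.ker Q.mulVecLin = LinearMap.ker M.mulVecLin := by
    ext u
    rw [LinearMap.mem_ker, LinearMap.mem_ker, Matrix.mulVecLin_apply, Matrix.mulVecLin_apply, hMu]
    constructor
    · intro hu
      have h3 := mulVec_of_rel h2 Q a b h u
      rw [hu, smul_zero] at h3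
      have h4 := (LinearIndependent.pair_iff.1 hli) (b ⬝ᵥ u) (a ⬝ᵥ u)
      rw [add_comm] at h3
      have h5 := h4 (by rw [add_comm]; exact h3.symm)
      rw [h5.1, h5.2]
      ext i; fin_cases i <;> simp
    · intro hu
      have ha : a ⬝ᵥ u = 0 := by simpa using congrFun hu 0
      have hb : b ⬝ᵥ u = 0 := by simpa using congrFun hu 1
      have h3 := mulVec_of_rel h2 Q a b h u
      rw [ha, hb, zero_smul, zero_smul, add_zero] at h3
      exact (smul_eq_zero.1 h3).resolve_left h2
  have e1 := LinearMap.finrank_range_add_finrank_ker Q.mulVecLin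
  have e2 := LinearMap.finrank_range_add_finrank_ker M.mulVecLin
  rw [hker] at e1
  have e3 : Module.finrank k (LinearMap.range M.mulVecLin) = 2 := hM
  have e4 : Q.rank = Module.finrank k (LinearMap.range Q.mulVecLin) := rfl
  omega

/-- the dependent case: the form is a square -/
theorem sq_of_dep [IsAlgClosed k] (h2 : (2 : k) ≠ 0) (Q : Matrix (Fin 3) (Fin 3) k)
    (a b : Fin 3 → k) (h : ∀ i j, 2 * Q i j = a i * b j + a j * b i)
    (hli : ¬ LinearIndependent k ![a, b]) : ∃ c : Fin 3 → k, ∀ i j, Q i j = c i * c j := by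
  rw [LinearIndependent.pair_iff] at hli
  push Not at hli
  obtain ⟨s, t, hst, hne⟩ := hli
  by_cases hs : s = 0
  · have ht : t ≠ 0 := hne hs
    -- b = -(s/t) a
    obtain ⟨ν, hν⟩ := IsAlgClosed.exists_pow_nat_eq (-(s / t)) zero_lt_two
    have hb : ∀ i, b i = -(s / t) * a i := by
      intro i
      have := congrFun hst i
      simp only [Pi.add_apply, Pi.smul_apply, smul_eq_mul, Pi.zero_apply] at this
      field_simp
      linear_combination this
    refine ⟨fun i => ν * a i, fun i j => ?_⟩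
    have := h i j
    rw [hb i, hb j] at this
    apply mul_left_cancel₀ h2
    rw [this]
    linear_combination (-2 * a i * a j) * hν
  · obtain ⟨ν, hν⟩ := IsAlgClosed.exists_pow_nat_eq (-(t / s)) zero_lt_two
    have ha : ∀ i, a i = -(t / s) * b i := by
      intro i
      have := congrFun hst i
      simp only [Pi.add_apply, Pi.smul_apply, smul_eq_mul, Pi.zero_apply] at this
      field_simp
      linear_combination this
    refine ⟨fun i => ν * b i, fun i j => ?_⟩
    have := h i j
    rw [ha i, ha j] at this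
    apply mul_left_cancel₀ h2
    rw [this]
    linear_combination (-2 * b i * b j) * hν

theorem aff_of_totalDegree_le_one (g : MvPolynomial (Fin 3) k) (hg : g.totalDegree ≤ 1) :
    ∃ (c : k) (a : Fin 3 → k), g = C c + L a := by
  have hsum := MvPolynomial.sum_homogeneousComponent g
  have h1 : homogeneousComponent 1 g ∈ homogeneousSubmodule (Fin 3) k 1 :=
    homogeneousComponent_mem 1 g
  rw [homogeneousSubmodule_one_eq_span_X] at h1
  obtain ⟨a, ha⟩ := (Submodule.mem_span_range_iff_exists_fun k).1 h1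
  refine ⟨coeff 0 g, a, ?_⟩
  have h0 : homogeneousComponent 0 g = C (coeff 0 g) := homogeneousComponent_zero g
  have hdec : g = homogeneousComponent 0 g + homogeneousComponent 1 g := by
    rcases Nat.le_one_iff_eq_zero_or_eq_one.1 hg with h | h
    · rw [h] at hsum
      simp only [zero_add, Finset.sum_range_one] at hsum
      rw [homogeneousComponent_eq_zero 1 g (by omega), add_zero]
      exact hsum.symm
    · rw [h] at hsum
      simp only [Finset.sum_range_succ, Finset.sum_range_zero, zero_add] at hsum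
      exact hsum.symm
  calc g = homogeneousComponent 0 g + homogeneousComponent 1 g := hdec
    _ = C (coeff 0 g) + L a := by rw [h0, ← ha]; rfl

theorem coeff_zero_L (a : Fin 3 → k) : coeff 0 (L a) = 0 := by
  unfold L
  simp [coeff_sum, coeff_smul]

theorem coeff_zero_qf (Q : Matrix (Fin 3) (Fin 3) k) : coeff 0 (qf Q) = 0 := by
  unfold qf
  rw [← constantCoeff_eq]
  simp [smul_eq_C_mul]

theorem not_isUnit_L (a : Fin 3 → k) : ¬ IsUnit (L a) := by
  intro h
  rw [isUnit_iff_totalDegree_of_isReduced, coeff_zero_L] at h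
  exact not_isUnit_zero h.1

theorem not_isUnit_qf (Q : Matrix (Fin 3) (Fin 3) k) : ¬ IsUnit (qf Q) := by
  intro h
  rw [isUnit_iff_totalDegree_of_isReduced, coeff_zero_qf] at h
  exact not_isUnit_zero h.1

theorem totalDegree_qf_le (Q : Matrix (Fin 3) (Fin 3) k) : (qf Q).totalDegree ≤ 2 := by
  unfold qf
  refine totalDegree_finsetSum_le fun i _ => totalDegree_finsetSum_le fun j _ => ?_
  refine (totalDegree_smul_le _ _).trans ((totalDegree_mul _ _).trans ?_)
  rw [totalDegree_X, totalDegree_X]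

theorem qf_ne_zero (h2 : (2 : k) ≠ 0) (Q : Matrix (Fin 3) (Fin 3) k) (hQ : Q.IsSymm) (hQ0 : Q ≠ 0) :
    qf Q ≠ 0 := by
  intro h
  apply hQ0
  ext i j
  have h1 := pderiv2_qf Q i j
  rw [h, map_zero, map_zero] at h1
  have h3 : Q i j + Q j i = 0 := C_injective (Fin 3) k (by rw [C_0]; exact h1.symm)
  have : Q j i = Q i j := by
    have := congrFun (congrFun hQ.eq i) j
    simpa [Matrix.transpose_apply] using this
  rw [this, ← two_mul] at h3
  simpa using (mul_eq_zero.1 h3).resolve_left h2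

theorem totalDegree_pos_of_not_isUnit (g : MvPolynomial (Fin 3) k) (hg0 : g ≠ 0) (hg : ¬ IsUnit g) :
    1 ≤ g.totalDegree := by
  by_contra hlt
  have h0 : g.totalDegree = 0 := by omega
  apply hg
  rw [isUnit_iff_totalDegree_of_isReduced]
  refine ⟨?_, h0⟩
  rw [isUnit_iff_ne_zero]
  intro hc
  apply hg0
  rw [totalDegree_eq_zero_iff_eq_C.1 h0, hc, C_0]

theorem core [IsAlgClosed k] (h2 : (2 : k) ≠ 0) (Q : Matrix (Fin 3) (Fin 3) k) (hQ : Q.IsSymm)
    (hdet : Q.det = 0) : ∃ a b : Fin 3 → k, ∀ i j, 2 * Q i j = a i * b j + a j * b i := by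
  classical
  have : Invertible (2 : k) := invertibleOfNonzero h2
  obtain ⟨u, hu0, hu⟩ := Matrix.exists_mulVec_eq_zero_iff.2 hdet
  set B : LinearMap.BilinForm k (Fin 3 → k) := Matrix.toBilin' Q with hBdef
  have hBsymm : LinearMap.IsSymm B := ⟨fun x y => by
    rw [RingHom.id_apply, hBdef, Matrix.toBilin'_apply', Matrix.toBilin'_apply',
      Matrix.dotProduct_mulVec, ← Matrix.mulVec_transpose, hQ.eq, dotProduct_comm]⟩
  obtain ⟨v, hv⟩ := LinearMap.BilinForm.exists_orthogonal_basis hBsymm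
  rw [LinearMap.isOrthoᵢ_def] at hv
  have hexp : ∀ x y, B x y = ∑ l, B (v l) (v l) * (v.repr x l * v.repr y l) := by
    intro x y
    conv_lhs => rw [← v.sum_repr x, ← v.sum_repr y]
    simp only [map_sum, LinearMap.sum_apply, map_smul, LinearMap.smul_apply, smul_eq_mul]
    refine Finset.sum_congr rfl fun l _ => ?_
    rw [Finset.sum_eq_single l]
    · ring
    · intro l' _ hl'
      rw [hv l' l hl']; ring
    · intro h; exact absurd (Finset.mem_univ _) h
  have hBu : ∀ y, B u y = 0 := by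
    intro y
    rw [hBdef, Matrix.toBilin'_apply', Matrix.dotProduct_mulVec, ← Matrix.mulVec_transpose, hQ.eq,
      hu, zero_dotProduct]
  obtain ⟨l, hl⟩ : ∃ l, v.repr u l ≠ 0 := by
    by_contra hcon
    push Not at hcon
    apply hu0
    have : v.repr u = 0 := Finsupp.ext hcon
    exact (LinearEquiv.map_eq_zero_iff v.repr).1 this
  have hdl : B (v l) (v l) = 0 := by
    have h3 := hBu (v l)
    rw [hexp, Finset.sum_eq_single l] at h3
    · rw [Module.Basis.repr_self, Finsupp.single_eq_same, mul_one] at h3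
      exact (mul_eq_zero.1 h3).resolve_right hl
    · intro l' _ hl'
      rw [Module.Basis.repr_self, Finsupp.single_eq_of_ne hl', mul_zero, mul_zero]
    · intro h; exact absurd (Finset.mem_univ _) h
  have hcard : (Finset.univ.erase l).card = 2 := by
    rw [Finset.card_erase_of_mem (Finset.mem_univ l), Finset.card_univ, Fintype.card_fin,
      Module.finrank_fin_fun]
  obtain ⟨x, y, hxy, hset⟩ := Finset.card_eq_two.1 hcard
  have hQform : ∀ i j, Q i j =
      B (v x) (v x) * (v.repr (Pi.single i 1) x * v.repr (Pi.single j 1) x) +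
      B (v y) (v y) * (v.repr (Pi.single i 1) y * v.repr (Pi.single j 1) y) := by
    intro i j
    calc Q i j = B (Pi.single i 1) (Pi.single j 1) := (Matrix.toBilin'_single Q i j).symm
      _ = _ := by
        rw [hexp, ← Finset.add_sum_erase _ _ (Finset.mem_univ l), hdl, zero_mul, zero_add, hset,
          Finset.sum_pair hxy]
  obtain ⟨α, hα⟩ := IsAlgClosed.exists_pow_nat_eq (B (v x) (v x)) zero_lt_two
  obtain ⟨β, hβ⟩ := IsAlgClosed.exists_pow_nat_eq (B (v y) (v y)) zero_lt_two
  obtain ⟨γ, hγ⟩ := IsAlgClosed.exists_pow_nat_eq (-1 : k) zero_lt_two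
  refine ⟨fun i => α * v.repr (Pi.single i 1) x + γ * β * v.repr (Pi.single i 1) y,
    fun i => α * v.repr (Pi.single i 1) x - γ * β * v.repr (Pi.single i 1) y, fun i j => ?_⟩
  rw [hQform i j, ← hα, ← hβ]
  linear_combination (2 * β ^ 2 * (v.repr (Pi.single i 1) y) * (v.repr (Pi.single j 1) y)) * hγ

theorem det_ne_zero_rank (Q : Matrix (Fin 3) (Fin 3) k) (hdet : Q.det ≠ 0) : Q.rank = 3 := by
  have hu : IsUnit Q := (Matrix.isUnit_iff_isUnit_det Q).2 (isUnit_iff_ne_zero.2 hdet)
  rw [Matrix.rank_of_isUnit Q hu, Fintype.card_fin]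

/-- The full classification in terms of `qf Q`. -/
theorem classification [IsAlgClosed k] (h2 : (2 : k) ≠ 0)
    (Q : Matrix (Fin 3) (Fin 3) k) (hQ : Q.IsSymm) (hQ0 : Q ≠ 0) :
    (Irreducible (qf Q) ↔ Q.det ≠ 0) ∧
    ((∃ u : Fin 3 → k, u ≠ 0 ∧ ∀ i : Fin 3, eval u (pderiv i (qf Q)) = 0) ↔ Q.det = 0) ∧
    ((∃ a b : Fin 3 → k, LinearIndependent k ![a, b] ∧ qf Q = L a * L b) ↔ Q.rank = 2) ∧
    ((∃ a : Fin 3 → k, qf Q = (L a) ^ 2) ↔ Q.rank = 1) := by
  refine ⟨⟨?_, ?_⟩, ?_, ⟨?_, ?_⟩, ⟨?_, ?_⟩⟩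
  · -- irreducible → det ≠ 0
    intro hirr hdet
    obtain ⟨a, b, hab⟩ := core h2 Q hQ hdet
    have hf := qf_eq_mul h2 Q a b hab
    rcases (irreducible_iff.1 hirr).2 hf with h | h
    · exact not_isUnit_L a h
    · exact not_isUnit_L b h
  · -- det ≠ 0 → irreducible
    intro hdet
    rw [irreducible_iff]
    refine ⟨not_isUnit_qf Q, fun g h hgh => ?_⟩
    by_contra hcon
    push Not at hcon
    have hf0 := qf_ne_zero h2 Q hQ hQ0
    have hg0 : g ≠ 0 := by
      rintro rfl
      rw [zero_mul] at hgh; exact hf0 hgh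
    have hh0 : h ≠ 0 := by
      rintro rfl
      rw [mul_zero] at hgh; exact hf0 hgh
    have hg1 := totalDegree_pos_of_not_isUnit g hg0 hcon.1
    have hh1 := totalDegree_pos_of_not_isUnit h hh0 hcon.2
    have hdeg := totalDegree_mul_of_isDomain hg0 hh0
    have hle := totalDegree_qf_le Q
    rw [hgh, hdeg] at hle
    obtain ⟨c, a, rfl⟩ := aff_of_totalDegree_le_one g (by omega)
    obtain ⟨d, b, rfl⟩ := aff_of_totalDegree_le_one h (by omega)
    exact hdet (det_eq_zero_of_rel h2 Q a b (rel_of_factor Q hQ c d a b hgh))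
  · -- singular point iff det = 0
    rw [← Matrix.exists_mulVec_eq_zero_iff]
    refine exists_congr fun u => and_congr_right fun _ => ?_
    constructor
    · intro h
      ext i
      have := h i
      rw [eval_pderiv_qf Q hQ] at this
      exact (mul_eq_zero.1 this).resolve_left h2
    · intro h i
      rw [eval_pderiv_qf Q hQ, h, Pi.zero_apply, mul_zero]
  · -- two lines → rank 2
    rintro ⟨a, b, hli, hf⟩
    have hf' : qf Q = (C 0 + L a) * (C 0 + L b) := by rw [C_0, zero_add, zero_add]; exact hf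
    exact rank_eq_two_of_rel h2 Q a b (rel_of_factor Q hQ 0 0 a b hf') hli
  · -- rank 2 → two lines
    intro hr
    have hdet : Q.det = 0 := by
      by_contra hdet
      have := det_ne_zero_rank Q hdet
      omega
    obtain ⟨a, b, hab⟩ := core h2 Q hQ hdet
    refine ⟨a, b, ?_, qf_eq_mul h2 Q a b hab⟩
    by_contra hli
    obtain ⟨c, hc⟩ := sq_of_dep h2 Q a b hab hli
    have := rank_le_one_of_sq Q c hc
    omega
  · -- double line → rank 1
    rintro ⟨a, hf⟩
    have hf' : qf Q = (C 0 + L a) * (C 0 + L a) := by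
      rw [C_0, zero_add, ← pow_two]; exact hf
    have hrel := rel_of_factor Q hQ 0 0 a a hf'
    have hsq : ∀ i j, Q i j = a i * a j := by
      intro i j
      apply mul_left_cancel₀ h2
      rw [hrel i j, mul_comm (a j) (a i)]; ring
    have h1 := rank_le_one_of_sq Q a hsq
    have h0 := rank_ne_zero Q hQ0
    omega
  · -- rank 1 → double line
    intro hr
    have hdet : Q.det = 0 := by
      by_contra hdet
      have := det_ne_zero_rank Q hdet
      omega
    obtain ⟨a, b, hab⟩ := core h2 Q hQ hdet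
    have hli : ¬ LinearIndependent k ![a, b] := by
      intro hli
      have := rank_eq_two_of_rel h2 Q a b hab hli
      omega
    obtain ⟨c, hc⟩ := sq_of_dep h2 Q a b hab hli
    refine ⟨c, ?_⟩
    rw [pow_two]
    apply qf_eq_mul h2 Q c c
    intro i j
    rw [hc i j, mul_comm (c j) (c i)]; ring

end Groth.Agent.H64.Conic
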