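import Mathlib

/-!
Helper for S13877: discriminants and lengths of sublattice-subalgebras over a DVR.
-/

namespace Groth.Agent.H64.Crimp

open Module IsDiscreteValuationRing

section DVR

variable {R : Type*} [CommRing R] [IsDomain R] [IsDiscreteValuationRing R]

lemma length_quot_span (a : R) (ha : a ≠ 0) :
    Module.length R (R ⧸ Ideal.span {a}) = addVal R a := by
  obtain ⟨ϖ, hϖ⟩ := exists_irreducible R
  obtain ⟨n, u, hu⟩ := eq_unit_mul_pow_irreducible ha hϖ
  have hI : Ideal.span {a} = IsLocalRing.maximalIdeal R ^ n := by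
    rw [hϖ.maximalIdeal_eq, Ideal.span_singleton_pow, hu]
    exact Ideal.span_singleton_eq_span_singleton.mpr
      (associated_unit_mul_left (ϖ ^ n) (u : R) u.isUnit)
  rw [hI, length_quotient_pow_maximalIdeal, addVal_def a u hϖ n hu]

lemma addVal_prod {ι : Type*} (s : Finset ι) (c : ι → R) :
    addVal R (∏ i ∈ s, c i) = ∑ i ∈ s, addVal R (c i) := by
  classical
  induction s using Finset.induction_on with
  | empty => simp [addVal_one]
  | insert i s hi ih => rw [Finset.prod_insert hi, Finset.sum_insert hi, addVal_mul, ih]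

lemma addVal_unit_sq_mul (u x : R) (hu : IsUnit u) : addVal R (u ^ 2 * x) = addVal R x := by
  obtain ⟨U, rfl⟩ := hu
  rw [addVal_mul, addVal_pow, addVal_eq_zero_of_unit, smul_zero, zero_add]

/-- change of basis changes the discriminant by the square of a unit -/
lemma discr_basis_change {B : Type*} [CommRing B] [Algebra R B] {ι : Type*} [Fintype ι]
    [DecidableEq ι] (e e' : Basis ι R B) :
    addVal R (Algebra.discr R ⇑e') = addVal R (Algebra.discr R ⇑e) := by
  have h1 := Algebra.discr_of_matrix_vecMul (⇑e) (e.toMatrix ⇑e')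
  rw [Basis.toMatrix_map_vecMul] at h1
  rw [h1]
  apply addVal_unit_sq_mul
  have := e.isUnit_det e'
  rwa [Basis.det_apply] at this

theorem main (ϖ : R) (hϖ : Irreducible ϖ)
    {St : Type*} [CommRing St] [Algebra R St] (d a b : ℕ)
    (bt : Basis (Fin d) R St)
    (ha : Ideal.span {Algebra.discr R ⇑bt} = Ideal.span {ϖ ^ a})
    (S : Subalgebra R St) (bS : Basis (Fin d) R S)
    (hb : Ideal.span {Algebra.discr R ⇑bS} = Ideal.span {ϖ ^ b}) :
    (∀ q : St ⧸ Subalgebra.toSubmodule S, (ϖ ^ b) • q = 0) ∧
    2 * Module.length R (St ⧸ Subalgebra.toSubmodule S) + (a : ℕ∞) = (b : ℕ∞) := by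
  classical
  have hvϖ : ∀ n : ℕ, addVal R (ϖ ^ n) = (n : ℕ∞) := by
    intro n
    rw [addVal_pow, addVal_uniformizer hϖ, nsmul_eq_mul, mul_one]
  have hva : addVal R (Algebra.discr R ⇑bt) = (a : ℕ∞) := by
    rw [← hvϖ a]
    exact (addVal_eq_iff_associated _ _).mpr (Ideal.span_singleton_eq_span_singleton.mp ha)
  have hvb : addVal R (Algebra.discr R ⇑bS) = (b : ℕ∞) := by
    rw [← hvϖ b]
    exact (addVal_eq_iff_associated _ _).mpr (Ideal.span_singleton_eq_span_singleton.mp hb)
  -- ranks
  have hrank : Module.finrank R (Subalgebra.toSubmodule S) = Module.finrank R St := by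
    rw [Module.finrank_eq_card_basis bt,
      Module.finrank_eq_card_basis (bS.map (Subalgebra.toSubmoduleEquiv S).symm)]
  obtain ⟨c, hcdef⟩ : ∃ c : Fin d → R, c = Submodule.smithNormalFormCoeffs bt hrank := ⟨_, rfl⟩
  obtain ⟨b', hb'def⟩ : ∃ b' : Basis (Fin d) R St,
      b' = Submodule.smithNormalFormTopBasis bt hrank := ⟨_, rfl⟩
  obtain ⟨ab, habdef⟩ : ∃ ab : Basis (Fin d) R (Subalgebra.toSubmodule S),
      ab = Submodule.smithNormalFormBotBasis bt hrank := ⟨_, rfl⟩
  have hab : ∀ i, (ab i : St) = c i • b' i := by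
    intro i
    rw [habdef, hcdef, hb'def]
    exact Submodule.smithNormalFormBotBasis_def bt hrank i
  have hc0 : ∀ i, c i ≠ 0 := by
    intro i
    rw [hcdef]
    exact Submodule.smithNormalFormCoeffs_ne_zero bt hrank i
  obtain ⟨abS, habSdef⟩ : ∃ abS : Basis (Fin d) R S,
      abS = ab.map (Subalgebra.toSubmoduleEquiv S) := ⟨_, rfl⟩
  have habS : ∀ i, ((abS i : S) : St) = c i • b' i := by
    intro i
    rw [← hab i, habSdef]
    rfl
  -- trace compatibility
  have htrace : ∀ s : S, Algebra.trace R S s = Algebra.trace R St (s : St) := by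
    intro s
    rw [Algebra.trace_eq_matrix_trace abS, Algebra.trace_eq_matrix_trace b']
    unfold Matrix.trace
    apply Finset.sum_congr rfl
    intro j _
    rw [Matrix.diag_apply, Matrix.diag_apply, Algebra.leftMulMatrix_eq_repr_mul,
      Algebra.leftMulMatrix_eq_repr_mul]
    have key : s * abS j = ∑ i, (abS.repr (s * abS j) i) • abS i := (abS.sum_repr _).symm
    have key2 := congrArg (fun x : S => (x : St)) key
    simp only [MulMemClass.coe_mul, AddSubmonoidClass.coe_finset_sum, SetLike.val_smul,
      habS] at key2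
    have key3 := congrArg (fun x : St => b'.repr x j) key2
    simp only [mul_smul_comm, map_smul, map_sum, Finsupp.smul_apply, Finsupp.coe_finset_sum,
      Finset.sum_apply, Basis.repr_self, smul_eq_mul] at key3
    rw [Finset.sum_eq_single j] at key3
    · simp only [Finsupp.single_eq_same, mul_one] at key3
      have h5 : c j * (b'.repr (↑s * b' j) j - abS.repr (s * abS j) j) = 0 := by
        linear_combination key3
      rcases mul_eq_zero.mp h5 with h | h
      · exact absurd h (hc0 j)
      · exact (sub_eq_zero.mp h).symm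
    · intro i _ hij
      rw [Finsupp.single_apply, if_neg hij, mul_zero, mul_zero]
    · intro h; exact absurd (Finset.mem_univ j) h
  -- discriminants
  have hd1 : Algebra.discr R ⇑abS = Algebra.discr R (fun i => c i • b' i) := by
    rw [Algebra.discr_def, Algebra.discr_def]
    congr 1
    ext i j
    rw [Algebra.traceMatrix_apply, Algebra.traceMatrix_apply, Algebra.traceForm_apply,
      Algebra.traceForm_apply, htrace, MulMemClass.coe_mul, habS, habS]
  have hd2 : Algebra.discr R (fun i => c i • b' i) =
      (∏ i, c i) ^ 2 * Algebra.discr R ⇑b' := by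
    have h1 := Algebra.discr_of_matrix_vecMul (⇑b') (Matrix.diagonal c)
    rw [Matrix.det_diagonal] at h1
    rw [← h1]
    congr 1
    funext j
    simp only [Matrix.vecMul, dotProduct, Matrix.map_apply]
    rw [Finset.sum_eq_single j]
    · rw [Matrix.diagonal_apply_eq, Algebra.smul_def, mul_comm]
    · intro i _ hij
      rw [Matrix.diagonal_apply_ne _ hij, map_zero, mul_zero]
    · intro h; exact absurd (Finset.mem_univ j) h
  have hval : (b : ℕ∞) = 2 * ∑ i, addVal R (c i) + (a : ℕ∞) := by
    rw [← hvb, discr_basis_change abS bS, hd1, hd2, addVal_mul, addVal_pow, addVal_prod,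
      discr_basis_change bt b', hva, nsmul_eq_mul]
    rfl
  -- length
  have hlen : Module.length R (St ⧸ Subalgebra.toSubmodule S) = ∑ i, addVal R (c i) := by
    have e := (Subalgebra.toSubmodule S).quotientEquivPiSpan bt hrank
    rw [e.length_eq, Module.length_pi_of_fintype]
    apply Finset.sum_congr rfl
    intro i _
    rw [length_quot_span _ (Submodule.smithNormalFormCoeffs_ne_zero bt hrank i), hcdef]
  refine ⟨?_, by rw [hlen, hval]⟩
  -- annihilation
  intro q
  obtain ⟨x, rfl⟩ := Submodule.Quotient.mk_surjective _ q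
  rw [← Submodule.Quotient.mk_smul, Submodule.Quotient.mk_eq_zero]
  have hx : x = ∑ i, (b'.repr x i) • b' i := (b'.sum_repr x).symm
  rw [hx, Finset.smul_sum]
  apply Submodule.sum_mem
  intro i _
  have hle : addVal R (c i) ≤ addVal R (ϖ ^ b) := by
    rw [hvϖ, hval]
    calc addVal R (c i) ≤ ∑ j, addVal R (c j) :=
          Finset.single_le_sum (f := fun j => addVal R (c j)) (fun j _ => bot_le)
            (Finset.mem_univ i)
      _ ≤ 2 * ∑ j, addVal R (c j) + (a : ℕ∞) := by
          rw [two_mul, add_assoc]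
          exact le_self_add
  obtain ⟨e, he⟩ := addVal_le_iff_dvd.mp hle
  have : ϖ ^ b • (b'.repr x i) • b' i = ((b'.repr x i) * e) • ((ab i : St)) := by
    rw [hab i, he, smul_smul, smul_smul]
    congr 1
    ring
  rw [this]
  exact Submodule.smul_mem _ _ (ab i).2

end DVR

end Groth.Agent.H64.Crimp
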