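import Mathlib
import Groth.Agent.H64.Crimp

/-!
Helper for S13878: structure of `R`-submodules `S ∋ 1` of `R³` with `R³/S ≅ R/ϖ^m × R/ϖ^n`.
-/

namespace Groth.Agent.H64.Crimp2

open Module IsDiscreteValuationRing

variable {R : Type*} [CommRing R] [IsDomain R] [IsDiscreteValuationRing R]

lemma kill_prod (ϖ : R) (m n : ℕ) (hmn : m ≤ n)
    (q : (R ⧸ Ideal.span {ϖ ^ m}) × (R ⧸ Ideal.span {ϖ ^ n})) : ϖ ^ n • q = 0 := by
  obtain ⟨q1, q2⟩ := q
  obtain ⟨x, rfl⟩ := Ideal.Quotient.mk_surjective q1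
  obtain ⟨y, rfl⟩ := Ideal.Quotient.mk_surjective q2
  rw [Prod.smul_mk, Prod.mk_eq_zero]
  constructor
  · rw [Algebra.smul_def, Ideal.Quotient.algebraMap_eq, ← map_mul,
      Ideal.Quotient.eq_zero_iff_mem, Ideal.mem_span_singleton]
    exact Dvd.dvd.mul_right (pow_dvd_pow ϖ hmn) x
  · rw [Algebra.smul_def, Ideal.Quotient.algebraMap_eq, ← map_mul,
      Ideal.Quotient.eq_zero_iff_mem, Ideal.mem_span_singleton]
    exact Dvd.intro y rfl

theorem rank2_structure (ϖ : R) (hϖ : Irreducible ϖ) {M : Type*} [AddCommGroup M] [Module R M]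
    (b : Basis (Fin 2) R M) (T : Submodule R M) (m n : ℕ) (hmn : m ≤ n)
    (e : (M ⧸ T) ≃ₗ[R] ((R ⧸ Ideal.span {ϖ ^ m}) × (R ⧸ Ideal.span {ϖ ^ n}))) :
    ∃ b' : Basis (Fin 2) R M, T = Submodule.span R {ϖ ^ m • b' 0, ϖ ^ n • b' 1} := by
  classical
  have : Module.Finite R M := Module.Finite.of_basis b
  have : IsNoetherian R M := isNoetherian_of_isNoetherianRing_of_finite R M
  have hϖ0 : ϖ ≠ 0 := hϖ.ne_zero
  have hTn : ∀ x : M, ϖ ^ n • x ∈ T := by
    intro x
    rw [← Submodule.Quotient.mk_eq_zero, Submodule.Quotient.mk_smul]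
    apply e.injective
    rw [map_smul, map_zero]
    exact kill_prod ϖ m n hmn _
  -- rank
  have hrank : Module.finrank R T = Module.finrank R M := by
    apply le_antisymm (Submodule.finrank_le T)
    have hginj : Function.Injective (LinearMap.lsmul R M (ϖ ^ n)) := by
      intro x y hxy
      have h1 : ϖ ^ n • x = ϖ ^ n • y := hxy
      apply b.repr.injective
      ext i
      have h2 := congrArg (fun v => b.repr v i) h1
      simp only [map_smul, Finsupp.smul_apply, smul_eq_mul] at h2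
      exact mul_left_cancel₀ (pow_ne_zero n hϖ0) h2
    have hrange : LinearMap.range (LinearMap.lsmul R M (ϖ ^ n)) ≤ T := by
      rintro _ ⟨x, rfl⟩
      exact hTn x
    calc Module.finrank R M
        = Module.finrank R (LinearMap.range (LinearMap.lsmul R M (ϖ ^ n))) :=
          (LinearMap.finrank_range_of_inj hginj).symm
      _ ≤ Module.finrank R T := Submodule.finrank_mono hrange
  obtain ⟨c, hcdef⟩ : ∃ c : Fin 2 → R, c = Submodule.smithNormalFormCoeffs b hrank := ⟨_, rfl⟩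
  obtain ⟨b₂, hb₂def⟩ : ∃ b₂ : Basis (Fin 2) R M,
      b₂ = Submodule.smithNormalFormTopBasis b hrank := ⟨_, rfl⟩
  obtain ⟨ab, habdef⟩ : ∃ ab : Basis (Fin 2) R T,
      ab = Submodule.smithNormalFormBotBasis b hrank := ⟨_, rfl⟩
  have hab : ∀ i, (ab i : M) = c i • b₂ i := by
    intro i
    rw [habdef, hcdef, hb₂def]
    exact Submodule.smithNormalFormBotBasis_def b hrank i
  have hc0 : ∀ i, c i ≠ 0 := by
    intro i
    rw [hcdef]
    exact Submodule.smithNormalFormCoeffs_ne_zero b hrank i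
  have hca : ∀ i, ∃ (a : ℕ) (u : Rˣ), c i = u * ϖ ^ a := fun i => by
    obtain ⟨a, u, hu⟩ := eq_unit_mul_pow_irreducible (hc0 i) hϖ
    exact ⟨a, u, hu⟩
  choose a u hau using hca
  obtain ⟨b₃, hb₃def⟩ : ∃ b₃ : Basis (Fin 2) R M, b₃ = b₂.unitsSMul u := ⟨_, rfl⟩
  have hb₃ : ∀ i, b₃ i = (u i : R) • b₂ i := fun i => by
    rw [hb₃def, Basis.unitsSMul_apply, Units.smul_def]
  have hab' : ∀ i, (ab i : M) = ϖ ^ (a i) • b₃ i := by
    intro i
    rw [hab, hau, hb₃, smul_smul, mul_comm]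
  have hTspan : T = Submodule.span R {ϖ ^ (a 0) • b₃ 0, ϖ ^ (a 1) • b₃ 1} := by
    apply le_antisymm
    · intro x hx
      have hx2 : (⟨x, hx⟩ : T) = ∑ i, ab.repr ⟨x, hx⟩ i • ab i := (ab.sum_repr _).symm
      rw [Fin.sum_univ_two] at hx2
      have hx3 := congrArg Subtype.val hx2
      simp only [Submodule.coe_add, Submodule.coe_smul, hab'] at hx3
      rw [hx3]
      exact Submodule.mem_span_pair.mpr ⟨_, _, rfl⟩
    · rw [Submodule.span_le]
      rintro _ (rfl | rfl)
      · rw [← hab' 0]; exact (ab 0).2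
      · rw [← hab' 1]; exact (ab 1).2
  have hale0 : a 0 ≤ n := by
    have h1 := hTn (b₃ 0)
    rw [hTspan, Submodule.mem_span_pair] at h1
    obtain ⟨α, β, hαβ⟩ := h1
    have h2 := congrArg (fun v => b₃.repr v 0) hαβ
    simp at h2
    exact (pow_dvd_pow_iff hϖ0 hϖ.not_isUnit).mp ⟨α, by linear_combination -h2⟩
  have hale1 : a 1 ≤ n := by
    have h1 := hTn (b₃ 1)
    rw [hTspan, Submodule.mem_span_pair] at h1
    obtain ⟨α, β, hαβ⟩ := h1
    have h2 := congrArg (fun v => b₃.repr v 1) hαβ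
    simp at h2
    exact (pow_dvd_pow_iff hϖ0 hϖ.not_isUnit).mp ⟨β, by linear_combination -h2⟩
  have hmax : n ≤ a 0 ∨ n ≤ a 1 := by
    by_contra hcon
    push Not at hcon
    obtain ⟨h0', h1'⟩ := hcon
    have hk : ∀ x : M, ϖ ^ (n - 1) • x ∈ T := by
      intro x
      rw [hTspan, Submodule.mem_span_pair]
      refine ⟨b₃.repr x 0 * ϖ ^ (n - 1 - a 0), b₃.repr x 1 * ϖ ^ (n - 1 - a 1), ?_⟩
      have hx : x = b₃.repr x 0 • b₃ 0 + b₃.repr x 1 • b₃ 1 := by
        have := (b₃.sum_repr x).symm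
        rwa [Fin.sum_univ_two] at this
      conv_rhs => rw [hx]
      rw [smul_add, smul_smul, smul_smul, smul_smul, smul_smul]
      have e0 : b₃.repr x 0 * ϖ ^ (n - 1 - a 0) * ϖ ^ (a 0) = ϖ ^ (n - 1) * b₃.repr x 0 := by
        rw [mul_assoc, ← pow_add, Nat.sub_add_cancel (by omega), mul_comm]
      have e1 : b₃.repr x 1 * ϖ ^ (n - 1 - a 1) * ϖ ^ (a 1) = ϖ ^ (n - 1) * b₃.repr x 1 := by
        rw [mul_assoc, ← pow_add, Nat.sub_add_cancel (by omega), mul_comm]
      rw [e0, e1]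
    obtain ⟨x, hx⟩ := Submodule.Quotient.mk_surjective T (e.symm (0, 1))
    have hq : ϖ ^ (n - 1) • (e.symm (0, 1)) = 0 := by
      rw [← hx, ← Submodule.Quotient.mk_smul, Submodule.Quotient.mk_eq_zero]
      exact hk x
    have h3 : ϖ ^ (n - 1) • ((0, 1) :
        (R ⧸ Ideal.span {ϖ ^ m}) × (R ⧸ Ideal.span {ϖ ^ n})) = 0 := by
      have := congrArg e hq
      rwa [map_smul, e.apply_symm_apply, map_zero] at this
    have h4 := congrArg Prod.snd h3
    rw [Prod.smul_snd, Prod.snd_zero, Algebra.smul_def, mul_one, Ideal.Quotient.algebraMap_eq,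
      Ideal.Quotient.eq_zero_iff_mem, Ideal.mem_span_singleton] at h4
    have := (pow_dvd_pow_iff hϖ0 hϖ.not_isUnit).mp h4
    omega
  have hlen1 : Module.length R (M ⧸ T) = (m : ℕ∞) + n := by
    rw [e.length_eq, Module.length_prod, Crimp.length_quot_span _ (pow_ne_zero m hϖ0),
      Crimp.length_quot_span _ (pow_ne_zero n hϖ0), addVal_pow, addVal_pow,
      addVal_uniformizer hϖ, nsmul_eq_mul, nsmul_eq_mul, mul_one, mul_one]
  have hlen2 : Module.length R (M ⧸ T) = (a 0 : ℕ∞) + a 1 := by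
    rw [(T.quotientEquivPiSpan b hrank).length_eq, Module.length_pi_of_fintype, Fin.sum_univ_two,
      Crimp.length_quot_span _ (Submodule.smithNormalFormCoeffs_ne_zero b hrank 0),
      Crimp.length_quot_span _ (Submodule.smithNormalFormCoeffs_ne_zero b hrank 1), ← hcdef,
      addVal_def (c 0) (u 0) hϖ (a 0) (hau 0), addVal_def (c 1) (u 1) hϖ (a 1) (hau 1)]
  have hsum : a 0 + a 1 = m + n := by
    have := hlen2.symm.trans hlen1
    exact_mod_cast this
  rcases hmax with h | h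
  · have ha0 : a 0 = n := le_antisymm hale0 h
    have ha1 : a 1 = m := by omega
    refine ⟨b₃.reindex (Equiv.swap 0 1), ?_⟩
    rw [hTspan, ha0, ha1, Basis.reindex_apply, Basis.reindex_apply, Equiv.symm_swap,
      Equiv.swap_apply_left, Equiv.swap_apply_right, Set.pair_comm]
  · have ha1 : a 1 = n := le_antisymm hale1 h
    have ha0 : a 0 = m := by omega
    exact ⟨b₃, by rw [hTspan, ha0, ha1]⟩

/-- `y ↦ (0, y₀, y₁)` -/
def rho : (Fin 2 → R) →ₗ[R] (Fin 3 → R) where
  toFun y := ![0, y 0, y 1]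
  map_add' y z := by ext i; fin_cases i <;> simp
  map_smul' c y := by ext i; fin_cases i <;> simp

/-- `x ↦ (x₁ - x₀, x₂ - x₀)` -/
def sig : (Fin 3 → R) →ₗ[R] (Fin 2 → R) where
  toFun x := ![x 1 - x 0, x 2 - x 0]
  map_add' x z := by ext i; fin_cases i <;> simp <;> ring
  map_smul' c x := by ext i; fin_cases i <;> simp <;> ring

lemma sig_rho (y : Fin 2 → R) : sig (rho y) = y := by
  ext i; fin_cases i <;> simp [sig, rho]

lemma sig_one : sig (1 : Fin 3 → R) = 0 := by
  ext i; fin_cases i <;> simp [sig]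

lemma decomp (x : Fin 3 → R) : x = x 0 • (1 : Fin 3 → R) + rho (sig x) := by
  ext i; fin_cases i <;> simp [sig, rho]

theorem triple (ϖ : R) (hϖ : Irreducible ϖ) (m n : ℕ) (hmn : m ≤ n)
    (S : Submodule R (Fin 3 → R)) (h1 : (1 : Fin 3 → R) ∈ S)
    (e : ((Fin 3 → R) ⧸ S) ≃ₗ[R] ((R ⧸ Ideal.span {ϖ ^ m}) × (R ⧸ Ideal.span {ϖ ^ n}))) :
    Ideal.span {ϖ ^ n} • (⊤ : Submodule R (Fin 3 → R)) ≤ S ∧
    ∃ f : Fin 3 → R,
      f ∉ Submodule.span R {(1 : Fin 3 → R)} ⊔
        Ideal.span {ϖ} • (⊤ : Submodule R (Fin 3 → R)) ∧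
      S = Submodule.span R {(1 : Fin 3 → R), ϖ ^ m • f} ⊔
        Ideal.span {ϖ ^ n} • (⊤ : Submodule R (Fin 3 → R)) := by
  classical
  have hSn : ∀ x : Fin 3 → R, ϖ ^ n • x ∈ S := by
    intro x
    rw [← Submodule.Quotient.mk_eq_zero, Submodule.Quotient.mk_smul]
    apply e.injective
    rw [map_smul, map_zero]
    exact kill_prod ϖ m n hmn _
  have part1 : Ideal.span {ϖ ^ n} • (⊤ : Submodule R (Fin 3 → R)) ≤ S := by
    rw [Submodule.ideal_span_singleton_smul]
    intro x hx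
    obtain ⟨w, -, rfl⟩ := (Submodule.mem_smul_pointwise_iff_exists _ _ _).mp hx
    exact hSn w
  refine ⟨part1, ?_⟩
  obtain ⟨φ, hφ⟩ : ∃ φ : (Fin 2 → R) →ₗ[R] ((Fin 3 → R) ⧸ S), φ = S.mkQ.comp rho := ⟨_, rfl⟩
  obtain ⟨T, hTdef⟩ : ∃ T : Submodule R (Fin 2 → R), T = LinearMap.ker φ := ⟨_, rfl⟩
  have hT : ∀ y, y ∈ T ↔ rho y ∈ S := by
    intro y
    rw [hTdef, LinearMap.mem_ker, hφ, LinearMap.comp_apply, Submodule.mkQ_apply,
      Submodule.Quotient.mk_eq_zero]
  have hdiff : ∀ x : Fin 3 → R, x - rho (sig x) ∈ S := by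
    intro x
    have h := decomp x
    have : x - rho (sig x) = x 0 • (1 : Fin 3 → R) := by
      rw [sub_eq_iff_eq_add]; exact h
    rw [this]
    exact S.smul_mem _ h1
  have hS : ∀ x, x ∈ S ↔ sig x ∈ T := by
    intro x
    rw [hT]
    constructor
    · intro hx
      have := S.sub_mem hx (hdiff x)
      rwa [sub_sub_cancel] at this
    · intro h
      have := S.add_mem (hdiff x) h
      rwa [sub_add_cancel] at this
  have hsurj : Function.Surjective φ := by
    intro q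
    obtain ⟨x, rfl⟩ := S.mkQ_surjective q
    refine ⟨sig x, ?_⟩
    rw [hφ, LinearMap.comp_apply, eq_comm, ← sub_eq_zero, ← map_sub, Submodule.mkQ_apply,
      Submodule.Quotient.mk_eq_zero]
    exact hdiff x
  subst hTdef
  obtain ⟨b', hb'⟩ := rank2_structure ϖ hϖ (Pi.basisFun R (Fin 2)) (LinearMap.ker φ) m n hmn
    ((φ.quotKerEquivOfSurjective hsurj).trans e)
  refine ⟨rho (b' 0), ?_, ?_⟩
  · intro hmem
    rw [Submodule.ideal_span_singleton_smul, Submodule.mem_sup] at hmem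
    obtain ⟨y, hy, z, hz, hyz⟩ := hmem
    obtain ⟨α, rfl⟩ := Submodule.mem_span_singleton.mp hy
    obtain ⟨w, -, rfl⟩ := (Submodule.mem_smul_pointwise_iff_exists _ _ _).mp hz
    have h2 := congrArg sig hyz
    rw [map_add, map_smul, sig_one, smul_zero, zero_add, map_smul, sig_rho] at h2
    have h3 := congrArg (fun v => b'.repr v 0) h2
    simp only [map_smul, Finsupp.smul_apply, Basis.repr_self, Finsupp.single_eq_same,
      smul_eq_mul] at h3
    exact hϖ.not_isUnit (IsUnit.of_mul_eq_one _ h3)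
  · apply le_antisymm
    · intro x hx
      have hx' := (hS x).mp hx
      rw [hb', Submodule.mem_span_pair] at hx'
      obtain ⟨α, β, hαβ⟩ := hx'
      rw [decomp x, ← hαβ, map_add, map_smul, map_smul, map_smul, map_smul, ← add_assoc]
      refine Submodule.add_mem_sup (Submodule.mem_span_pair.mpr ⟨_, _, rfl⟩) ?_
      rw [smul_comm]
      exact Submodule.smul_mem_smul (Ideal.mem_span_singleton_self _) Submodule.mem_top
    · apply sup_le
      · rw [Submodule.span_le]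
        rintro _ (rfl | rfl)
        · exact h1
        · rw [← map_smul, SetLike.mem_coe, ← hT, hb']
          exact Submodule.subset_span (by simp)
      · exact part1

end Groth.Agent.H64.Crimp2
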