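import Mathlib
import Groth.Agent.H64.Crimp

/-!
Helper for S13880 / S13881: crimps of a rank-two algebra over a DVR.
-/

namespace Groth.Agent.H64.Crimp3

open Module IsDiscreteValuationRing Polynomial

section Quad

variable {R : Type*} [CommRing R] {St : Type*} [CommRing St] [Algebra R St]

/-- normal form in `AdjoinRoot (X^2 - C c)` -/
lemma adjoinRoot_normal_form [Nontrivial R] (c : R) (z : AdjoinRoot (X ^ 2 - C c : R[X])) :
    ∃ u v : R, z = AdjoinRoot.of _ u + AdjoinRoot.of _ v * AdjoinRoot.root _ := by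
  obtain ⟨f, rfl⟩ := AdjoinRoot.mk_surjective z
  have hg : (X ^ 2 - C c : R[X]).Monic := monic_X_pow_sub_C c (by norm_num)
  have hnat : (X ^ 2 - C c : R[X]).natDegree = 2 := natDegree_X_pow_sub_C
  have hg1 : (X ^ 2 - C c : R[X]) ≠ 1 := by
    intro h
    rw [h, natDegree_one] at hnat
    exact absurd hnat (by norm_num)
  have hle : (f %ₘ (X ^ 2 - C c)).natDegree ≤ 1 := by
    have h1 := natDegree_modByMonic_lt f hg hg1
    rw [hnat] at h1
    omega
  have h1 : AdjoinRoot.mk (X ^ 2 - C c) f = AdjoinRoot.mk (X ^ 2 - C c) (f %ₘ (X ^ 2 - C c)) := by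
    have h2 := congrArg (AdjoinRoot.mk (X ^ 2 - C c)) (modByMonic_add_div f (X ^ 2 - C c))
    rw [map_add, map_mul, AdjoinRoot.mk_self, zero_mul, add_zero] at h2
    exact h2.symm
  have h3 := congrArg (AdjoinRoot.mk (X ^ 2 - C c)) (eq_X_add_C_of_natDegree_le_one hle)
  refine ⟨(f %ₘ (X ^ 2 - C c)).coeff 0, (f %ₘ (X ^ 2 - C c)).coeff 1, ?_⟩
  rw [h1, h3, map_add, map_mul, AdjoinRoot.mk_C, AdjoinRoot.mk_C, AdjoinRoot.mk_X, add_comm]

theorem algEquiv_adjoinRoot [Nontrivial R] (S : Subalgebra R St) (y : St) (c : R)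
    (hy : y * y = c • (1 : St))
    (hspan : Subalgebra.toSubmodule S = Submodule.span R {(1 : St), y})
    (hli : ∀ u v : R, u • (1 : St) + v • y = 0 → u = 0 ∧ v = 0) :
    Nonempty (S ≃ₐ[R] AdjoinRoot (X ^ 2 - C c : R[X])) := by
  have hev : (X ^ 2 - C c : R[X]).eval₂ ((Algebra.ofId R St : R →ₐ[R] St) : R →+* St) y = 0 := by
    rw [eval₂_sub, eval₂_X_pow, eval₂_C, pow_two, hy, Algebra.smul_def, mul_one]
    simp
  obtain ⟨ψ, hψdef⟩ : ∃ ψ : AdjoinRoot (X ^ 2 - C c : R[X]) →ₐ[R] St,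
      ψ = AdjoinRoot.liftAlgHom (X ^ 2 - C c) (Algebra.ofId R St) y hev := ⟨_, rfl⟩
  have hψ : ∀ u v : R, ψ (AdjoinRoot.of _ u + AdjoinRoot.of _ v * AdjoinRoot.root _) =
      u • (1 : St) + v • y := by
    intro u v
    rw [hψdef, map_add, map_mul, AdjoinRoot.liftAlgHom_of, AdjoinRoot.liftAlgHom_of,
      AdjoinRoot.liftAlgHom_root, Algebra.ofId_apply, Algebra.ofId_apply, Algebra.smul_def,
      Algebra.smul_def, mul_one]
  have hmem : ∀ z, ψ z ∈ S := by
    intro z
    obtain ⟨u, v, rfl⟩ := adjoinRoot_normal_form c z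
    rw [hψ, ← Subalgebra.mem_toSubmodule, hspan]
    exact Submodule.add_mem _
      (Submodule.smul_mem _ _ (Submodule.subset_span (by simp)))
      (Submodule.smul_mem _ _ (Submodule.subset_span (by simp)))
  refine ⟨(AlgEquiv.ofBijective (ψ.codRestrict S hmem) ⟨?_, ?_⟩).symm⟩
  · rw [injective_iff_map_eq_zero]
    intro z hz
    obtain ⟨u, v, rfl⟩ := adjoinRoot_normal_form c z
    have h1 : ψ (AdjoinRoot.of _ u + AdjoinRoot.of _ v * AdjoinRoot.root _) = 0 := by
      have h2 := congrArg Subtype.val hz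
      rwa [AlgHom.coe_codRestrict] at h2
    rw [hψ] at h1
    obtain ⟨hu, hv⟩ := hli u v h1
    rw [hu, hv, map_zero, zero_mul, add_zero]
  · intro s
    have hs : (s : St) ∈ Submodule.span R {(1 : St), y} := by
      rw [← hspan]
      exact s.2
    obtain ⟨u, v, huv⟩ := Submodule.mem_span_pair.1 hs
    refine ⟨AdjoinRoot.of _ u + AdjoinRoot.of _ v * AdjoinRoot.root _, Subtype.ext ?_⟩
    rw [AlgHom.coe_codRestrict, hψ, huv]

end Quad

section DVR

variable {R : Type*} [CommRing R] [IsDomain R] [IsDiscreteValuationRing R]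
  {St : Type*} [CommRing St] [Algebra R St]

lemma coord_comb (bt : Basis (Fin 2) R St) (a b : R) :
    bt.coord 0 (a • bt 0 + b • bt 1) = a ∧ bt.coord 1 (a • bt 0 + b • bt 1) = b := by
  constructor <;> simp [Basis.coord_apply]

lemma repr_decomp (bt : Basis (Fin 2) R St) (x : St) :
    x = bt.coord 0 x • bt 0 + bt.coord 1 x • bt 1 := by
  have h := bt.sum_repr x
  rw [Fin.sum_univ_two] at h
  simpa [Basis.coord_apply] using h.symm

lemma mem_W (bt : Basis (Fin 2) R St) (h0 : bt 0 = 1) (ϖ : R) (n : ℕ) (x : St) :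
    x ∈ Submodule.span R {(1 : St)} ⊔ Ideal.span {ϖ ^ n} • (⊤ : Submodule R St) ↔
      ϖ ^ n ∣ bt.coord 1 x := by
  constructor
  · intro hx
    obtain ⟨y, hy, z, hz, rfl⟩ := Submodule.mem_sup.1 hx
    obtain ⟨r, rfl⟩ := Submodule.mem_span_singleton.1 hy
    have hz' : bt.coord 1 z ∈ Ideal.span {ϖ ^ n} := by
      refine Submodule.smul_induction_on hz ?_ ?_
      · intro a ha m _
        rw [map_smul, smul_eq_mul]
        exact Ideal.mul_mem_right _ _ ha
      · intro a b ha hb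
        rw [map_add]
        exact Ideal.add_mem _ ha hb
    have h1 : bt.coord 1 (r • (1 : St)) = 0 := by
      have := (coord_comb bt r 0).2
      rwa [zero_smul, add_zero, h0] at this
    rw [map_add, h1, zero_add]
    exact Ideal.mem_span_singleton.1 hz'
  · rintro ⟨c, hc⟩
    have hx := repr_decomp bt x
    rw [hc, h0, mul_smul] at hx
    rw [hx]
    exact Submodule.add_mem_sup (Submodule.smul_mem _ _ (Submodule.mem_span_singleton_self _))
      (Submodule.smul_mem_smul (Ideal.mem_span_singleton_self _) Submodule.mem_top)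

/-- the explicit basis of `W_n` and its discriminant -/
theorem crimp2_basis (bt : Basis (Fin 2) R St) (h0 : bt 0 = 1) (p q : R)
    (hξ : bt 1 * bt 1 = p • bt 1 + q • (1 : St)) (ϖ : R) (hϖ0 : ϖ ≠ 0) (n : ℕ)
    (S : Subalgebra R St)
    (hS : Subalgebra.toSubmodule S =
      Submodule.span R {(1 : St)} ⊔ Ideal.span {ϖ ^ n} • (⊤ : Submodule R St)) :
    ∃ bS : Basis (Fin 2) R S, ((bS 0 : S) : St) = 1 ∧ ((bS 1 : S) : St) = ϖ ^ n • bt 1 ∧
      Algebra.discr R ⇑bS = ϖ ^ (2 * n) * (p ^ 2 + 4 * q) := by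
  have hmemS : ∀ x : St, x ∈ S ↔ ϖ ^ n ∣ bt.coord 1 x := by
    intro x
    rw [← Subalgebra.mem_toSubmodule, hS, mem_W bt h0]
  have hη : ϖ ^ n • bt 1 ∈ S := by
    rw [hmemS]
    have := (coord_comb bt 0 (ϖ ^ n)).2
    rw [zero_smul, zero_add] at this
    rw [this]
  have hϖn : ϖ ^ n ≠ 0 := pow_ne_zero _ hϖ0
  obtain ⟨v, hv⟩ : ∃ v : Fin 2 → S, v = ![⟨1, S.one_mem⟩, ⟨ϖ ^ n • bt 1, hη⟩] := ⟨_, rfl⟩
  have hv0 : ((v 0 : S) : St) = 1 := by rw [hv]; rfl
  have hv1 : ((v 1 : S) : St) = ϖ ^ n • bt 1 := by rw [hv]; rfl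
  have hli : LinearIndependent R v := by
    rw [hv, LinearIndependent.pair_iff]
    intro s t hst
    have h1 := congrArg (Subtype.val) hst
    simp only [Subalgebra.coe_add, Subalgebra.coe_smul, Subalgebra.coe_zero] at h1
    have h2 : s • bt 0 + (t * ϖ ^ n) • bt 1 = 0 := by
      rw [h0, mul_smul]
      exact h1
    have h3 := coord_comb bt s (t * ϖ ^ n)
    rw [h2, map_zero, map_zero] at h3
    refine ⟨h3.1.symm, ?_⟩
    have h4 : t * ϖ ^ n = 0 := h3.2.symm
    exact (mul_eq_zero.1 h4).resolve_right hϖn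
  have hsp : ⊤ ≤ Submodule.span R (Set.range v) := by
    rintro ⟨x, hx⟩ -
    obtain ⟨c, hc⟩ := (hmemS x).1 hx
    have hx2 : (⟨x, hx⟩ : S) = bt.coord 0 x • v 0 + c • v 1 := by
      apply Subtype.ext
      simp only [Subalgebra.coe_add, Subalgebra.coe_smul, hv0, hv1]
      have h5 := repr_decomp bt x
      rw [hc, h0, mul_comm, mul_smul] at h5
      exact h5
    rw [hx2]
    exact Submodule.add_mem _ (Submodule.smul_mem _ _ (Submodule.subset_span ⟨0, rfl⟩))
      (Submodule.smul_mem _ _ (Submodule.subset_span ⟨1, rfl⟩))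
  obtain ⟨bS, hbS⟩ : ∃ bS : Basis (Fin 2) R S, ⇑bS = v := ⟨Basis.mk hli hsp, Basis.coe_mk hli hsp⟩
  have hb0 : ((bS 0 : S) : St) = 1 := by rw [hbS, hv0]
  have hb1 : ((bS 1 : S) : St) = ϖ ^ n • bt 1 := by rw [hbS, hv1]
  -- multiplication table
  have hηη : (ϖ ^ n • bt 1) * (ϖ ^ n • bt 1) =
      (ϖ ^ n * p) • (ϖ ^ n • bt 1) + (ϖ ^ (2 * n) * q) • (1 : St) := by
    rw [smul_mul_smul_comm, hξ, smul_add, smul_smul, smul_smul, smul_smul]
    congr 1
    · congr 1
      ring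
    · congr 1
      ring
  -- trace formula
  have htr : ∀ (s : S) (u w : R), (s : St) = u • (1 : St) + w • (ϖ ^ n • bt 1) →
      Algebra.trace R S s = 2 * u + w * (ϖ ^ n * p) := by
    intro s u w hs
    rw [Algebra.trace_eq_matrix_trace bS, Matrix.trace_fin_two,
      Algebra.leftMulMatrix_eq_repr_mul, Algebra.leftMulMatrix_eq_repr_mul]
    have e0 : s * bS 0 = u • bS 0 + w • bS 1 := by
      apply Subtype.ext
      simp only [Subalgebra.coe_mul, Subalgebra.coe_add, Subalgebra.coe_smul, hb0, hb1, mul_one]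
      exact hs
    have e1 : s * bS 1 = (w * (ϖ ^ (2 * n) * q)) • bS 0 + (u + w * (ϖ ^ n * p)) • bS 1 := by
      apply Subtype.ext
      simp only [Subalgebra.coe_mul, Subalgebra.coe_add, Subalgebra.coe_smul, hb0, hb1]
      rw [hs, add_mul, smul_mul_assoc, one_mul, smul_mul_assoc, hηη]
      module
    rw [e0, e1]
    simp only [map_add, map_smul, Basis.repr_self, Finsupp.add_apply, Finsupp.smul_apply,
      Finsupp.single_apply, smul_eq_mul]
    simp
    ring
  refine ⟨bS, hb0, hb1, ?_⟩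
  rw [Algebra.discr_def, Matrix.det_fin_two]
  simp only [Algebra.traceMatrix_apply, Algebra.traceForm_apply]
  have t00 : Algebra.trace R S (bS 0 * bS 0) = 2 := by
    rw [htr (bS 0 * bS 0) 1 0 (by simp [hb0])]
    ring
  have t01 : Algebra.trace R S (bS 0 * bS 1) = ϖ ^ n * p := by
    rw [htr (bS 0 * bS 1) 0 1 (by simp [hb0, hb1])]
    ring
  have t10 : Algebra.trace R S (bS 1 * bS 0) = ϖ ^ n * p := by
    rw [htr (bS 1 * bS 0) 0 1 (by simp [hb0, hb1])]
    ring
  have t11 : Algebra.trace R S (bS 1 * bS 1) =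
      2 * (ϖ ^ (2 * n) * q) + (ϖ ^ n * p) * (ϖ ^ n * p) := by
    rw [htr (bS 1 * bS 1) (ϖ ^ (2 * n) * q) (ϖ ^ n * p)
      (by simp only [Subalgebra.coe_mul, hb1]; rw [hηη, add_comm])]
  rw [t00, t01, t10, t11]
  ring

/-- classification of crimps in a rank-two algebra with basis `1, ξ` -/
theorem crimp2_iff (ϖ : R) (hϖ : Irreducible ϖ) (bt : Basis (Fin 2) R St) (h0 : bt 0 = 1)
    (p q : R) (hξ : bt 1 * bt 1 = p • bt 1 + q • (1 : St)) (a : ℕ)
    (ha : Ideal.span {p ^ 2 + 4 * q} = Ideal.span {ϖ ^ a}) (b : ℕ) (S : Subalgebra R St) :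
    (∃ bS : Basis (Fin 2) R S,
      Ideal.span {Algebra.discr R ⇑bS} = Ideal.span {ϖ ^ b}) ↔
    ∃ n : ℕ, b = 2 * n + a ∧ Subalgebra.toSubmodule S =
      Submodule.span R {(1 : St)} ⊔ Ideal.span {ϖ ^ n} • (⊤ : Submodule R St) := by
  classical
  have hϖ0 : ϖ ≠ 0 := hϖ.ne_zero
  have hvϖ : ∀ m : ℕ, addVal R (ϖ ^ m) = (m : ℕ∞) := by
    intro m
    rw [addVal_pow, addVal_uniformizer hϖ, nsmul_eq_mul, mul_one]
  have hva : addVal R (p ^ 2 + 4 * q) = (a : ℕ∞) := by
    rw [← hvϖ a]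
    exact (addVal_eq_iff_associated _ _).mpr (Ideal.span_singleton_eq_span_singleton.mp ha)
  constructor
  · rintro ⟨bS, hb⟩
    have hvb : addVal R (Algebra.discr R ⇑bS) = (b : ℕ∞) := by
      rw [← hvϖ b]
      exact (addVal_eq_iff_associated _ _).mpr (Ideal.span_singleton_eq_span_singleton.mp hb)
    obtain ⟨J, hJ⟩ : ∃ J : Ideal R, J = (Subalgebra.toSubmodule S).map (bt.coord 1) := ⟨_, rfl⟩
    have hS1 : ∀ x : St, x ∈ S ↔ bt.coord 1 x ∈ J := by
      intro x
      constructor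
      · intro hx
        rw [hJ]
        exact Submodule.mem_map_of_mem ((Subalgebra.mem_toSubmodule S).2 hx)
      · intro hx
        rw [hJ] at hx
        obtain ⟨s, hs, hsx⟩ := Submodule.mem_map.1 hx
        have hs' : s ∈ S := (Subalgebra.mem_toSubmodule S).1 hs
        have h1 := repr_decomp bt (x - s)
        rw [map_sub (bt.coord 1), hsx, sub_self, zero_smul, add_zero, h0] at h1
        have h2 : x - s ∈ S := by
          rw [h1, Algebra.smul_def, mul_one]
          exact S.algebraMap_mem _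
        have h3 : x = s + (x - s) := by ring
        rw [h3]
        exact S.add_mem hs' h2
    by_cases hJ0 : J = ⊥
    · exfalso
      have hform : ∀ s : S, (s : St) = bt.coord 0 (s : St) • (1 : St) := by
        intro s
        have h1 := repr_decomp bt (s : St)
        have h2 : bt.coord 1 (s : St) = 0 := by
          have := (hS1 (s : St)).1 s.2
          rwa [hJ0, Submodule.mem_bot] at this
        rwa [h2, zero_smul, add_zero, h0] at h1
      have hrel : bt.coord 0 ((bS 1 : S) : St) • bS 0 - bt.coord 0 ((bS 0 : S) : St) • bS 1 = 0 := by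
        apply Subtype.ext
        simp only [Subalgebra.coe_sub, Subalgebra.coe_smul, Subalgebra.coe_zero]
        rw [hform (bS 0), hform (bS 1)]
        simp only [map_smul, smul_eq_mul]
        have h1 : bt.coord 0 (1 : St) = 1 := by
          have := (coord_comb bt 1 0).1
          rwa [zero_smul, add_zero, one_smul, h0] at this
        rw [h1]
        module
      have hli := bS.linearIndependent
      rw [Fintype.linearIndependent_iff] at hli
      have h4 := hli (fun i => if i = 0 then bt.coord 0 ((bS 1 : S) : St)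
          else - bt.coord 0 ((bS 0 : S) : St)) (by
        rw [Fin.sum_univ_two]
        simp only [if_true, Fin.one_eq_zero_iff]
        rw [← hrel]
        simp [sub_eq_add_neg])
      have h5 := h4 0
      have h6 := h4 1
      simp only [if_true] at h5
      simp at h6
      have h7 := hform (bS 0)
      rw [Basis.coord_apply, h6, zero_smul] at h7
      exact bS.ne_zero 0 (Subtype.ext h7)
    · obtain ⟨m, hm⟩ := ideal_eq_span_pow_irreducible hJ0 hϖ
      have hSW : Subalgebra.toSubmodule S =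
          Submodule.span R {(1 : St)} ⊔ Ideal.span {ϖ ^ m} • (⊤ : Submodule R St) := by
        ext x
        rw [Subalgebra.mem_toSubmodule, hS1, hm, mem_W bt h0, Ideal.mem_span_singleton]
      obtain ⟨bS', -, -, hd⟩ := crimp2_basis bt h0 p q hξ ϖ hϖ0 m S hSW
      refine ⟨m, ?_, hSW⟩
      have h1 := Groth.Agent.H64.Crimp.discr_basis_change bS' bS
      rw [hvb, hd, addVal_mul, hvϖ, hva] at h1
      exact_mod_cast h1
  · rintro ⟨n, hbn, hSW⟩
    obtain ⟨bS', -, -, hd⟩ := crimp2_basis bt h0 p q hξ ϖ hϖ0 n S hSW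
    refine ⟨bS', ?_⟩
    rw [hd, ← Ideal.span_singleton_mul_span_singleton, ha,
      Ideal.span_singleton_mul_span_singleton, ← pow_add, hbn]

/-- `W_n` is spanned by `1` and `ϖ^n ξ` -/
lemma W_eq_span_pair (bt : Basis (Fin 2) R St) (h0 : bt 0 = 1) (ϖ : R) (n : ℕ) :
    Submodule.span R {(1 : St)} ⊔ Ideal.span {ϖ ^ n} • (⊤ : Submodule R St) =
      Submodule.span R {(1 : St), ϖ ^ n • bt 1} := by
  ext x
  rw [mem_W bt h0, Submodule.mem_span_pair]
  constructor
  · rintro ⟨c, hc⟩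
    refine ⟨bt.coord 0 x, c, ?_⟩
    have h1 := repr_decomp bt x
    rw [hc, h0, mul_comm, mul_smul] at h1
    exact h1.symm
  · rintro ⟨u, w, rfl⟩
    have h1 := (coord_comb bt u (w * ϖ ^ n)).2
    rw [h0, mul_smul] at h1
    rw [h1]
    exact Dvd.intro_left w rfl

lemma li_pair (bt : Basis (Fin 2) R St) (h0 : bt 0 = 1) (ϖ : R) (hϖ0 : ϖ ≠ 0) (n : ℕ)
    (u w : R) (h : u • (1 : St) + w • (ϖ ^ n • bt 1) = 0) : u = 0 ∧ w = 0 := by
  have h3 := coord_comb bt u (w * ϖ ^ n)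
  rw [h0, mul_smul, h, map_zero, map_zero] at h3
  refine ⟨h3.1.symm, ?_⟩
  have h4 : w * ϖ ^ n = 0 := h3.2.symm
  exact (mul_eq_zero.1 h4).resolve_right (pow_ne_zero _ hϖ0)

end DVR

section Split

variable {R : Type*} [CommRing R] [IsDomain R] [IsDiscreteValuationRing R]

theorem exists_basis_split : ∃ bt : Basis (Fin 2) R (Fin 2 → R),
    bt 0 = 1 ∧ bt 1 = Pi.single 0 1 := by
  obtain ⟨v, hv⟩ : ∃ v : Fin 2 → (Fin 2 → R), v = ![1, Pi.single 0 1] := ⟨_, rfl⟩
  have hli : LinearIndependent R v := by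
    rw [hv, LinearIndependent.pair_iff]
    intro s t hst
    have h0 := congrFun hst 0
    have h1 := congrFun hst 1
    simp at h0 h1
    refine ⟨h1, ?_⟩
    rw [h1, zero_add] at h0
    exact h0
  have hsp : ⊤ ≤ Submodule.span R (Set.range v) := by
    rintro x -
    have hx : x = x 1 • v 0 + (x 0 - x 1) • v 1 := by
      rw [hv]
      funext i
      fin_cases i <;> simp
    rw [hx]
    exact Submodule.add_mem _ (Submodule.smul_mem _ _ (Submodule.subset_span ⟨0, rfl⟩))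
      (Submodule.smul_mem _ _ (Submodule.subset_span ⟨1, rfl⟩))
  refine ⟨Basis.mk hli hsp, ?_, ?_⟩
  · rw [Basis.coe_mk, hv]
    rfl
  · rw [Basis.coe_mk, hv]
    rfl

theorem split_result (ϖ : R) (hϖ : Irreducible ϖ) (h2 : R) (hh2 : 2 * h2 = 1) (b : ℕ)
    (S : Subalgebra R (Fin 2 → R)) :
    ((∃ bS : Basis (Fin 2) R S,
      Ideal.span {Algebra.discr R ⇑bS} = Ideal.span {ϖ ^ b}) ↔
    ∃ n : ℕ, b = 2 * n ∧ Subalgebra.toSubmodule S =
      Submodule.span R {(1 : Fin 2 → R)} ⊔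
        Ideal.span {ϖ ^ n} • (⊤ : Submodule R (Fin 2 → R))) ∧
    (∀ n : ℕ, Subalgebra.toSubmodule S = Submodule.span R {(1 : Fin 2 → R)} ⊔
        Ideal.span {ϖ ^ n} • (⊤ : Submodule R (Fin 2 → R)) →
      Nonempty (S ≃ₐ[R] AdjoinRoot (X ^ 2 - C (ϖ ^ (2 * n)) : R[X]))) := by
  obtain ⟨bt, h0, h1⟩ := exists_basis_split (R := R)
  have hξ : bt 1 * bt 1 = (1 : R) • bt 1 + (0 : R) • (1 : Fin 2 → R) := by
    rw [h1]
    funext i
    fin_cases i <;> simp
  have ha : Ideal.span {(1 : R) ^ 2 + 4 * 0} = Ideal.span {ϖ ^ 0} := by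
    norm_num
  constructor
  · have h := crimp2_iff ϖ hϖ bt h0 1 0 hξ 0 ha b S
    simpa using h
  · intro n hS
    have hϖ0 : ϖ ≠ 0 := hϖ.ne_zero
    obtain ⟨y, hy⟩ : ∃ y : Fin 2 → R, y = ![ϖ ^ n, - ϖ ^ n] := ⟨_, rfl⟩
    have hyy : y * y = (ϖ ^ (2 * n)) • (1 : Fin 2 → R) := by
      rw [hy]
      funext i
      fin_cases i <;> simp <;> ring
    have hyη : y = (- ϖ ^ n) • (1 : Fin 2 → R) + (2 : R) • (ϖ ^ n • bt 1) := by
      rw [hy, h1]
      funext i
      fin_cases i <;> simp <;> ring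
    have hηy : ϖ ^ n • bt 1 = (h2 * ϖ ^ n) • (1 : Fin 2 → R) + h2 • y := by
      rw [hy, h1]
      funext i
      fin_cases i
      · simp
        linear_combination (- ϖ ^ n) * hh2
      · simp
    have hspan : Subalgebra.toSubmodule S = Submodule.span R {(1 : Fin 2 → R), y} := by
      rw [hS, W_eq_span_pair bt h0]
      apply le_antisymm
      · rw [Submodule.span_le]
        rintro z (rfl | rfl)
        · exact Submodule.subset_span (by simp)
        · rw [SetLike.mem_coe, Submodule.mem_span_pair]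
          exact ⟨h2 * ϖ ^ n, h2, hηy.symm⟩
      · rw [Submodule.span_le]
        rintro z (rfl | rfl)
        · exact Submodule.subset_span (by simp)
        · rw [SetLike.mem_coe, Submodule.mem_span_pair]
          exact ⟨- ϖ ^ n, 2, hyη.symm⟩
    have hli : ∀ u v : R, u • (1 : Fin 2 → R) + v • y = 0 → u = 0 ∧ v = 0 := by
      intro u v huv
      have e0 := congrFun huv 0
      have e1 := congrFun huv 1
      rw [hy] at e0 e1
      simp at e0 e1
      have hu2 : 2 * u = 0 := by linear_combination e0 + e1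
      have hu : u = 0 := by linear_combination h2 * hu2 - u * hh2
      refine ⟨hu, ?_⟩
      rw [hu, zero_add] at e0
      exact (mul_eq_zero.1 e0).resolve_right (pow_ne_zero _ hϖ0)
    exact algEquiv_adjoinRoot S y (ϖ ^ (2 * n)) hyy hspan hli

end Split

section Ram

variable {R : Type*} [CommRing R] [IsDomain R] [IsDiscreteValuationRing R]

theorem exists_basis_ram (ϖ : R) :
    ∃ bt : Basis (Fin 2) R (AdjoinRoot (X ^ 2 - C ϖ : R[X])),
      bt 0 = 1 ∧ bt 1 = AdjoinRoot.root _ := by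
  have hg : (X ^ 2 - C ϖ : R[X]).Monic := monic_X_pow_sub_C ϖ (by norm_num)
  have hdim : (AdjoinRoot.powerBasis' hg).dim = 2 := by
    rw [AdjoinRoot.powerBasis'_dim, natDegree_X_pow_sub_C]
  refine ⟨(AdjoinRoot.powerBasis' hg).basis.reindex (finCongr hdim), ?_, ?_⟩
  · rw [Basis.reindex_apply, PowerBasis.coe_basis]
    simp
  · rw [Basis.reindex_apply, PowerBasis.coe_basis]
    simp [AdjoinRoot.powerBasis'_gen]

theorem ram_result (ϖ : R) (hϖ : Irreducible ϖ) (h2 : R) (hh2 : 2 * h2 = 1) (b : ℕ)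
    (S : Subalgebra R (AdjoinRoot (X ^ 2 - C ϖ : R[X]))) :
    ((∃ bS : Basis (Fin 2) R S,
      Ideal.span {Algebra.discr R ⇑bS} = Ideal.span {ϖ ^ b}) ↔
    ∃ n : ℕ, b = 2 * n + 1 ∧ Subalgebra.toSubmodule S =
      Submodule.span R {(1 : AdjoinRoot (X ^ 2 - C ϖ : R[X]))} ⊔
        Ideal.span {ϖ ^ n} • (⊤ : Submodule R (AdjoinRoot (X ^ 2 - C ϖ : R[X])))) ∧
    (∀ n : ℕ, Subalgebra.toSubmodule S =
        Submodule.span R {(1 : AdjoinRoot (X ^ 2 - C ϖ : R[X]))} ⊔
        Ideal.span {ϖ ^ n} • (⊤ : Submodule R (AdjoinRoot (X ^ 2 - C ϖ : R[X]))) →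
      Nonempty (S ≃ₐ[R] AdjoinRoot (X ^ 2 - C (ϖ ^ (2 * n + 1)) : R[X]))) := by
  obtain ⟨bt, h0, h1⟩ := exists_basis_ram ϖ
  have hroot : AdjoinRoot.root (X ^ 2 - C ϖ : R[X]) * AdjoinRoot.root (X ^ 2 - C ϖ : R[X]) =
      ϖ • (1 : AdjoinRoot (X ^ 2 - C ϖ : R[X])) := by
    have h := AdjoinRoot.mk_self (f := (X ^ 2 - C ϖ : R[X]))
    rw [map_sub, map_pow, AdjoinRoot.mk_X, AdjoinRoot.mk_C, sub_eq_zero] at h
    rw [← pow_two, h, Algebra.smul_def, mul_one, AdjoinRoot.algebraMap_eq]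
  have hξ : bt 1 * bt 1 = (0 : R) • bt 1 + ϖ • (1 : AdjoinRoot (X ^ 2 - C ϖ : R[X])) := by
    rw [h1, hroot, zero_smul, zero_add]
  have ha : Ideal.span {(0 : R) ^ 2 + 4 * ϖ} = Ideal.span {ϖ ^ 1} := by
    rw [Ideal.span_singleton_eq_span_singleton]
    have h4 : IsUnit (4 : R) := IsUnit.of_mul_eq_one (h2 ^ 2) (by linear_combination (2 * h2 + 1) * hh2)
    have : (0 : R) ^ 2 + 4 * ϖ = 4 * ϖ ^ 1 := by ring
    rw [this]
    exact associated_unit_mul_left _ _ h4
  constructor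
  · exact crimp2_iff ϖ hϖ bt h0 0 ϖ hξ 1 ha b S
  · intro n hS
    have hϖ0 : ϖ ≠ 0 := hϖ.ne_zero
    have hyy : (ϖ ^ n • bt 1) * (ϖ ^ n • bt 1) =
        (ϖ ^ (2 * n + 1)) • (1 : AdjoinRoot (X ^ 2 - C ϖ : R[X])) := by
      rw [smul_mul_smul_comm, h1, hroot, smul_smul]
      congr 1
      ring
    have hspan : Subalgebra.toSubmodule S =
        Submodule.span R {(1 : AdjoinRoot (X ^ 2 - C ϖ : R[X])), ϖ ^ n • bt 1} := by
      rw [hS, W_eq_span_pair bt h0]
    exact algEquiv_adjoinRoot S (ϖ ^ n • bt 1) (ϖ ^ (2 * n + 1)) hyy hspan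
      (li_pair bt h0 ϖ hϖ0 n)

end Ram

end Groth.Agent.H64.Crimp3
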