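import Mathlib

/-!
Formally unramified finite type algebras over an algebraically closed field are detected by
dual-number points (row S18905).
-/

set_option autoImplicit false
set_option linter.style.haveILetI false
universe u

namespace Groth.Agent.H64.DualNumUnram

open KaehlerDifferential

theorem exists_maximal_smul_ne_top (B M : Type*) [CommRing B] [AddCommGroup M] [Module B M]
    [Module.Finite B M] [Nontrivial M] :
    ∃ m : Ideal B, m.IsMaximal ∧ m • (⊤ : Submodule B M) ≠ ⊤ := by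
  have hann : Module.annihilator B M ≠ ⊤ := by
    intro h
    have h1 : (1 : B) ∈ Module.annihilator B M := h ▸ Submodule.mem_top
    obtain ⟨x, hx⟩ := exists_ne (0 : M)
    exact hx (by simpa using Module.mem_annihilator.mp h1 x)
  obtain ⟨m, hm, hle⟩ := Ideal.exists_le_maximal _ hann
  refine ⟨m, hm, fun htop => ?_⟩
  obtain ⟨r, hr1, hr0⟩ := Submodule.exists_sub_one_mem_and_smul_eq_zero_of_fg_of_le_smul m
    (⊤ : Submodule B M) Module.Finite.fg_top (by rw [htop])
  have hr : r ∈ Module.annihilator B M :=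
    Module.mem_annihilator.mpr fun x => hr0 x Submodule.mem_top
  have hrm : r ∈ m := hle hr
  have h1 : (1 : B) ∈ m := by
    have := m.sub_mem hrm hr1
    simpa using this
  exact hm.ne_top ((Ideal.eq_top_iff_one m).mpr h1)

variable {k : Type u} [Field k] [IsAlgClosed k] {B : Type u} [CommRing B] [Algebra k B]
  [Algebra.FiniteType k B]

theorem exists_ev (m : Ideal B) [hm : m.IsMaximal] :
    ∃ ev : B →ₐ[k] k, ∀ b, b - algebraMap k B (ev b) ∈ m := by
  letI : Field (B ⧸ m) := Ideal.Quotient.field m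
  haveI : Algebra.FiniteType k (B ⧸ m) :=
    Algebra.FiniteType.of_surjective (Ideal.Quotient.mkₐ k m) Ideal.Quotient.mk_surjective
  haveI : Module.Finite k (B ⧸ m) := finite_of_finite_type_of_isJacobsonRing k (B ⧸ m)
  haveI : Algebra.IsIntegral k (B ⧸ m) := Algebra.IsIntegral.of_finite k (B ⧸ m)
  have hbij : Function.Bijective (algebraMap k (B ⧸ m)) :=
    IsAlgClosed.algebraMap_bijective_of_isIntegral
  let e : k ≃ₐ[k] (B ⧸ m) := AlgEquiv.ofBijective (Algebra.ofId k (B ⧸ m)) hbij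
  refine ⟨(e.symm : (B ⧸ m) →ₐ[k] k).comp (Ideal.Quotient.mkₐ k m), fun b => ?_⟩
  rw [← Ideal.Quotient.eq_zero_iff_mem, map_sub, sub_eq_zero]
  have h1 : e (e.symm (Ideal.Quotient.mk m b)) = Ideal.Quotient.mk m b := e.apply_symm_apply _
  exact h1.symm

theorem formallyUnramified_of_dualNumber
    (h : ∀ θ₁ θ₂ : B →ₐ[k] DualNumber k,
      (∀ b, TrivSqZeroExt.fst (θ₁ b) = TrivSqZeroExt.fst (θ₂ b)) → θ₁ = θ₂) :
    Algebra.FormallyUnramified k B := by
  constructor
  by_contra hns
  rw [not_subsingleton_iff_nontrivial] at hns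
  haveI := hns
  obtain ⟨m, hm, hne⟩ := exists_maximal_smul_ne_top B Ω[B⁄k]
  haveI := hm
  obtain ⟨ev, hev⟩ := exists_ev (k := k) m
  obtain ⟨N, hN⟩ : ∃ N : Submodule B Ω[B⁄k], N = m • ⊤ := ⟨_, rfl⟩
  rw [← hN] at hne
  have hV : ∃ v : Ω[B⁄k] ⧸ N, v ≠ 0 := by
    by_contra hall
    push_neg at hall
    apply hne
    rw [eq_top_iff]
    intro ω _
    exact (Submodule.Quotient.mk_eq_zero N).mp (hall (N.mkQ ω))
  obtain ⟨v₀, hv₀⟩ := hV
  obtain ⟨lam, hlam⟩ : ∃ lam : Module.Dual k (Ω[B⁄k] ⧸ N), lam v₀ ≠ 0 := by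
    by_contra hall
    push_neg at hall
    exact hv₀ ((Module.forall_dual_apply_eq_zero_iff k v₀).mp hall)
  have hsmul : ∀ (b : B) (v : Ω[B⁄k] ⧸ N), b • v = ev b • v := by
    intro b v
    obtain ⟨ω, rfl⟩ := N.mkQ_surjective v
    have h1 : (b - algebraMap k B (ev b)) • ω ∈ N := by
      rw [hN]; exact Submodule.smul_mem_smul (hev b) Submodule.mem_top
    have h2 : N.mkQ ((b - algebraMap k B (ev b)) • ω) = 0 :=
      (Submodule.Quotient.mk_eq_zero N).mpr h1
    rw [map_smul, sub_smul, sub_eq_zero, algebraMap_smul] at h2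
    exact h2
  obtain ⟨δ, hδ⟩ : ∃ δ : B → k, ∀ b, δ b = lam (N.mkQ (D k B b)) := ⟨_, fun _ => rfl⟩
  have hδ_add : ∀ a b, δ (a + b) = δ a + δ b := fun a b => by simp [hδ]
  have hδ_mul : ∀ a b, δ (a * b) = ev a * δ b + ev b * δ a := by
    intro a b
    simp only [hδ, Derivation.leibniz, map_add, map_smul, hsmul, smul_eq_mul]
  have hδ_alg : ∀ c : k, δ (algebraMap k B c) = 0 := fun c => by simp [hδ]
  have hδ_one : δ 1 = 0 := by simp [hδ]
  have hδ_zero : δ 0 = 0 := by simp [hδ]
  let θ₁ : B →ₐ[k] DualNumber k :=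
    { toFun := fun b => TrivSqZeroExt.inl (ev b) + TrivSqZeroExt.inr (δ b)
      map_one' := by simp [hδ_one]
      map_mul' := fun a b => by
        apply TrivSqZeroExt.ext
        · simp
        · simp [hδ_mul, mul_comm]
      map_zero' := by simp [hδ_zero]
      map_add' := fun a b => by
        apply TrivSqZeroExt.ext
        · simp
        · simp [hδ_add]
      commutes' := fun c => by
        simp [hδ_alg, TrivSqZeroExt.algebraMap_eq_inl] }
  let θ₂ : B →ₐ[k] DualNumber k := (TrivSqZeroExt.inlAlgHom k k k).comp ev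
  have h12 : θ₁ = θ₂ := h θ₁ θ₂ (fun b => by simp [θ₁, θ₂])
  have hδ0 : ∀ b, δ b = 0 := by
    intro b
    have := congrArg (fun θ : B →ₐ[k] DualNumber k => TrivSqZeroExt.snd (θ b)) h12
    simpa [θ₁, θ₂] using this
  have hlam0 : ∀ ω : Ω[B⁄k], lam (N.mkQ ω) = 0 := by
    intro ω
    have hω : ω ∈ Submodule.span B (Set.range (D k B)) := by
      rw [span_range_derivation]; trivial
    induction hω using Submodule.span_induction with
    | mem x hx => obtain ⟨b, rfl⟩ := hx; rw [← hδ]; exact hδ0 b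
    | zero => simp
    | add x y _ _ hx hy => rw [map_add, map_add, hx, hy, add_zero]
    | smul a x _ hx => rw [map_smul, hsmul, map_smul, hx, smul_zero]
  obtain ⟨ω₀, rfl⟩ := N.mkQ_surjective v₀
  exact hlam (hlam0 ω₀)

end Groth.Agent.H64.DualNumUnram
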