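import Mathlib

/-! Helper for S6375: cardinality bound for ring epimorphisms via the zigzag (Mazet) criterion. -/

open TensorProduct

namespace Groth.Agent.H64.EpiCard

variable {R S : Type*} [CommRing R] [CommRing S] [Algebra R S]

def nv {n : ℕ} (x : S) : Fin (n + 2) → S := Fin.cons 1 (Fin.cons (-x) (fun _ => 0))

theorem exists_code [Algebra.IsEpi R S] (x : S) :
    ∃ (n k : ℕ) (a : Fin (n + 2) → Fin k → R) (m : Fin (n + 2) → S) (y : Fin k → S),
      m 0 = x ∧ m 1 = 1 ∧ (∀ j, ∑ i, a i j • m i = 0) ∧ (∀ i, ∑ j, a i j • y j = nv x i) := by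
  classical
  set P : Submodule R S := Submodule.span R {x, 1} with hPdef
  have hP : P.FG := Submodule.fg_span (Set.toFinite _)
  let xP : P := ⟨x, Submodule.subset_span (by simp)⟩
  let oneP : P := ⟨1, Submodule.subset_span (by simp)⟩
  let t : P ⊗[R] S := xP ⊗ₜ 1 - oneP ⊗ₜ x
  have h : LinearMap.rTensor S P.subtype t = 0 := by
    simp only [t, map_sub, LinearMap.rTensor_tmul, Submodule.subtype_apply, xP, oneP, sub_eq_zero]
    exact ((Algebra.isEpi_iff_forall_one_tmul_eq R S).mp inferInstance x).symm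
  obtain ⟨Q, hPQ, hQ, hQ0⟩ := TensorProduct.eq_zero_of_fg_of_subtype_eq_zero hP h
  have : Module.Finite R Q := Module.Finite.iff_fg.mpr hQ
  obtain ⟨n, s, hs⟩ := Module.Finite.exists_fin (R := R) (M := Q)
  let m' : Fin (n + 2) → Q :=
    Fin.cons (Submodule.inclusion hPQ xP) (Fin.cons (Submodule.inclusion hPQ oneP) s)
  have hm' : Submodule.span R (Set.range m') = ⊤ := by
    rw [eq_top_iff, ← hs]
    apply Submodule.span_mono
    rintro _ ⟨i, rfl⟩
    exact ⟨i.succ.succ, by simp [m']⟩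
  have hsum : ∑ i, m' i ⊗ₜ[R] (nv x i : S) = (0 : Q ⊗[R] S) := by
    rw [Fin.sum_univ_succ, Fin.sum_univ_succ]
    simp only [m', nv, Fin.cons_zero, Fin.cons_succ, tmul_zero, Finset.sum_const_zero, add_zero,
      tmul_neg]
    have : LinearMap.rTensor S (Submodule.inclusion hPQ) t =
        Submodule.inclusion hPQ xP ⊗ₜ[R] (1 : S) - Submodule.inclusion hPQ oneP ⊗ₜ[R] x := by
      simp [t]
    rw [hQ0] at this
    simpa [sub_eq_add_neg, neg_tmul] using this.symm
  obtain ⟨k, a, y, h1, h2⟩ := TensorProduct.vanishesTrivially_of_sum_tmul_eq_zero R hm' hsum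
  refine ⟨n, k, a, fun i => (m' i : S), y, by simp [m', xP], by simp [m', oneP], fun j => ?_,
    fun i => (h1 i).symm⟩
  have := congrArg Subtype.val (h2 j)
  simpa using this

theorem code_unique {n k : ℕ} (a : Fin (n + 2) → Fin k → R) {x x' : S}
    (y : Fin k → S) (hy : ∀ i, ∑ j, a i j • y j = nv x i)
    (m' : Fin (n + 2) → S) (hm0' : m' 0 = x') (hm1' : m' 1 = 1)
    (hma' : ∀ j, ∑ i, a i j • m' i = 0) : x = x' := by
  have e1 : ∑ j, (∑ i, a i j • m' i) * y j = 0 := by simp [hma']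
  have e2 : ∑ j, (∑ i, a i j • m' i) * y j = ∑ i, m' i * (∑ j, a i j • y j) := by
    simp only [Finset.sum_mul, Finset.mul_sum]
    rw [Finset.sum_comm]
    refine Finset.sum_congr rfl (fun i _ => Finset.sum_congr rfl (fun j _ => ?_))
    simp
  rw [e2] at e1
  simp only [hy] at e1
  rw [Fin.sum_univ_succ, Fin.sum_univ_succ] at e1
  simp only [nv, Fin.cons_zero, Fin.cons_succ, mul_zero, Finset.sum_const_zero, add_zero, mul_one,
    mul_neg] at e1
  have h1 : m' (Fin.succ 0) = 1 := hm1'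
  rw [hm0', h1] at e1
  linear_combination (-1 : S) * e1

end Groth.Agent.H64.EpiCard

namespace Groth.Agent.H64.EpiCard

universe u

variable {R S : Type u} [CommRing R] [CommRing S] [Algebra R S]

def Good (x : S) (c : ℕ × ℕ × List (List R)) : Prop :=
  ∃ (a : Fin (c.1 + 2) → Fin c.2.1 → R), c.2.2 = List.ofFn (fun i => List.ofFn (a i)) ∧
    ∃ (m : Fin (c.1 + 2) → S) (y : Fin c.2.1 → S),
      m 0 = x ∧ m 1 = 1 ∧ (∀ j, ∑ i, a i j • m i = 0) ∧ (∀ i, ∑ j, a i j • y j = nv x i)

theorem good_unique {x x' : S} {c : ℕ × ℕ × List (List R)} (hg : Good x c) (hg' : Good x' c) :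
    x = x' := by
  obtain ⟨a, ha, m, y, h0, h1, hma, hy⟩ := hg
  obtain ⟨a', ha', m', y', h0', h1', hma', hy'⟩ := hg'
  have e : a = a' := by
    have := ha.symm.trans ha'
    funext i
    exact List.ofFn_injective (congrFun (List.ofFn_injective this) i)
  subst e
  exact code_unique a y hy m' h0' h1' hma'

theorem card_le [Algebra.IsEpi R S] [Infinite R] : Cardinal.mk S ≤ Cardinal.mk R := by
  classical
  have ex : ∀ x : S, ∃ c : ℕ × ℕ × List (List R), Good x c := by
    intro x
    obtain ⟨n, k, a, m, y, h⟩ := exists_code (R := R) x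
    exact ⟨(n, k, List.ofFn (fun i => List.ofFn (a i))), a, rfl, m, y, h⟩
  choose f hf using ex
  have finj : Function.Injective f := by
    intro x x' hxx'
    exact good_unique (hf x) (by rw [hxx']; exact hf x')
  have hR : Cardinal.aleph0 ≤ Cardinal.mk R := Cardinal.aleph0_le_mk R
  calc Cardinal.mk S ≤ Cardinal.mk (ℕ × ℕ × List (List R)) := Cardinal.mk_le_of_injective finj
    _ = Cardinal.mk R := by
      rw [Cardinal.mk_prod, Cardinal.mk_prod, Cardinal.mk_list_eq_mk, Cardinal.mk_list_eq_mk]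
      simp [Cardinal.aleph0_mul_eq hR]

end Groth.Agent.H64.EpiCard
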