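import Mathlib

/-!
# (BR) for helper65's S14078 squad: the residue field map of `Spec.map φ` at a prime
-/

set_option autoImplicit false
universe u
open CategoryTheory CategoryTheory.Limits AlgebraicGeometry TensorProduct

namespace Groth.Agent.H64.FC78_BR

/-- residue field maps of isomorphic local homomorphisms -/
theorem bijective_residueField_map_of_equiv {A B A' B' : Type u} [CommRing A] [CommRing B]
    [CommRing A'] [CommRing B'] [IsLocalRing A] [IsLocalRing B] [IsLocalRing A'] [IsLocalRing B']
    (a : A →+* B) [IsLocalHom a] (b : A' →+* B') [IsLocalHom b] (eL : A ≃+* A') (eR : B ≃+* B')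
    (h : ∀ t, eR (a t) = b (eL t))
    (hb : Function.Bijective (IsLocalRing.ResidueField.map b)) :
    Function.Bijective (IsLocalRing.ResidueField.map a) := by
  refine ⟨(IsLocalRing.ResidueField.map a).injective, fun y => ?_⟩
  obtain ⟨s, rfl⟩ := IsLocalRing.residue_surjective y
  obtain ⟨z, hz⟩ := hb.2 (IsLocalRing.residue B' (eR s))
  obtain ⟨t', rfl⟩ := IsLocalRing.residue_surjective z
  rw [IsLocalRing.ResidueField.map_residue] at hz
  refine ⟨IsLocalRing.residue A (eL.symm t'), ?_⟩
  rw [IsLocalRing.ResidueField.map_residue]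
  have h1 : b t' = eR (a (eL.symm t')) := by rw [h, RingEquiv.apply_symm_apply]
  rw [h1] at hz
  -- `eR (a t) - eR s ∈ m`, so `a t - s ∈ m`
  have h2 : eR (a (eL.symm t') - s) ∈ IsLocalRing.maximalIdeal B' := by
    rw [map_sub, ← Ideal.Quotient.eq]
    exact hz
  have h3 : a (eL.symm t') - s ∈ IsLocalRing.maximalIdeal B := by
    rw [IsLocalRing.mem_maximalIdeal, mem_nonunits_iff] at h2 ⊢
    intro hu
    exact h2 (hu.map eR)
  exact (Ideal.Quotient.eq.2 h3)

theorem isIso_residueFieldMap_SpecMap {R S : CommRingCat.{u}} (φ : R ⟶ S) (x : PrimeSpectrum S)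
    (h : Function.Bijective
      (Ideal.ResidueField.map (x.asIdeal.comap φ.hom) x.asIdeal φ.hom rfl)) :
    IsIso ((Spec.map φ).residueFieldMap (x : ↥(Spec S))) := by
  rw [ConcreteCategory.isIso_iff_bijective]
  let e := Scheme.arrowStalkMapSpecIso φ x
  have hw : e.hom.left ≫ (CommRingCat.ofHom <| Localization.localRingHom
      (x.comap φ.hom).asIdeal x.asIdeal φ.hom rfl) =
      (Spec.map φ).stalkMap x ≫ e.hom.right := e.hom.w
  have : IsIso e.hom.left := inferInstance
  have : IsIso e.hom.right := inferInstance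
  exact bijective_residueField_map_of_equiv ((Spec.map φ).stalkMap x).hom
    (Localization.localRingHom (x.comap φ.hom).asIdeal x.asIdeal φ.hom rfl)
    (asIso e.hom.left).commRingCatIsoToRingEquiv (asIso e.hom.right).commRingCatIsoToRingEquiv
    (fun t => (ConcreteCategory.congr_hom hw t).symm) h

end Groth.Agent.H64.FC78_BR
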