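import Mathlib
import Groth.Agent.H31.SL_P4_RL

/-!
# (RS) for helper65's S14078 squad: residue fields of a tensor product over a residually
trivial extension
-/

set_option autoImplicit false
universe u
open CategoryTheory CategoryTheory.Limits AlgebraicGeometry TensorProduct

namespace Groth.Agent.H64.FC78_RS

open Groth.Agent.H31.SL_P4_RL

theorem residueField_map_bijective_of_tensor {A B R : Type u} [CommRing A] [CommRing B] [CommRing R]
    [Algebra A B] [Algebra A R]
    (p : Ideal A) [p.IsPrime] (P : Ideal R) [P.IsPrime] (hP : p = P.comap (algebraMap A R))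
    (hbij : Function.Bijective (Ideal.ResidueField.map p P (algebraMap A R) hP))
    (P' : Ideal (R ⊗[A] B)) [P'.IsPrime] (hP' : P = P'.comap (algebraMap R (R ⊗[A] B)))
    (q : Ideal B) [q.IsPrime]
    (hq : q = P'.comap (Algebra.TensorProduct.includeRight : B →ₐ[A] R ⊗[A] B).toRingHom) :
    Function.Bijective (Ideal.ResidueField.map q P'
      (Algebra.TensorProduct.includeRight : B →ₐ[A] R ⊗[A] B).toRingHom hq) := by
  set ι : B →+* R ⊗[A] B :=
    (Algebra.TensorProduct.includeRight : B →ₐ[A] R ⊗[A] B).toRingHom with hι
  set φ := Ideal.ResidueField.map q P' ι hq with hφ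
  set ψ := Ideal.ResidueField.map P P' (algebraMap R (R ⊗[A] B)) hP' with hψ
  refine ⟨φ.injective, ?_⟩
  let L : Subfield P'.ResidueField := φ.fieldRange
  -- images of `B`
  have hB : ∀ b : B, algebraMap (R ⊗[A] B) P'.ResidueField (ι b) ∈ L := fun b =>
    ⟨algebraMap B q.ResidueField b, Ideal.ResidueField.map_algebraMap q P' ι hq b⟩
  -- compatibility of the two maps from `A`
  have hAcomp : ∀ a : A, algebraMap R (R ⊗[A] B) (algebraMap A R a) = ι (algebraMap A B a) := by
    intro a
    have h1 : ι (algebraMap A B a) = algebraMap A (R ⊗[A] B) a :=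
      (Algebra.TensorProduct.includeRight : B →ₐ[A] R ⊗[A] B).commutes a
    rw [h1, ← IsScalarTower.algebraMap_apply]
  -- images of `R`
  have hR : ∀ r : R,
      algebraMap (R ⊗[A] B) P'.ResidueField (algebraMap R (R ⊗[A] B) r) ∈ L := by
    intro r
    obtain ⟨z, hz⟩ := hbij.2 (algebraMap R P.ResidueField r)
    obtain ⟨a, s, hs, hzs⟩ := exists_frac p z
    -- apply `map p P` then `ψ`
    have h1 : algebraMap R P.ResidueField r * algebraMap R P.ResidueField (algebraMap A R s) =
        algebraMap R P.ResidueField (algebraMap A R a) := by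
      have := congrArg (Ideal.ResidueField.map p P (algebraMap A R) hP) hzs
      rw [map_mul, hz, Ideal.ResidueField.map_algebraMap, Ideal.ResidueField.map_algebraMap] at this
      exact this
    have h2 := congrArg ψ h1
    rw [map_mul, hψ, Ideal.ResidueField.map_algebraMap, Ideal.ResidueField.map_algebraMap,
      Ideal.ResidueField.map_algebraMap, hAcomp, hAcomp] at h2
    have hne : algebraMap (R ⊗[A] B) P'.ResidueField (ι (algebraMap A B s)) ≠ 0 := by
      rw [Ne, Ideal.algebraMap_residueField_eq_zero, ← hAcomp]
      intro hmem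
      apply hs
      rw [hP, Ideal.mem_comap, hP', Ideal.mem_comap]
      exact hmem
    have h3 : algebraMap (R ⊗[A] B) P'.ResidueField (algebraMap R (R ⊗[A] B) r) =
        algebraMap (R ⊗[A] B) P'.ResidueField (ι (algebraMap A B a)) /
          algebraMap (R ⊗[A] B) P'.ResidueField (ι (algebraMap A B s)) := by
      rw [eq_div_iff hne]
      exact h2
    rw [h3]
    exact L.div_mem (hB _) (hB _)
  -- images of the tensor product
  have hT : ∀ t : R ⊗[A] B, algebraMap (R ⊗[A] B) P'.ResidueField t ∈ L := by
    intro t
    induction t using TensorProduct.induction_on with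
    | zero => rw [map_zero]; exact L.zero_mem
    | tmul r b =>
      rw [tmul_eq, map_mul]
      exact L.mul_mem (hR r) (hB b)
    | add x y hx hy => rw [map_add]; exact L.add_mem hx hy
  intro x
  obtain ⟨t, s, hs, hx⟩ := exists_frac P' x
  have hne : algebraMap (R ⊗[A] B) P'.ResidueField s ≠ 0 := by
    rw [Ne, Ideal.algebraMap_residueField_eq_zero]
    exact hs
  have hxL : x ∈ L := by
    have : x = algebraMap (R ⊗[A] B) P'.ResidueField t /
        algebraMap (R ⊗[A] B) P'.ResidueField s := by
      rw [eq_div_iff hne]
      exact hx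
    rw [this]
    exact L.div_mem (hT t) (hT s)
  exact hxL

end Groth.Agent.H64.FC78_RS
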