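import Mathlib

/-!
# (TOP) for helper65's S14078 squad: opens of `Z ×_S T` come from opens of `X ×_S T`
(`Z ⟶ X` an immersion)
-/

set_option autoImplicit false
universe u
open CategoryTheory CategoryTheory.Limits AlgebraicGeometry TensorProduct

namespace Groth.Agent.H64.FC78_TOP

theorem exists_opens_adapted {Z X S T : Scheme.{u}} (f : X ⟶ S) (g : T ⟶ S) (i : Z ⟶ X)
    [IsImmersion i] (W : (pullback (i ≫ f) g).Opens) :
    ∃ (U : (pullback f g).Opens)
      (θ : pullback (U.ι ≫ pullback.fst f g) i ⟶ pullback (i ≫ f) g),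
      IsOpenImmersion θ ∧ Set.range θ = (W : Set ↥(pullback (i ≫ f) g)) ∧
      θ ≫ pullback.fst (i ≫ f) g = pullback.snd (U.ι ≫ pullback.fst f g) i ∧
      θ ≫ pullback.snd (i ≫ f) g =
        pullback.fst (U.ι ≫ pullback.fst f g) i ≫ U.ι ≫ pullback.snd f g := by
  -- the base change of `i`
  let ιT : pullback (i ≫ f) g ⟶ pullback f g :=
    pullback.map (i ≫ f) g f g i (𝟙 T) (𝟙 S) (by simp) (by simp)
  have hι₁ : ιT ≫ pullback.fst f g = pullback.fst (i ≫ f) g ≫ i :=
    pullback.lift_fst _ _ _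
  have hι₂ : ιT ≫ pullback.snd f g = pullback.snd (i ≫ f) g :=
    (pullback.lift_snd _ _ _).trans (Category.comp_id _)
  have hR' : IsPullback ιT (pullback.fst (i ≫ f) g) (pullback.fst f g) i := by
    refine IsPullback.of_right ?_ hι₁ (IsPullback.of_hasPullback f g).flip
    rw [hι₂]
    exact (IsPullback.of_hasPullback (i ≫ f) g).flip
  have hR : IsPullback (pullback.fst (i ≫ f) g) ιT i (pullback.fst f g) := hR'.flip
  have hιT : IsImmersion ιT := MorphismProperty.of_isPullback (P := @IsImmersion) hR inferInstance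
  -- the open `U`
  obtain ⟨U₀, hU₀, hU₀W⟩ := ιT.isEmbedding.isInducing.isOpen_iff.1 W.2
  let U : (pullback f g).Opens := ⟨U₀, hU₀⟩
  have hUW : ιT ⁻¹' (U : Set ↥(pullback f g)) = (W : Set ↥(pullback (i ≫ f) g)) := hU₀W
  -- the morphism `θ`
  have hcond : pullback.snd (U.ι ≫ pullback.fst f g) i ≫ (i ≫ f) =
      (pullback.fst (U.ι ≫ pullback.fst f g) i ≫ U.ι ≫ pullback.snd f g) ≫ g := by
    have h1 := pullback.condition (f := U.ι ≫ pullback.fst f g) (g := i)
    have h2 := pullback.condition (f := f) (g := g)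
    rw [← Category.assoc, ← h1]
    simp only [Category.assoc]
    rw [h2]
  let θ : pullback (U.ι ≫ pullback.fst f g) i ⟶ pullback (i ≫ f) g :=
    pullback.lift (pullback.snd (U.ι ≫ pullback.fst f g) i)
      (pullback.fst (U.ι ≫ pullback.fst f g) i ≫ U.ι ≫ pullback.snd f g) hcond
  have hθ₁ : θ ≫ pullback.fst (i ≫ f) g = pullback.snd (U.ι ≫ pullback.fst f g) i :=
    pullback.lift_fst _ _ _
  have hθ₂ : θ ≫ pullback.snd (i ≫ f) g =
      pullback.fst (U.ι ≫ pullback.fst f g) i ≫ U.ι ≫ pullback.snd f g :=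
    pullback.lift_snd _ _ _
  -- the left square commutes
  have hcomm : θ ≫ ιT = pullback.fst (U.ι ≫ pullback.fst f g) i ≫ U.ι := by
    apply pullback.hom_ext
    · rw [Category.assoc, hι₁, ← Category.assoc, hθ₁, Category.assoc]
      exact (pullback.condition (f := U.ι ≫ pullback.fst f g) (g := i)).symm
    · rw [Category.assoc, hι₂, hθ₂, Category.assoc]
  -- the left square is a pullback
  have hL : IsPullback θ (pullback.fst (U.ι ≫ pullback.fst f g) i) ιT U.ι := by
    refine IsPullback.of_right ?_ hcomm hR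
    rw [hθ₁]
    exact (IsPullback.of_hasPullback (U.ι ≫ pullback.fst f g) i).flip
  have hθo : IsOpenImmersion θ :=
    MorphismProperty.of_isPullback (P := @IsOpenImmersion) hL.flip inferInstance
  refine ⟨U, θ, hθo, ?_, hθ₁, hθ₂⟩
  -- the range
  have h1 : θ = hL.isoPullback.hom ≫ pullback.fst ιT U.ι := (hL.isoPullback_hom_fst).symm
  have h2 : Set.range θ = Set.range (pullback.fst ιT U.ι) := by
    rw [h1]
    apply Set.Subset.antisymm
    · rintro _ ⟨x, rfl⟩
      exact ⟨hL.isoPullback.hom x, rfl⟩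
    · rintro _ ⟨y, rfl⟩
      refine ⟨hL.isoPullback.inv y, ?_⟩
      rw [← Scheme.Hom.comp_apply, Iso.inv_hom_id_assoc]
  rw [h2, Scheme.Pullback.range_fst, ← hUW]
  congr 1
  exact Scheme.Opens.range_ι U

end Groth.Agent.H64.FC78_TOP
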