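import Mathlib

/-!
# A functor with connected fibres which is surjective on morphisms is final (helper for S6428)
-/

open CategoryTheory CategoryTheory.Limits
universe v₁ u₁ v₂ u₂

namespace Groth.Agent.H64.FinalFib

/-- The functor from the fibre over `y'` to the structured arrows under `d`, given `f : d ⟶ y'`. -/
def fibToSA {I : Type u₁} [Category.{v₁} I] {I' : Type u₂} [Category.{v₂} I'] (F : I ⥤ I')
    {d y' : I'} (f : d ⟶ y') : F.Fiber y' ⥤ StructuredArrow d F where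
  obj a := StructuredArrow.mk (f ≫ eqToHom a.2.symm)
  map {a b} φ := StructuredArrow.homMk φ.1 (by
    have := φ.2
    have h := IsHomLift.fac' F (𝟙 y') φ.1
    simp [h])
  map_id a := by
    apply StructuredArrow.hom_ext
    rfl
  map_comp φ ψ := by
    apply StructuredArrow.hom_ext
    rfl

theorem final_of {I : Type u₁} [Category.{v₁} I] {I' : Type u₂} [Category.{v₂} I'] (F : I ⥤ I')
    (h1 : ∀ x' : I', IsConnected (F.Fiber x'))
    (h2 : ∀ ⦃x' y' : I'⦄ (α' : x' ⟶ y'), ∃ (x y : I) (hx : F.obj x = x') (hy : F.obj y = y')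
      (α : x ⟶ y), F.map α = eqToHom hx ≫ α' ≫ eqToHom hy.symm) : F.Final := by
  refine ⟨fun d => ?_⟩
  obtain ⟨xd, -, hxd, -, -, -⟩ := h2 (𝟙 d)
  have : Nonempty (StructuredArrow d F) := ⟨(fibToSA F (𝟙 d)).obj ⟨xd, hxd⟩⟩
  have key : ∀ X : StructuredArrow d F, Zigzag ((fibToSA F (𝟙 d)).obj ⟨xd, hxd⟩) X := by
    intro X
    obtain ⟨x0, y0, hx, hy, α, hα⟩ := h2 (x' := d) (y' := F.obj X.right) X.hom
    have := h1 d
    have := h1 (F.obj X.right)
    have Z1 : Zigzag ((fibToSA F (𝟙 d)).obj ⟨xd, hxd⟩) ((fibToSA F (𝟙 d)).obj ⟨x0, hx⟩) :=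
      zigzag_obj_of_zigzag _ (isPreconnected_zigzag _ _)
    have Z2 : Zigzag ((fibToSA F (𝟙 d)).obj ⟨x0, hx⟩)
        ((fibToSA F (y' := F.obj X.right) X.hom).obj ⟨y0, hy⟩) := by
      refine Zigzag.of_hom (StructuredArrow.homMk α ?_)
      simp [fibToSA, hα]
    have Z3 : Zigzag ((fibToSA F (y' := F.obj X.right) X.hom).obj ⟨y0, hy⟩)
        ((fibToSA F (y' := F.obj X.right) X.hom).obj ⟨X.right, rfl⟩) :=
      zigzag_obj_of_zigzag _ (isPreconnected_zigzag _ _)
    have Z4 : Zigzag ((fibToSA F (y' := F.obj X.right) X.hom).obj ⟨X.right, rfl⟩) X := by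
      refine Zigzag.of_hom (StructuredArrow.homMk (𝟙 X.right) ?_)
      simp [fibToSA]
    exact Z1.trans (Z2.trans (Z3.trans Z4))
  exact zigzag_isConnected fun j₁ j₂ => (key j₁).symm.trans (key j₂)

end Groth.Agent.H64.FinalFib
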