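import Mathlib
import Groth.Agent.S6514
import Groth.Agent.H90.ClosedPC
import Groth.Agent.H28.FTDescent
import Groth.Agent.H28.LpullLoc
import Groth.Agent.H17.FTGen

/-!
# (PD) for helper28's S1093 squad: kill the top cohomology sheaf by a map from a strictly
perfect complex
-/

set_option autoImplicit false
set_option maxHeartbeats 400000
universe u
open CategoryTheory CategoryTheory.Limits AlgebraicGeometry TopologicalSpace Opposite
open AlgebraicGeometry.Scheme.Modules
attribute [local instance] HasDerivedCategory.standard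
open Groth.Agent.H90.SPerf Groth.Agent.H90.LR Groth.Agent.H90.CPC Groth.Agent.H90.TPC Pretriangulated
open Groth.Agent.H90.QH Groth.Agent.H28.PCohD

namespace Groth.Agent.H64.FppfPC_PD

/-- CORE: if `K` has no cohomology above `b` and `H^b(K)` is globally generated by finitely many
sections, then `K` is locally the target of a `b`-quasi-isomorphism from `O^k[-b]`. -/
theorem locPC_of_epi_freeMod {Z : Scheme.{u}} (K : DCoh.D Z) (b : ℤ)
    (hK : ∀ i : ℤ, b < i → IsZero (DCoh.HD K i)) (k : ℕ)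
    (π : FlatMod.freeMod Z k ⟶ DCoh.HD K b) (hπ : Epi π) (z : Z) : LocPC b K z := by
  let F : CochainComplex Z.Modules ℤ := DerivedCategory.Q.objPreimage K
  let e : DerivedCategory.Q.obj F ≅ K := DerivedCategory.Q.objObjPreimageIso K
  have θ : ∀ i : ℤ, DCoh.HD K i ≅ F.homology i := fun i =>
    (DerivedCategory.homologyFunctor _ i).mapIso e.symm ≪≫
      (DerivedCategory.homologyFunctorFactors _ i).app F
  have hπ' : Epi (π ≫ (θ b).hom) := epi_comp' hπ inferInstance
  obtain ⟨V, hzV, f, hf⟩ := exists_single_map F b k (π ≫ (θ b).hom) hπ' z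
  have hF' : ∀ l : ℤ, b < l → IsZero (((DCoh.restrictCx V).obj F).homology l) := fun l hl => by
    have e3 : ((DCoh.restrictCx V).obj F).homology l ≅ (restrictFunctor V.ι).obj (F.homology l) :=
      (homologyMapHCIso (restrictFunctor V.ι) l).app F
    exact IsZero.of_iso (Functor.map_isZero _ (IsZero.of_iso (hK l hl) (θ l).symm)) e3
  have hm : MQI b (DerivedCategory.Q.map f) := by
    refine ⟨fun l hl => ?_, ?_⟩
    · rw [isIso_homologyFunctor_map_Q_iff]
      have h1 : IsZero (((HomologicalComplex.single (V : Scheme.{u}).Modules (ComplexShape.up ℤ)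
          b).obj (FlatMod.freeMod (V : Scheme.{u}) k)).homology l) :=
        HomologicalComplex.isZero_single_obj_homology (ComplexShape.up ℤ) b _ l (by omega)
      exact ⟨⟨0, h1.eq_of_src _ _, (hF' l hl).eq_of_src _ _⟩⟩
    · rw [epi_homologyFunctor_map_Q_iff]
      exact hf
  refine ⟨V, hzV, _, DerivedCategory.Q.map f ≫
    ((restrictFunctor V.ι).mapDerivedCategoryFactors.app F).inv ≫ (DCoh.restrictD V.ι).map e.hom,
    isStrictlyPerfect_single' (isFinLocFree_freeMod (V : Scheme.{u}) k) b, ?_⟩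
  exact hm.comp ((MQI.of_isIso _ _).comp (MQI.of_isIso _ _))

theorem locPC_of_locFG {U : Scheme.{u}} (K : DCoh.D U) (b : ℤ)
    (hK : ∀ i : ℤ, b < i → IsZero (DCoh.HD K i)) (y : U) (h : LocFG (DCoh.HD K b) y) :
    LocPC b K y := by
  obtain ⟨W, hyW, G, hG⟩ := h.exists_opens
  obtain ⟨k, π₀, hπ₀⟩ := exists_epi_freeMod_of_generatingSections G hG
  have ε : ∀ i : ℤ, DCoh.HD ((DCoh.restrictD W.ι).obj K) i ≅
      (restrictFunctor W.ι).obj (DCoh.HD K i) := fun i =>
    (homologyCommIso (restrictFunctor W.ι) i).app K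
  have hK₀ : ∀ i : ℤ, b < i → IsZero (DCoh.HD ((DCoh.restrictD W.ι).obj K) i) := fun i hi =>
    IsZero.of_iso (Functor.map_isZero _ (hK i hi)) (ε i)
  have hπ : Epi (π₀ ≫ (ε b).inv) := epi_comp' hπ₀ inferInstance
  have := locPC_of_epi_freeMod ((DCoh.restrictD W.ι).obj K) b hK₀ k (π₀ ≫ (ε b).inv) hπ ⟨y, hyW⟩
  exact locPC_of_restrict W.ι this

theorem exists_cone {U : Scheme.{u}} (K : DCoh.D U) (b : ℤ)
    (hK : ∀ i : ℤ, b < i → IsZero (DCoh.HD K i)) (y : U) (h : LocFG (DCoh.HD K b) y) :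
    ∃ (W : U.Opens) (_ : y ∈ W) (P : CochainComplex (W : Scheme.{u}).Modules ℤ)
      (C : DCoh.D (W : Scheme.{u}))
      (α : DerivedCategory.Q.obj P ⟶ (DCoh.restrictD W.ι).obj K)
      (β : (DCoh.restrictD W.ι).obj K ⟶ C) (γ : C ⟶ (DerivedCategory.Q.obj P)⟦(1 : ℤ)⟧),
      DCoh.IsStrictlyPerfect P ∧ Triangle.mk α β γ ∈ distTriang _ ∧
        ∀ i : ℤ, b ≤ i → IsZero (DCoh.HD C i) := by
  obtain ⟨W, hyW, P, α, hP, hα⟩ := locPC_of_locFG K b hK y h
  obtain ⟨C, β, γ, hT⟩ := distinguished_cocone_triangle α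
  exact ⟨W, hyW, P, C, α, β, γ, hP, hT, fun i hi =>
    isZero_homology_obj₃_of_mqi (Triangle.mk α β γ) hT b hα i hi⟩

end Groth.Agent.H64.FppfPC_PD
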