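import Mathlib

/-!
Helper for S8471: the functional equation `F(x + y F(x)) = F(x) F(y)` for rational functions.
-/

namespace Groth.Agent.H64.FuncEq

open Polynomial

section homog

variable {k : Type*} [Field k]

/-- homogenised evaluation -/
noncomputable def Rh {S : Type*} [CommRing S] (φ : k →+* S) (R : k[X]) (N : ℕ) (u v : S) : S :=
  ∑ i ∈ Finset.range (N + 1), φ (R.coeff i) * u ^ i * v ^ (N - i)

lemma map_Rh {S T : Type*} [CommRing S] [CommRing T] (θ : S →+* T) (φ : k →+* S) (R : k[X])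
    (N : ℕ) (u v : S) :
    θ (Rh φ R N u v) = Rh (θ.comp φ) R N (θ u) (θ v) := by
  simp only [Rh, map_sum, map_mul, map_pow, RingHom.comp_apply]

lemma homog {S : Type*} [CommRing S] (φ : k →+* S) (R : k[X]) (N : ℕ) (hN : R.natDegree ≤ N)
    (u v w : S) (hvw : v * w = 1) :
    R.eval₂ φ (u * w) * v ^ N = Rh φ R N u v := by
  rw [Rh, eval₂_eq_sum_range' φ (by omega : R.natDegree < N + 1), Finset.sum_mul]
  apply Finset.sum_congr rfl
  intro i hi
  have hi' : i ≤ N := Nat.lt_succ_iff.mp (Finset.mem_range.mp hi)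
  have h1 : v ^ N = v ^ i * v ^ (N - i) := by rw [← pow_add]; congr 1; omega
  have h2 : w ^ i * v ^ i = 1 := by rw [← mul_pow, mul_comm, hvw, one_pow]
  calc φ (R.coeff i) * (u * w) ^ i * v ^ N
      = φ (R.coeff i) * u ^ i * (w ^ i * v ^ i) * v ^ (N - i) := by rw [h1, mul_pow]; ring
    _ = φ (R.coeff i) * u ^ i * v ^ (N - i) := by rw [h2, mul_one]

end homog

variable (k : Type) [Field k]

/-- the affine substitution `Y ↦ x + F(x) Y` -/
noncomputable def ell (P Q : k[X]) : (RatFunc k)[X] :=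
  C (algebraMap k[X] (RatFunc k) P * (algebraMap k[X] (RatFunc k) Q)⁻¹) * X + C RatFunc.X

/-- the functional equation as an identity in `k(x)[Y]` -/
def Star (P Q : k[X]) : Prop :=
  ((P.map (algebraMap k (RatFunc k))).comp (ell k P Q)) *
      (C (algebraMap k[X] (RatFunc k) Q) * Q.map (algebraMap k (RatFunc k))) =
    C (algebraMap k[X] (RatFunc k) P) * P.map (algebraMap k (RatFunc k)) *
      ((Q.map (algebraMap k (RatFunc k))).comp (ell k P Q))

/-- the functional equation as an identity in `k[x,y]` -/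
def AId (P Q : k[X]) (N : ℕ) : Prop :=
  Rh (MvPolynomial.C : k →+* MvPolynomial (Fin 2) k) P N
      (MvPolynomial.X 0 * Q.eval₂ (MvPolynomial.C : k →+* MvPolynomial (Fin 2) k) (MvPolynomial.X 0) +
        MvPolynomial.X 1 * P.eval₂ (MvPolynomial.C : k →+* MvPolynomial (Fin 2) k) (MvPolynomial.X 0))
      (Q.eval₂ (MvPolynomial.C : k →+* MvPolynomial (Fin 2) k) (MvPolynomial.X 0)) *
    (Q.eval₂ (MvPolynomial.C : k →+* MvPolynomial (Fin 2) k) (MvPolynomial.X 0) *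
      Q.eval₂ (MvPolynomial.C : k →+* MvPolynomial (Fin 2) k) (MvPolynomial.X 1)) =
  P.eval₂ (MvPolynomial.C : k →+* MvPolynomial (Fin 2) k) (MvPolynomial.X 0) *
      P.eval₂ (MvPolynomial.C : k →+* MvPolynomial (Fin 2) k) (MvPolynomial.X 1) *
    Rh (MvPolynomial.C : k →+* MvPolynomial (Fin 2) k) Q N
      (MvPolynomial.X 0 * Q.eval₂ (MvPolynomial.C : k →+* MvPolynomial (Fin 2) k) (MvPolynomial.X 0) +
        MvPolynomial.X 1 * P.eval₂ (MvPolynomial.C : k →+* MvPolynomial (Fin 2) k) (MvPolynomial.X 0))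
      (Q.eval₂ (MvPolynomial.C : k →+* MvPolynomial (Fin 2) k) (MvPolynomial.X 0))

lemma partA (P Q : k[X]) (hP : P ≠ 0) (hQ : Q ≠ 0) (N : ℕ) (hPN : P.natDegree ≤ N)
    (hQN : Q.natDegree ≤ N)
    (hFE : P.eval₂ (algebraMap k (FractionRing (MvPolynomial (Fin 2) k)))
        (algebraMap (MvPolynomial (Fin 2) k) (FractionRing (MvPolynomial (Fin 2) k)) (MvPolynomial.X 0) +
          algebraMap (MvPolynomial (Fin 2) k) (FractionRing (MvPolynomial (Fin 2) k)) (MvPolynomial.X 1) *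
            (P.eval₂ (algebraMap k (FractionRing (MvPolynomial (Fin 2) k)))
              (algebraMap (MvPolynomial (Fin 2) k) (FractionRing (MvPolynomial (Fin 2) k)) (MvPolynomial.X 0)) /
            Q.eval₂ (algebraMap k (FractionRing (MvPolynomial (Fin 2) k)))
              (algebraMap (MvPolynomial (Fin 2) k) (FractionRing (MvPolynomial (Fin 2) k)) (MvPolynomial.X 0)))) /
      Q.eval₂ (algebraMap k (FractionRing (MvPolynomial (Fin 2) k)))
        (algebraMap (MvPolynomial (Fin 2) k) (FractionRing (MvPolynomial (Fin 2) k)) (MvPolynomial.X 0) +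
          algebraMap (MvPolynomial (Fin 2) k) (FractionRing (MvPolynomial (Fin 2) k)) (MvPolynomial.X 1) *
            (P.eval₂ (algebraMap k (FractionRing (MvPolynomial (Fin 2) k)))
              (algebraMap (MvPolynomial (Fin 2) k) (FractionRing (MvPolynomial (Fin 2) k)) (MvPolynomial.X 0)) /
            Q.eval₂ (algebraMap k (FractionRing (MvPolynomial (Fin 2) k)))
              (algebraMap (MvPolynomial (Fin 2) k) (FractionRing (MvPolynomial (Fin 2) k)) (MvPolynomial.X 0)))) =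
      P.eval₂ (algebraMap k (FractionRing (MvPolynomial (Fin 2) k)))
          (algebraMap (MvPolynomial (Fin 2) k) (FractionRing (MvPolynomial (Fin 2) k)) (MvPolynomial.X 0)) /
        Q.eval₂ (algebraMap k (FractionRing (MvPolynomial (Fin 2) k)))
          (algebraMap (MvPolynomial (Fin 2) k) (FractionRing (MvPolynomial (Fin 2) k)) (MvPolynomial.X 0)) *
      (P.eval₂ (algebraMap k (FractionRing (MvPolynomial (Fin 2) k)))
          (algebraMap (MvPolynomial (Fin 2) k) (FractionRing (MvPolynomial (Fin 2) k)) (MvPolynomial.X 1)) /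
        Q.eval₂ (algebraMap k (FractionRing (MvPolynomial (Fin 2) k)))
          (algebraMap (MvPolynomial (Fin 2) k) (FractionRing (MvPolynomial (Fin 2) k)) (MvPolynomial.X 1)))) :
    AId k P Q N := by
  obtain ⟨cA, hcA⟩ : ∃ cA : k →+* MvPolynomial (Fin 2) k, cA = MvPolynomial.C := ⟨_, rfl⟩
  obtain ⟨ιA, hιA⟩ : ∃ ιA : MvPolynomial (Fin 2) k →+* FractionRing (MvPolynomial (Fin 2) k),
      ιA = algebraMap (MvPolynomial (Fin 2) k) (FractionRing (MvPolynomial (Fin 2) k)) := ⟨_, rfl⟩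
  obtain ⟨g, hg⟩ : ∃ g : k →+* FractionRing (MvPolynomial (Fin 2) k),
      g = algebraMap k (FractionRing (MvPolynomial (Fin 2) k)) := ⟨_, rfl⟩
  have hgc : ιA.comp cA = g := by
    rw [hg, hιA, hcA, IsScalarTower.algebraMap_eq k (MvPolynomial (Fin 2) k)
      (FractionRing (MvPolynomial (Fin 2) k)), MvPolynomial.algebraMap_eq]
  have hinj : Function.Injective ιA := by
    rw [hιA]
    exact IsFractionRing.injective (MvPolynomial (Fin 2) k) (FractionRing (MvPolynomial (Fin 2) k))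
  -- a retraction
  obtain ⟨ρ, hρdef⟩ : ∃ ρ : MvPolynomial (Fin 2) k →+* k[X],
      ρ = MvPolynomial.eval₂Hom Polynomial.C (fun _ => Polynomial.X) := ⟨_, rfl⟩
  have hρ : ∀ (i : Fin 2) (R : k[X]), ρ (R.eval₂ cA (MvPolynomial.X i)) = R := by
    intro i R
    rw [Polynomial.hom_eval₂]
    have e1 : ρ.comp cA = Polynomial.C := RingHom.ext fun r => by
      rw [hρdef, hcA, RingHom.comp_apply, MvPolynomial.eval₂Hom_C]
    have e2 : ρ (MvPolynomial.X i) = Polynomial.X := by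
      rw [hρdef, MvPolynomial.eval₂Hom_X']
    rw [e1, e2, Polynomial.eval₂_C_X]
  have hne : ∀ (i : Fin 2) (R : k[X]), R ≠ 0 → R.eval₂ cA (MvPolynomial.X i) ≠ 0 := by
    intro i R hR h
    apply hR
    rw [← hρ i R, h, map_zero]
  have hev : ∀ (i : Fin 2) (R : k[X]),
      R.eval₂ g (ιA (MvPolynomial.X i)) = ιA (R.eval₂ cA (MvPolynomial.X i)) := by
    intro i R
    rw [Polynomial.hom_eval₂, hgc]
  rw [← hg, ← hιA] at hFE
  rw [hev 0 P, hev 0 Q, hev 1 P, hev 1 Q] at hFE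
  unfold AId
  rw [← hcA]
  obtain ⟨Px, hPx⟩ : ∃ Px, Px = P.eval₂ cA (MvPolynomial.X 0) := ⟨_, rfl⟩
  obtain ⟨Qx, hQx⟩ : ∃ Qx, Qx = Q.eval₂ cA (MvPolynomial.X 0) := ⟨_, rfl⟩
  obtain ⟨Py, hPy⟩ : ∃ Py, Py = P.eval₂ cA (MvPolynomial.X 1) := ⟨_, rfl⟩
  obtain ⟨Qy, hQy⟩ : ∃ Qy, Qy = Q.eval₂ cA (MvPolynomial.X 1) := ⟨_, rfl⟩
  rw [← hPx, ← hQx, ← hPy, ← hQy] at hFE ⊢
  have hPx0 : ιA Px ≠ 0 := fun h => hne 0 P hP (hinj (by rw [← hPx, h, map_zero]))
  have hQx0 : ιA Qx ≠ 0 := fun h => hne 0 Q hQ (hinj (by rw [← hQx, h, map_zero]))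
  have hPy0 : ιA Py ≠ 0 := fun h => hne 1 P hP (hinj (by rw [← hPy, h, map_zero]))
  have hQy0 : ιA Qy ≠ 0 := fun h => hne 1 Q hQ (hinj (by rw [← hQy, h, map_zero]))
  obtain ⟨U, hU⟩ : ∃ U : MvPolynomial (Fin 2) k,
      U = MvPolynomial.X 0 * Qx + MvPolynomial.X 1 * Px := ⟨_, rfl⟩
  rw [← hU]
  have hz : ιA (MvPolynomial.X 0) + ιA (MvPolynomial.X 1) * (ιA Px / ιA Qx) =
      ιA U * (ιA Qx)⁻¹ := by
    rw [hU, map_add, map_mul, map_mul]
    field_simp
  rw [hz] at hFE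
  obtain ⟨z, hzdef⟩ : ∃ z, z = ιA U * (ιA Qx)⁻¹ := ⟨_, rfl⟩
  rw [← hzdef] at hFE
  have hqz : Q.eval₂ g z ≠ 0 := by
    intro h
    rw [h, div_zero] at hFE
    exact (mul_ne_zero (div_ne_zero hPx0 hQx0) (div_ne_zero hPy0 hQy0)) hFE.symm
  rw [div_mul_div_comm, div_eq_div_iff hqz (mul_ne_zero hQx0 hQy0)] at hFE
  have hvw : ιA Qx * (ιA Qx)⁻¹ = 1 := mul_inv_cancel₀ hQx0
  have hP' := homog g P N hPN (ιA U) (ιA Qx) (ιA Qx)⁻¹ hvw
  have hQ' := homog g Q N hQN (ιA U) (ιA Qx) (ιA Qx)⁻¹ hvw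
  rw [← hzdef] at hP' hQ'
  apply hinj
  rw [map_mul, map_mul, map_mul, map_mul, map_Rh, map_Rh, hgc, ← hP', ← hQ']
  linear_combination (ιA Qx) ^ N * hFE

lemma partB (P Q : k[X]) (hQ : Q ≠ 0) (N : ℕ) (hPN : P.natDegree ≤ N)
    (hQN : Q.natDegree ≤ N) (hA : AId k P Q N) : Star k P Q := by
  unfold AId at hA
  unfold Star ell
  obtain ⟨cA, hcA⟩ : ∃ cA : k →+* MvPolynomial (Fin 2) k, cA = MvPolynomial.C := ⟨_, rfl⟩
  rw [← hcA] at hA
  obtain ⟨φ, hφ⟩ : ∃ φ : k →+* (RatFunc k)[X],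
      φ = Polynomial.C.comp (algebraMap k (RatFunc k)) := ⟨_, rfl⟩
  obtain ⟨ψ, hψdef⟩ : ∃ ψ : MvPolynomial (Fin 2) k →+* (RatFunc k)[X],
      ψ = MvPolynomial.eval₂Hom φ ![Polynomial.C RatFunc.X, Polynomial.X] := ⟨_, rfl⟩
  have hψc : ψ.comp cA = φ := RingHom.ext fun r => by
    rw [hψdef, hcA, RingHom.comp_apply, MvPolynomial.eval₂Hom_C]
  have hψ0 : ψ (MvPolynomial.X 0) = Polynomial.C RatFunc.X := by
    rw [hψdef, MvPolynomial.eval₂Hom_X']; rfl
  have hψ1 : ψ (MvPolynomial.X 1) = Polynomial.X := by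
    rw [hψdef, MvPolynomial.eval₂Hom_X']; rfl
  have hevx : ∀ R : k[X], ψ (R.eval₂ cA (MvPolynomial.X 0)) =
      Polynomial.C (algebraMap k[X] (RatFunc k) R) := by
    intro R
    rw [Polynomial.hom_eval₂, hψc, hψ0, ← RatFunc.aeval_X_left_eq_algebraMap,
      Polynomial.aeval_def, Polynomial.hom_eval₂, hφ]
  have hevy : ∀ R : k[X], ψ (R.eval₂ cA (MvPolynomial.X 1)) =
      R.map (algebraMap k (RatFunc k)) := by
    intro R
    rw [Polynomial.hom_eval₂, hψc, hψ1, hφ]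
    rfl
  obtain ⟨b, hb⟩ : ∃ b, b = algebraMap k[X] (RatFunc k) P := ⟨_, rfl⟩
  obtain ⟨c, hc⟩ : ∃ c, c = algebraMap k[X] (RatFunc k) Q := ⟨_, rfl⟩
  have hc0 : c ≠ 0 := by rw [hc]; exact RatFunc.algebraMap_ne_zero hQ
  have h := congrArg ψ hA
  rw [map_mul, map_mul, map_mul, map_mul, map_Rh, map_Rh, hψc, map_add, map_mul, map_mul,
    hψ0, hψ1, hevx, hevx, hevy, hevy, ← hb, ← hc] at h
  rw [← hb, ← hc]
  have hvw : (C c : (RatFunc k)[X]) * C c⁻¹ = 1 := by
    rw [← C_mul, mul_inv_cancel₀ hc0, C_1]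
  have hP' := homog φ P N hPN (C RatFunc.X * C c + X * C b) (C c) (C c⁻¹) hvw
  have hQ' := homog φ Q N hQN (C RatFunc.X * C c + X * C b) (C c) (C c⁻¹) hvw
  have hℓ : (C RatFunc.X * C c + X * C b) * C c⁻¹ =
      (C (b * c⁻¹) * X + C RatFunc.X : (RatFunc k)[X]) := by
    calc (C RatFunc.X * C c + X * C b) * C c⁻¹
        = C RatFunc.X * (C c * C c⁻¹) + (C b * C c⁻¹) * X := by ring
      _ = C (b * c⁻¹) * X + C RatFunc.X := by rw [hvw, mul_one, ← C_mul, add_comm]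
  have hcomp : ∀ (R : k[X]) (l : (RatFunc k)[X]),
      R.eval₂ φ l = (R.map (algebraMap k (RatFunc k))).comp l := by
    intro R l
    rw [Polynomial.comp, Polynomial.eval₂_map, hφ]
  rw [← hP', ← hQ', hℓ, hcomp, hcomp] at h
  have hcN : (C c : (RatFunc k)[X]) ^ N ≠ 0 := pow_ne_zero _ (C_ne_zero.mpr hc0)
  apply mul_right_cancel₀ hcN
  linear_combination h

lemma partC (P Q : k[X]) (hcop : IsCoprime P Q) (hQm : Q.Monic) (hQ0 : Q.eval 0 ≠ 0)
    (hP : P ≠ 0) (star : Star k P Q) : Q = 1 := by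
  unfold Star ell at star
  obtain ⟨b, hb⟩ : ∃ b, b = algebraMap k[X] (RatFunc k) P := ⟨_, rfl⟩
  obtain ⟨c, hc⟩ : ∃ c, c = algebraMap k[X] (RatFunc k) Q := ⟨_, rfl⟩
  have hb0 : b ≠ 0 := by rw [hb]; exact RatFunc.algebraMap_ne_zero hP
  have hc0 : c ≠ 0 := by rw [hc]; exact RatFunc.algebraMap_ne_zero hQm.ne_zero
  rw [← hb, ← hc] at star
  obtain ⟨f, hf⟩ : ∃ f, f = b * c⁻¹ := ⟨_, rfl⟩
  have hf0 : f ≠ 0 := by rw [hf]; exact mul_ne_zero hb0 (inv_ne_zero hc0)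
  rw [← hf] at star
  obtain ⟨ℓ, hℓ⟩ : ∃ ℓ : (RatFunc k)[X], ℓ = C f * X + C RatFunc.X := ⟨_, rfl⟩
  rw [← hℓ] at star
  have hℓdeg : ℓ.natDegree = 1 := by rw [hℓ]; exact natDegree_linear hf0
  have hℓlc : ℓ.leadingCoeff = f := by rw [hℓ]; exact leadingCoeff_linear hf0
  obtain ⟨Pt, hPt⟩ : ∃ Pt, Pt = P.map (algebraMap k (RatFunc k)) := ⟨_, rfl⟩
  obtain ⟨Qt, hQt⟩ : ∃ Qt, Qt = Q.map (algebraMap k (RatFunc k)) := ⟨_, rfl⟩
  rw [← hPt, ← hQt] at star
  have hQtm : Qt.Monic := by rw [hQt]; exact hQm.map _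
  have hcopt : IsCoprime Qt Pt := by
    have := hcop.symm.map (Polynomial.mapRingHom (algebraMap k (RatFunc k)))
    rw [hQt, hPt]
    simpa [Polynomial.coe_mapRingHom] using this
  obtain ⟨m, hm⟩ : ∃ m, m = Q.natDegree := ⟨_, rfl⟩
  have hdvd : Qt ∣ Qt.comp ℓ := by
    have h1 : Qt ∣ (Qt.comp ℓ * C b) * Pt := ⟨Pt.comp ℓ * C c, by linear_combination (-1 : (RatFunc k)[X]) * star⟩
    have h2 := hcopt.dvd_of_dvd_mul_right h1
    exact (IsUnit.dvd_mul_right (Polynomial.isUnit_C.mpr (IsUnit.mk0 b hb0))).mp h2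
  obtain ⟨T, hT⟩ := hdvd
  have hQtdeg : Qt.natDegree = m := by rw [hQt, natDegree_map, hm]
  have hcompdeg : (Qt.comp ℓ).natDegree = m := by rw [natDegree_comp, hℓdeg, mul_one, hQtdeg]
  have hcomplc : (Qt.comp ℓ).leadingCoeff = f ^ m := by
    rw [leadingCoeff_comp (by rw [hℓdeg]; exact one_ne_zero), hQtm.leadingCoeff, one_mul, hℓlc,
      hQtdeg]
  have hcomp0 : Qt.comp ℓ ≠ 0 := by
    intro h
    rw [h, leadingCoeff_zero] at hcomplc
    exact pow_ne_zero m hf0 hcomplc.symm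
  have hT0 : T ≠ 0 := by
    rintro rfl
    rw [mul_zero] at hT
    exact hcomp0 hT
  have hTdeg : T.natDegree = 0 := by
    have := congrArg natDegree hT
    rw [natDegree_mul hQtm.ne_zero hT0, hcompdeg, hQtdeg] at this
    omega
  obtain ⟨e, he⟩ : ∃ e, T = C e := ⟨_, eq_C_of_natDegree_eq_zero hTdeg⟩
  rw [he] at hT
  have he' : e = f ^ m := by
    have := congrArg leadingCoeff hT
    rw [hcomplc, leadingCoeff_mul, hQtm.leadingCoeff, one_mul, leadingCoeff_C] at this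
    exact this.symm
  have hev := congrArg (eval 0) hT
  rw [eval_comp, eval_mul, eval_C, hℓ] at hev
  simp only [eval_add, eval_mul, eval_C, eval_X, mul_zero, zero_add] at hev
  have e1 : eval RatFunc.X Qt = c := by
    rw [hQt, eval_map, ← aeval_def, RatFunc.aeval_X_left_eq_algebraMap, hc]
  have e2 : eval 0 Qt = algebraMap k (RatFunc k) (Q.eval 0) := by rw [hQt, eval_zero_map]
  rw [e1, e2, he', hf] at hev
  have h3 : c * c ^ m = algebraMap k (RatFunc k) (Q.eval 0) * b ^ m := by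
    have hbc : (b * c⁻¹) ^ m * c ^ m = b ^ m := by
      rw [← mul_pow, mul_assoc, inv_mul_cancel₀ hc0, mul_one]
    calc c * c ^ m = (algebraMap k (RatFunc k) (Q.eval 0) * (b * c⁻¹) ^ m) * c ^ m :=
          congrArg (· * c ^ m) hev
      _ = algebraMap k (RatFunc k) (Q.eval 0) * ((b * c⁻¹) ^ m * c ^ m) := by ring
      _ = algebraMap k (RatFunc k) (Q.eval 0) * b ^ m := by rw [hbc]
  have h4 : Q * Q ^ m = C (Q.eval 0) * P ^ m := by
    apply RatFunc.algebraMap_injective k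
    rw [map_mul, map_mul, map_pow, map_pow, RatFunc.algebraMap_C, ← RatFunc.algebraMap_eq_C,
      ← hb, ← hc]
    exact h3
  have hm0 : Q.natDegree = 0 := by
    by_contra hmne
    have h5 : Q ∣ C (Q.eval 0) * P ^ m := ⟨Q ^ m, h4.symm⟩
    have h6 : Q ∣ C (Q.eval 0) := (hcop.symm.pow_right).dvd_of_dvd_mul_right h5
    have h7 := natDegree_le_of_dvd h6 (C_ne_zero.mpr hQ0)
    rw [natDegree_C] at h7
    exact hmne (Nat.le_zero.mp h7)
  exact eq_one_of_monic_natDegree_zero hQm hm0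

lemma partD (P : k[X]) (hP : P ≠ 0) (star : Star k P 1) : P.natDegree ≤ 1 := by
  unfold Star ell at star
  simp only [map_one, Polynomial.map_one, Polynomial.one_comp, inv_one, mul_one, C_1] at star
  obtain ⟨b, hb⟩ : ∃ b, b = algebraMap k[X] (RatFunc k) P := ⟨_, rfl⟩
  have hb0 : b ≠ 0 := by rw [hb]; exact RatFunc.algebraMap_ne_zero hP
  rw [← hb] at star
  obtain ⟨ℓ, hℓ⟩ : ∃ ℓ : (RatFunc k)[X], ℓ = C b * X + C RatFunc.X := ⟨_, rfl⟩
  rw [← hℓ] at star
  have hℓdeg : ℓ.natDegree = 1 := by rw [hℓ]; exact natDegree_linear hb0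
  have hℓlc : ℓ.leadingCoeff = b := by rw [hℓ]; exact leadingCoeff_linear hb0
  obtain ⟨Pt, hPt⟩ : ∃ Pt, Pt = P.map (algebraMap k (RatFunc k)) := ⟨_, rfl⟩
  rw [← hPt] at star
  obtain ⟨n, hn⟩ : ∃ n, n = P.natDegree := ⟨_, rfl⟩
  have hPtdeg : Pt.natDegree = n := by rw [hPt, natDegree_map, hn]
  have hPt0 : Pt.leadingCoeff ≠ 0 := by
    rw [hPt]
    exact leadingCoeff_ne_zero.mpr ((Polynomial.map_ne_zero_iff
      (algebraMap k (RatFunc k)).injective).mpr hP)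
  have hlc := congrArg leadingCoeff star
  rw [leadingCoeff_comp (by rw [hℓdeg]; exact one_ne_zero), hℓlc, leadingCoeff_mul,
    leadingCoeff_C, hPtdeg] at hlc
  have hbn : b ^ n = b := mul_left_cancel₀ hPt0 (by rw [hlc]; ring)
  have hPn : P ^ n = P := RatFunc.algebraMap_injective k (by rw [map_pow, ← hb]; exact hbn)
  have hnn := congrArg natDegree hPn
  rw [natDegree_pow, ← hn] at hnn
  rw [← hn]
  by_contra hlt
  push Not at hlt
  nlinarith

theorem main (F : RatFunc k)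
    (h0 : F.denom.eval 0 ≠ 0) (h1 : F.num.eval 0 = F.denom.eval 0)
    (hFE : RatFunc.eval (algebraMap k (FractionRing (MvPolynomial (Fin 2) k)))
        (algebraMap (MvPolynomial (Fin 2) k) (FractionRing (MvPolynomial (Fin 2) k)) (MvPolynomial.X 0) +
          algebraMap (MvPolynomial (Fin 2) k) (FractionRing (MvPolynomial (Fin 2) k)) (MvPolynomial.X 1) *
            RatFunc.eval (algebraMap k (FractionRing (MvPolynomial (Fin 2) k)))
              (algebraMap (MvPolynomial (Fin 2) k) (FractionRing (MvPolynomial (Fin 2) k)) (MvPolynomial.X 0)) F) F =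
      RatFunc.eval (algebraMap k (FractionRing (MvPolynomial (Fin 2) k)))
          (algebraMap (MvPolynomial (Fin 2) k) (FractionRing (MvPolynomial (Fin 2) k)) (MvPolynomial.X 0)) F *
        RatFunc.eval (algebraMap k (FractionRing (MvPolynomial (Fin 2) k)))
          (algebraMap (MvPolynomial (Fin 2) k) (FractionRing (MvPolynomial (Fin 2) k)) (MvPolynomial.X 1)) F) :
    ∃ a : k, F = 1 + RatFunc.C a * RatFunc.X := by
  have hcop0 := RatFunc.isCoprime_num_denom F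
  have hQm0 := RatFunc.monic_denom F
  have hFdiv0 := RatFunc.num_div_denom F
  simp only [RatFunc.eval] at hFE
  obtain ⟨P, hPdef⟩ : ∃ P, P = F.num := ⟨_, rfl⟩
  obtain ⟨Q, hQdef⟩ : ∃ Q, Q = F.denom := ⟨_, rfl⟩
  rw [← hPdef, ← hQdef] at hFE hcop0 hFdiv0
  rw [← hQdef] at h0 h1 hQm0
  rw [← hPdef] at h1
  have hP : P ≠ 0 := by
    rintro rfl
    rw [eval_zero] at h1
    exact h0 h1.symm
  have hQ : Q ≠ 0 := hQm0.ne_zero
  have hA := partA k P Q hP hQ (P.natDegree + Q.natDegree) (Nat.le_add_right _ _)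
    (Nat.le_add_left _ _) hFE
  have hstar := partB k P Q hQ _ (Nat.le_add_right _ _) (Nat.le_add_left _ _) hA
  have hQ1 : Q = 1 := partC k P Q hcop0 hQm0 h0 hP hstar
  subst hQ1
  have hdeg := partD k P hP hstar
  refine ⟨P.coeff 1, ?_⟩
  have hP01 : P.coeff 0 = 1 := by
    rw [coeff_zero_eq_eval_zero, h1, eval_one]
  rw [← hFdiv0, map_one, div_one]
  conv_lhs => rw [eq_X_add_C_of_natDegree_le_one hdeg]
  rw [hP01, map_add, map_mul, RatFunc.algebraMap_C, RatFunc.algebraMap_X, RatFunc.algebraMap_C,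
    map_one, add_comm]

end Groth.Agent.H64.FuncEq
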