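import Mathlib

/-!
Helper for S15361: a subgroup of `GL₂(𝔽_p)` containing a non-split Cartan subgroup and of order
divisible by `p` is everything.
-/

namespace Groth.Agent.H64.GL2

open Matrix

variable {p : ℕ} [Fact p.Prime]

local notation "Mat" => Matrix (Fin 2) (Fin 2) (ZMod p)
local notation "G" => GL (Fin 2) (ZMod p)

lemma zmod2_eq_one : ∀ d : ZMod 2, d ≠ 0 → d = 1 := by decide

/-- upper unipotent -/
def U (l : ZMod p) : Mat := !![1, l; 0, 1]
/-- lower unipotent -/
def L (l : ZMod p) : Mat := !![1, 0; l, 1]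

lemma sq_two (A : Mat) : A * A = (A 0 0 + A 1 1) • A - A.det • (1 : Mat) := by
  rw [Matrix.det_fin_two]
  ext i j
  fin_cases i <;> fin_cases j <;> simp [Matrix.mul_apply, Fin.sum_univ_two] <;> ring

lemma nilp (N : Mat) (hN : N ≠ 0) (hp : N ^ p = 0) : N * N = 0 := by
  have hpp : p.Prime := Fact.out
  have hdet : N.det = 0 := by
    have := congrArg Matrix.det hp
    rw [Matrix.det_pow, Matrix.det_zero] at this
    exact (pow_eq_zero_iff hpp.ne_zero).mp this
  obtain ⟨t, ht⟩ : ∃ t, t = N 0 0 + N 1 1 := ⟨_, rfl⟩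
  have hsq : N * N = t • N := by rw [sq_two, hdet, zero_smul, sub_zero, ht]
  have hpow : ∀ k : ℕ, N ^ (k + 1) = t ^ k • N := by
    intro k
    induction k with
    | zero => simp
    | succ k ih => rw [pow_succ, ih, Matrix.smul_mul, hsq, smul_smul, pow_succ]
  have hp' : N ^ ((p - 1) + 1) = 0 := by
    rw [Nat.sub_add_cancel hpp.one_le]; exact hp
  rw [hpow] at hp'
  rcases smul_eq_zero.mp hp' with h | h
  · have ht0 : t = 0 := (pow_eq_zero_iff (by have := hpp.two_le; omega)).mp h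
    rw [hsq, ht0, zero_smul]
  · exact absurd h hN

lemma exists_ker (N : Mat) (hN : N ≠ 0) (hNN : N * N = 0) :
    ∃ w : Fin 2 → ZMod p, w ≠ 0 ∧ N *ᵥ w = 0 := by
  have : ∃ i j, N i j ≠ 0 := by
    by_contra h
    push Not at h
    exact hN (Matrix.ext h)
  obtain ⟨i, j, hij⟩ := this
  refine ⟨N *ᵥ Pi.single j 1, ?_, ?_⟩
  · intro h
    have := congrFun h i
    rw [Matrix.mulVec_single_one] at this
    exact hij this
  · rw [Matrix.mulVec_mulVec, hNN, Matrix.zero_mulVec]

lemma conj_props (N : Mat) (hN : N ≠ 0) (hNN : N * N = 0) (c : G) (w v : Fin 2 → ZMod p)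
    (hw : N *ᵥ w = 0) (hc : (c : Mat) *ᵥ w = v) :
    ((c : Mat) * N * ((c⁻¹ : G) : Mat)) *ᵥ v = 0 ∧
    ((c : Mat) * N * ((c⁻¹ : G) : Mat)) * ((c : Mat) * N * ((c⁻¹ : G) : Mat)) = 0 ∧
    ((c : Mat) * N * ((c⁻¹ : G) : Mat)) ≠ 0 := by
  have h1 : ((c⁻¹ : G) : Mat) * (c : Mat) = 1 := by
    rw [← Units.val_mul, inv_mul_cancel, Units.val_one]
  have h1' : ∀ Y : Mat, ((c⁻¹ : G) : Mat) * ((c : Mat) * Y) = Y := by
    intro Y; rw [← mul_assoc, h1, one_mul]
  refine ⟨?_, ?_, ?_⟩
  · rw [← hc, Matrix.mulVec_mulVec, mul_assoc, h1, mul_one, ← Matrix.mulVec_mulVec, hw,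
      Matrix.mulVec_zero]
  · calc (c : Mat) * N * ((c⁻¹ : G) : Mat) * ((c : Mat) * N * ((c⁻¹ : G) : Mat))
        = (c : Mat) * (N * (((c⁻¹ : G) : Mat) * ((c : Mat) * (N * ((c⁻¹ : G) : Mat))))) := by
          simp only [mul_assoc]
      _ = (c : Mat) * ((N * N) * ((c⁻¹ : G) : Mat)) := by rw [h1', mul_assoc]
      _ = 0 := by rw [hNN, zero_mul, mul_zero]
  · intro h
    apply hN
    calc N = ((c⁻¹ : G) : Mat) * ((c : Mat) * (N * (((c⁻¹ : G) : Mat) * (c : Mat)))) := by
          rw [h1, mul_one, h1']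
      _ = ((c⁻¹ : G) : Mat) * ((c : Mat) * N * ((c⁻¹ : G) : Mat)) * (c : Mat) := by
          simp only [mul_assoc]
      _ = 0 := by rw [h, mul_zero, zero_mul]

lemma upper_form (N : Mat) (h1 : N *ᵥ ![1, 0] = 0) (hNN : N * N = 0) :
    N = !![0, N 0 1; 0, 0] := by
  have a0 : N 0 0 = 0 := by
    have := congrFun h1 0
    simpa [Matrix.mulVec, dotProduct, Fin.sum_univ_two] using this
  have a1 : N 1 0 = 0 := by
    have := congrFun h1 1
    simpa [Matrix.mulVec, dotProduct, Fin.sum_univ_two] using this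
  have a2 : N 1 1 = 0 := by
    have := congrFun (congrFun hNN 1) 1
    simpa [Matrix.mul_apply, Fin.sum_univ_two, a1] using this
  ext i j
  fin_cases i <;> fin_cases j <;> simp [a0, a1, a2]

lemma lower_form (N : Mat) (h1 : N *ᵥ ![0, 1] = 0) (hNN : N * N = 0) :
    N = !![0, 0; N 1 0, 0] := by
  have a0 : N 0 1 = 0 := by
    have := congrFun h1 0
    simpa [Matrix.mulVec, dotProduct, Fin.sum_univ_two] using this
  have a1 : N 1 1 = 0 := by
    have := congrFun h1 1
    simpa [Matrix.mulVec, dotProduct, Fin.sum_univ_two] using this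
  have a2 : N 0 0 = 0 := by
    have := congrFun (congrFun hNN 0) 0
    simpa [Matrix.mul_apply, Fin.sum_univ_two, a0] using this
  ext i j
  fin_cases i <;> fin_cases j <;> simp [a0, a1, a2]

lemma pow_U (h : G) (β : ZMod p) (hh : (h : Mat) = U β) (k : ℕ) :
    ((h ^ k : G) : Mat) = U ((k : ZMod p) * β) := by
  induction k with
  | zero => simp [U, Matrix.one_fin_two]
  | succ k ih =>
    rw [pow_succ, Units.val_mul, ih, hh]
    simp only [U]
    rw [Matrix.mul_fin_two]
    ext i j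
    fin_cases i <;> fin_cases j <;> simp <;> try ring

lemma pow_L (h : G) (β : ZMod p) (hh : (h : Mat) = L β) (k : ℕ) :
    ((h ^ k : G) : Mat) = L ((k : ZMod p) * β) := by
  induction k with
  | zero => simp [L, Matrix.one_fin_two]
  | succ k ih =>
    rw [pow_succ, Units.val_mul, ih, hh]
    simp only [L]
    rw [Matrix.mul_fin_two]
    ext i j
    fin_cases i <;> fin_cases j <;> simp <;> try ring

lemma all_U (H : Subgroup G) (h : G) (hh : h ∈ H) (β : ZMod p) (hβ : β ≠ 0)
    (hm : (h : Mat) = U β) : ∀ l : ZMod p, ∃ h' ∈ H, (h' : Mat) = U l := by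
  intro l
  refine ⟨h ^ (l / β).val, H.pow_mem hh _, ?_⟩
  rw [pow_U h β hm, ZMod.natCast_zmod_val, div_mul_cancel₀ _ hβ]

lemma all_L (H : Subgroup G) (h : G) (hh : h ∈ H) (β : ZMod p) (hβ : β ≠ 0)
    (hm : (h : Mat) = L β) : ∀ l : ZMod p, ∃ h' ∈ H, (h' : Mat) = L l := by
  intro l
  refine ⟨h ^ (l / β).val, H.pow_mem hh _, ?_⟩
  rw [pow_L h β hm, ZMod.natCast_zmod_val, div_mul_cancel₀ _ hβ]

lemma prod_ULU (x c y : ZMod p) :
    (U x * L c * U y : Mat) = !![1 + x * c, (1 + x * c) * y + x; c, c * y + 1] := by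
  rw [U, L, U, Matrix.mul_fin_two, Matrix.mul_fin_two]
  ext i j
  fin_cases i <;> fin_cases j <;> simp <;> ring

lemma sl2_mem (H : Subgroup G) (hU : ∀ l : ZMod p, ∃ h ∈ H, (h : Mat) = U l)
    (hL : ∀ l : ZMod p, ∃ h ∈ H, (h : Mat) = L l) (A : Mat) (hA : A.det = 1) :
    ∃ h ∈ H, (h : Mat) = A := by
  have key : ∀ B : Mat, B.det = 1 → B 1 0 ≠ 0 → ∃ h ∈ H, (h : Mat) = B := by
    intro B hB hc
    obtain ⟨x, hx⟩ : ∃ x, x * B 1 0 = B 0 0 - 1 := ⟨(B 0 0 - 1) / B 1 0, div_mul_cancel₀ _ hc⟩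
    obtain ⟨y, hy⟩ : ∃ y, y * B 1 0 = B 1 1 - 1 := ⟨(B 1 1 - 1) / B 1 0, div_mul_cancel₀ _ hc⟩
    obtain ⟨h1, hh1, e1⟩ := hU x
    obtain ⟨h2, hh2, e2⟩ := hL (B 1 0)
    obtain ⟨h3, hh3, e3⟩ := hU y
    refine ⟨h1 * h2 * h3, H.mul_mem (H.mul_mem hh1 hh2) hh3, ?_⟩
    rw [Units.val_mul, Units.val_mul, e1, e2, e3, prod_ULU]
    rw [Matrix.det_fin_two] at hB
    have e00 : 1 + x * B 1 0 = B 0 0 := by linear_combination hx
    have e11 : B 1 0 * y + 1 = B 1 1 := by linear_combination hy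
    have e01 : (1 + x * B 1 0) * y + x = B 0 1 := by
      apply mul_right_cancel₀ hc
      linear_combination (B 1 1) * hx + (1 + x * B 1 0) * hy + hB
    rw [e01, e00, e11]
    exact (Matrix.eta_fin_two B).symm
  by_cases hc : A 1 0 = 0
  · have hdetA := hA
    rw [Matrix.det_fin_two, hc, mul_zero, sub_zero] at hdetA
    have hA00 : A 0 0 ≠ 0 := by
      intro h0
      rw [h0, zero_mul] at hdetA
      exact zero_ne_one hdetA
    have hdetL : (L 1 : Mat).det = 1 := by simp [L, Matrix.det_fin_two]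
    have hB10 : (L 1 * A : Mat) 1 0 = A 0 0 := by
      simp [L, Matrix.mul_apply, Fin.sum_univ_two, hc]
    obtain ⟨h', hh', e'⟩ := key (L 1 * A) (by rw [Matrix.det_mul, hA, hdetL, mul_one])
      (by rw [hB10]; exact hA00)
    obtain ⟨hm, hhm, em⟩ := hL (-1)
    refine ⟨hm * h', H.mul_mem hhm hh', ?_⟩
    rw [Units.val_mul, em, e', ← mul_assoc]
    have : (L (-1) * L 1 : Mat) = 1 := by
      rw [L, L, Matrix.mul_fin_two, Matrix.one_fin_two]
      ext i j
      fin_cases i <;> fin_cases j <;> simp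
    rw [this, one_mul]
  · exact key A hA hc

lemma smul_mem_subring (E : Subring Mat) (a : ZMod p) (M : Mat) (hM : M ∈ E) : a • M ∈ E := by
  rw [← ZMod.natCast_zmod_val a, Nat.cast_smul_eq_nsmul]
  exact nsmul_mem hM _

lemma det_surj (C : Subgroup G) (E : Subring Mat)
    (hE_of_ne : ∀ M ∈ E, M ≠ 0 → ∃ c ∈ C, (c : Mat) = M)
    (c₀ : G) (hc₀ : (c₀ : Mat) ∈ E) (h00 : (c₀ : Mat) 0 0 = 0) (h10 : (c₀ : Mat) 1 0 = 1)
    (δ : ZMod p) (hδ : δ ≠ 0) : ∃ c ∈ C, (c : Mat).det = δ := by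
  have hpp : p.Prime := Fact.out
  obtain ⟨s, hs⟩ : ∃ s, s = (c₀ : Mat) 0 1 := ⟨_, rfl⟩
  obtain ⟨r, hr⟩ : ∃ r, r = (c₀ : Mat) 1 1 := ⟨_, rfl⟩
  have hMem : ∀ a b : ZMod p, a • (1 : Mat) + b • (c₀ : Mat) ∈ E := fun a b =>
    E.add_mem (smul_mem_subring E a 1 E.one_mem) (smul_mem_subring E b _ hc₀)
  have hdet : ∀ a b : ZMod p,
      (a • (1 : Mat) + b • (c₀ : Mat)).det = a * a + a * b * r - b * b * s := by
    intro a b
    rw [Matrix.det_fin_two]
    simp only [Matrix.add_apply, Matrix.smul_apply, Matrix.one_apply_eq, smul_eq_mul, h00, h10,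
      ← hs, ← hr]
    simp
    ring
  suffices hex : ∃ a b : ZMod p, a * a + a * b * r - b * b * s = δ by
    obtain ⟨a, b, hab⟩ := hex
    have hne : a • (1 : Mat) + b • (c₀ : Mat) ≠ 0 := by
      intro h0
      have := hdet a b
      rw [h0, Matrix.det_zero, hab] at this
      exact hδ this.symm
    obtain ⟨c, hcC, hc⟩ := hE_of_ne _ (hMem a b) hne
    exact ⟨c, hcC, by rw [hc, hdet, hab]⟩
  rcases hpp.eq_two_or_odd' with h2 | hodd
  · subst h2
    have : δ = 1 := zmod2_eq_one δ hδ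
    exact ⟨1, 0, by rw [this]; ring⟩
  · have h2 : (2 : ZMod p) ≠ 0 := by
      intro h
      have hd : p ∣ 2 := (ZMod.natCast_eq_zero_iff 2 p).mp (by exact_mod_cast h)
      have hle := Nat.le_of_dvd (by norm_num) hd
      have h2le := hpp.two_le
      have hp2 : p = 2 := by omega
      rw [hp2] at hodd
      exact absurd hodd (by decide)
    obtain ⟨r2, hr2⟩ : ∃ r2 : ZMod p, r = 2 * r2 := ⟨r / 2, by field_simp⟩
    obtain ⟨D, hD⟩ : ∃ D : ZMod p, D = r2 * r2 + s := ⟨_, rfl⟩
    have hDne : D ≠ 0 := by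
      have hmem := hMem (-r2) 1
      have hne : (-r2) • (1 : Mat) + (1 : ZMod p) • (c₀ : Mat) ≠ 0 := by
        intro h0
        have := congrFun (congrFun h0 1) 0
        simp [h10] at this
      obtain ⟨c, -, hc⟩ := hE_of_ne _ hmem hne
      have hdc : (c : Mat).det ≠ 0 := by
        have := (Matrix.isUnit_iff_isUnit_det (c : Mat)).mp c.isUnit
        exact this.ne_zero
      rw [hc, hdet, hr2] at hdc
      intro hD0
      apply hdc
      rw [hD] at hD0
      linear_combination (-1 : ZMod p) * hD0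
    have hf : (Polynomial.X ^ 2 - Polynomial.C δ : Polynomial (ZMod p)).degree = 2 :=
      Polynomial.degree_X_pow_sub_C (by norm_num) δ
    have hg : (Polynomial.C (-D) * Polynomial.X ^ 2 : Polynomial (ZMod p)).degree = 2 :=
      Polynomial.degree_C_mul_X_pow 2 (neg_ne_zero.mpr hDne)
    have hcard : Fintype.card (ZMod p) % 2 = 1 := by
      rw [ZMod.card]; exact Nat.odd_iff.mp hodd
    obtain ⟨x, b, hxb⟩ := FiniteField.exists_root_sum_quadratic hf hg hcard
    simp only [Polynomial.eval_sub, Polynomial.eval_pow, Polynomial.eval_X, Polynomial.eval_C,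
      Polynomial.eval_mul] at hxb
    refine ⟨x - b * r2, b, ?_⟩
    rw [hr2]
    rw [hD] at hxb
    linear_combination hxb

theorem backward (H C : Subgroup G) (E : Subring Mat) (hCH : C ≤ H)
    (hcard : Nat.card E = p ^ 2)
    (hEC : (E : Set Mat) = insert 0 ((fun g : G => (g : Mat)) '' (C : Set G)))
    (hdvd : p ∣ Nat.card H) : H = ⊤ := by
  have hpp : p.Prime := Fact.out
  have hE_of_ne : ∀ M ∈ E, M ≠ 0 → ∃ c ∈ C, (c : Mat) = M := by
    intro M hM hne
    have h : M ∈ (E : Set Mat) := hM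
    rw [hEC] at h
    rcases h with rfl | ⟨c, hc, rfl⟩
    · exact absurd rfl hne
    · exact ⟨c, hc, rfl⟩
  have hC_in_E : ∀ c ∈ C, (c : Mat) ∈ E := by
    intro c hc
    have : (c : Mat) ∈ (E : Set Mat) := by
      rw [hEC]
      exact Set.mem_insert_of_mem _ ⟨c, hc, rfl⟩
    exact this
  -- transitivity
  have htrans : ∀ w w' : Fin 2 → ZMod p, w ≠ 0 → w' ≠ 0 → ∃ c ∈ C, (c : Mat) *ᵥ w = w' := by
    intro w w' hw hw'
    have hinj : Function.Injective (fun e : E => (e : Mat) *ᵥ w) := by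
      intro e e' hee
      by_contra hne
      have hsub : ((e - e' : E) : Mat) ≠ 0 := by
        intro h0
        apply hne
        apply Subtype.ext
        have : (e : Mat) - (e' : Mat) = 0 := by simpa using h0
        exact sub_eq_zero.mp this
      obtain ⟨c, -, hc⟩ := hE_of_ne _ (e - e').2 hsub
      have h1 : ((e - e' : E) : Mat) *ᵥ w = 0 := by
        have : (e : Mat) *ᵥ w = (e' : Mat) *ᵥ w := hee
        show ((e : Mat) - (e' : Mat)) *ᵥ w = 0
        rw [Matrix.sub_mulVec, this, sub_self]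
      rw [← hc] at h1
      apply hw
      have h2 := congrArg (fun v => ((c⁻¹ : G) : Mat) *ᵥ v) h1
      simp only [Matrix.mulVec_mulVec, Matrix.mulVec_zero] at h2
      rwa [← Units.val_mul, inv_mul_cancel, Units.val_one, Matrix.one_mulVec] at h2
    have hbij : Function.Bijective (fun e : E => (e : Mat) *ᵥ w) := by
      apply hinj.bijective_of_nat_card_le
      rw [hcard, Nat.card_fun, Nat.card_zmod, Nat.card_fin]
    obtain ⟨e, he⟩ := hbij.2 w'
    have hene : (e : Mat) ≠ 0 := by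
      intro h0
      apply hw'
      rw [← he]
      show (e : Mat) *ᵥ w = 0
      rw [h0, Matrix.zero_mulVec]
    obtain ⟨c, hcC, hc⟩ := hE_of_ne _ e.2 hene
    exact ⟨c, hcC, by rw [hc]; exact he⟩
  -- element of order p
  obtain ⟨x, hx⟩ := @exists_prime_orderOf_dvd_card' H _ _ p _ hdvd
  have hxp : x ^ p = 1 := by
    have h := pow_orderOf_eq_one x
    rwa [hx] at h
  have hx1 : x ≠ 1 := by
    intro h
    rw [h, orderOf_one] at hx
    exact hpp.one_lt.ne hx
  obtain ⟨g, hgdef⟩ : ∃ g : G, g = (x : G) := ⟨_, rfl⟩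
  have hgH : g ∈ H := by rw [hgdef]; exact x.2
  have hgp : g ^ p = 1 := by
    rw [hgdef]
    have := congrArg Subtype.val hxp
    simpa using this
  have hg1 : g ≠ 1 := by
    intro h
    apply hx1
    apply Subtype.ext
    rw [← hgdef, h]; rfl
  obtain ⟨N, hNdef⟩ : ∃ N : Mat, N = (g : Mat) - 1 := ⟨_, rfl⟩
  have hgN : (g : Mat) = 1 + N := by rw [hNdef]; abel
  have hN : N ≠ 0 := by
    intro h0
    apply hg1
    apply Units.ext
    rw [hgN, h0, add_zero, Units.val_one]
  have hNp : N ^ p = 0 := by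
    rw [hNdef, sub_pow_char_of_commute p (Commute.one_right _), one_pow,
      ← Units.val_pow_eq_pow_val, hgp, Units.val_one, sub_self]
  have hNN := nilp N hN hNp
  obtain ⟨w, hw0, hw⟩ := exists_ker N hN hNN
  have he1 : (![1, 0] : Fin 2 → ZMod p) ≠ 0 := by
    intro h
    have := congrFun h 0
    simp at this
  have he2 : (![0, 1] : Fin 2 → ZMod p) ≠ 0 := by
    intro h
    have := congrFun h 1
    simp at this
  -- the conjugate as a matrix
  have hconj : ∀ c : G, ((c * g * c⁻¹ : G) : Mat) = 1 + (c : Mat) * N * ((c⁻¹ : G) : Mat) := by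
    intro c
    rw [Units.val_mul, Units.val_mul, hgN, mul_add, add_mul, mul_one, ← Units.val_mul,
      mul_inv_cancel, Units.val_one]
  -- upper
  have hU : ∀ l : ZMod p, ∃ h ∈ H, (h : Mat) = U l := by
    obtain ⟨c, hcC, hc⟩ := htrans w ![1, 0] hw0 he1
    obtain ⟨p1, p2, p3⟩ := conj_props N hN hNN c w ![1, 0] hw hc
    have hform := upper_form _ p1 p2
    obtain ⟨β, hβ⟩ : ∃ β, β = ((c : Mat) * N * ((c⁻¹ : G) : Mat)) 0 1 := ⟨_, rfl⟩
    rw [← hβ] at hform
    have hβ0 : β ≠ 0 := by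
      intro h0
      apply p3
      rw [hform, h0]
      ext i j
      fin_cases i <;> fin_cases j <;> simp
    apply all_U H (c * g * c⁻¹) (H.mul_mem (H.mul_mem (hCH hcC) hgH) (H.inv_mem (hCH hcC))) β hβ0
    rw [hconj, hform, U, Matrix.one_fin_two]
    ext i j
    fin_cases i <;> fin_cases j <;> simp
  have hL : ∀ l : ZMod p, ∃ h ∈ H, (h : Mat) = L l := by
    obtain ⟨c, hcC, hc⟩ := htrans w ![0, 1] hw0 he2
    obtain ⟨p1, p2, p3⟩ := conj_props N hN hNN c w ![0, 1] hw hc
    have hform := lower_form _ p1 p2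
    obtain ⟨β, hβ⟩ : ∃ β, β = ((c : Mat) * N * ((c⁻¹ : G) : Mat)) 1 0 := ⟨_, rfl⟩
    rw [← hβ] at hform
    have hβ0 : β ≠ 0 := by
      intro h0
      apply p3
      rw [hform, h0]
      ext i j
      fin_cases i <;> fin_cases j <;> simp
    apply all_L H (c * g * c⁻¹) (H.mul_mem (H.mul_mem (hCH hcC) hgH) (H.inv_mem (hCH hcC))) β hβ0
    rw [hconj, hform, L, Matrix.one_fin_two]
    ext i j
    fin_cases i <;> fin_cases j <;> simp
  -- an element of C with first column (0,1)
  obtain ⟨c₀, hc₀C, hc₀⟩ := htrans ![1, 0] ![0, 1] he1 he2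
  have h00 : (c₀ : Mat) 0 0 = 0 := by
    have := congrFun hc₀ 0
    simpa [Matrix.mulVec, dotProduct, Fin.sum_univ_two] using this
  have h10 : (c₀ : Mat) 1 0 = 1 := by
    have := congrFun hc₀ 1
    simpa [Matrix.mulVec, dotProduct, Fin.sum_univ_two] using this
  -- conclusion
  rw [eq_top_iff]
  intro k _
  have hkdet : (k : Mat).det ≠ 0 :=
    ((Matrix.isUnit_iff_isUnit_det (k : Mat)).mp k.isUnit).ne_zero
  obtain ⟨c, hcC, hcdet⟩ := det_surj C E hE_of_ne c₀ (hC_in_E c₀ hc₀C) h00 h10 _ hkdet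
  have hdet1 : ((c⁻¹ * k : G) : Mat).det = 1 := by
    have h1 : ((c⁻¹ * k : G) : Mat) = ((c⁻¹ : G) : Mat) * (k : Mat) := Units.val_mul _ _
    have h2 : ((c⁻¹ : G) : Mat).det * (c : Mat).det = 1 := by
      rw [← Matrix.det_mul, ← Units.val_mul, inv_mul_cancel, Units.val_one, Matrix.det_one]
    rw [h1, Matrix.det_mul, ← hcdet]
    exact h2
  obtain ⟨h, hhH, hh⟩ := sl2_mem H hU hL _ hdet1
  have hk : k = c * h := by
    have : h = c⁻¹ * k := Units.ext hh
    rw [this, mul_inv_cancel_left]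
  rw [hk]
  exact H.mul_mem (hCH hcC) hhH

/-! ### The converse: existence of a non-split Cartan subgroup -/

/-- the element `a + b A₀` where `A₀` is the companion matrix of `X² - X + n` -/
def el (n a b : ZMod p) : Mat := !![a, -(n * b); b, a + b]

lemma el_mul (n a b a' b' : ZMod p) :
    el n a b * el n a' b' = el n (a * a' - n * b * b') (a * b' + a' * b + b * b') := by
  rw [el, el, el, Matrix.mul_fin_two]
  ext i j
  fin_cases i <;> fin_cases j <;> simp <;> ring

lemma el_one (n : ZMod p) : el n 1 0 = (1 : Mat) := by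
  rw [el, Matrix.one_fin_two]
  ext i j
  fin_cases i <;> fin_cases j <;> simp

lemma el_zero (n : ZMod p) : el n 0 0 = (0 : Mat) := by
  rw [el]
  ext i j
  fin_cases i <;> fin_cases j <;> simp

lemma el_add (n a b a' b' : ZMod p) : el n a b + el n a' b' = el n (a + a') (b + b') := by
  rw [el, el, el]
  ext i j
  fin_cases i <;> fin_cases j <;> simp <;> ring

lemma el_neg (n a b : ZMod p) : -el n a b = el n (-a) (-b) := by
  rw [el, el]
  ext i j
  fin_cases i <;> fin_cases j <;> simp <;> ring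

lemma el_det (n a b : ZMod p) : (el n a b).det = a * (a + b) + n * b * b := by
  rw [el, Matrix.det_fin_two]
  simp
  try ring

lemma el_inj (n a b a' b' : ZMod p) (h : el n a b = el n a' b') : a = a' ∧ b = b' := by
  have h1 := congrFun (congrFun h 0) 0
  have h2 := congrFun (congrFun h 1) 0
  simp [el] at h1 h2
  exact ⟨h1, h2⟩

theorem forward : ∃ (C : Subgroup G) (E : Subring Mat), IsField E ∧ Nat.card E = p ^ 2 ∧
    (E : Set Mat) = insert 0 ((fun g : G => (g : Mat)) '' (C : Set G)) := by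
  obtain ⟨n, hn⟩ : ∃ n : ZMod p, ∀ x : ZMod p, x * x - x + n ≠ 0 := by
    have hninj : ¬ Function.Injective (fun x : ZMod p => x * x - x) := by
      intro h
      have := @h 0 1 (by simp)
      exact zero_ne_one this
    have hnsurj : ¬ Function.Surjective (fun x : ZMod p => x * x - x) := fun h =>
      hninj (Finite.injective_iff_surjective.mpr h)
    simp only [Function.Surjective, not_forall, not_exists] at hnsurj
    obtain ⟨m, hm⟩ := hnsurj
    exact ⟨-m, fun x hx => hm x (by linear_combination hx)⟩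
  have hQ : ∀ a b : ZMod p, (a ≠ 0 ∨ b ≠ 0) → a * (a + b) + n * b * b ≠ 0 := by
    intro a b hab hQ0
    by_cases hb : b = 0
    · rw [hb] at hQ0
      have ha : a ≠ 0 := by
        rcases hab with h | h
        · exact h
        · exact absurd hb h
      apply ha
      have : a * a = 0 := by linear_combination hQ0
      exact mul_self_eq_zero.mp this
    · obtain ⟨x, hx⟩ : ∃ x, x * b = -a := ⟨-a / b, div_mul_cancel₀ _ hb⟩
      apply hn x
      have h1 : (x * x - x + n) * (b * b) = 0 := by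
        linear_combination (x * b - a - b) * hx + hQ0
      rcases mul_eq_zero.mp h1 with h | h
      · exact h
      · exact absurd (mul_self_eq_zero.mp h) hb
  let E : Subring Mat :=
    { carrier := {M | ∃ a b : ZMod p, M = el n a b}
      mul_mem' := by
        rintro _ _ ⟨a, b, rfl⟩ ⟨a', b', rfl⟩
        exact ⟨_, _, el_mul n a b a' b'⟩
      one_mem' := ⟨1, 0, (el_one n).symm⟩
      add_mem' := by
        rintro _ _ ⟨a, b, rfl⟩ ⟨a', b', rfl⟩
        exact ⟨_, _, el_add n a b a' b'⟩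
      zero_mem' := ⟨0, 0, (el_zero n).symm⟩
      neg_mem' := by
        rintro _ ⟨a, b, rfl⟩
        exact ⟨_, _, el_neg n a b⟩ }
  have hEmem : ∀ M : Mat, M ∈ E ↔ ∃ a b : ZMod p, M = el n a b := fun M => Iff.rfl
  -- inverses
  have hinv : ∀ a b : ZMod p, (a ≠ 0 ∨ b ≠ 0) → ∃ a' b' : ZMod p, el n a b * el n a' b' = 1 := by
    intro a b hab
    have hq := hQ a b hab
    obtain ⟨Q, hQdef⟩ : ∃ Q : ZMod p, Q = a * (a + b) + n * b * b := ⟨_, rfl⟩
    rw [← hQdef] at hq
    refine ⟨(a + b) * Q⁻¹, -b * Q⁻¹, ?_⟩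
    rw [el_mul, ← el_one n]
    congr 1
    · have : a * ((a + b) * Q⁻¹) - n * b * (-b * Q⁻¹) = Q * Q⁻¹ := by rw [hQdef]; ring
      rw [this, mul_inv_cancel₀ hq]
    · ring
  have hfield : IsField E := by
    refine ⟨⟨0, 1, ?_⟩, ?_, ?_⟩
    · intro h
      have := congrArg (fun e : E => (e : Mat) 0 0) h
      simp at this
    · rintro ⟨_, a, b, rfl⟩ ⟨_, a', b', rfl⟩
      apply Subtype.ext
      show el n a b * el n a' b' = el n a' b' * el n a b
      rw [el_mul, el_mul]
      congr 1 <;> ring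
    · rintro ⟨_, a, b, rfl⟩ hne
      have hab : a ≠ 0 ∨ b ≠ 0 := by
        by_contra h
        push Not at h
        apply hne
        apply Subtype.ext
        show el n a b = 0
        rw [h.1, h.2, el_zero]
      obtain ⟨a', b', hab'⟩ := hinv a b hab
      exact ⟨⟨el n a' b', a', b', rfl⟩, Subtype.ext hab'⟩
  have hcard : Nat.card E = p ^ 2 := by
    have hbij : Function.Bijective (fun ab : ZMod p × ZMod p => (⟨el n ab.1 ab.2, ab.1, ab.2, rfl⟩ : E)) := by
      constructor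
      · rintro ⟨a, b⟩ ⟨a', b'⟩ h
        have := el_inj n a b a' b' (congrArg Subtype.val h)
        rw [this.1, this.2]
      · rintro ⟨_, a, b, rfl⟩
        exact ⟨(a, b), rfl⟩
    rw [← Nat.card_congr (Equiv.ofBijective _ hbij), Nat.card_prod, Nat.card_zmod, sq]
  let C : Subgroup G :=
    { carrier := {g | (g : Mat) ∈ E}
      mul_mem' := by
        intro x y hx hy
        show ((x * y : G) : Mat) ∈ E
        rw [Units.val_mul]
        exact E.mul_mem hx hy
      one_mem' := by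
        show ((1 : G) : Mat) ∈ E
        rw [Units.val_one]
        exact E.one_mem
      inv_mem' := by
        intro x hx
        show ((x⁻¹ : G) : Mat) ∈ E
        obtain ⟨a, b, hab⟩ := (hEmem _).mp hx
        have hne : a ≠ 0 ∨ b ≠ 0 := by
          by_contra h
          push Not at h
          rw [h.1, h.2, el_zero] at hab
          exact x.ne_zero hab
        obtain ⟨a', b', hab'⟩ := hinv a b hne
        rw [← hab] at hab'
        rw [Units.inv_eq_of_mul_eq_one_right hab']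
        exact ⟨a', b', rfl⟩ }
  refine ⟨C, E, hfield, hcard, ?_⟩
  ext M
  constructor
  · intro hM
    obtain ⟨a, b, rfl⟩ := (hEmem _).mp hM
    by_cases h : a = 0 ∧ b = 0
    · left
      rw [h.1, h.2, el_zero]
    · right
      have hab : a ≠ 0 ∨ b ≠ 0 := by
        by_contra h'
        push Not at h'
        exact h h'
      have hdet : (el n a b).det ≠ 0 := by rw [el_det]; exact hQ a b hab
      refine ⟨Matrix.GeneralLinearGroup.mkOfDetNeZero (el n a b) hdet, ?_, rfl⟩
      show ((Matrix.GeneralLinearGroup.mkOfDetNeZero (el n a b) hdet : G) : Mat) ∈ E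
      exact ⟨a, b, rfl⟩
  · rintro (rfl | ⟨g, hg, rfl⟩)
    · exact E.zero_mem
    · exact hg

theorem dvd_card_top : p ∣ Nat.card (⊤ : Subgroup G) := by
  have hdet : (U 1 : Mat).det ≠ 0 := by simp [U, Matrix.det_fin_two]
  obtain ⟨T, hT⟩ : ∃ T : G, (T : Mat) = U 1 :=
    ⟨Matrix.GeneralLinearGroup.mkOfDetNeZero (U 1) hdet, rfl⟩
  have hTp : T ^ p = 1 := by
    apply Units.ext
    rw [pow_U T 1 hT, mul_one, ZMod.natCast_self, Units.val_one, U, Matrix.one_fin_two]
  have hT1 : T ≠ 1 := by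
    intro h
    have h' := congrArg Units.val h
    rw [hT, Units.val_one] at h'
    have h'' := congrFun (congrFun h' 0) 1
    simp [U] at h''
  have hord : orderOf T = p := orderOf_eq_prime hTp hT1
  rw [Subgroup.card_top]
  have h := orderOf_dvd_natCard T
  rwa [hord] at h

theorem main (H : Subgroup G) :
    H = ⊤ ↔
      (∃ (C : Subgroup G) (E : Subring Mat),
          C ≤ H ∧ IsField E ∧ Nat.card E = p ^ 2 ∧
            (E : Set Mat) = insert 0 ((fun g : G => (g : Mat)) '' (C : Set G))) ∧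
        p ∣ Nat.card H := by
  constructor
  · intro hH
    subst hH
    obtain ⟨C, E, hf, hc, hs⟩ := forward (p := p)
    exact ⟨⟨C, E, le_top, hf, hc, hs⟩, dvd_card_top⟩
  · rintro ⟨⟨C, E, hCH, -, hcard, hEC⟩, hdvd⟩
    exact backward H C E hCH hcard hEC hdvd

end Groth.Agent.H64.GL2
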