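import Mathlib
import Groth.Prelude.Def_FEt
import Groth.Agent.H68.GalK.Defs

/-!
# (CONT) for helper68's S0290/S0298 squad: stabilizers of geometric points are open
-/

set_option autoImplicit false
set_option linter.style.haveILetI false
universe u
open CategoryTheory CategoryTheory.Limits AlgebraicGeometry
open Groth.Agent.H68.GalK

namespace Groth.Agent.H64.GalK_CONT

variable {K : Type u} [Field K]

theorem isOpen_stabilizer (Y : FEt.Cat (Spec (CommRingCat.of K))) (s : FEt.fiberObj (ξ K) Y) :
    IsOpen (MulAction.stabilizer (Field.absoluteGaloisGroup K) s :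
      Set (Field.absoluteGaloisGroup K)) := by
  obtain ⟨g, hg⟩ : ∃ g : Y.left ⟶ Spec (CommRingCat.of K), g = Y.hom := ⟨Y.hom, rfl⟩
  have hsg : s.1 ≫ g = ξ K := by rw [hg]; exact s.2
  haveI hfin : IsFinite g := by rw [hg]; exact Y.prop.1
  haveI : IsAffine Y.left := isAffine_of_isAffineHom g
  -- the ring maps
  let ψ : Γ(Y.left, ⊤) →+* AlgebraicClosure K :=
    (s.1.appTop ≫ (Scheme.ΓSpecIso (CommRingCat.of (AlgebraicClosure K))).hom).hom
  let κ : K →+* Γ(Y.left, ⊤) :=
    ((Scheme.ΓSpecIso (CommRingCat.of K)).inv ≫ g.appTop).hom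
  have hψκ : ψ.comp κ = algebraMap K (AlgebraicClosure K) := by
    have h1 : g.appTop ≫ s.1.appTop = (ξ K).appTop := by
      rw [← Scheme.Hom.comp_appTop, hsg]
    have h2 : ((Scheme.ΓSpecIso (CommRingCat.of K)).inv ≫ g.appTop) ≫
        (s.1.appTop ≫ (Scheme.ΓSpecIso (CommRingCat.of (AlgebraicClosure K))).hom) =
        CommRingCat.ofHom (algebraMap K (AlgebraicClosure K)) := by
      rw [Category.assoc, ← Category.assoc g.appTop, h1, Scheme.ΓSpecIso_naturality,
        Iso.inv_hom_id_assoc]
    exact congrArg CommRingCat.Hom.hom h2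
  have hκfin : κ.Finite := by
    have h1 : (g.appTop).hom.Finite :=
      ((HasAffineProperty.iff_of_isAffine (P := @IsFinite)).mp hfin).2
    have h2 : ((Scheme.ΓSpecIso (CommRingCat.of K)).inv).hom.Finite :=
      RingHom.Finite.of_surjective _
        (ConcreteCategory.bijective_of_isIso (Scheme.ΓSpecIso (CommRingCat.of K)).inv).2
    exact h1.comp h2
  -- finitely many module generators
  letI : Algebra K Γ(Y.left, ⊤) := κ.toAlgebra
  haveI : Module.Finite K Γ(Y.left, ⊤) := hκfin
  obtain ⟨T, hT⟩ := (Module.Finite.fg_top : (⊤ : Submodule K Γ(Y.left, ⊤)).FG)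
  haveI : Finite (ψ '' (T : Set Γ(Y.left, ⊤))) := (T.finite_toSet.image ψ).to_subtype
  haveI hEfd : FiniteDimensional K
      (IntermediateField.adjoin K (ψ '' (T : Set Γ(Y.left, ⊤)))) :=
    IntermediateField.finiteDimensional_adjoin fun x _ => Algebra.IsIntegral.isIntegral x
  have hopen := IntermediateField.fixingSubgroup_isOpen
    (IntermediateField.adjoin K (ψ '' (T : Set Γ(Y.left, ⊤))))
  -- the fixing subgroup is contained in the stabilizer
  have hle : ∀ σ : AlgebraicClosure K ≃ₐ[K] AlgebraicClosure K,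
      σ ∈ (IntermediateField.adjoin K (ψ '' (T : Set Γ(Y.left, ⊤)))).fixingSubgroup →
      ∀ a : Γ(Y.left, ⊤), σ (ψ a) = ψ a := by
    intro σ hσ a
    have ha : a ∈ Submodule.span K (T : Set Γ(Y.left, ⊤)) := by rw [hT]; trivial
    refine Submodule.span_induction ?_ ?_ ?_ ?_ ha
    · intro t ht
      exact (IntermediateField.mem_fixingSubgroup_iff _ _).mp hσ _
        (IntermediateField.subset_adjoin K _ ⟨t, ht, rfl⟩)
    · rw [map_zero, map_zero]
    · intro x y _ _ hx hy
      rw [map_add, map_add, hx, hy]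
    · intro c x _ hx
      have hc : ψ (c • x) = algebraMap K (AlgebraicClosure K) c * ψ x := by
        rw [Algebra.smul_def, map_mul]
        congr 1
        exact congrArg (fun f : K →+* AlgebraicClosure K => f c) hψκ
      rw [hc, map_mul, hx, AlgEquiv.commutes]
  have hstab : ∀ σ : Field.absoluteGaloisGroup K,
      ae σ ∈ (IntermediateField.adjoin K (ψ '' (T : Set Γ(Y.left, ⊤)))).fixingSubgroup →
      σ • s = s := by
    intro σ hσ
    apply Subtype.ext
    rw [smul_val]
    apply ext_of_isAffine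
    rw [Scheme.Hom.comp_appTop]
    have h1 : (specσ σ).appTop =
        (Scheme.ΓSpecIso (CommRingCat.of (AlgebraicClosure K))).hom ≫
          CommRingCat.ofHom ((ae σ : AlgebraicClosure K ≃ₐ[K] AlgebraicClosure K) :
            AlgebraicClosure K →+* AlgebraicClosure K) ≫
          (Scheme.ΓSpecIso (CommRingCat.of (AlgebraicClosure K))).inv := by
      rw [← Scheme.ΓSpecIso_naturality_assoc, Iso.hom_inv_id, Category.comp_id]
    have h2 : (s.1.appTop ≫ (Scheme.ΓSpecIso (CommRingCat.of (AlgebraicClosure K))).hom) ≫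
        CommRingCat.ofHom ((ae σ : AlgebraicClosure K ≃ₐ[K] AlgebraicClosure K) :
          AlgebraicClosure K →+* AlgebraicClosure K) =
        s.1.appTop ≫ (Scheme.ΓSpecIso (CommRingCat.of (AlgebraicClosure K))).hom := by
      ext a
      exact hle (ae σ) hσ a
    rw [h1, ← Category.assoc, ← Category.assoc, h2, Category.assoc, Iso.hom_inv_id,
      Category.comp_id]
  exact Subgroup.isOpen_mono
    (H₁ := (show Subgroup (Field.absoluteGaloisGroup K) from
      (IntermediateField.adjoin K (ψ '' (T : Set Γ(Y.left, ⊤)))).fixingSubgroup))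
    (H₂ := MulAction.stabilizer (Field.absoluteGaloisGroup K) s)
    (fun σ hσ => MulAction.mem_stabilizer_iff.mpr (hstab σ hσ)) hopen

end Groth.Agent.H64.GalK_CONT
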