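import Mathlib

/-!
# (CPT) for helper68's S0290/S0298 squad: the absolute Galois group is compact
(also for imperfect fields, where `K̄ / K` is not Galois)
-/

set_option autoImplicit false
set_option linter.style.haveILetI false
universe u

namespace Groth.Agent.H64.GalK_CPT

open scoped Topology

theorem compactSpace_algEquiv_algebraicClosure (K : Type u) [Field K] :
    CompactSpace (AlgebraicClosure K ≃ₐ[K] AlgebraicClosure K) := by
  obtain ⟨q, hq⟩ := ExpChar.exists K
  haveI : ExpChar (AlgebraicClosure K) q :=
    expChar_of_injective_algebraMap (algebraMap K (AlgebraicClosure K)).injective q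
  haveI : ExpChar (separableClosure K (AlgebraicClosure K)) q :=
    expChar_of_injective_algebraMap
      (algebraMap K (separableClosure K (AlgebraicClosure K))).injective q
  have hsurj : Function.Surjective
      (AlgEquiv.restrictNormalHom (F := K) (K₁ := AlgebraicClosure K)
        (separableClosure K (AlgebraicClosure K))) :=
    AlgEquiv.restrictNormalHom_surjective (AlgebraicClosure K)
  have hind : Topology.IsInducing
      (AlgEquiv.restrictNormalHom (F := K) (K₁ := AlgebraicClosure K)
        (separableClosure K (AlgebraicClosure K))) := by
    rw [IsTopologicalGroup.isInducing_iff_nhds_one]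
    apply le_antisymm
    · have h1 := (InfiniteGalois.restrictNormalHom_continuous (k := K)
        (K := AlgebraicClosure K) (separableClosure K (AlgebraicClosure K))).tendsto 1
      rw [map_one] at h1
      exact Filter.tendsto_iff_comap.mp h1
    · intro U hU
      rw [krullTopology_mem_nhds_one_iff] at hU
      obtain ⟨E, hE, hEU⟩ := hU
      rw [Filter.mem_comap]
      refine ⟨((E.comap (separableClosure K (AlgebraicClosure K)).val).fixingSubgroup :
        Set ((separableClosure K (AlgebraicClosure K)) ≃ₐ[K]
          (separableClosure K (AlgebraicClosure K)))), ?_, ?_⟩
      · rw [krullTopology_mem_nhds_one_iff]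
        refine ⟨E.comap (separableClosure K (AlgebraicClosure K)).val, ?_, subset_rfl⟩
        haveI := hE
        let φ : (E.comap (separableClosure K (AlgebraicClosure K)).val) →ₗ[K] E :=
          { toFun := fun y => ⟨((y : separableClosure K (AlgebraicClosure K)) :
              AlgebraicClosure K), y.2⟩
            map_add' := fun _ _ => rfl
            map_smul' := fun _ _ => rfl }
        exact Module.Finite.of_injective φ (fun a b h =>
          Subtype.ext (Subtype.ext (congrArg (fun z : E => (z : AlgebraicClosure K)) h)))
      · intro σ hσ
        apply hEU
        rw [SetLike.mem_coe, IntermediateField.mem_fixingSubgroup_iff]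
        intro x hx
        obtain ⟨n, y, hy⟩ := IsPurelyInseparable.pow_mem
          (separableClosure K (AlgebraicClosure K)) q x
        have hyE : y ∈ E.comap (separableClosure K (AlgebraicClosure K)).val := by
          show algebraMap (separableClosure K (AlgebraicClosure K)) (AlgebraicClosure K) y ∈ E
          rw [hy]
          exact pow_mem hx _
        have h1 : (AlgEquiv.restrictNormalHom (F := K) (K₁ := AlgebraicClosure K)
            (separableClosure K (AlgebraicClosure K)) σ) y = y :=
          (IntermediateField.mem_fixingSubgroup_iff _ _).mp hσ y hyE
        have h2 := AlgEquiv.restrictNormal_commutes σ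
          (separableClosure K (AlgebraicClosure K)) y
        have h3 : σ (x ^ q ^ n) = x ^ q ^ n := by
          rw [← hy, ← h2]
          exact congrArg _ h1
        rw [map_pow] at h3
        exact iterateFrobenius_inj (AlgebraicClosure K) q n h3
  have : IsCompact (Set.univ : Set (AlgebraicClosure K ≃ₐ[K] AlgebraicClosure K)) := by
    rw [hind.isCompact_iff, Set.image_univ, hsurj.range_eq]
    exact isCompact_univ
  exact ⟨this⟩

theorem compactSpace_absoluteGaloisGroup (K : Type u) [Field K] :
    CompactSpace (Field.absoluteGaloisGroup K) :=
  compactSpace_algEquiv_algebraicClosure K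

end Groth.Agent.H64.GalK_CPT
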