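import Mathlib

/-!
# Helper library for S14297: multi-cocycles on a compact abelian group are deviations

`W f s x y = ∑_{I ⊆ s} (-1)^{|I|} f (y + ∑_{i ∈ I} x i)`.
-/

open MeasureTheory

namespace Groth.Agent.H64.HaarCocycle

section algebra

variable {G : Type*} [AddCommGroup G]

/-- alternating sum -/
def W {ι : Type*} (f : G → ℝ) (s : Finset ι) (x : ι → G) (y : G) : ℝ :=
  ∑ I ∈ s.powerset, (-1 : ℝ) ^ I.card * f (y + ∑ i ∈ I, x i)

lemma W_empty {ι : Type*} (f : G → ℝ) (x : ι → G) (y : G) : W f ∅ x y = f y := by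
  simp [W]

lemma W_insert {ι : Type*} [DecidableEq ι] (f : G → ℝ) {a : ι} {s : Finset ι} (ha : a ∉ s)
    (x : ι → G) (y : G) :
    W f (insert a s) x y = W f s x y - W f s x (y + x a) := by
  unfold W
  rw [Finset.sum_powerset_insert ha, sub_eq_add_neg, ← Finset.sum_neg_distrib]
  congr 1
  refine Finset.sum_congr rfl fun I hI => ?_
  have haI : a ∉ I := fun h => ha (Finset.mem_powerset.mp hI h)
  rw [Finset.card_insert_of_notMem haI, Finset.sum_insert haI, pow_succ, add_assoc y (x a)]
  ring

lemma W_congr {ι : Type*} (f : G → ℝ) (s : Finset ι) {x x' : ι → G}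
    (h : ∀ i ∈ s, x i = x' i) (y : G) : W f s x y = W f s x' y := by
  unfold W
  refine Finset.sum_congr rfl fun I hI => ?_
  have : ∑ i ∈ I, x i = ∑ i ∈ I, x' i :=
    Finset.sum_congr rfl fun i hi => h i (Finset.mem_powerset.mp hI hi)
  rw [this]

lemma W_map {ι κ : Type*} [DecidableEq ι] [DecidableEq κ] (f : G → ℝ) (e : ι ↪ κ)
    (s : Finset ι) (x : κ → G) (y : G) :
    W f (s.map e) x y = W f s (fun i => x (e i)) y := by
  induction s using Finset.induction_on generalizing y with
  | empty => rw [Finset.map_empty, W_empty, W_empty]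
  | insert a s ha ih =>
    rw [Finset.map_insert, W_insert f ((Finset.mem_map' e).not.mpr ha), W_insert f ha, ih, ih]

lemma sum_erase_eq_W {n : ℕ} (f : G → ℝ) (m : ℕ) (x : Fin n → G) :
    ∑ I ∈ (Finset.univ : Finset (Fin n)).powerset.erase ∅,
        (-1 : ℝ) ^ (m + 1 + I.card) * f (∑ i ∈ I, x i)
      = (-1 : ℝ) ^ (m + 1) * (W f Finset.univ x 0 - f 0) := by
  have h0 : (∅ : Finset (Fin n)) ∈ (Finset.univ : Finset (Fin n)).powerset :=
    Finset.empty_mem_powerset _
  have key : W f Finset.univ x 0 = f 0 + ∑ I ∈ (Finset.univ : Finset (Fin n)).powerset.erase ∅,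
      (-1 : ℝ) ^ I.card * f (∑ i ∈ I, x i) := by
    unfold W
    rw [← Finset.add_sum_erase _ _ h0]
    simp
  rw [key, add_sub_cancel_left, Finset.mul_sum]
  refine Finset.sum_congr rfl fun I _ => ?_
  ring

lemma univ_eq_insert (n : ℕ) :
    (Finset.univ : Finset (Fin (n + 1))) = insert 0 (Finset.univ.map (Fin.succEmb n)) := by
  ext i
  constructor
  · intro _
    rcases Fin.eq_zero_or_eq_succ i with h | ⟨j, h⟩
    · exact Finset.mem_insert.mpr (Or.inl h)
    · exact Finset.mem_insert.mpr
        (Or.inr (Finset.mem_map.mpr ⟨j, Finset.mem_univ j, h.symm⟩))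
  · intro _; exact Finset.mem_univ i

lemma zero_notMem (n : ℕ) : (0 : Fin (n + 1)) ∉ Finset.univ.map (Fin.succEmb n) := by
  intro h
  obtain ⟨j, _, hj⟩ := Finset.mem_map.mp h
  exact Fin.succ_ne_zero j hj

lemma W_univ_succ {n : ℕ} (f : G → ℝ) (x : Fin (n + 1) → G) (y : G) :
    W f (Finset.univ : Finset (Fin (n + 1))) x y =
      W f Finset.univ (Fin.tail x) y - W f Finset.univ (Fin.tail x) (y + x 0) := by
  rw [univ_eq_insert n, W_insert f (zero_notMem n), W_map, W_map]
  rfl

lemma W_step {m : ℕ} (f : G → ℝ) (x : Fin (m + 1 + 1) → G) :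
    W f Finset.univ (Function.update (Fin.tail x) 0 (x (Fin.succ 0) + x 0)) 0
        - W f Finset.univ (Fin.tail x) 0
        - W f Finset.univ (Function.update (Fin.tail x) 0 (x 0)) 0
      = - W f Finset.univ x 0 := by
  obtain ⟨s, hs⟩ : ∃ s : Finset (Fin (m + 1)), s = (Finset.univ : Finset (Fin (m + 1))).erase 0 :=
    ⟨_, rfl⟩
  have hus : (Finset.univ : Finset (Fin (m + 1))) = insert 0 s := by
    rw [hs]; exact (Finset.insert_erase (Finset.mem_univ 0)).symm
  have h0s : (0 : Fin (m + 1)) ∉ s := by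
    rw [hs]; exact Finset.notMem_erase 0 _
  have H1 : ∀ (v y : G), W f Finset.univ (Function.update (Fin.tail x) 0 v) y =
      W f s (Fin.tail x) y - W f s (Fin.tail x) (y + v) := by
    intro v y
    rw [hus, W_insert f h0s, Function.update_self]
    have hc : ∀ y', W f s (Function.update (Fin.tail x) 0 v) y' = W f s (Fin.tail x) y' :=
      fun y' => W_congr f s (fun i hi =>
        Function.update_of_ne (by rintro rfl; exact h0s hi) v (Fin.tail x)) y'
    rw [hc, hc]
  have H2 : ∀ y : G, W f Finset.univ (Fin.tail x) y =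
      W f s (Fin.tail x) y - W f s (Fin.tail x) (y + x (Fin.succ 0)) := by
    intro y
    have := H1 (x (Fin.succ 0)) y
    rwa [show Function.update (Fin.tail x) 0 (x (Fin.succ 0)) = Fin.tail x from
      Function.update_eq_self 0 (Fin.tail x)] at this
  rw [H1, H1, W_univ_succ f x 0, H2, H2]
  have e : (0 : G) + x 0 + x (Fin.succ 0) = 0 + (x (Fin.succ 0) + x 0) := by abel
  rw [e]; ring

lemma cons_update2 {n : ℕ} (t : G) (y : Fin n → G) (i j : Fin n) (u v : G) :
    (Fin.cons t (Function.update (Function.update y i u) j v) : Fin (n + 1) → G) =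
      Function.update (Function.update (Fin.cons t y) i.succ u) j.succ v := by
  rw [Fin.cons_update, Fin.cons_update]

lemma upd_eq_cons {n : ℕ} (x : Fin (n + 1 + 1) → G) (v t : G) :
    Function.update (Function.update x (Fin.succ 0) v) 0 t =
      (Fin.cons t (Function.update (Fin.tail x) 0 v) : Fin (n + 1 + 1) → G) := by
  have h1 : (Fin.cons t (Fin.tail x) : Fin (n + 1 + 1) → G) = Function.update x 0 t := by
    rw [← Fin.update_cons_zero (α := fun _ => G) (x 0) (Fin.tail x) t, Fin.cons_self_tail]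
  rw [Fin.cons_update, h1]
  exact Function.update_comm (Fin.succ_ne_zero 0) v t x

end algebra

section analysis

lemma integrable_of_continuous_of_measurable {X : Type*} [TopologicalSpace X] [CompactSpace X]
    [MeasurableSpace X] (ν : Measure X) [IsFiniteMeasure ν] (f : X → ℝ) (hf : Continuous f)
    (hm : Measurable f) : Integrable f ν := by
  obtain ⟨C, hC⟩ := isCompact_univ.exists_bound_of_continuousOn hf.continuousOn
  exact Integrable.of_bound hm.aestronglyMeasurable C
    (Filter.Eventually.of_forall fun x => hC x (Set.mem_univ x))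

/-- The subalgebra of (product-)measurable continuous functions on `Fin n → G`. -/
def measSubalg (G : Type*) [TopologicalSpace G] [MeasurableSpace G] (n : ℕ) :
    Subalgebra ℝ C(Fin n → G, ℝ) where
  carrier := {h | Measurable (h : (Fin n → G) → ℝ)}
  mul_mem' := by
    intro a b ha hb
    show Measurable (⇑(a * b))
    rw [ContinuousMap.coe_mul]
    exact Measurable.mul ha hb
  one_mem' := by
    show Measurable (⇑(1 : C(Fin n → G, ℝ)))
    rw [ContinuousMap.coe_one]
    exact measurable_one
  add_mem' := by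
    intro a b ha hb
    show Measurable (⇑(a + b))
    rw [ContinuousMap.coe_add]
    exact Measurable.add ha hb
  zero_mem' := by
    show Measurable (⇑(0 : C(Fin n → G, ℝ)))
    rw [ContinuousMap.coe_zero]
    exact measurable_zero
  algebraMap_mem' := by
    intro r
    show Measurable (⇑(algebraMap ℝ C(Fin n → G, ℝ) r))
    have : (⇑(algebraMap ℝ C(Fin n → G, ℝ) r) : (Fin n → G) → ℝ) = fun _ => r := by
      funext a; simp
    rw [this]; exact measurable_const

variable {G : Type*} [TopologicalSpace G] [CompactSpace G] [T2Space G] [MeasurableSpace G]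
  [BorelSpace G]

/-- On a finite power of a compact Hausdorff space (not assumed second countable), every
continuous real function is measurable for the *product* σ-algebra (Stone–Weierstrass). -/
theorem measurable_of_continuous_pi {n : ℕ} (f : (Fin n → G) → ℝ) (hf : Continuous f) :
    Measurable f := by
  have hsep : (measSubalg G n).SeparatesPoints := by
    intro x y hxy
    obtain ⟨i, hi⟩ : ∃ i, x i ≠ y i := Function.ne_iff.mp hxy
    obtain ⟨f0, h0, h1, -⟩ := exists_continuous_zero_one_of_isClosed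
      (isClosed_singleton (x := x i)) (isClosed_singleton (x := y i))
      (Set.disjoint_singleton.mpr hi)
    let h : C(Fin n → G, ℝ) := f0.comp ⟨fun z => z i, continuous_apply i⟩
    refine ⟨(h : (Fin n → G) → ℝ), ⟨h, ?_, rfl⟩, ?_⟩
    · show Measurable (fun z : Fin n → G => f0 (z i))
      exact f0.continuous.measurable.comp (measurable_pi_apply i)
    · show f0 (x i) ≠ f0 (y i)
      rw [h0 (Set.mem_singleton _), h1 (Set.mem_singleton _)]
      simp
  have hcl : IsClosed ((measSubalg G n : Subalgebra ℝ C(Fin n → G, ℝ)) : Set C(Fin n → G, ℝ)) := by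
    refine IsSeqClosed.isClosed ?_
    intro hseq hlim hmem htend
    show Measurable (hlim : (Fin n → G) → ℝ)
    refine measurable_of_tendsto_metrizable (f := fun k => (hseq k : (Fin n → G) → ℝ))
      (fun k => hmem k) ?_
    rw [tendsto_pi_nhds]
    intro x
    exact ((continuous_eval_const (F := C(Fin n → G, ℝ)) x).tendsto hlim).comp htend
  have htop := ContinuousMap.subalgebra_topologicalClosure_eq_top_of_separatesPoints
    (measSubalg G n) hsep
  have hfmem : (⟨f, hf⟩ : C(Fin n → G, ℝ)) ∈ (measSubalg G n).topologicalClosure := by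
    rw [htop]; exact Algebra.mem_top
  rw [← SetLike.mem_coe, Subalgebra.topologicalClosure_coe, hcl.closure_eq] at hfmem
  exact hfmem

lemma integrable_pi_of_continuous (μ : Measure G) [IsProbabilityMeasure μ] {n : ℕ}
    (f : (Fin n → G) → ℝ) (hf : Continuous f) :
    Integrable f (Measure.pi fun _ : Fin n => μ) :=
  integrable_of_continuous_of_measurable _ f hf (measurable_of_continuous_pi f hf)

lemma integral_lipschitz (μ : Measure G) [IsProbabilityMeasure μ] :
    LipschitzWith 1 (fun f : C(G, ℝ) => ∫ t, f t ∂μ) := by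
  have hI : ∀ f : C(G, ℝ), Integrable (fun t => f t) μ := fun f =>
    integrable_of_continuous_of_measurable μ _ f.continuous f.continuous.measurable
  refine LipschitzWith.of_dist_le_mul fun f g => ?_
  show dist (∫ t, f t ∂μ) (∫ t, g t ∂μ) ≤ ((1 : NNReal) : ℝ) * dist f g
  have h1 : ∫ t, f t ∂μ - ∫ t, g t ∂μ = ∫ t, (f t - g t) ∂μ :=
    (integral_sub (hI f) (hI g)).symm
  have h2 : ‖∫ t, (f t - g t) ∂μ‖ ≤ dist f g * μ.real Set.univ :=
    norm_integral_le_of_norm_le_const (Filter.Eventually.of_forall fun t => by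
      rw [← dist_eq_norm]; exact ContinuousMap.dist_apply_le_dist t)
  rw [dist_eq_norm, h1]
  calc ‖∫ t, (f t - g t) ∂μ‖ ≤ dist f g * μ.real Set.univ := h2
    _ = ((1 : NNReal) : ℝ) * dist f g := by
      rw [probReal_univ, mul_one, NNReal.coe_one, one_mul]

theorem continuous_integral_of_continuous (μ : Measure G) [IsProbabilityMeasure μ]
    {Y : Type*} [TopologicalSpace Y] (F : Y → G → ℝ)
    (hF : Continuous (fun p : Y × G => F p.1 p.2)) :
    Continuous (fun y => ∫ t, F y t ∂μ) := by
  let Fc : C(Y × G, ℝ) := ⟨fun p => F p.1 p.2, hF⟩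
  have h := (integral_lipschitz μ).continuous.comp Fc.curry.continuous
  refine h.congr fun y => ?_
  rfl

end analysis

section main

variable {G : Type*} [AddCommGroup G] [TopologicalSpace G] [IsTopologicalAddGroup G]
  [CompactSpace G] [T2Space G] [MeasurableSpace G] [BorelSpace G]

theorem exists_phi_zero (ψ : (Fin 1 → G) → ℝ) (hψc : Continuous ψ) :
    ∃ φ₀ : G → ℝ, Continuous φ₀ ∧
      ∀ x, ψ x = (-1 : ℝ) ^ (0 + 1) * (W φ₀ Finset.univ x 0 - φ₀ 0) := by
  obtain ⟨φ₀, hφ₀⟩ : ∃ φ₀ : G → ℝ, ∀ g, φ₀ g = ψ (fun _ => g) := ⟨_, fun _ => rfl⟩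
  refine ⟨φ₀, ?_, fun x => ?_⟩
  · have : φ₀ = fun g => ψ (fun _ => g) := funext hφ₀
    rw [this]
    exact hψc.comp (continuous_pi fun _ => continuous_id)
  · have hu : (Finset.univ : Finset (Fin 1)) = insert 0 ∅ := by decide
    have hx : (fun _ : Fin 1 => x 0) = x := by
      funext i; rw [Subsingleton.elim i 0]
    rw [hu, W_insert _ (Finset.notMem_empty _), W_empty, W_empty, hφ₀ (0 + x 0),
      zero_add (x 0), hx]
    ring

theorem exists_phi (μ : Measure G) [μ.IsAddHaarMeasure] [IsProbabilityMeasure μ] :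
    ∀ (m : ℕ) (ψ : (Fin (m + 1) → G) → ℝ), Continuous ψ →
      (∀ (i j : Fin (m + 1)), i ≠ j → ∀ (x : Fin (m + 1) → G) (a b c : G),
        ψ (Function.update (Function.update x i (a + b)) j c) +
            ψ (Function.update (Function.update x i a) j b) =
          ψ (Function.update (Function.update x i a) j (b + c)) +
            ψ (Function.update (Function.update x i b) j c)) →
      ∃ φ₀ : G → ℝ, Continuous φ₀ ∧
        ∀ x, ψ x = (-1 : ℝ) ^ (m + 1) * (W φ₀ Finset.univ x 0 - φ₀ 0) := by
  intro m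
  induction m with
  | zero =>
    intro ψ hψc _
    exact exists_phi_zero ψ hψc
  | succ m ih =>
    intro ψ hψc hψ
    have hcons : Continuous (fun p : (Fin (m + 1) → G) × G =>
        (Fin.cons p.2 p.1 : Fin (m + 1 + 1) → G)) :=
      Continuous.finCons continuous_snd continuous_fst
    have hc1 : ∀ y : Fin (m + 1) → G, Continuous (fun t : G => ψ (Fin.cons t y)) := fun y =>
      hψc.comp (Continuous.finCons continuous_id' continuous_const)
    have hc2 : ∀ (c : G) (y : Fin (m + 1) → G),
        Continuous (fun t : G => ψ (Fin.cons (c + t) y)) := fun c y =>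
      hψc.comp (Continuous.finCons (continuous_const.add continuous_id') continuous_const)
    have hInt : ∀ y : Fin (m + 1) → G, Integrable (fun t : G => ψ (Fin.cons t y)) μ := fun y =>
      integrable_of_continuous_of_measurable μ _ (hc1 y) (hc1 y).measurable
    have hIntS : ∀ (c : G) (y : Fin (m + 1) → G),
        Integrable (fun t : G => ψ (Fin.cons (c + t) y)) μ := fun c y =>
      integrable_of_continuous_of_measurable μ _ (hc2 c y) (hc2 c y).measurable
    have hJc : Continuous (fun y : Fin (m + 1) → G => ∫ t, ψ (Fin.cons t y) ∂μ) :=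
      continuous_integral_of_continuous μ (fun y t => ψ (Fin.cons t y)) (hψc.comp hcons)
    obtain ⟨K, hK⟩ : ∃ K : (Fin (m + 1) → G) → ℝ,
        ∀ y, K y = -∫ t, ψ (Fin.cons t y) ∂μ := ⟨_, fun _ => rfl⟩
    have hKc : Continuous K := by
      have : K = fun y => -∫ t, ψ (Fin.cons t y) ∂μ := funext hK
      rw [this]; exact hJc.neg
    have hKcoc : ∀ (i j : Fin (m + 1)), i ≠ j → ∀ (y : Fin (m + 1) → G) (a b c : G),
        K (Function.update (Function.update y i (a + b)) j c) +
            K (Function.update (Function.update y i a) j b) =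
          K (Function.update (Function.update y i a) j (b + c)) +
            K (Function.update (Function.update y i b) j c) := by
      intro i j hij y a b c
      rw [hK, hK, hK, hK]
      have hpt : ∀ t : G,
          ψ (Fin.cons t (Function.update (Function.update y i (a + b)) j c)) +
            ψ (Fin.cons t (Function.update (Function.update y i a) j b)) =
          ψ (Fin.cons t (Function.update (Function.update y i a) j (b + c))) +
            ψ (Fin.cons t (Function.update (Function.update y i b) j c)) := by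
        intro t
        rw [cons_update2, cons_update2, cons_update2, cons_update2]
        exact hψ i.succ j.succ ((Fin.succ_injective _).ne hij) (Fin.cons t y) a b c
      have hI : ∫ t, (ψ (Fin.cons t (Function.update (Function.update y i (a + b)) j c)) +
            ψ (Fin.cons t (Function.update (Function.update y i a) j b))) ∂μ =
          ∫ t, (ψ (Fin.cons t (Function.update (Function.update y i a) j (b + c))) +
            ψ (Fin.cons t (Function.update (Function.update y i b) j c))) ∂μ :=
        integral_congr_ae (Filter.Eventually.of_forall hpt)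
      have h12 := integral_add (hInt (Function.update (Function.update y i (a + b)) j c))
        (hInt (Function.update (Function.update y i a) j b))
      have h34 := integral_add (hInt (Function.update (Function.update y i a) j (b + c)))
        (hInt (Function.update (Function.update y i b) j c))
      linarith
    obtain ⟨φ₀, hφ₀c, hφ₀⟩ := ih K hKc hKcoc
    refine ⟨φ₀, hφ₀c, fun x => ?_⟩
    have key : ψ x = -K (Fin.tail x) - K (Function.update (Fin.tail x) 0 (x 0))
        + K (Function.update (Fin.tail x) 0 (x (Fin.succ 0) + x 0)) := by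
      rw [hK, hK, hK]
      have hpt : ∀ t : G,
          ψ (Fin.cons t (Function.update (Fin.tail x) 0 (x (Fin.succ 0) + x 0))) + ψ x =
          ψ (Fin.cons (x 0 + t) (Fin.tail x)) +
            ψ (Fin.cons t (Function.update (Fin.tail x) 0 (x 0))) := by
        intro t
        have h := hψ (Fin.succ 0) 0 (Fin.succ_ne_zero 0) x (x (Fin.succ 0)) (x 0) t
        rw [upd_eq_cons, upd_eq_cons, upd_eq_cons, upd_eq_cons] at h
        have hy : Function.update (Fin.tail x) 0 (x (Fin.succ 0)) = Fin.tail x :=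
          Function.update_eq_self 0 (Fin.tail x)
        rw [hy, Fin.cons_self_tail] at h
        exact h
      have hI : ∫ t, (ψ (Fin.cons t (Function.update (Fin.tail x) 0 (x (Fin.succ 0) + x 0)))
            + ψ x) ∂μ =
          ∫ t, (ψ (Fin.cons (x 0 + t) (Fin.tail x)) +
            ψ (Fin.cons t (Function.update (Fin.tail x) 0 (x 0)))) ∂μ :=
        integral_congr_ae (Filter.Eventually.of_forall hpt)
      have hA := integral_add
        (hInt (Function.update (Fin.tail x) 0 (x (Fin.succ 0) + x 0)))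
        (integrable_const (μ := μ) (ψ x))
      have hB := integral_add (hIntS (x 0) (Fin.tail x))
        (hInt (Function.update (Fin.tail x) 0 (x 0)))
      have hC : ∫ _t : G, ψ x ∂μ = ψ x := by
        rw [integral_const, probReal_univ, one_smul]
      have htr : ∫ t, ψ (Fin.cons (x 0 + t) (Fin.tail x)) ∂μ =
          ∫ t, ψ (Fin.cons t (Fin.tail x)) ∂μ :=
        integral_add_left_eq_self (μ := μ) (fun t : G => ψ (Fin.cons t (Fin.tail x))) (x 0)
      linarith
    have e1 := hφ₀ (Fin.tail x)
    have e2 := hφ₀ (Function.update (Fin.tail x) 0 (x 0))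
    have e3 := hφ₀ (Function.update (Fin.tail x) 0 (x (Fin.succ 0) + x 0))
    have e4 := W_step φ₀ x
    linear_combination key - e1 - e2 + e3 + (-1 : ℝ) ^ (m + 1) * e4

theorem integral_W {m : ℕ} (π : Measure (Fin m → G)) [IsProbabilityMeasure π]
    [π.IsAddLeftInvariant]
    (hint : ∀ f : (Fin m → G) → ℝ, Continuous f → Integrable f π)
    (φ₀ : G → ℝ) (hφ : Continuous φ₀) :
    ∃ C : ℝ, ∀ y : G, ∫ u, W φ₀ Finset.univ u y ∂π = φ₀ y + C := by
  have hc : ∀ (y : G) (I : Finset (Fin m)),
      Continuous (fun u : Fin m → G => φ₀ (y + ∑ i ∈ I, u i)) :=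
    fun y I => hφ.comp (continuous_const.add
      (continuous_finsetSum _ fun i _ => continuous_apply i))
  have htrans : ∀ (y : G) (I : Finset (Fin m)), I ≠ ∅ →
      ∫ u, φ₀ (y + ∑ i ∈ I, u i) ∂π = ∫ u, φ₀ (0 + ∑ i ∈ I, u i) ∂π := by
    intro y I hI
    obtain ⟨i0, hi0⟩ := Finset.nonempty_iff_ne_empty.mpr hI
    have h : ∫ u, φ₀ (0 + ∑ i ∈ I, ((Pi.single i0 y : Fin m → G) + u) i) ∂π =
        ∫ u, φ₀ (0 + ∑ i ∈ I, u i) ∂π :=
      integral_add_left_eq_self (μ := π) (fun u : Fin m → G => φ₀ (0 + ∑ i ∈ I, u i))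
        (Pi.single i0 y)
    have hfun : (fun u : Fin m → G => φ₀ (y + ∑ i ∈ I, u i)) =
        fun u => φ₀ (0 + ∑ i ∈ I, ((Pi.single i0 y : Fin m → G) + u) i) := by
      funext u
      have : ∑ i ∈ I, ((Pi.single i0 y : Fin m → G) + u) i = y + ∑ i ∈ I, u i := by
        simp only [Pi.add_apply]
        rw [Finset.sum_add_distrib, Finset.sum_pi_single', if_pos hi0]
      rw [this, zero_add]
    rw [hfun]
    exact h
  refine ⟨∑ I ∈ (Finset.univ : Finset (Fin m)).powerset.erase ∅,
      (-1 : ℝ) ^ I.card * ∫ u, φ₀ (0 + ∑ i ∈ I, u i) ∂π, fun y => ?_⟩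
  have hi' : ∀ I ∈ (Finset.univ : Finset (Fin m)).powerset,
      Integrable (fun u : Fin m → G => (-1 : ℝ) ^ I.card * φ₀ (y + ∑ i ∈ I, u i)) π :=
    fun I _ => (hint _ (hc y I)).const_mul _
  unfold W
  rw [integral_finsetSum _ hi']
  simp_rw [integral_const_mul]
  rw [← Finset.add_sum_erase _ _ (Finset.empty_mem_powerset _)]
  congr 1
  · simp [integral_const]
  · refine Finset.sum_congr rfl fun I hI => ?_
    rw [htrans y I (Finset.ne_of_mem_erase hI)]

theorem phi_unique {m : ℕ} (π : Measure (Fin m → G)) [IsProbabilityMeasure π]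
    [π.IsAddLeftInvariant]
    (hint : ∀ f : (Fin m → G) → ℝ, Continuous f → Integrable f π)
    (ψ : (Fin (m + 1) → G) → ℝ) (φ₀ : G → ℝ) (hφ : Continuous φ₀)
    (h : ∀ x, ψ x = (-1 : ℝ) ^ (m + 1) * (W φ₀ Finset.univ x 0 - φ₀ 0)) (g : G) :
    (-1 : ℝ) ^ m * ∫ u, ψ (Fin.cons g u) ∂π = φ₀ g := by
  obtain ⟨C, hC⟩ := integral_W π hint φ₀ hφ
  have hcont : ∀ y, Continuous (fun u : Fin m → G => W φ₀ Finset.univ u y) := fun y => by
    unfold W
    exact continuous_finsetSum _ fun I _ => continuous_const.mul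
      (hφ.comp (continuous_const.add (continuous_finsetSum _ fun i _ => continuous_apply i)))
  have hi : ∀ y, Integrable (fun u : Fin m → G => W φ₀ Finset.univ u y) π :=
    fun y => hint _ (hcont y)
  have hi2 : Integrable (fun u : Fin m → G =>
      W φ₀ Finset.univ u 0 - W φ₀ Finset.univ u (0 + g)) π := (hi 0).sub (hi (0 + g))
  have e1 : (fun u : Fin m → G => ψ (Fin.cons g u)) = fun u =>
      (-1 : ℝ) ^ (m + 1) * ((W φ₀ Finset.univ u 0 - W φ₀ Finset.univ u (0 + g)) - φ₀ 0) := by
    funext u
    rw [h, W_univ_succ, Fin.tail_cons, Fin.cons_zero]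
  have i1 : ∫ u, ((-1 : ℝ) ^ (m + 1) *
        ((W φ₀ Finset.univ u 0 - W φ₀ Finset.univ u (0 + g)) - φ₀ 0)) ∂π =
      (-1 : ℝ) ^ (m + 1) *
        ∫ u, ((W φ₀ Finset.univ u 0 - W φ₀ Finset.univ u (0 + g)) - φ₀ 0) ∂π :=
    integral_const_mul _ _
  have i2 : ∫ u, ((W φ₀ Finset.univ u 0 - W φ₀ Finset.univ u (0 + g)) - φ₀ 0) ∂π =
      ∫ u, (W φ₀ Finset.univ u 0 - W φ₀ Finset.univ u (0 + g)) ∂π - ∫ _u, φ₀ 0 ∂π :=
    integral_sub hi2 (integrable_const _)
  have i3 : ∫ u, (W φ₀ Finset.univ u 0 - W φ₀ Finset.univ u (0 + g)) ∂π =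
      ∫ u, W φ₀ Finset.univ u 0 ∂π - ∫ u, W φ₀ Finset.univ u (0 + g) ∂π :=
    integral_sub (hi 0) (hi (0 + g))
  have i4 : ∫ _u : Fin m → G, φ₀ 0 ∂π = φ₀ 0 := by
    rw [integral_const, probReal_univ, one_smul]
  have hs : (-1 : ℝ) ^ m * (-1 : ℝ) ^ (m + 1) = -1 := by
    rw [← pow_add]; exact Odd.neg_one_pow ⟨m, by ring⟩
  rw [e1, i1, i2, i3, i4, hC, hC, zero_add]
  linear_combination (φ₀ 0 + C - (φ₀ g + C) - φ₀ 0) * hs

end main

end Groth.Agent.H64.HaarCocycle
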