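import Mathlib

/-!
# (HO2), (HO3) for helper85's S17082 squad: kernels of closed immersions and open immersions
-/

set_option autoImplicit false
universe u
open CategoryTheory CategoryTheory.Limits AlgebraicGeometry

namespace Groth.Agent.H64.HilbOpen23

/-- (HO2) -/
theorem ker_comap_of_mono {Y P Q : Scheme.{u}} (i : Y ⟶ P) [IsClosedImmersion i] (m : P ⟶ Q)
    [Mono m] [IsClosedImmersion (i ≫ m)] : (i ≫ m).ker.comap m = i.ker := by
  rw [← Scheme.IdealSheafData.ker_fst_of_isClosedImmersion (i ≫ m) m]
  have hw : i ≫ m = 𝟙 Y ≫ i ≫ m := (Category.id_comp _).symm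
  have hfst : pullback.fst m (i ≫ m) = pullback.snd m (i ≫ m) ≫ i := by
    rw [← cancel_mono m, Category.assoc]
    exact pullback.condition
  have he : IsIso (pullback.lift i (𝟙 Y) hw) := by
    refine ⟨pullback.snd m (i ≫ m), pullback.lift_snd _ _ _, ?_⟩
    apply pullback.hom_ext
    · rw [Category.assoc, pullback.lift_fst, Category.id_comp, hfst]
    · rw [Category.assoc, pullback.lift_snd, Category.id_comp, Category.comp_id]
  have h1 : pullback.lift i (𝟙 Y) hw ≫ pullback.fst m (i ≫ m) = i := pullback.lift_fst _ _ _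
  exact (Scheme.Hom.ker_comp_of_isIso (pullback.lift i (𝟙 Y) hw)
    (pullback.fst m (i ≫ m))).symm.trans (by rw [h1])

/-- (HO3) -/
theorem ker_comap_comp_of_range_subset {P Q : Scheme.{u}} (m : P ⟶ Q) [IsOpenImmersion m]
    (I : Q.IdealSheafData) (h : ∀ z : I.subscheme, I.subschemeι z ∈ Set.range m) :
    ((I.comap m).subschemeι ≫ m).ker = I := by
  have hsnd : IsIso (pullback.snd m I.subschemeι) := by
    apply isIso_of_isOpenImmersion_of_opensRange_eq_top
    apply TopologicalSpace.Opens.ext
    rw [Scheme.Hom.coe_opensRange, Scheme.Pullback.range_snd]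
    ext z
    simpa using h z
  have h1 : (I.comap m).subschemeι ≫ m =
      (I.comapIso m).hom ≫ pullback.snd m I.subschemeι ≫ I.subschemeι := by
    rw [← Scheme.IdealSheafData.comapIso_hom_fst, Category.assoc, pullback.condition]
  rw [h1, Scheme.Hom.ker_comp_of_isIso, Scheme.Hom.ker_comp_of_isIso,
    Scheme.IdealSheafData.ker_subschemeι]

end Groth.Agent.H64.HilbOpen23
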