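import Mathlib
import Groth.Prelude.Def_EtLim
import Groth.Agent.H67.HpullBC.Defs

/-!
# (U) for helper67's S14389: coherence of `pullConst` with the square isomorphism `Theta` (helper64)
-/

set_option autoImplicit false
universe v1 v2 v3 v4 u1 u2 u3 u4 u
open CategoryTheory CategoryTheory.Limits AlgebraicGeometry Opposite
open Groth.Agent.H67.HpullBC

namespace Groth.Agent.H64.HpullBC_U

section Abstract

variable {𝒜 : Type u1} [Category.{v1} 𝒜] {𝒵 : Type u2} [Category.{v2} 𝒵] {𝒴 : Type u3} [Category.{v3} 𝒴]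
  {𝒳 : Type u4} [Category.{v4} 𝒳]
  {cZ : 𝒜 ⥤ 𝒵} {ΓZ : 𝒵 ⥤ 𝒜} (cz : cZ ⊣ ΓZ)
  {cY : 𝒜 ⥤ 𝒴} {ΓY : 𝒴 ⥤ 𝒜} (cy : cY ⊣ ΓY)
  {cX : 𝒜 ⥤ 𝒳} {ΓX : 𝒳 ⥤ 𝒜} (cx : cX ⊣ ΓX)
  {pb : 𝒵 ⥤ 𝒴} {qb : 𝒴 ⥤ 𝒵} (adjb : pb ⊣ qb)
  {pa : 𝒴 ⥤ 𝒳} {qa : 𝒳 ⥤ 𝒴} (adja : pa ⊣ qa)
  {pc : 𝒵 ⥤ 𝒳} {qc : 𝒳 ⥤ 𝒵} (adjc : pc ⊣ qc)
  (γb : qb ⋙ ΓZ ≅ ΓY) (γa : qa ⋙ ΓY ≅ ΓX) (γc : qc ⋙ ΓZ ≅ ΓX) (κ : qa ⋙ qb ≅ qc)

/-- Abstract composition coherence for the "pullback of constants" isomorphisms obtained from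
uniqueness of left adjoints. -/
theorem comp_coherence
    (H : ∀ F : 𝒳, ΓZ.map (κ.hom.app F) ≫ γc.hom.app F = γb.hom.app (qa.obj F) ≫ γa.hom.app F)
    (M : 𝒜) :
    (Adjunction.leftAdjointUniq adjc ((adjb.comp adja).ofNatIsoRight κ)).hom.app (cZ.obj M) ≫
      pa.map ((Adjunction.leftAdjointUniq ((cz.comp adjb).ofNatIsoRight γb) cy).hom.app M) ≫
        (Adjunction.leftAdjointUniq ((cy.comp adja).ofNatIsoRight γa) cx).hom.app M =
      (Adjunction.leftAdjointUniq ((cz.comp adjc).ofNatIsoRight γc) cx).hom.app M := by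
  apply (((cz.comp adjc).ofNatIsoRight γc).homEquiv M _).injective
  rw [Adjunction.homEquiv_leftAdjointUniq_hom_app]
  rw [← Adjunction.homEquiv_leftAdjointUniq_hom_app ((cy.comp adja).ofNatIsoRight γa) cx M]
  set P := (Adjunction.leftAdjointUniq adjc ((adjb.comp adja).ofNatIsoRight κ)).hom.app (cZ.obj M) with hP
  set Q := (Adjunction.leftAdjointUniq ((cz.comp adjb).ofNatIsoRight γb) cy).hom.app M with hQ
  set R := (Adjunction.leftAdjointUniq ((cy.comp adja).ofNatIsoRight γa) cx).hom.app M with hR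
  have h1 : adjc.homEquiv _ _ P = adjb.homEquiv _ _ (adja.unit.app _) ≫ κ.hom.app _ := by
    rw [hP, Adjunction.homEquiv_leftAdjointUniq_hom_app]
    simp [Adjunction.homEquiv_unit]
  have h2 : cz.homEquiv _ _ (adjb.homEquiv _ _ Q) ≫ γb.hom.app _ = cy.unit.app M := by
    have := Adjunction.homEquiv_leftAdjointUniq_hom_app ((cz.comp adjb).ofNatIsoRight γb) cy M
    simpa only [Adjunction.homEquiv_ofNatIsoRight_apply, Adjunction.comp_homEquiv, Equiv.trans_apply] using this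
  simp only [Adjunction.homEquiv_ofNatIsoRight_apply, Adjunction.comp_homEquiv, Equiv.trans_apply]
  rw [Adjunction.homEquiv_naturality_right, h1]
  have h3 : κ.hom.app (pa.obj (pb.obj (cZ.obj M))) ≫ qc.map (pa.map Q ≫ R) =
      qb.map (qa.map (pa.map Q ≫ R)) ≫ κ.hom.app (cX.obj M) := (κ.hom.naturality _).symm
  have h4 : adja.unit.app (pb.obj (cZ.obj M)) ≫ qa.map (pa.map Q ≫ R) = Q ≫ adja.homEquiv _ _ R := by
    rw [← Adjunction.homEquiv_naturality_left, Adjunction.homEquiv_unit]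
    rfl
  have h5 : ΓZ.map (qb.map (adja.homEquiv _ _ R)) ≫ γb.hom.app (qa.obj (cX.obj M)) =
      γb.hom.app (cY.obj M) ≫ ΓY.map (adja.homEquiv _ _ R) := γb.hom.naturality _
  calc _ = cz.homEquiv _ _ ((adjb.homEquiv _ _ (adja.unit.app _) ≫ qb.map (qa.map (pa.map Q ≫ R))) ≫
            κ.hom.app (cX.obj M)) ≫ γc.hom.app (cX.obj M) := by
          rw [Category.assoc, h3, Category.assoc]
    _ = cz.homEquiv _ _ (adjb.homEquiv _ _ (Q ≫ adja.homEquiv _ _ R)) ≫
          γb.hom.app (qa.obj (cX.obj M)) ≫ γa.hom.app (cX.obj M) := by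
          rw [Adjunction.homEquiv_naturality_right, Category.assoc, H,
            ← Adjunction.homEquiv_naturality_right, h4]
    _ = (cz.homEquiv _ _ (adjb.homEquiv _ _ Q) ≫ γb.hom.app (cY.obj M)) ≫
          ΓY.map (adja.homEquiv _ _ R) ≫ γa.hom.app (cX.obj M) := by
          rw [Adjunction.homEquiv_naturality_right, Adjunction.homEquiv_naturality_right,
            Category.assoc, Category.assoc, ← Category.assoc (ΓZ.map _), h5, Category.assoc]
    _ = _ := by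
          rw [h2, ← Category.assoc, ← Adjunction.homEquiv_unit]

theorem map_comp_eq_of_isTerminal {C D : Type*} [Category C] [Category D] (G : Cᵒᵖ ⥤ D)
    {T A B B' : C} (hT : IsTerminal T) (m₁ : B ⟶ T) (m₂ : A ⟶ B) (m₃ : B' ⟶ T) (m₄ : A ⟶ B') :
    G.map m₁.op ≫ G.map m₂.op = G.map m₃.op ≫ G.map m₄.op := by
  rw [← G.map_comp, ← G.map_comp, ← op_comp, ← op_comp, hT.hom_ext (m₂ ≫ m₁) (m₄ ≫ m₃)]

end Abstract

/-- compatibility of `pushGsecIso` with `pushComp`: everything is restriction along morphisms into a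
terminal object of the small étale site. -/
theorem pushGsec_pushComp {X Y Z : Scheme.{u}} (a : X ⟶ Y) (b : Y ⟶ Z) (F : EtCoh.Ab X) :
    (EtCore.gsec Z).map ((EtCoh.pushComp b a).hom.app F) ≫ (EtCore.pushGsecIso (a ≫ b)).hom.app F =
      (EtCore.pushGsecIso b).hom.app ((EtCoh.push a).obj F) ≫ (EtCore.pushGsecIso a).hom.app F := by
  have hT : IsTerminal ((EtCoh.bc a).obj ((EtCoh.bc b).obj (EtCoh.top Z))) :=
    IsTerminal.ofIso (EtCore.bcTopIsTerminal a) ((EtCoh.bc a).mapIso (EtCore.bcTopIso b)).symm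
  dsimp [EtCore.pushGsecIso, EtCoh.pushComp, EtCore.gsec]
  have e1 : ((EtCoh.push a).obj F).obj.map (EtCore.bcTopIso b).op.inv =
      F.obj.map ((EtCoh.bc a).map (EtCore.bcTopIso b).inv).op := rfl
  rw [e1]
  simp only [Functor.sheafPushforwardContinuousComp'_hom_app_hom_app]
  exact map_comp_eq_of_isTerminal F.obj hT _ (EtCore.bcTopIso (a ≫ b)).inv _ (EtCore.bcTopIso a).inv

/-- (C) composition coherence of `pullConstIso`. -/
theorem pullConst_comp {X Y Z : Scheme.{u}} (a : X ⟶ Y) (b : Y ⟶ Z) (M : AddCommGrpCat.{u + 1}) :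
    (EtCore.pullComp a b).hom.app
        ((constantSheaf Z.smallEtaleTopology AddCommGrpCat.{u + 1}).obj M) ≫
      (EtCoh.pull a).map ((EtCore.pullConstIso b).hom.app M) ≫ (EtCore.pullConstIso a).hom.app M =
      (EtCore.pullConstIso (a ≫ b)).hom.app M :=
  comp_coherence (EtCore.constAdj Z) (EtCore.constAdj Y) (EtCore.constAdj X) (EtCoh.pullPushAdj b)
    (EtCoh.pullPushAdj a) (EtCoh.pullPushAdj (a ≫ b)) (EtCore.pushGsecIso b) (EtCore.pushGsecIso a)
    (EtCore.pushGsecIso (a ≫ b)) (EtCoh.pushComp b a) (pushGsec_pushComp a b) M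

theorem pullCongr_pullConst {X Y : Scheme.{u}} {c c' : X ⟶ Y} (h : c = c')
    (M : AddCommGrpCat.{u + 1}) :
    (EtCore.pullCongr h).hom.app ((constantSheaf Y.smallEtaleTopology AddCommGrpCat.{u + 1}).obj M) ≫
      (EtCore.pullConstIso c').hom.app M = (EtCore.pullConstIso c).hom.app M := by
  subst h
  simp [EtCore.pullCongr]

variable {X Y X' Y' : Scheme.{u}} (f : X ⟶ Y) (g : Y' ⟶ Y) (f' : X' ⟶ Y') (g' : X' ⟶ X)
  (w : g' ≫ f = f' ≫ g)

/-- (U) coherence of pullConst -/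
theorem pullConst_theta (M : Type) [AddCommGroup M] :
    (Theta f g f' g' w).hom.app (EtCoh.const Y M) ≫
        (EtCoh.pull f').map (EtCore.pullConst g M).hom ≫ (EtCore.pullConst f' M).hom =
      (EtCoh.pull g').map (EtCore.pullConst f M).hom ≫ (EtCore.pullConst g' M).hom := by
  have C1 := pullConst_comp f' g (AddCommGrpCat.of (ULift.{u + 1} M))
  have C2 := pullConst_comp g' f (AddCommGrpCat.of (ULift.{u + 1} M))
  have C3 := pullCongr_pullConst w (AddCommGrpCat.of (ULift.{u + 1} M))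
  have hΘ : (Theta f g f' g' w).hom.app (EtCoh.const Y M) =
      (EtCore.pullComp g' f).inv.app (EtCoh.const Y M) ≫
        (EtCore.pullCongr w).hom.app (EtCoh.const Y M) ≫
          (EtCore.pullComp f' g).hom.app (EtCoh.const Y M) := by
    simp [Theta]
  have hR : (EtCoh.pull g').map (EtCore.pullConst f M).hom ≫ (EtCore.pullConst g' M).hom =
      (EtCore.pullComp g' f).inv.app (EtCoh.const Y M) ≫
        (EtCore.pullConstIso (g' ≫ f)).hom.app (AddCommGrpCat.of (ULift.{u + 1} M)) := by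
    rw [← C2]
    simp
  rw [hΘ, hR]
  simp only [Category.assoc]
  congr 1
  rw [← C3]
  congr 1

end Groth.Agent.H64.HpullBC_U
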