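import Mathlib

/-!
# Helper library for S12549: lower-convex-hull chains

Given abscissas `x` (strictly increasing), ordinates `R` (antitone), we build by "gift wrapping"
(argmin of the descent rate) a chain `0 = c_0 < ... < c_μ = j` and control the trapezoid sum
through the potential `Vv`.
-/

namespace Groth.Agent.H64.HullChain

/-- prefix sums -/
def PS (f : ℕ → ℝ) (k : ℕ) : ℝ := ∑ i ∈ Finset.range k, f i

lemma PS_zero (f : ℕ → ℝ) : PS f 0 = 0 := by simp [PS]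

lemma PS_succ (f : ℕ → ℝ) (k : ℕ) : PS f (k + 1) = PS f k + f k := by
  simp [PS, Finset.sum_range_succ]

lemma PS_lin (R x : ℕ → ℝ) (c s y : ℝ) (k : ℕ) :
    PS (fun i => R i - c - s * (y - x i)) k = PS R k - k * c - s * (k * y - PS x k) := by
  induction k with
  | zero => simp [PS_zero]
  | succ k ih => rw [PS_succ, PS_succ, PS_succ, ih]; push_cast; ring

/-- the hinge defect -/
def Q (x : ℕ → ℝ) (N d : ℝ) (k : ℕ) : ℝ := N * x k ^ 2 - 2 * d * (k * x k - PS x k)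

/-- the potential -/
def Vv (R E : ℕ → ℝ) (N d : ℝ) (S : ℝ) (j : ℕ) : ℝ :=
  N * S - 2 * d * (PS R (j + 1) - ((j : ℝ) + 1) * R j) - 2 * N * E j * R j

def GoodPos (x R : ℕ → ℝ) (N d κ : ℝ) (j : ℕ) (v : ℝ) : Prop :=
  ∃ s : ℝ, ∃ p : ℕ, p < j ∧ s * (x j - x p) = R p - R j ∧
    v ≤ s * Q x N d j - κ * ((R 0 - R j) / x j - s)

lemma Vv_step (R E : ℕ → ℝ) (N d S : ℝ) (a j : ℕ) :
    Vv R E N d (S + (E j - E a) * (R j + R a)) j =
      Vv R E N d S a + N * (E a + E j) * (R a - R j)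
        - 2 * d * (((a : ℝ) + 1) * (R a - R j)
          + (PS R j - PS R (a + 1) - ((j : ℝ) - a - 1) * R j)) := by
  unfold Vv
  rw [PS_succ R j]
  ring

lemma step_arith (n : ℕ) (x R E : ℕ → ℝ) (N d κ : ℝ)
    (hN : 0 ≤ N) (hd : 0 ≤ d) (hκ : 0 ≤ κ)
    (hx0 : x 0 = 0) (hxm : ∀ i j, i < j → j ≤ n → x i < x j)
    (hEx : ∀ i, i ≤ n → E i ≤ x i)
    (hR : ∀ i j, i ≤ j → j ≤ n → R j ≤ R i)
    (hQ : ∀ k, 1 ≤ k → k ≤ n → Q x N d k ≤ -κ)
    {a j : ℕ} (haj : a < j) (hjn : j ≤ n) (s : ℝ)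
    (hs : s * (x j - x a) = R a - R j)
    (hmin : ∀ i, i < j → s * (x j - x i) ≤ R i - R j)
    (va : ℝ)
    (hva : (a = 0 ∧ va = 0) ∨ (1 ≤ a ∧ GoodPos x R N d κ a va)) :
    va + N * (E a + E j) * (R a - R j)
        - 2 * d * (((a : ℝ) + 1) * (R a - R j)
          + (PS R j - PS R (a + 1) - ((j : ℝ) - a - 1) * R j))
      ≤ s * Q x N d j - κ * ((R 0 - R j) / x j - s) := by
  have hxaj : x a < x j := hxm a j haj hjn
  have hΔ : 0 ≤ R a - R j := sub_nonneg.2 (hR a j haj.le hjn)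
  have T1 : N * (E a + E j) * (R a - R j) ≤ N * (x a + x j) * (R a - R j) := by
    apply mul_le_mul_of_nonneg_right _ hΔ
    exact mul_le_mul_of_nonneg_left (add_le_add (hEx a (haj.le.trans hjn)) (hEx j hjn)) hN
  have hI : s * (((j : ℝ) - a - 1) * x j - (PS x j - PS x (a + 1))) ≤
      PS R j - PS R (a + 1) - ((j : ℝ) - a - 1) * R j := by
    have hnn : 0 ≤ ∑ i ∈ Finset.Ico (a + 1) j, (R i - R j - s * (x j - x i)) := by
      apply Finset.sum_nonneg
      intro i hi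
      have := hmin i (Finset.mem_Ico.1 hi).2
      linarith
    rw [Finset.sum_Ico_eq_sub _ (Nat.succ_le_of_lt haj)] at hnn
    have hnn' : 0 ≤ PS (fun i => R i - R j - s * (x j - x i)) j
        - PS (fun i => R i - R j - s * (x j - x i)) (a + 1) := hnn
    rw [PS_lin, PS_lin] at hnn'
    push_cast at hnn'
    linarith
  have hid : N * (x a + x j) * (s * (x j - x a))
      - 2 * d * (((a : ℝ) + 1) * (s * (x j - x a))
        + s * (((j : ℝ) - a - 1) * x j - (PS x j - PS x (a + 1))))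
      = s * (Q x N d j - Q x N d a) := by
    unfold Q
    rw [PS_succ x a]
    ring
  rw [hs] at hid
  have h2 : 2 * d * (s * (((j : ℝ) - a - 1) * x j - (PS x j - PS x (a + 1)))) ≤
      2 * d * (PS R j - PS R (a + 1) - ((j : ℝ) - a - 1) * R j) :=
    mul_le_mul_of_nonneg_left hI (by linarith)
  have hmain : va + N * (E a + E j) * (R a - R j)
        - 2 * d * (((a : ℝ) + 1) * (R a - R j)
          + (PS R j - PS R (a + 1) - ((j : ℝ) - a - 1) * R j))
      ≤ va + s * (Q x N d j - Q x N d a) := by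
    linarith [T1, h2, hid]
  rcases hva with ⟨ha0, hva0⟩ | ⟨ha1, s', p, hpa, hs', hva'⟩
  · subst ha0
    have hQ0 : Q x N d 0 = 0 := by
      unfold Q
      rw [PS_zero, hx0]
      simp
    have hxj : 0 < x j := by rw [hx0] at hxaj; exact hxaj
    have hτ : (R 0 - R j) / x j = s := by
      rw [← hs, hx0, sub_zero]
      exact mul_div_cancel_right₀ s (ne_of_gt hxj)
    rw [hτ]
    rw [hQ0, hva0] at hmain
    linarith
  · have han : a ≤ n := haj.le.trans hjn
    have hxpa : x p < x a := hxm p a hpa han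
    have hxa : 0 < x a := by
      have := hxm 0 a (lt_of_lt_of_le Nat.zero_lt_one ha1) han
      rwa [hx0] at this
    have hxj : 0 < x j := lt_trans hxa hxaj
    have hss : s ≤ s' := by
      have h1 := hmin p (hpa.trans haj)
      have h3 : s * (x a - x p) ≤ s' * (x a - x p) := by
        rw [hs']; linarith
      exact le_of_mul_le_mul_right h3 (sub_pos.2 hxpa)
    have hτ : (R 0 - R j) / x j ≤ (R 0 - R a) / x a := by
      rw [div_le_div_iff₀ hxj hxa]
      have h0 := hmin 0 (lt_of_lt_of_le (lt_of_lt_of_le Nat.zero_lt_one ha1) haj.le)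
      rw [hx0, sub_zero] at h0
      have hsx : s * (x j - x a) * x j = (R a - R j) * x j := by rw [hs]
      have hp := mul_nonneg (sub_pos.2 hxaj).le (sub_nonneg.2 h0)
      linarith
    have hQa := hQ a ha1 han
    have h3 : (s' - s) * (Q x N d a + κ) ≤ 0 :=
      mul_nonpos_of_nonneg_of_nonpos (sub_nonneg.2 hss) (by linarith)
    have h4 : κ * ((R 0 - R j) / x j) ≤ κ * ((R 0 - R a) / x a) :=
      mul_le_mul_of_nonneg_left hτ hκ
    linarith

/-- trapezoid sum along a chain -/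
def cs (n : ℕ) (R E : ℕ → ℝ) {μ : ℕ} (c : Fin (μ + 1) → Fin (n + 1)) : ℝ :=
  ∑ l : Fin μ, (E (c l.succ) - E (c l.castSucc)) * (R (c l.succ) + R (c l.castSucc))

lemma snoc_chain (n : ℕ) (R E : ℕ → ℝ) {μ : ℕ} (c : Fin (μ + 1) → Fin (n + 1))
    (hc : StrictMono c) (hc0 : c 0 = 0) {a j : ℕ}
    (hlast : ((c (Fin.last μ) : Fin (n + 1)) : ℕ) = a) (haj : a < j) (hjn : j ≤ n) :
    ∃ c' : Fin (μ + 1 + 1) → Fin (n + 1), StrictMono c' ∧ c' 0 = 0 ∧
      ((c' (Fin.last (μ + 1)) : Fin (n + 1)) : ℕ) = j ∧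
      cs n R E c' = cs n R E c + (E j - E a) * (R j + R a) := by
  refine ⟨Fin.snoc (α := fun _ => Fin (n + 1)) c ⟨j, Nat.lt_succ_of_le hjn⟩, ?_, ?_, ?_, ?_⟩
  · rw [Fin.strictMono_iff_lt_succ]
    intro i
    induction i using Fin.lastCases with
    | last =>
      simp only [Fin.snoc_castSucc, Fin.succ_last, Fin.snoc_last]
      rw [Fin.lt_def]
      simpa [hlast] using haj
    | cast i' =>
      rw [Fin.succ_castSucc, Fin.snoc_castSucc, Fin.snoc_castSucc]
      exact hc Fin.castSucc_lt_succ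
  · rw [show (0 : Fin (μ + 1 + 1)) = Fin.castSucc (0 : Fin (μ + 1)) from Fin.castSucc_zero.symm,
      Fin.snoc_castSucc, hc0]
  · simp only [Fin.snoc_last]
  · unfold cs
    rw [Fin.sum_univ_castSucc]
    congr 1
    · refine Finset.sum_congr rfl fun i _ => ?_
      rw [Fin.succ_castSucc, Fin.snoc_castSucc, Fin.snoc_castSucc]
    · simp only [Fin.succ_last, Fin.snoc_last, Fin.snoc_castSucc, hlast]

theorem hull_chain (n : ℕ) (x R E : ℕ → ℝ) (N d κ : ℝ)
    (hN : 0 ≤ N) (hd : 0 ≤ d) (hκ : 0 ≤ κ)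
    (hx0 : x 0 = 0) (hxm : ∀ i j, i < j → j ≤ n → x i < x j)
    (hE0 : E 0 = 0) (hEx : ∀ i, i ≤ n → E i ≤ x i)
    (hR : ∀ i j, i ≤ j → j ≤ n → R j ≤ R i)
    (hQ : ∀ k, 1 ≤ k → k ≤ n → Q x N d k ≤ -κ) :
    ∀ j, 1 ≤ j → j ≤ n → ∃ (μ : ℕ) (c : Fin (μ + 1) → Fin (n + 1)), StrictMono c ∧ c 0 = 0 ∧
      ((c (Fin.last μ) : Fin (n + 1)) : ℕ) = j ∧
      GoodPos x R N d κ j (Vv R E N d (cs n R E c) j) := by
  intro j
  induction j using Nat.strong_induction_on with
  | _ j ih =>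
    intro hj1 hjn
    obtain ⟨a, ha_mem, hamin⟩ := Finset.exists_min_image (Finset.range j)
      (fun i => (R i - R j) / (x j - x i)) ⟨0, Finset.mem_range.2 hj1⟩
    have haj : a < j := Finset.mem_range.1 ha_mem
    have hxaj : x a < x j := hxm a j haj hjn
    obtain ⟨s, hsdef⟩ : ∃ s, s = (R a - R j) / (x j - x a) := ⟨_, rfl⟩
    have hs : s * (x j - x a) = R a - R j := by
      rw [hsdef]; exact div_mul_cancel₀ _ (ne_of_gt (sub_pos.2 hxaj))
    have hmin : ∀ i, i < j → s * (x j - x i) ≤ R i - R j := by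
      intro i hi
      have h1 : (R a - R j) / (x j - x a) ≤ (R i - R j) / (x j - x i) :=
        hamin i (Finset.mem_range.2 hi)
      rw [← hsdef] at h1
      exact (le_div_iff₀ (sub_pos.2 (hxm i j hi hjn))).1 h1
    have hprev : ∃ (μ : ℕ) (c : Fin (μ + 1) → Fin (n + 1)), StrictMono c ∧ c 0 = 0 ∧
        ((c (Fin.last μ) : Fin (n + 1)) : ℕ) = a ∧
        ((a = 0 ∧ Vv R E N d (cs n R E c) a = 0) ∨
          (1 ≤ a ∧ GoodPos x R N d κ a (Vv R E N d (cs n R E c) a))) := by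
      rcases Nat.eq_zero_or_pos a with ha0 | hapos
      · refine ⟨0, fun _ => 0, Fin.strictMono_iff_lt_succ.2 (fun i => i.elim0), rfl, ?_,
          Or.inl ⟨ha0, ?_⟩⟩
        · simp [ha0]
        · have hcs0 : cs n R E (fun _ : Fin (0 + 1) => (0 : Fin (n + 1))) = 0 := by
            unfold cs; exact Fin.sum_univ_zero _
          rw [hcs0, ha0]
          unfold Vv
          rw [PS_succ, PS_zero, hE0]
          push_cast
          ring
      · obtain ⟨μ, c, h1, h2, h3, h4⟩ := ih a haj hapos (haj.le.trans hjn)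
        exact ⟨μ, c, h1, h2, h3, Or.inr ⟨hapos, h4⟩⟩
    obtain ⟨μ, c, hc, hc0, hlast, hgood⟩ := hprev
    obtain ⟨c', hc', hc'0, hlast', hcs⟩ := snoc_chain n R E c hc hc0 hlast haj hjn
    refine ⟨μ + 1, c', hc', hc'0, hlast', s, a, haj, hs, ?_⟩
    rw [hcs, Vv_step]
    exact step_arith n x R E N d κ hN hd hκ hx0 hxm hEx hR hQ haj hjn s hs hmin _ hgood

end Groth.Agent.H64.HullChain
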