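import Mathlib
import Groth.Agent.H69.DirColim
import Groth.Agent.H15.NilPair.Base
import Groth.Agent.H15.NilPair.Sys
import Groth.Agent.H15.IntPair.Sys

/-!
# (FIN) for helper15's S18014: the stage algebras are finite over `A` (helper64)
-/

set_option autoImplicit false
universe u
open CategoryTheory MvPolynomial Limits
open Groth.Agent.H69 Groth.Agent.H15.IntPair
open Groth.Agent.H15.NilPair (PS IT Cq mkq mkq_surjective mkq_eq_zero mkq_eq_zero_iff fp tr tr_mkq
  tr_refl tr_trans toE toE_mkq toE_tr gen_top X_mem_PS PS_mono dirNat)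
open scoped Classical

namespace Groth.Agent.H64.IntPair_FIN

variable {A B C : Type u} [CommRing A] [CommRing B] [CommRing C] [Algebra A B] [Algebra A C]
  [Algebra B C] [IsScalarTower A B C]

theorem finite_of_integralClosure_eq_top {R : Type u} [CommRing R] [Algebra A R]
    [Algebra.FinitePresentation A R] (h : integralClosure A R = ⊤) : (algebraMap A R).Finite := by
  haveI : Algebra.IsIntegral A R := ⟨fun x => by
    have hx : x ∈ integralClosure A R := by rw [h]; exact Algebra.mem_top
    exact hx⟩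
  haveI : Algebra.FiniteType A R := inferInstance
  exact RingHom.finite_algebraMap.2 (Algebra.IsIntegral.finite)

/-- (FIN) -/
theorem finite_stage (j : J A B C) :
    (algebraMap A (FB j)).Finite ∧ (algebraMap A (FC j)).Finite := by
  have hB : ∀ b (hb : b ∈ j.1.Z), IsIntegral A
      (mkq j.1.WB j.1.TB ⟨X (Sum.inl b), X_mem_PS (Raw.inl_mem_WB hb)⟩) := j.2.2.2.1
  have hC : ∀ c (hc : c ∈ j.1.S), IsIntegral A
      (mkq j.1.WC j.1.TCC ⟨X (Sum.inr c), X_mem_PS (Raw.inr_mem_WC hc)⟩) := j.2.2.2.2.1
  constructor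
  · haveI : Algebra.FinitePresentation A (FB j) := fp _ _
    apply finite_of_integralClosure_eq_top
    apply gen_top
    intro v hv
    have hv' : v ∈ j.1.Z.disjSum (∅ : Finset C) := hv
    rcases Finset.mem_disjSum.mp hv' with ⟨b, hb, rfl⟩ | ⟨d, hd, rfl⟩
    · exact hB b hb
    · exact absurd hd (Finset.notMem_empty d)
  · haveI : Algebra.FinitePresentation A (FC j) := fp _ _
    apply finite_of_integralClosure_eq_top
    apply gen_top
    intro v hv
    have hv' : v ∈ j.1.Z.disjSum j.1.S := hv
    rcases Finset.mem_disjSum.mp hv' with ⟨b, hb, rfl⟩ | ⟨c, hc, rfl⟩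
    · have h1 : mkq j.1.WC j.1.TCC ⟨X (Sum.inl b), X_mem_PS hv⟩ =
          phi j (mkq j.1.WB j.1.TB ⟨X (Sum.inl b), X_mem_PS (Raw.inl_mem_WB hb)⟩) := rfl
      rw [h1]
      exact (hB b hb).map (phi j)
    · exact hC c hc

end Groth.Agent.H64.IntPair_FIN
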