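import Mathlib
namespace Groth.Agent.H64.InvNorm
open Polynomial

variable {R G : Type*} [CommRing R] [Group G] [Fintype G] [MulSemiringAction G R]

noncomputable def Lform {ι : Type*} (S : Finset ι) (r : ι → R) (σ : G) : MvPolynomial ι R :=
  ∑ p ∈ S, MvPolynomial.X p * MvPolynomial.C (σ • r p)

theorem ha {ι : Type*} (S : Finset ι) (r : ι → R) (τ σ : G) : MvPolynomial.map (MulSemiringAction.toRingHom G R τ) (Lform S r σ) =
      Lform S r (τ * σ) := by
    unfold Lform
    rw [map_sum]
    refine Finset.sum_congr rfl fun p _ => ?_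
    rw [map_mul, MvPolynomial.map_X, MvPolynomial.map_C, MulSemiringAction.toRingHom_apply,
      mul_smul]

theorem hb {ι : Type*} (S : Finset ι) (r : ι → R) (τ : G) : (∏ σ : G, (X - C (Lform S r σ))).map
      (MvPolynomial.map (MulSemiringAction.toRingHom G R τ)) = ∏ σ : G, (X - C (Lform S r σ)) := by
    rw [Polynomial.map_prod]
    have : ∀ σ : G, (X - C (Lform S r σ)).map
        (MvPolynomial.map (MulSemiringAction.toRingHom G R τ)) = X - C (Lform S r (τ * σ)) := by
      intro σ
      rw [Polynomial.map_sub, Polynomial.map_X, Polynomial.map_C, ha]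
    rw [Finset.prod_congr rfl (fun σ _ => this σ)]
    exact Fintype.prod_equiv (Equiv.mulLeft τ) _ _ (fun σ => rfl)
end Groth.Agent.H64.InvNorm
namespace Groth.Agent.H64.InvNorm
open Polynomial
variable {R G : Type*} [CommRing R] [Group G] [Fintype G] [MulSemiringAction G R]

theorem hfix {ι : Type*} (S : Finset ι) (r : ι → R) (n : ℕ) (m : ι →₀ ℕ) (τ : G) : τ • MvPolynomial.coeff m
            ((∏ σ : G, (X - C (Lform S r σ))).coeff n) =
            MvPolynomial.coeff m ((∏ σ : G, (X - C (Lform S r σ))).coeff n) := by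
  have h1 := congrArg (fun q => MvPolynomial.coeff m (Polynomial.coeff q n)) (hb S r τ)
  simp only [Polynomial.coeff_map, MvPolynomial.coeff_map,
    MulSemiringAction.toRingHom_apply] at h1
  exact h1




theorem hc {ι : Type*} (R0 : Subring R) (hR0 : ∀ x : R, (∀ τ : G, τ • x = x) → x ∈ R0)
    (S : Finset ι) (r : ι → R) (n : ℕ) : (∏ σ : G, (X - C (Lform S r σ))).coeff n ∈
      (MvPolynomial.map (σ := ι) R0.subtype).rangeS := by
  have key := (MvPolynomial.mem_range_map_iff_coeffs_subset
      (f := R0.subtype)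
      (x := (∏ σ : G, (X - C (Lform S r σ))).coeff n)).2 (by
    intro c hc
    rw [Finset.mem_coe, MvPolynomial.mem_coeffs_iff] at hc
    obtain ⟨m, -, rfl⟩ := hc
    exact ⟨⟨_, hR0 _ (hfix S r n m)⟩, rfl⟩)
  obtain ⟨y, hy⟩ := key
  exact ⟨y, hy⟩

theorem exists_generic' {ι : Type*} (R0 : Subring R) (hR0 : ∀ x : R, (∀ τ : G, τ • x = x) → x ∈ R0)
    (S : Finset ι) (r : ι → R) :
    ∃ Q : Polynomial (MvPolynomial ι R0), Q.Monic ∧
      Q.map (MvPolynomial.map R0.subtype) =
        ∏ σ : G, (X - C (Lform S r σ)) := by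
  classical
  have hinj : Function.Injective (MvPolynomial.map (σ := ι) R0.subtype) :=
    MvPolynomial.map_injective _ Subtype.val_injective
  have hd : (∏ σ : G, (X - C (Lform S r σ))) ∈
      (Polynomial.mapRingHom
        (MvPolynomial.map (σ := ι) R0.subtype)).rangeS :=
    (Polynomial.mem_map_rangeS _).2 (hc R0 hR0 S r)
  obtain ⟨Q, hQ⟩ := hd
  rw [Polynomial.coe_mapRingHom] at hQ
  refine ⟨Q, ?_, hQ⟩
  apply Polynomial.monic_of_injective hinj
  rw [hQ]
  exact Polynomial.monic_prod_of_monic _ _ (fun σ _ => monic_X_sub_C _)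

theorem exists_generic {ι : Type*} (S : Finset ι) (r : ι → R) :
    ∃ Q : Polynomial (MvPolynomial ι (FixedPoints.subring R G)), Q.Monic ∧
      Q.map (MvPolynomial.map (FixedPoints.subring R G).subtype) =
        ∏ σ : G, (X - C (Lform S r σ)) :=
  exists_generic' (FixedPoints.subring R G) (fun x hx => hx) S r
end Groth.Agent.H64.InvNorm
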