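import Mathlib
import Groth.Agent.H64.InvNorm

/-!
Helper for S9312: the two statements over an abstract subring `R0` of invariants.
-/

namespace Groth.Agent.H64.InvNorm

open Polynomial TensorProduct

variable {R G : Type*} [CommRing R] [Group G] [Fintype G] [MulSemiringAction G R]

theorem part1 {A : Type*} (R0 : Subring R)
    (h1 : ∀ x : R, (∀ τ : G, τ • x = x) → x ∈ R0)
    [CommRing A] [Algebra R0 A] [SMulCommClass G R0 R]
    (b : A ⊗[R0] R)
    (hb : ∀ σ : G, Algebra.TensorProduct.map (AlgHom.id R0 A)
        (MulSemiringAction.toAlgHom R0 R σ) b = b) :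
    ∃ P : Polynomial A, P.Monic ∧
      Polynomial.map (algebraMap A (A ⊗[R0] R)) P = (X - C b) ^ Fintype.card G := by
  classical
  obtain ⟨S, hS⟩ := TensorProduct.exists_finset b
  obtain ⟨Q, hQm, hQ⟩ := exists_generic' (G := G) R0 h1 S (Prod.snd : A × R → R)
  let φ : MvPolynomial (A × R) R0 →+* A := MvPolynomial.eval₂Hom (algebraMap R0 A) Prod.fst
  let Θ : MvPolynomial (A × R) R →+* A ⊗[R0] R :=
    MvPolynomial.eval₂Hom (Algebra.TensorProduct.includeRight : R →ₐ[R0] A ⊗[R0] R).toRingHom
      (fun p => p.1 ⊗ₜ[R0] (1 : R))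
  have hΘC : ∀ x : R, Θ (MvPolynomial.C x) = (1 : A) ⊗ₜ[R0] x := by
    intro x
    simp [Θ]
  have hΘX : ∀ p : A × R, Θ (MvPolynomial.X p) = p.1 ⊗ₜ[R0] (1 : R) := by
    intro p
    simp [Θ]
  have hcomp : (algebraMap A (A ⊗[R0] R)).comp φ = Θ.comp (MvPolynomial.map R0.subtype) := by
    apply MvPolynomial.ringHom_ext
    · intro c
      rw [RingHom.comp_apply, RingHom.comp_apply, MvPolynomial.map_C, hΘC]
      simp only [φ, MvPolynomial.eval₂Hom_C]
      rw [Algebra.TensorProduct.algebraMap_apply, Algebra.algebraMap_self_apply,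
        Algebra.algebraMap_eq_smul_one, TensorProduct.smul_tmul, Subring.smul_def, smul_eq_mul, mul_one]
      rfl
    · intro p
      rw [RingHom.comp_apply, RingHom.comp_apply, MvPolynomial.map_X, hΘX]
      simp only [φ, MvPolynomial.eval₂Hom_X']
      rfl
  have hL : ∀ σ : G, Θ (Lform S Prod.snd σ) = b := by
    intro σ
    calc Θ (Lform S Prod.snd σ) = ∑ p ∈ S, p.1 ⊗ₜ[R0] (σ • p.2) := by
          unfold Lform
          rw [map_sum]
          refine Finset.sum_congr rfl fun p _ => ?_
          rw [map_mul, hΘX, hΘC, Algebra.TensorProduct.tmul_mul_tmul, mul_one, one_mul]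
      _ = Algebra.TensorProduct.map (AlgHom.id R0 A) (MulSemiringAction.toAlgHom R0 R σ)
            (∑ p ∈ S, p.1 ⊗ₜ[R0] p.2) := by
          rw [map_sum]
          refine Finset.sum_congr rfl fun p _ => ?_
          rw [Algebra.TensorProduct.map_tmul]
          rfl
      _ = b := by rw [← hS, hb σ]
  have hfac : ∀ σ : G, (X - C (Lform S Prod.snd σ)).map Θ = X - C b := by
    intro σ
    rw [Polynomial.map_sub, Polynomial.map_X, Polynomial.map_C, hL σ]
  refine ⟨Q.map φ, hQm.map φ, ?_⟩
  rw [Polynomial.map_map, hcomp, ← Polynomial.map_map, hQ, Polynomial.map_prod,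
    Finset.prod_congr rfl (fun σ _ => hfac σ), Finset.prod_const, Finset.card_univ]

theorem part2 {A : Type*} (R0 : Subring R)
    (h1 : ∀ x : R, (∀ τ : G, τ • x = x) → x ∈ R0) (h2 : ∀ x ∈ R0, ∀ τ : G, τ • x = x)
    [CommRing A] [Algebra R0 A]
    (a : A) (ha : a ⊗ₜ[R0] (1 : R) = 0) :
    (X - C a) ^ Fintype.card G = (X : A[X]) ^ Fintype.card G := by
  classical
  -- Step 1: a finitely generated submodule in which the tensor already vanishes
  let N0 : Submodule R0 A := Submodule.span R0 {a}
  have haN0 : a ∈ N0 := Submodule.subset_span (Set.mem_singleton a)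
  have hN0fg : N0.FG := Submodule.fg_span_singleton a
  have e0 : N0.subtype.rTensor R ((⟨a, haN0⟩ : N0) ⊗ₜ[R0] (1 : R)) =
      N0.subtype.rTensor R 0 := by
    rw [LinearMap.rTensor_tmul, map_zero]
    exact ha
  obtain ⟨N', hN'fg, hle, e1⟩ := hN0fg.exists_rTensor_fg_inclusion_eq e0
  rw [LinearMap.rTensor_tmul, map_zero] at e1
  have haN' : a ∈ N' := hle haN0
  have e2 : (⟨a, haN'⟩ : N') ⊗ₜ[R0] (1 : R) = 0 := e1
  obtain ⟨s, hs⟩ := hN'fg
  let s' : Finset A := insert a s
  have hs'N : ∀ i : s', (i : A) ∈ N' := by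
    intro i
    rcases Finset.mem_insert.1 i.2 with h | h
    · rw [h]; exact haN'
    · rw [← hs]; exact Submodule.subset_span h
  let m : s' → N' := fun i => ⟨i, hs'N i⟩
  let i0 : s' := ⟨a, Finset.mem_insert_self a s⟩
  let n : s' → R := fun i => if i = i0 then 1 else 0
  have hn0 : n i0 = 1 := if_pos rfl
  have hn1 : ∀ i, i ≠ i0 → n i = 0 := fun i hi => if_neg hi
  have hspan : Submodule.span R0 (Set.range m) = ⊤ := by
    apply Submodule.map_injective_of_injective N'.injective_subtype
    rw [Submodule.map_span, Submodule.map_subtype_top, ← Set.range_comp]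
    apply le_antisymm
    · rw [Submodule.span_le]
      rintro _ ⟨i, rfl⟩
      exact hs'N i
    · refine le_trans (le_of_eq hs.symm) (Submodule.span_mono ?_)
      intro x hx
      exact ⟨⟨x, Finset.mem_insert_of_mem hx⟩, rfl⟩
  have hsum : ∑ i, m i ⊗ₜ[R0] n i = 0 := by
    rw [Finset.sum_eq_single i0]
    · rw [hn0]; exact e2
    · intro i _ hi
      rw [hn1 i hi, TensorProduct.tmul_zero]
    · intro h; exact absurd (Finset.mem_univ _) h
  obtain ⟨k, c, y, hy, hc⟩ := TensorProduct.vanishesTrivially_of_sum_tmul_eq_zero R0 hspan hsum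
  have hc' : ∀ j, ∑ i : s', c i j • (i : A) = 0 := by
    intro j
    have := congrArg N'.subtype (hc j)
    rw [map_sum, map_zero] at this
    simp only [map_smul, Submodule.subtype_apply] at this
    exact this
  -- Step 2: the generic polynomial
  obtain ⟨Q, hQm, hQ⟩ := exists_generic' (G := G) R0 h1 (Finset.univ : Finset (Fin k)) y
  let jκ : MvPolynomial (Fin k) R0 →+* MvPolynomial (Fin k) R := MvPolynomial.map R0.subtype
  let jI : MvPolynomial s' R0 →+* MvPolynomial s' R := MvPolynomial.map R0.subtype
  let θ : MvPolynomial (Fin k) R0 →+* MvPolynomial s' R0 :=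
    MvPolynomial.eval₂Hom MvPolynomial.C
      (fun j => ∑ i, MvPolynomial.C (c i j) * MvPolynomial.X i)
  let θR : MvPolynomial (Fin k) R →+* MvPolynomial s' R :=
    MvPolynomial.eval₂Hom MvPolynomial.C
      (fun j => ∑ i, MvPolynomial.C (c i j : R) * MvPolynomial.X i)
  have hθ : jI.comp θ = θR.comp jκ := by
    apply MvPolynomial.ringHom_ext
    · intro x; simp [jI, θ, θR, jκ]
    · intro j; simp [jI, θ, θR, jκ]
  have hθL : ∀ σ : G, θR (Lform Finset.univ y σ) = MvPolynomial.X i0 := by
    intro σ
    unfold Lform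
    rw [map_sum]
    have step : ∀ j, θR (MvPolynomial.X j * MvPolynomial.C (σ • y j)) =
        ∑ i, MvPolynomial.X i * MvPolynomial.C ((c i j : R) * σ • y j) := by
      intro j
      rw [map_mul]
      simp only [θR, MvPolynomial.eval₂Hom_X', MvPolynomial.eval₂Hom_C]
      rw [Finset.sum_mul]
      refine Finset.sum_congr rfl fun i _ => ?_
      rw [MvPolynomial.C_mul]; ring
    rw [Finset.sum_congr rfl (fun j _ => step j), Finset.sum_comm]
    have step2 : ∀ i : s', ∑ j, MvPolynomial.X i * MvPolynomial.C ((c i j : R) * σ • y j) =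
        MvPolynomial.X i * MvPolynomial.C (σ • n i) := by
      intro i
      rw [← Finset.mul_sum, ← map_sum, hy i, Finset.smul_sum]
      congr 2
      refine Finset.sum_congr rfl fun j _ => ?_
      rw [Subring.smul_def, smul_eq_mul, smul_mul', h2 _ (c i j).2 σ]
    rw [Finset.sum_congr rfl (fun i _ => step2 i), Finset.sum_eq_single i0]
    · rw [hn0, smul_one, MvPolynomial.C_1, mul_one]
    · intro i _ hi
      rw [hn1 i hi, smul_zero, MvPolynomial.C_0, mul_zero]
    · intro h; exact absurd (Finset.mem_univ _) h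
  have hA : (Q.map θ).map jI = (X - C (MvPolynomial.X i0)) ^ Fintype.card G := by
    rw [Polynomial.map_map, hθ, ← Polynomial.map_map]
    have hfac : ∀ σ : G, (X - C (Lform Finset.univ y σ)).map θR =
        X - C (MvPolynomial.X i0) := by
      intro σ
      rw [Polynomial.map_sub, Polynomial.map_X, Polynomial.map_C, hθL σ]
    show (Q.map (MvPolynomial.map R0.subtype)).map θR = _
    rw [hQ, Polynomial.map_prod, Finset.prod_congr rfl (fun σ _ => hfac σ), Finset.prod_const,
      Finset.card_univ]
  have hjI : Function.Injective jI := MvPolynomial.map_injective _ Subtype.val_injective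
  have hA' : Q.map θ = (X - C (MvPolynomial.X i0)) ^ Fintype.card G := by
    apply Polynomial.map_injective jI hjI
    have hX : jI (MvPolynomial.X i0) = MvPolynomial.X i0 := MvPolynomial.map_X _ _
    rw [hA, Polynomial.map_pow, Polynomial.map_sub, Polynomial.map_X, Polynomial.map_C, hX]
  -- Step 3: evaluation at the generators
  let ev : MvPolynomial s' R0 →+* A :=
    MvPolynomial.eval₂Hom (algebraMap R0 A) (fun i => (i : A))
  have hB : ev.comp θ = (algebraMap R0 A).comp MvPolynomial.constantCoeff := by
    apply MvPolynomial.ringHom_ext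
    · intro x; simp [ev, θ]
    · intro j
      simp only [RingHom.comp_apply, θ, ev, MvPolynomial.eval₂Hom_X', map_sum, map_mul,
        MvPolynomial.eval₂Hom_C, MvPolynomial.constantCoeff_X, map_zero]
      rw [← hc' j]
      refine Finset.sum_congr rfl fun i _ => ?_
      rw [Algebra.smul_def]
  have hC : Q.map MvPolynomial.constantCoeff = X ^ Fintype.card G := by
    apply Polynomial.map_injective R0.subtype Subtype.val_injective
    rw [Polynomial.map_map]
    have hcc : R0.subtype.comp MvPolynomial.constantCoeff =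
        (MvPolynomial.constantCoeff).comp jκ := by
      refine RingHom.ext fun p => ?_
      exact (MvPolynomial.constantCoeff_map R0.subtype p).symm
    rw [hcc, ← Polynomial.map_map]
    have hfac : ∀ σ : G, (X - C (Lform Finset.univ y σ)).map MvPolynomial.constantCoeff = X := by
      intro σ
      rw [Polynomial.map_sub, Polynomial.map_X, Polynomial.map_C]
      unfold Lform
      rw [map_sum, Finset.sum_eq_zero, map_zero, sub_zero]
      intro j _
      rw [map_mul, MvPolynomial.constantCoeff_X, zero_mul]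
    show (Q.map (MvPolynomial.map R0.subtype)).map _ = _
    rw [hQ, Polynomial.map_prod, Finset.prod_congr rfl (fun σ _ => hfac σ), Finset.prod_const,
      Finset.card_univ, Polynomial.map_pow, Polynomial.map_X]
  have hfin : ((X - C (MvPolynomial.X i0)) ^ Fintype.card G : (MvPolynomial s' R0)[X]).map ev =
      (X - C a) ^ Fintype.card G := by
    have hX : ev (MvPolynomial.X i0) = a := by simp [ev, i0]
    rw [Polynomial.map_pow, Polynomial.map_sub, Polynomial.map_X, Polynomial.map_C, hX]
  rw [← hfin, ← hA', Polynomial.map_map, hB, ← Polynomial.map_map, hC, Polynomial.map_pow,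
    Polynomial.map_X]

end Groth.Agent.H64.InvNorm
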