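import Mathlib

/-!
Helper for S11470: the `S₃`-invariants of `k[λ, 1/λ, 1/(λ-1)]` are `k[j]`.
-/

namespace Groth.Agent.H64.JInv

open Polynomial

variable {k : Type*} [Field k]

/-- `X (X - 1)` -/
noncomputable def D : k[X] := X * (X - C 1)

/-- numerator of `j` -/
noncomputable def J : k[X] := C 256 * (X ^ 2 - (X - C 1)) ^ 3

/-- the `j`-function -/
noncomputable abbrev jj : RatFunc k :=
  (256 : RatFunc k) * ((RatFunc.X : RatFunc k) ^ 2 - RatFunc.X + 1) ^ 3 /
        ((RatFunc.X : RatFunc k) ^ 2 * ((RatFunc.X : RatFunc k) - 1) ^ 2)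

lemma x_ne : (RatFunc.X : RatFunc k) ≠ 0 := RatFunc.X_ne_zero

lemma x1_ne : (RatFunc.X : RatFunc k) - 1 ≠ 0 := by
  have h : (RatFunc.X : RatFunc k) - 1 = algebraMap k[X] (RatFunc k) (X - C 1) := by
    rw [map_sub, RatFunc.algebraMap_X, RatFunc.algebraMap_C, map_one]
  rw [h]
  exact RatFunc.algebraMap_ne_zero (X_sub_C_ne_zero 1)

lemma ιD : algebraMap k[X] (RatFunc k) D = RatFunc.X * (RatFunc.X - 1) := by
  rw [D, map_mul, map_sub, RatFunc.algebraMap_X, RatFunc.algebraMap_C, map_one]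

lemma ιD_ne : algebraMap k[X] (RatFunc k) (D : k[X]) ≠ 0 := by
  rw [ιD]; exact mul_ne_zero x_ne x1_ne

lemma ιJ : algebraMap k[X] (RatFunc k) J =
    256 * ((RatFunc.X : RatFunc k) ^ 2 - RatFunc.X + 1) ^ 3 := by
  rw [J, map_mul, map_pow, map_sub, map_sub, map_pow, RatFunc.algebraMap_X,
    RatFunc.algebraMap_C, RatFunc.algebraMap_C, map_one, map_ofNat]
  ring

lemma j_eq : (jj : RatFunc k) =
    algebraMap k[X] (RatFunc k) J / (algebraMap k[X] (RatFunc k) D) ^ 2 := by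
  rw [ιJ, ιD, mul_pow]

lemma map_poly (φ : RatFunc k ≃ₐ[k] RatFunc k) (P : k[X]) :
    φ (algebraMap k[X] (RatFunc k) P) = aeval (φ RatFunc.X) P := by
  rw [← RatFunc.aeval_X_left_eq_algebraMap]
  exact (aeval_algHom_apply φ RatFunc.X P).symm

lemma tau_apply (τ : RatFunc k ≃ₐ[k] RatFunc k)
    (hτ : τ RatFunc.X = 1 - (RatFunc.X : RatFunc k)) (P : k[X]) (n : ℕ) :
    τ (algebraMap k[X] (RatFunc k) P / (algebraMap k[X] (RatFunc k) D) ^ n) =
      algebraMap k[X] (RatFunc k) (P.comp (C 1 - X)) / (algebraMap k[X] (RatFunc k) D) ^ n := by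
  have h3 : aeval (RatFunc.X : RatFunc k) (C 1 - X : k[X]) = 1 - RatFunc.X := by simp
  have h1 : τ (algebraMap k[X] (RatFunc k) P) =
      algebraMap k[X] (RatFunc k) (P.comp (C 1 - X)) := by
    rw [map_poly, hτ, ← RatFunc.aeval_X_left_eq_algebraMap (P.comp (C 1 - X)), aeval_comp, h3]
  have h2 : τ (algebraMap k[X] (RatFunc k) D) = algebraMap k[X] (RatFunc k) D := by
    rw [ιD, map_mul, map_sub, map_one, hτ]; ring
  rw [map_div₀, map_pow, h1, h2]

lemma tau_comp (τ : RatFunc k ≃ₐ[k] RatFunc k)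
    (hτ : τ RatFunc.X = 1 - (RatFunc.X : RatFunc k)) (P : k[X]) (n : ℕ)
    (h : τ (algebraMap k[X] (RatFunc k) P / (algebraMap k[X] (RatFunc k) D) ^ n) =
      algebraMap k[X] (RatFunc k) P / (algebraMap k[X] (RatFunc k) D) ^ n) :
    P.comp (C 1 - X) = P := by
  rw [tau_apply τ hτ] at h
  have := (div_left_inj' (pow_ne_zero n ιD_ne)).mp h
  exact RatFunc.algebraMap_injective k this

lemma sigma_rel (σ : RatFunc k ≃ₐ[k] RatFunc k)
    (hσ : σ RatFunc.X = (RatFunc.X : RatFunc k)⁻¹) (P : k[X]) (n : ℕ)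
    (h : σ (algebraMap k[X] (RatFunc k) P / (algebraMap k[X] (RatFunc k) D) ^ n) =
      algebraMap k[X] (RatFunc k) P / (algebraMap k[X] (RatFunc k) D) ^ n) :
    P.natDegree ≤ 3 * n ∧ ∀ l ≤ 3 * n, P.coeff (3 * n - l) = (-1) ^ n * P.coeff l := by
  obtain ⟨d, hd⟩ : ∃ d, d = P.natDegree := ⟨_, rfl⟩
  obtain ⟨N, hN⟩ : ∃ N, N = 3 * n + d := ⟨_, rfl⟩
  have hx := x_ne (k := k)
  have F1 : σ (algebraMap k[X] (RatFunc k) P) * RatFunc.X ^ N =
      algebraMap k[X] (RatFunc k) (reflect N P) := by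
    let _ : Invertible ((RatFunc.X : RatFunc k)⁻¹) :=
      ⟨RatFunc.X, mul_inv_cancel₀ hx, inv_mul_cancel₀ hx⟩
    have := eval₂_reflect_mul_pow (algebraMap k (RatFunc k)) ((RatFunc.X : RatFunc k)⁻¹) N P
      (by omega)
    rw [map_poly, hσ, ← RatFunc.aeval_X_left_eq_algebraMap (reflect N P)]
    rw [aeval_def, aeval_def, ← this]
    rw [mul_assoc, ← mul_pow, inv_mul_cancel₀ hx, one_pow, mul_one]
    rfl
  have F2 : σ (algebraMap k[X] (RatFunc k) D) * RatFunc.X ^ 3 =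
      - algebraMap k[X] (RatFunc k) D := by
    rw [ιD, map_mul, map_sub, map_one, hσ]
    field_simp
    ring
  have hσD : σ (algebraMap k[X] (RatFunc k) D) ≠ 0 :=
    (EmbeddingLike.map_ne_zero_iff (f := σ)).mpr ιD_ne
  rw [map_div₀, map_pow, div_eq_div_iff (pow_ne_zero n hσD) (pow_ne_zero n ιD_ne)] at h
  have F2' : (σ (algebraMap k[X] (RatFunc k) D)) ^ n * RatFunc.X ^ (3 * n) =
      (-1) ^ n * (algebraMap k[X] (RatFunc k) D) ^ n := by
    rw [pow_mul, ← mul_pow, F2, neg_pow]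
  have key : algebraMap k[X] (RatFunc k) (reflect N P) * RatFunc.X ^ (3 * n) =
      (-1) ^ n * (algebraMap k[X] (RatFunc k) P * RatFunc.X ^ N) := by
    apply mul_right_cancel₀ (pow_ne_zero n (ιD_ne (k := k)))
    calc algebraMap k[X] (RatFunc k) (reflect N P) * RatFunc.X ^ (3 * n) *
          (algebraMap k[X] (RatFunc k) D) ^ n
        = (σ (algebraMap k[X] (RatFunc k) P) * (algebraMap k[X] (RatFunc k) D) ^ n) *
            RatFunc.X ^ N * RatFunc.X ^ (3 * n) := by rw [← F1]; ring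
      _ = algebraMap k[X] (RatFunc k) P *
            ((σ (algebraMap k[X] (RatFunc k) D)) ^ n * RatFunc.X ^ (3 * n)) *
            RatFunc.X ^ N := by rw [h]; ring
      _ = (-1) ^ n * (algebraMap k[X] (RatFunc k) P * RatFunc.X ^ N) *
            (algebraMap k[X] (RatFunc k) D) ^ n := by rw [F2']; ring
  have hpoly : reflect N P * X ^ (3 * n) = C ((-1 : k) ^ n) * (P * X ^ N) := by
    apply RatFunc.algebraMap_injective k
    simp only [map_mul, map_pow, RatFunc.algebraMap_X, RatFunc.algebraMap_C, map_neg, map_one]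
    exact key
  have hpoly2 : reflect N P = C ((-1 : k) ^ n) * (P * X ^ d) := by
    have : reflect N P * X ^ (3 * n) = (C ((-1 : k) ^ n) * (P * X ^ d)) * X ^ (3 * n) := by
      rw [hpoly, hN, pow_add]; ring
    exact mul_right_cancel₀ (pow_ne_zero _ X_ne_zero) this
  have hco : ∀ i, P.coeff (revAt N i) =
      (-1) ^ n * (if d ≤ i then P.coeff (i - d) else 0) := by
    intro i
    have := congrArg (fun q => coeff q i) hpoly2
    simp only [coeff_reflect, coeff_C_mul, coeff_mul_X_pow'] at this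
    exact this
  have hdeg : d ≤ 3 * n := by
    by_contra hlt
    push Not at hlt
    have h1 := hco (3 * n)
    rw [revAt_le (by omega), if_neg (by omega), mul_zero] at h1
    have e : N - 3 * n = d := by omega
    rw [e] at h1
    have hP0 : P = 0 := by
      apply leadingCoeff_eq_zero.mp
      rw [leadingCoeff, ← hd]; exact h1
    rw [hP0, natDegree_zero] at hd
    omega
  refine ⟨by rw [← hd]; exact hdeg, ?_⟩
  intro l hl
  have h1 := hco (d + l)
  rw [revAt_le (by omega), if_pos (by omega)] at h1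
  have e1 : N - (d + l) = 3 * n - l := by omega
  have e2 : d + l - d = l := by omega
  rw [e1, e2] at h1
  exact h1

lemma step2 (σ τ : RatFunc k ≃ₐ[k] RatFunc k)
    (hτ : τ RatFunc.X = 1 - (RatFunc.X : RatFunc k)) (n : ℕ)
    (IH : ∀ Q : k[X],
      σ (algebraMap k[X] (RatFunc k) Q / (algebraMap k[X] (RatFunc k) D) ^ n) =
        algebraMap k[X] (RatFunc k) Q / (algebraMap k[X] (RatFunc k) D) ^ n →
      τ (algebraMap k[X] (RatFunc k) Q / (algebraMap k[X] (RatFunc k) D) ^ n) =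
        algebraMap k[X] (RatFunc k) Q / (algebraMap k[X] (RatFunc k) D) ^ n →
      algebraMap k[X] (RatFunc k) Q / (algebraMap k[X] (RatFunc k) D) ^ n ∈
        Algebra.adjoin k ({jj} : Set (RatFunc k)))
    (P : k[X])
    (hσP : σ (algebraMap k[X] (RatFunc k) P / (algebraMap k[X] (RatFunc k) D) ^ (n + 1)) =
        algebraMap k[X] (RatFunc k) P / (algebraMap k[X] (RatFunc k) D) ^ (n + 1))
    (hτP : τ (algebraMap k[X] (RatFunc k) P / (algebraMap k[X] (RatFunc k) D) ^ (n + 1)) =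
        algebraMap k[X] (RatFunc k) P / (algebraMap k[X] (RatFunc k) D) ^ (n + 1))
    (h0 : P.coeff 0 = 0) :
    algebraMap k[X] (RatFunc k) P / (algebraMap k[X] (RatFunc k) D) ^ (n + 1) ∈
        Algebra.adjoin k ({jj} : Set (RatFunc k)) := by
  have hcomp : P.comp (C 1 - X) = P := tau_comp τ hτ P (n + 1) hτP
  have h1 : P.eval 1 = 0 := by
    have := congrArg (eval 0) hcomp
    rw [eval_comp, eval_sub, eval_C, eval_X, sub_zero, ← coeff_zero_eq_eval_zero, h0] at this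
    exact this
  have hX : X ∣ P := X_dvd_iff.mpr h0
  have hX1 : X - C 1 ∣ P := dvd_iff_isRoot.mpr h1
  have hcop : IsCoprime (X : k[X]) (X - C 1) := ⟨1, -1, by rw [C_1]; ring⟩
  obtain ⟨Q, rfl⟩ : D ∣ P := hcop.mul_dvd hX hX1
  have e : algebraMap k[X] (RatFunc k) (D * Q) / (algebraMap k[X] (RatFunc k) D) ^ (n + 1) =
      algebraMap k[X] (RatFunc k) Q / (algebraMap k[X] (RatFunc k) D) ^ n := by
    rw [map_mul, pow_succ', mul_div_mul_left _ _ ιD_ne]
  rw [e] at hσP hτP ⊢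
  exact IH Q hσP hτP

theorem claim (h2 : (2 : k) ≠ 0) (σ τ : RatFunc k ≃ₐ[k] RatFunc k)
    (hσ : σ RatFunc.X = (RatFunc.X : RatFunc k)⁻¹)
    (hτ : τ RatFunc.X = 1 - (RatFunc.X : RatFunc k))
    (hσj : σ (jj : RatFunc k) = jj) (hτj : τ (jj : RatFunc k) = jj) :
    ∀ (n : ℕ) (P : k[X]),
      σ (algebraMap k[X] (RatFunc k) P / (algebraMap k[X] (RatFunc k) D) ^ n) =
        algebraMap k[X] (RatFunc k) P / (algebraMap k[X] (RatFunc k) D) ^ n →
      τ (algebraMap k[X] (RatFunc k) P / (algebraMap k[X] (RatFunc k) D) ^ n) =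
        algebraMap k[X] (RatFunc k) P / (algebraMap k[X] (RatFunc k) D) ^ n →
      algebraMap k[X] (RatFunc k) P / (algebraMap k[X] (RatFunc k) D) ^ n ∈
        Algebra.adjoin k ({jj} : Set (RatFunc k)) := by
  intro n
  induction n with
  | zero =>
    intro P hσP hτP
    obtain ⟨hdeg, -⟩ := sigma_rel σ hσ P 0 hσP
    have hPC := eq_C_of_natDegree_le_zero (p := P) (by simpa using hdeg)
    rw [hPC, pow_zero, div_one, RatFunc.algebraMap_C, ← RatFunc.algebraMap_eq_C]
    exact Subalgebra.algebraMap_mem _ _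
  | succ n IH =>
    intro P hσP hτP
    by_cases h0 : P.coeff 0 = 0
    · exact step2 σ τ hτ n IH P hσP hτP h0
    · obtain ⟨hdeg, hE⟩ := sigma_rel σ hσ P (n + 1) hσP
      have h3n : P.coeff (3 * (n + 1)) = (-1) ^ (n + 1) * P.coeff 0 := by
        simpa using hE 0 (Nat.zero_le _)
      have h3n0 : P.coeff (3 * (n + 1)) ≠ 0 := by
        rw [h3n]; exact mul_ne_zero (pow_ne_zero _ (neg_ne_zero.mpr one_ne_zero)) h0
      have hnat : P.natDegree = 3 * (n + 1) :=
        le_antisymm hdeg (le_natDegree_of_ne_zero h3n0)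
      have hcomp : P.comp (C 1 - X) = P := tau_comp τ hτ P (n + 1) hτP
      have hq : (C 1 - X : k[X]) = -(X - C 1) := by ring
      have hqdeg : (C 1 - X : k[X]).natDegree = 1 := by
        rw [hq, natDegree_neg, natDegree_X_sub_C]
      have hqlc : (C 1 - X : k[X]).leadingCoeff = -1 := by
        rw [hq, leadingCoeff_neg, leadingCoeff_X_sub_C]
      have hlc := leadingCoeff_comp (p := P) (q := C 1 - X) (by rw [hqdeg]; exact one_ne_zero)
      rw [hcomp, hqlc, hnat] at hlc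
      have hlc0 : P.leadingCoeff ≠ 0 := by rw [leadingCoeff, hnat]; exact h3n0
      have hsign : (-1 : k) ^ (3 * (n + 1)) = 1 :=
        mul_left_cancel₀ hlc0 (hlc.symm.trans (mul_one _).symm)
      have heven : Even (n + 1) := by
        by_contra hodd
        rw [Nat.not_even_iff_odd] at hodd
        have hodd3 : Odd (3 * (n + 1)) := (by decide : Odd 3).mul hodd
        rw [hodd3.neg_one_pow] at hsign
        apply h2
        have : (2 : k) = 1 - (-1) := by ring
        rw [this, hsign]; ring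
      obtain ⟨m, hm⟩ := heven
      have hs : (-1 : k) ^ (n + 1) = 1 := Even.neg_one_pow ⟨m, hm⟩
      have h256 : (256 : k) ≠ 0 := by
        have : (256 : k) = 2 ^ 8 := by norm_num
        rw [this]; exact pow_ne_zero _ h2
      obtain ⟨c, hc⟩ : ∃ c : k, c * 256 ^ m = P.leadingCoeff :=
        ⟨P.leadingCoeff / 256 ^ m, div_mul_cancel₀ _ (pow_ne_zero m h256)⟩
      have hjm : (jj : RatFunc k) ^ m =
          algebraMap k[X] (RatFunc k) (J ^ m) / (algebraMap k[X] (RatFunc k) D) ^ (n + 1) := by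
        rw [j_eq, div_pow, map_pow, ← pow_mul, hm, two_mul]
      have hσjm : σ (algebraMap k[X] (RatFunc k) (J ^ m) /
            (algebraMap k[X] (RatFunc k) D) ^ (n + 1)) =
          algebraMap k[X] (RatFunc k) (J ^ m) / (algebraMap k[X] (RatFunc k) D) ^ (n + 1) := by
        rw [← hjm, map_pow, hσj]
      have hJ0 : (J ^ m : k[X]).coeff 0 = 256 ^ m := by
        rw [coeff_zero_eq_eval_zero, eval_pow, J]
        simp
      have hJtop : (J ^ m : k[X]).coeff (3 * (n + 1)) = 256 ^ m := by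
        obtain ⟨-, hEJ⟩ := sigma_rel σ hσ (J ^ m) (n + 1) hσjm
        have := hEJ 0 (Nat.zero_le _)
        rw [Nat.sub_zero, hJ0, hs, one_mul] at this
        exact this
      obtain ⟨P₁, hP₁⟩ : ∃ P₁ : k[X], P₁ = P - C c * J ^ m := ⟨_, rfl⟩
      have hb₁ : algebraMap k[X] (RatFunc k) P / (algebraMap k[X] (RatFunc k) D) ^ (n + 1) -
          c • (jj : RatFunc k) ^ m =
          algebraMap k[X] (RatFunc k) P₁ / (algebraMap k[X] (RatFunc k) D) ^ (n + 1) := by
        rw [hjm, hP₁, Algebra.smul_def, RatFunc.algebraMap_eq_C, ← RatFunc.algebraMap_C, map_sub,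
          map_mul]
        ring
      have hσ₁ : σ (algebraMap k[X] (RatFunc k) P₁ /
            (algebraMap k[X] (RatFunc k) D) ^ (n + 1)) =
          algebraMap k[X] (RatFunc k) P₁ / (algebraMap k[X] (RatFunc k) D) ^ (n + 1) := by
        rw [← hb₁, map_sub, map_smul, map_pow, hσP, hσj]
      have hτ₁ : τ (algebraMap k[X] (RatFunc k) P₁ /
            (algebraMap k[X] (RatFunc k) D) ^ (n + 1)) =
          algebraMap k[X] (RatFunc k) P₁ / (algebraMap k[X] (RatFunc k) D) ^ (n + 1) := by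
        rw [← hb₁, map_sub, map_smul, map_pow, hτP, hτj]
      have hP₁top : P₁.coeff (3 * (n + 1)) = 0 := by
        rw [hP₁, coeff_sub, coeff_C_mul, hJtop, hc, leadingCoeff, hnat, sub_self]
      have hP₁0 : P₁.coeff 0 = 0 := by
        obtain ⟨-, hE₁⟩ := sigma_rel σ hσ P₁ (n + 1) hσ₁
        have := hE₁ (3 * (n + 1)) le_rfl
        rw [Nat.sub_self, hP₁top, mul_zero] at this
        exact this
      have hmem₁ := step2 σ τ hτ n IH P₁ hσ₁ hτ₁ hP₁0
      have : algebraMap k[X] (RatFunc k) P / (algebraMap k[X] (RatFunc k) D) ^ (n + 1) =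
          algebraMap k[X] (RatFunc k) P₁ / (algebraMap k[X] (RatFunc k) D) ^ (n + 1) +
            c • (jj : RatFunc k) ^ m := by
        rw [← hb₁]; ring
      rw [this]
      exact add_mem hmem₁ (Subalgebra.smul_mem _
        (pow_mem (Algebra.subset_adjoin (Set.mem_singleton _)) m) c)

lemma exists_rep (b : RatFunc k)
    (hb : b ∈ Algebra.adjoin k ({RatFunc.X, (RatFunc.X : RatFunc k)⁻¹,
      ((RatFunc.X : RatFunc k) - 1)⁻¹} : Set (RatFunc k))) :
    ∃ (P : k[X]) (n : ℕ),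
      b = algebraMap k[X] (RatFunc k) P / (algebraMap k[X] (RatFunc k) D) ^ n := by
  have hx := x_ne (k := k)
  have hx1 := x1_ne (k := k)
  have hD := ιD_ne (k := k)
  induction hb using Algebra.adjoin_induction with
  | mem y hy =>
    rcases hy with rfl | rfl | rfl
    · exact ⟨X, 0, by rw [pow_zero, div_one, RatFunc.algebraMap_X]⟩
    · refine ⟨X - C 1, 1, ?_⟩
      rw [pow_one, ιD, map_sub, RatFunc.algebraMap_X, RatFunc.algebraMap_C, map_one]
      field_simp
    · refine ⟨X, 1, ?_⟩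
      rw [pow_one, ιD, RatFunc.algebraMap_X]
      field_simp
  | algebraMap r =>
    refine ⟨algebraMap k k[X] r, 0, ?_⟩
    rw [pow_zero, div_one]
    exact IsScalarTower.algebraMap_apply k k[X] (RatFunc k) r
  | add y z _ _ hy hz =>
    obtain ⟨P, n, rfl⟩ := hy
    obtain ⟨Q, m, rfl⟩ := hz
    refine ⟨P * D ^ m + Q * D ^ n, n + m, ?_⟩
    rw [map_add, map_mul, map_mul, map_pow, map_pow, pow_add]
    field_simp
  | mul y z _ _ hy hz =>
    obtain ⟨P, n, rfl⟩ := hy
    obtain ⟨Q, m, rfl⟩ := hz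
    refine ⟨P * Q, n + m, ?_⟩
    rw [map_mul, pow_add, div_mul_div_comm]

theorem main (h2 : (2 : k) ≠ 0)
    (σ τ : RatFunc k ≃ₐ[k] RatFunc k) (hσ : σ RatFunc.X = (RatFunc.X : RatFunc k)⁻¹)
    (hτ : τ RatFunc.X = 1 - (RatFunc.X : RatFunc k)) (b : RatFunc k) :
    (b ∈ Algebra.adjoin k ({RatFunc.X, (RatFunc.X : RatFunc k)⁻¹,
        ((RatFunc.X : RatFunc k) - 1)⁻¹} : Set (RatFunc k)) ∧
        σ b = b ∧ τ b = b) ↔
      b ∈ Algebra.adjoin k ({jj} : Set (RatFunc k)) := by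
  have hx := x_ne (k := k)
  have hx1 := x1_ne (k := k)
  have hxi1 : (RatFunc.X : RatFunc k)⁻¹ - 1 ≠ 0 := by
    have : (RatFunc.X : RatFunc k)⁻¹ - 1 = -((RatFunc.X - 1) * (RatFunc.X : RatFunc k)⁻¹) := by
      field_simp
      ring
    rw [this]
    exact neg_ne_zero.mpr (mul_ne_zero hx1 (inv_ne_zero hx))
  have h1x : (1 : RatFunc k) - RatFunc.X ≠ 0 := by
    have : (1 : RatFunc k) - RatFunc.X = -(RatFunc.X - 1) := by ring
    rw [this]; exact neg_ne_zero.mpr hx1
  have h1x1 : (1 : RatFunc k) - RatFunc.X - 1 ≠ 0 := by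
    have : (1 : RatFunc k) - RatFunc.X - 1 = -RatFunc.X := by ring
    rw [this]; exact neg_ne_zero.mpr hx
  have hσj : σ (jj : RatFunc k) = jj := by
    simp only [jj, map_div₀, map_mul, map_pow, map_sub, map_add, map_one, map_ofNat, hσ]
    rw [div_eq_div_iff (mul_ne_zero (pow_ne_zero 2 (inv_ne_zero hx)) (pow_ne_zero 2 hxi1))
      (mul_ne_zero (pow_ne_zero 2 hx) (pow_ne_zero 2 hx1))]
    field_simp
    ring
  have hτj : τ (jj : RatFunc k) = jj := by
    simp only [jj, map_div₀, map_mul, map_pow, map_sub, map_add, map_one, map_ofNat, hτ]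
    rw [div_eq_div_iff (mul_ne_zero (pow_ne_zero 2 h1x) (pow_ne_zero 2 h1x1))
      (mul_ne_zero (pow_ne_zero 2 hx) (pow_ne_zero 2 hx1))]
    ring
  constructor
  · rintro ⟨hbB, hσb, hτb⟩
    obtain ⟨P, n, rfl⟩ := exists_rep b hbB
    exact claim h2 σ τ hσ hτ hσj hτj n P hσb hτb
  · intro hb
    have hxB : (RatFunc.X : RatFunc k) ∈ Algebra.adjoin k ({RatFunc.X,
        (RatFunc.X : RatFunc k)⁻¹, ((RatFunc.X : RatFunc k) - 1)⁻¹} : Set (RatFunc k)) :=
      Algebra.subset_adjoin (by simp)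
    have hxiB : (RatFunc.X : RatFunc k)⁻¹ ∈ Algebra.adjoin k ({RatFunc.X,
        (RatFunc.X : RatFunc k)⁻¹, ((RatFunc.X : RatFunc k) - 1)⁻¹} : Set (RatFunc k)) :=
      Algebra.subset_adjoin (by simp)
    have hx1iB : ((RatFunc.X : RatFunc k) - 1)⁻¹ ∈ Algebra.adjoin k ({RatFunc.X,
        (RatFunc.X : RatFunc k)⁻¹, ((RatFunc.X : RatFunc k) - 1)⁻¹} : Set (RatFunc k)) :=
      Algebra.subset_adjoin (by simp)
    have hjB : (jj : RatFunc k) ∈ Algebra.adjoin k ({RatFunc.X,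
        (RatFunc.X : RatFunc k)⁻¹, ((RatFunc.X : RatFunc k) - 1)⁻¹} : Set (RatFunc k)) := by
      have e : (jj : RatFunc k) = (algebraMap k (RatFunc k) 256) *
          ((RatFunc.X : RatFunc k) ^ 2 - RatFunc.X + 1) ^ 3 * ((RatFunc.X : RatFunc k)⁻¹) ^ 2 *
          (((RatFunc.X : RatFunc k) - 1)⁻¹) ^ 2 := by
        rw [map_ofNat]
        simp only [jj]
        field_simp
      rw [e]
      exact mul_mem (mul_mem (mul_mem (Subalgebra.algebraMap_mem _ _)
        (pow_mem (add_mem (sub_mem (pow_mem hxB 2) hxB) (one_mem _)) 3)) (pow_mem hxiB 2))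
        (pow_mem hx1iB 2)
    have hle : Algebra.adjoin k ({jj} : Set (RatFunc k)) ≤
        (Algebra.adjoin k ({RatFunc.X, (RatFunc.X : RatFunc k)⁻¹,
          ((RatFunc.X : RatFunc k) - 1)⁻¹} : Set (RatFunc k)) ⊓
          AlgHom.equalizer (σ : RatFunc k →ₐ[k] RatFunc k) (AlgHom.id k (RatFunc k))) ⊓
          AlgHom.equalizer (τ : RatFunc k →ₐ[k] RatFunc k) (AlgHom.id k (RatFunc k)) := by
      apply Algebra.adjoin_le
      rintro y (rfl : y = jj)
      exact Algebra.mem_inf.mpr ⟨Algebra.mem_inf.mpr ⟨hjB, hσj⟩, hτj⟩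
    obtain ⟨h12, h3'⟩ := Algebra.mem_inf.mp (hle hb)
    obtain ⟨h1', h2'⟩ := Algebra.mem_inf.mp h12
    exact ⟨h1', h2', h3'⟩

end Groth.Agent.H64.JInv
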