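import Mathlib
import Groth.Agent.H34.Fitting

/-!
Zeroth Fitting ideal of `Ω_{B/A}` for `B = A[x_1..x_n]/(f_1..f_n)` is generated by the Jacobian
determinant (row S8931).
-/

set_option autoImplicit false
universe u

namespace Groth.Agent.H64.JacFitt

open KaehlerDifferential TensorProduct MvPolynomial

variable {A : Type u} [CommRing A] {n : ℕ}

theorem D_mk (J : Ideal (MvPolynomial (Fin n) A)) (p : MvPolynomial (Fin n) A) :
    D A (MvPolynomial (Fin n) A ⧸ J) (Ideal.Quotient.mk J p) =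
      ∑ j, Ideal.Quotient.mk J (pderiv j p) •
        D A (MvPolynomial (Fin n) A ⧸ J) (Ideal.Quotient.mk J (X j)) := by
  have h1 := (mvPolynomialBasis A (Fin n)).sum_repr (D A (MvPolynomial (Fin n) A) p)
  have h2 := congrArg (KaehlerDifferential.map A A (MvPolynomial (Fin n) A)
    (MvPolynomial (Fin n) A ⧸ J)) h1
  rw [map_sum, KaehlerDifferential.map_D] at h2
  rw [Ideal.Quotient.algebraMap_eq] at h2
  rw [← h2]
  refine Finset.sum_congr rfl fun j _ => ?_
  rw [map_smul, mvPolynomialBasis_repr_apply, mvPolynomialBasis_apply, KaehlerDifferential.map_D,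
    Ideal.Quotient.algebraMap_eq]
  rw [← algebraMap_smul (MvPolynomial (Fin n) A ⧸ J) (pderiv j p), Ideal.Quotient.algebraMap_eq]

theorem span_eq_top (J : Ideal (MvPolynomial (Fin n) A)) :
    Submodule.span (MvPolynomial (Fin n) A ⧸ J)
      (Set.range fun j : Fin n =>
        D A (MvPolynomial (Fin n) A ⧸ J) (Ideal.Quotient.mk J (X j))) = ⊤ := by
  rw [eq_top_iff, ← KaehlerDifferential.span_range_derivation A (MvPolynomial (Fin n) A ⧸ J)]
  apply Submodule.span_le.mpr
  rintro _ ⟨b, rfl⟩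
  obtain ⟨p, rfl⟩ := Ideal.Quotient.mk_surjective b
  rw [SetLike.mem_coe, D_mk]
  exact Submodule.sum_mem _ fun j _ => Submodule.smul_mem _ _ (Submodule.subset_span ⟨j, rfl⟩)

theorem rel_mem_aux (J : Ideal (MvPolynomial (Fin n) A)) (f : Fin n → MvPolynomial (Fin n) A)
    (hfJ' : ∀ i, f i ∈ J) (hJle : J ≤ Ideal.span (Set.range f))
    (z : Fin n → MvPolynomial (Fin n) A ⧸ J)
    (hz : ∑ j, z j • D A (MvPolynomial (Fin n) A ⧸ J) (Ideal.Quotient.mk J (X j)) = 0) :
    ∃ c : Fin n → MvPolynomial (Fin n) A ⧸ J,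
      ∀ j, z j = ∑ i, c i * Ideal.Quotient.mk J (pderiv j (f i)) := by
  have hfJ : ∀ i, Ideal.Quotient.mk J (f i) = 0 := fun i =>
    Ideal.Quotient.eq_zero_iff_mem.mpr (hfJ' i)
  let t : (MvPolynomial (Fin n) A ⧸ J) ⊗[MvPolynomial (Fin n) A]
      Ω[MvPolynomial (Fin n) A⁄A] := ∑ j, z j ⊗ₜ D A (MvPolynomial (Fin n) A) (X j)
  have ht : mapBaseChange A (MvPolynomial (Fin n) A) (MvPolynomial (Fin n) A ⧸ J) t = 0 := by
    simp only [t, map_sum, mapBaseChange_tmul, KaehlerDifferential.map_D,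
      Ideal.Quotient.algebraMap_eq]
    exact hz
  have hsurj : Function.Surjective
      (algebraMap (MvPolynomial (Fin n) A) (MvPolynomial (Fin n) A ⧸ J)) :=
    Ideal.Quotient.mk_surjective
  obtain ⟨c0, hc0⟩ := (exact_kerCotangentToTensor_mapBaseChange A (MvPolynomial (Fin n) A)
    (MvPolynomial (Fin n) A ⧸ J) hsurj t).mp ht
  obtain ⟨g, rfl⟩ := Ideal.toCotangent_surjective _ c0
  rw [kerCotangentToTensor_toCotangent] at hc0
  have hg : (g : MvPolynomial (Fin n) A) ∈ Ideal.span (Set.range f) := by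
    have h2 : Ideal.Quotient.mk J (g : MvPolynomial (Fin n) A) = 0 := RingHom.mem_ker.mp g.2
    exact hJle (Ideal.Quotient.eq_zero_iff_mem.mp h2)
  obtain ⟨q, hq⟩ := Ideal.mem_span_range_iff_exists_fun.mp hg
  refine ⟨fun i => Ideal.Quotient.mk J (q i), fun j => ?_⟩
  have e1 : ((mvPolynomialBasis A (Fin n)).baseChange (MvPolynomial (Fin n) A ⧸ J)).repr t j =
      z j := by
    simp only [t, map_sum, Finsupp.coe_finsetSum, Finset.sum_apply,
      Module.Basis.baseChange_repr_tmul, mvPolynomialBasis_repr_apply, pderiv_X]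
    rw [Finset.sum_eq_single j]
    · simp
    · intro l _ hl
      simp [hl.symm]
    · simp
  have e2 : ((mvPolynomialBasis A (Fin n)).baseChange (MvPolynomial (Fin n) A ⧸ J)).repr
      ((1 : MvPolynomial (Fin n) A ⧸ J) ⊗ₜ[MvPolynomial (Fin n) A]
        D A (MvPolynomial (Fin n) A) (g : MvPolynomial (Fin n) A)) j =
      ∑ i, Ideal.Quotient.mk J (q i) * Ideal.Quotient.mk J (pderiv j (f i)) := by
    rw [Module.Basis.baseChange_repr_tmul, mvPolynomialBasis_repr_apply, ← hq, map_sum,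
      Finset.sum_smul]
    refine Finset.sum_congr rfl fun i _ => ?_
    have key : ∀ r : MvPolynomial (Fin n) A,
        r • (1 : MvPolynomial (Fin n) A ⧸ J) = Ideal.Quotient.mk J r := fun r => by
      rw [← map_one (Ideal.Quotient.mk J), ← Ideal.Quotient.mk_eq_mk,
        ← Submodule.Quotient.mk_smul]; simp
    rw [Derivation.leibniz, add_smul]
    simp only [smul_eq_mul, key, map_mul, hfJ i, zero_mul, add_zero]
  rw [← e1, ← hc0, e2]

theorem rel_mem (f : Fin n → MvPolynomial (Fin n) A)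
    (z : Fin n → MvPolynomial (Fin n) A ⧸ Ideal.span (Set.range f))
    (hz : ∑ j, z j • D A (MvPolynomial (Fin n) A ⧸ Ideal.span (Set.range f))
      (Ideal.Quotient.mk (Ideal.span (Set.range f)) (X j)) = 0) :
    ∃ c : Fin n → MvPolynomial (Fin n) A ⧸ Ideal.span (Set.range f),
      ∀ j, z j = ∑ i, c i * Ideal.Quotient.mk (Ideal.span (Set.range f)) (pderiv j (f i)) :=
  rel_mem_aux _ f (fun i => Ideal.subset_span (Set.mem_range_self i)) le_rfl z hz

theorem D_eq (f : Fin n → MvPolynomial (Fin n) A) :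
    Groth.Agent.H34.Fit.D (MvPolynomial (Fin n) A ⧸ Ideal.span (Set.range f))
      (fun j : Fin n => D A (MvPolynomial (Fin n) A ⧸ Ideal.span (Set.range f))
        (Ideal.Quotient.mk (Ideal.span (Set.range f)) (X j))) 0 =
    Ideal.span {Ideal.Quotient.mk (Ideal.span (Set.range f))
      (Matrix.det (Matrix.of fun i j : Fin n => pderiv j (f i)))} := by
  have hfJ : ∀ i, Ideal.Quotient.mk (Ideal.span (Set.range f)) (f i) = 0 := fun i =>
    Ideal.Quotient.eq_zero_iff_mem.mpr (Ideal.subset_span (Set.mem_range_self i))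
  obtain ⟨Jb, hJb⟩ : ∃ Jb : Matrix (Fin n) (Fin n)
      (MvPolynomial (Fin n) A ⧸ Ideal.span (Set.range f)),
      Jb = Matrix.of fun i j => Ideal.Quotient.mk (Ideal.span (Set.range f)) (pderiv j (f i)) :=
    ⟨_, rfl⟩
  have hdet : Ideal.Quotient.mk (Ideal.span (Set.range f))
      (Matrix.det (Matrix.of fun i j : Fin n => pderiv j (f i))) = Jb.det := by
    rw [RingHom.map_det, hJb]; rfl
  rw [hdet]
  have hrow : ∀ i, ∑ j, Jb i j • D A (MvPolynomial (Fin n) A ⧸ Ideal.span (Set.range f))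
      (Ideal.Quotient.mk (Ideal.span (Set.range f)) (X j)) = 0 := by
    intro i
    have h := D_mk (Ideal.span (Set.range f)) (f i)
    rw [hfJ i, map_zero] at h
    rw [hJb]
    exact h.symm
  apply le_antisymm
  · apply Ideal.span_le.mpr
    rintro d ⟨a, S, hS, hrel, rfl⟩
    have hS' : S = ∅ := Finset.card_eq_zero.mp (Nat.le_zero.mp hS)
    have hrel' : ∀ i, ∑ j, a i j • D A (MvPolynomial (Fin n) A ⧸ Ideal.span (Set.range f))
        (Ideal.Quotient.mk (Ideal.span (Set.range f)) (X j)) = 0 :=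
      fun i => hrel i (by rw [hS']; exact Finset.notMem_empty i)
    choose c hc using fun i => rel_mem f (a i) (hrel' i)
    have ha : a = Matrix.of c * Jb := by
      ext i j
      rw [Matrix.mul_apply, hJb]
      exact hc i j
    rw [SetLike.mem_coe, Ideal.mem_span_singleton', ha, Matrix.det_mul]
    exact ⟨_, rfl⟩
  · apply Ideal.span_le.mpr
    intro d hd
    rw [Set.mem_singleton_iff] at hd
    rw [hd]
    exact Ideal.subset_span ⟨Jb, ∅, by simp, fun i _ => hrow i, rfl⟩

end Groth.Agent.H64.JacFitt
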