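import Mathlib

/-!
# Rationality of the minimal-norm point of a rational polyhedron, and primitive lattice vectors

Helper material for S17517 (Kempf's optimal one-parameter subgroup, lattice form).
-/

namespace Groth.Agent.H64.Kempf

open Module

variable {E : Type*} [NormedAddCommGroup E] [InnerProductSpace ℝ E]

/-- An integer-valued functional commutes with coordinatewise application of a `ℚ`-linear map. -/
theorem dual_coord_map {ι : Type*} [Fintype ι] (σ : ℝ →ₗ[ℚ] ℝ) (bE : Basis ι ℝ E)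
    (h : Module.Dual ℝ E) (hh : ∀ i, ∃ n : ℤ, h (bE i) = (n : ℝ)) (v : E) :
    h (∑ i, σ (bE.repr v i) • bE i) = σ (h v) := by
  choose m hm using hh
  have hv : h v = ∑ i, bE.repr v i * (m i : ℝ) := by
    have h0 := congrArg h (bE.sum_repr v)
    rw [map_sum] at h0
    rw [← h0]
    refine Finset.sum_congr rfl (fun i _ => ?_)
    rw [map_smul, smul_eq_mul, hm]
  rw [hv, map_sum, map_sum]
  refine Finset.sum_congr rfl (fun i _ => ?_)
  rw [map_smul, smul_eq_mul, hm]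
  have h1 : bE.repr v i * (m i : ℝ) = (m i : ℚ) • bE.repr v i := by
    rw [Rat.smul_def, Rat.cast_intCast, mul_comm]
  rw [h1, map_smul, Rat.smul_def, Rat.cast_intCast, mul_comm]

theorem inf'_smul (H : Finset (Module.Dual ℝ E)) (hH : H.Nonempty) (c : ℝ) (hc : 0 ≤ c) (v : E) :
    H.inf' hH (fun h => h (c • v)) = c * H.inf' hH (fun h => h v) := by
  apply le_antisymm
  · obtain ⟨h₀, hh₀, he⟩ := Finset.exists_mem_eq_inf' hH (fun h => h v)
    rw [he]
    calc H.inf' hH (fun h => h (c • v)) ≤ h₀ (c • v) := Finset.inf'_le _ hh₀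
      _ = c * h₀ v := by rw [map_smul, smul_eq_mul]
  · rw [Finset.le_inf'_iff]
    intro h hh
    rw [map_smul, smul_eq_mul]
    exact mul_le_mul_of_nonneg_left (Finset.inf'_le _ hh) hc

/-- The minimal-norm point of a polyhedron with lattice-integral data is a rational lattice
point. -/
theorem rational_of_minNorm [FiniteDimensional ℝ E] (L : Submodule ℤ E) [DiscreteTopology L]
    [IsZLattice ℝ L]
    (hint : ∀ x ∈ L, ∀ y ∈ L, ∃ n : ℤ, inner ℝ x y = (n : ℝ))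
    (T : Finset (Module.Dual ℝ E × ℝ))
    (hT1 : ∀ t ∈ T, ∀ x ∈ L, ∃ n : ℤ, t.1 x = (n : ℝ))
    (hT2 : ∀ t ∈ T, ∃ q : ℚ, t.2 = (q : ℝ))
    (p : E) (hpQ : ∀ t ∈ T, t.2 ≤ t.1 p)
    (hVI : ∀ w : E, (∀ t ∈ T, t.2 ≤ t.1 w) → inner ℝ p p ≤ inner ℝ p w) :
    ∃ c : ℝ, 0 < c ∧ c • p ∈ L := by
  classical
  -- Step 1: orthogonality to the directions preserving the active constraints
  have horth : ∀ w : E, (∀ t ∈ T, t.1 p = t.2 → t.1 w = 0) → inner ℝ p w = 0 := by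
    intro w hw
    have hev : ∀ t ∈ T, ∀ᶠ ε in nhds (0:ℝ), t.2 ≤ t.1 (p + ε • w) := by
      intro t ht
      by_cases hact : t.1 p = t.2
      · refine Filter.Eventually.of_forall (fun ε => ?_)
        rw [map_add, map_smul, hw t ht hact, smul_zero, add_zero, hact]
      · have hlt : t.2 < t.1 p := lt_of_le_of_ne (hpQ t ht) (Ne.symm hact)
        have hcont : Continuous (fun ε : ℝ => t.1 p + ε * t.1 w) := by fun_prop
        have h0 : t.2 < (fun ε : ℝ => t.1 p + ε * t.1 w) 0 := by simpa using hlt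
        have h1 := (hcont.tendsto 0).eventually (lt_mem_nhds h0)
        filter_upwards [h1] with ε hε
        rw [map_add, map_smul, smul_eq_mul]
        exact hε.le
    have hev' := (Filter.eventually_all_finset T).mpr hev
    obtain ⟨δ, hδ, hball⟩ := Metric.eventually_nhds_iff.mp hev'
    have hd1 : dist (δ / 2) (0:ℝ) < δ := by
      rw [Real.dist_eq, sub_zero, abs_of_pos (by positivity)]; linarith
    have hd2 : dist (-(δ / 2)) (0:ℝ) < δ := by
      rw [Real.dist_eq, sub_zero, abs_neg, abs_of_pos (by positivity)]; linarith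
    have h1 := hVI _ (hball hd1)
    have h2 := hVI _ (hball hd2)
    rw [inner_add_right, real_inner_smul_right] at h1 h2
    have h3 : 0 ≤ δ / 2 * inner ℝ p w := by linarith
    have h4 : δ / 2 * inner ℝ p w ≤ 0 := by linarith
    have h5 : δ / 2 * inner ℝ p w = 0 := le_antisymm h4 h3
    rcases mul_eq_zero.mp h5 with h | h
    · linarith
    · exact h
  -- Step 2: `⟪p, ·⟫` is a combination of the active functionals
  set I := T.filter (fun t => t.1 p = t.2) with hI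
  obtain ⟨lam, hlam⟩ : ∃ lam : {t // t ∈ I} → ℝ,
      ∀ v : E, inner ℝ p v = ∑ t, lam t * t.1.1 v := by
    have hker : ⨅ t : {t // t ∈ I}, LinearMap.ker (t.1.1 : Module.Dual ℝ E) ≤
        LinearMap.ker (innerₛₗ ℝ p : E →ₗ[ℝ] ℝ) := by
      intro w hw
      rw [Submodule.mem_iInf] at hw
      rw [LinearMap.mem_ker, innerₛₗ_apply_apply]
      refine horth w (fun t ht hact => ?_)
      have := hw ⟨t, Finset.mem_filter.mpr ⟨ht, hact⟩⟩
      exact LinearMap.mem_ker.mp this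
    have hmem := mem_span_of_iInf_ker_le_ker hker
    obtain ⟨c, hc⟩ := (Submodule.mem_span_range_iff_exists_fun ℝ).mp hmem
    refine ⟨c, fun v => ?_⟩
    have := LinearMap.congr_fun hc v
    rw [innerₛₗ_apply_apply] at this
    rw [← this, LinearMap.sum_apply]
    refine Finset.sum_congr rfl (fun t _ => ?_)
    rw [LinearMap.smul_apply, smul_eq_mul]
  -- Step 3: a `ℚ`-linear retraction `ℝ → ℚ`
  obtain ⟨ρ, hρ⟩ := LinearMap.exists_leftInverse_of_injective (Algebra.linearMap ℚ ℝ)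
    (LinearMap.ker_eq_bot.mpr (fun a b h => (algebraMap ℚ ℝ).injective h))
  set σ : ℝ →ₗ[ℚ] ℝ := (Algebra.linearMap ℚ ℝ).comp ρ with hσdef
  have hσq : ∀ q : ℚ, σ (q : ℝ) = (q : ℝ) := by
    intro q
    have h1 : ρ ((q : ℝ)) = q := by
      have := LinearMap.congr_fun hρ q
      simpa using this
    simp [hσdef, h1]
  have hσr : ∀ x : ℝ, ∃ q : ℚ, σ x = (q : ℝ) := fun x => ⟨ρ x, by simp [hσdef]⟩
  have hσint : ∀ (x : ℝ) (m : ℤ), σ (x * (m : ℝ)) = σ x * (m : ℝ) := by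
    intro x m
    have h1 : x * (m : ℝ) = (m : ℚ) • x := by rw [Rat.smul_def, Rat.cast_intCast, mul_comm]
    rw [h1, map_smul, Rat.smul_def, Rat.cast_intCast, mul_comm]
  -- Step 4: a lattice basis
  have : Module.Free ℤ L := ZLattice.module_free ℝ L
  have : Module.Finite ℤ L := ZLattice.module_finite ℝ L
  let b := Module.Free.chooseBasis ℤ L
  let bE := b.ofZLatticeBasis ℝ L
  have hbE : ∀ i, bE i = (b i : E) := fun i => Basis.ofZLatticeBasis_apply ℝ L b i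
  set p' : E := ∑ i, σ (bE.repr p i) • bE i with hp'
  have hintb : ∀ (h : Module.Dual ℝ E), (∀ x ∈ L, ∃ n : ℤ, h x = (n:ℝ)) →
      ∀ i, ∃ n : ℤ, h (bE i) = (n:ℝ) :=
    fun h hh i => by rw [hbE]; exact hh _ (b i).2
  have h7 : ∀ t ∈ I, t.1 (p - p') = 0 := by
    intro t ht
    obtain ⟨htT, hact⟩ := Finset.mem_filter.mp ht
    obtain ⟨q, hq⟩ := hT2 t htT
    rw [map_sub, hp', dual_coord_map σ bE t.1 (hintb t.1 (hT1 t htT)) p, hact, hq, hσq, sub_self]
  have h8 : ∀ v : E, inner ℝ p' v = ∑ t : {t // t ∈ I}, σ (lam t) * t.1.1 v := by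
    have hmaps : (innerₛₗ ℝ p' : E →ₗ[ℝ] ℝ) =
        ∑ t : {t // t ∈ I}, σ (lam t) • (t.1.1 : Module.Dual ℝ E) := by
      refine bE.ext (fun i => ?_)
      rw [innerₛₗ_apply_apply, LinearMap.sum_apply]
      have hi : ∀ x ∈ L, ∃ n : ℤ, (innerₛₗ ℝ (bE i) : E →ₗ[ℝ] ℝ) x = (n : ℝ) := by
        intro x hx
        rw [innerₛₗ_apply_apply, hbE]
        exact hint _ (b i).2 x hx
      have h := dual_coord_map σ bE (innerₛₗ ℝ (bE i)) (hintb _ hi) p
      rw [innerₛₗ_apply_apply, innerₛₗ_apply_apply] at h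
      rw [real_inner_comm, h, real_inner_comm, hlam (bE i), map_sum]
      refine Finset.sum_congr rfl (fun t _ => ?_)
      rw [LinearMap.smul_apply, smul_eq_mul]
      obtain ⟨n, hn⟩ := hintb t.1.1 (hT1 t.1 (Finset.mem_filter.mp t.2).1) i
      rw [hn, hσint]
    intro v
    have h := LinearMap.congr_fun hmaps v
    rw [innerₛₗ_apply_apply, LinearMap.sum_apply] at h
    rw [h]
    refine Finset.sum_congr rfl (fun t _ => ?_)
    rw [LinearMap.smul_apply, smul_eq_mul]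
  have h9 : p - p' = 0 := by
    have h91 : inner ℝ p (p - p') = 0 := by
      rw [hlam]
      exact Finset.sum_eq_zero (fun t _ => by rw [h7 t.1 t.2, mul_zero])
    have h92 : inner ℝ p' (p - p') = 0 := by
      rw [h8]
      exact Finset.sum_eq_zero (fun t _ => by rw [h7 t.1 t.2, mul_zero])
    have h93 : inner ℝ (p - p') (p - p') = 0 := by
      rw [inner_sub_left, h91, h92, sub_zero]
    exact inner_self_eq_zero.mp h93
  have hpp' : p = p' := sub_eq_zero.mp h9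
  -- Step 5: clear denominators
  choose q hq using fun i => hσr (bE.repr p i)
  refine ⟨((∏ i, (q i).den : ℕ) : ℝ), ?_, ?_⟩
  · have : 0 < ∏ i, (q i).den := Finset.prod_pos (fun i _ => (q i).den_pos)
    exact_mod_cast this
  · rw [hpp', hp', Finset.smul_sum]
    refine Submodule.sum_mem _ (fun i _ => ?_)
    obtain ⟨k, hk⟩ := Finset.dvd_prod_of_mem (fun i => (q i).den) (Finset.mem_univ i)
    have hk' : ∏ j, (q j).den = (q i).den * k := hk
    rw [hq i, smul_smul, hbE]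
    have h1 : (q i : ℝ) * ((q i).den : ℝ) = ((q i).num : ℝ) := by
      exact_mod_cast Rat.mul_den_eq_num (q i)
    have h2 : ((∏ j, (q j).den : ℕ) : ℝ) * (q i : ℝ) = (((k : ℤ) * (q i).num : ℤ) : ℝ) := by
      rw [hk']; push_cast; rw [← h1]; ring
    rw [h2, Int.cast_smul_eq_zsmul]
    exact L.smul_mem _ (b i).2

/-- Among the lattice vectors on an open ray there is a primitive one. -/
theorem exists_primitive (L : Submodule ℤ E)
    (hint : ∀ x ∈ L, ∀ y ∈ L, ∃ n : ℤ, inner ℝ x y = (n : ℝ))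
    (p : E) (hp : p ≠ 0) (h : ∃ c : ℝ, 0 < c ∧ c • p ∈ L) :
    ∃ v₀ ∈ L, ∃ c₀ : ℝ, 0 < c₀ ∧ v₀ = c₀ • p ∧
      ∀ v ∈ L, ∀ c : ℝ, 0 < c → v = c • p → ∃ n : ℤ, v = n • v₀ := by
  classical
  have hnat : ∀ v ∈ L, ∃ k : ℕ, inner ℝ v v = (k : ℝ) := by
    intro v hv
    obtain ⟨n, hn⟩ := hint v hv v hv
    have h0 : (0:ℝ) ≤ inner ℝ v v := real_inner_self_nonneg
    rw [hn] at h0
    have h0' : 0 ≤ n := by exact_mod_cast h0
    refine ⟨n.toNat, ?_⟩
    rw [hn]
    have h1 : ((n.toNat : ℤ) : ℝ) = (n : ℝ) := by rw [Int.toNat_of_nonneg h0']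
    exact_mod_cast h1.symm
  let S : ℕ → Prop := fun k => ∃ v ∈ L, ∃ c : ℝ, 0 < c ∧ v = c • p ∧ inner ℝ v v = (k : ℝ)
  have hS : ∃ k, S k := by
    obtain ⟨c, hc, hcL⟩ := h
    obtain ⟨k, hk⟩ := hnat _ hcL
    exact ⟨k, c • p, hcL, c, hc, rfl, hk⟩
  obtain ⟨v₀, hv₀L, c₀, hc₀, hv₀, hk₀⟩ := Nat.find_spec hS
  have hmin : ∀ k, S k → Nat.find hS ≤ k := fun k hk => Nat.find_min' hS hk
  have hv₀ne : v₀ ≠ 0 := by
    rw [hv₀]; exact smul_ne_zero hc₀.ne' hp
  have hk₀pos : (0:ℝ) < ((Nat.find hS : ℕ) : ℝ) := by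
    rw [← hk₀]; exact real_inner_self_pos.mpr hv₀ne
  refine ⟨v₀, hv₀L, c₀, hc₀, hv₀, ?_⟩
  intro v hvL c hc hv
  have htv : v = (c / c₀) • v₀ := by
    rw [hv, hv₀, smul_smul, div_mul_cancel₀ _ hc₀.ne']
  have hr0 : 0 ≤ c / c₀ - (⌊c / c₀⌋ : ℝ) := sub_nonneg.mpr (Int.floor_le _)
  have hr1 : c / c₀ - (⌊c / c₀⌋ : ℝ) < 1 := by
    have := Int.lt_floor_add_one (c / c₀); linarith
  have hrv : v - ⌊c / c₀⌋ • v₀ = (c / c₀ - (⌊c / c₀⌋ : ℝ)) • v₀ := by
    rw [sub_smul, Int.cast_smul_eq_zsmul, ← htv]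
  have hrL : (c / c₀ - (⌊c / c₀⌋ : ℝ)) • v₀ ∈ L := by
    rw [← hrv]; exact L.sub_mem hvL (L.smul_mem _ hv₀L)
  refine ⟨⌊c / c₀⌋, ?_⟩
  by_contra hne
  have hrpos : 0 < c / c₀ - (⌊c / c₀⌋ : ℝ) := by
    rcases hr0.lt_or_eq with h | h
    · exact h
    · exfalso; apply hne
      have : v - ⌊c / c₀⌋ • v₀ = 0 := by rw [hrv, ← h, zero_smul]
      exact sub_eq_zero.mp this
  obtain ⟨k', hk'⟩ := hnat _ hrL
  have hSk' : S k' := ⟨_, hrL, (c / c₀ - (⌊c / c₀⌋ : ℝ)) * c₀, mul_pos hrpos hc₀,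
    by rw [hv₀, smul_smul], hk'⟩
  have hle := hmin k' hSk'
  have hk'eq : (k' : ℝ) = (c / c₀ - (⌊c / c₀⌋ : ℝ)) * (c / c₀ - (⌊c / c₀⌋ : ℝ)) *
      ((Nat.find hS : ℕ) : ℝ) := by
    rw [← hk', ← hk₀, real_inner_smul_left, real_inner_smul_right]; ring
  have hlt : (k' : ℝ) < ((Nat.find hS : ℕ) : ℝ) := by
    rw [hk'eq]
    have : (c / c₀ - (⌊c / c₀⌋ : ℝ)) * (c / c₀ - (⌊c / c₀⌋ : ℝ)) < 1 := by nlinarith
    nlinarith
  have : ((Nat.find hS : ℕ) : ℝ) ≤ (k' : ℝ) := by exact_mod_cast hle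
  linarith

end Groth.Agent.H64.Kempf
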