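import Mathlib
import Groth.Prelude.Def_Frob
import Groth.Agent.H99.LVFrobDefs
import Groth.Agent.H9.ComapIdeal
import Groth.Agent.H64.LVFrob_A

/-!
# (II) for helper99's S18396 squad: the inverse image ideal under a power of Frobenius
-/

set_option autoImplicit false
universe u
open AlgebraicGeometry CategoryTheory CategoryTheory.Limits
open Groth.Agent.H99.LVFrob

namespace Groth.Agent.H64.LVFrob_II

open Groth.Agent.H64.LVFrob_A

theorem ideal_comap_frobPow_le (X : Scheme.{u}) (p : ℕ) [Fact p.Prime] [FrobSch.IsCharP X p]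
    (I' : X.IdealSheafData) (m : ℕ) (U : X.affineOpens) :
    (I'.comap (frobPow X p m)).ideal U ≤
      Ideal.span ((fun s : Γ(X, U.1) => s ^ (p ^ m)) '' (I'.ideal U : Set Γ(X, U.1))) := by
  have e : U.1 ≤ (frobPow X p m) ⁻¹ᵁ U.1 := (frobPow_preimage X p m U.1).ge
  rw [Groth.Agent.H9.comap_ideal (frobPow X p m) I' U U e]
  refine le_of_eq ?_
  change Ideal.span _ = Ideal.span _
  congr 1
  refine Set.image_congr (fun s _ => ?_)
  exact frobPow_appLE X p m U.1 e s

end Groth.Agent.H64.LVFrob_II
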