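import Mathlib

namespace Groth.Agent.H64.LapTors

open Module Matrix

section partII

variable {n : ℕ} {F : Type*} [Field F]

theorem sum_mem_eq {α : Type*} [Fintype α] [DecidableEq α] (E : Finset α) (G : α → F) :
    ∑ p ∈ E, G p = ∑ p, if p ∈ E then G p else 0 := by
  rw [← Finset.sum_filter, Finset.filter_mem_eq_inter, Finset.univ_inter]

theorem lemA (i : Fin n) (X : Fin n → Fin n → F) :
    ∑ a, ∑ b, (if a = i then X a b else 0) = ∑ b, X i b := by
  rw [Finset.sum_eq_single i]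
  · simp
  · intro a _ ha; simp [ha]
  · intro h; exact absurd (Finset.mem_univ _) h

theorem lemB (i : Fin n) (X : Fin n → Fin n → F) :
    ∑ a, ∑ b, (if b = i then X a b else 0) = ∑ a, X a i := by
  refine Finset.sum_congr rfl fun a _ => ?_
  rw [Finset.sum_eq_single i]
  · simp
  · intro b _ hb; simp [hb]
  · intro h; exact absurd (Finset.mem_univ _) h

variable (B : Matrix (Fin n) (Fin n) F) (μ : Fin n → F) (E : Finset (Fin n × Fin n))

/-- the incidence matrix -/
def Nmat : Matrix ↥E (Fin n) F :=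
  Matrix.of fun e i => (if e.1.1 = i then (1 : F) else 0) - (if e.1.2 = i then 1 else 0)

theorem Nmat_mulVec (u : Fin n → F) (e : ↥E) :
    ((Nmat E : Matrix ↥E (Fin n) F).mulVec u) e = u e.1.1 - u e.1.2 := by
  simp [Nmat, Matrix.mulVec, dotProduct, sub_mul, Finset.sum_sub_distrib]

/-- the weighted difference map -/
def Theta : (Fin n → F) →ₗ[F] (↥E → F) where
  toFun v e := B e.1.1 e.1.2 * (μ e.1.2 * v e.1.1 - μ e.1.1 * v e.1.2)
  map_add' v w := by
    funext e
    simp only [Pi.add_apply]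
    ring
  map_smul' c v := by
    funext e
    simp only [Pi.smul_apply, smul_eq_mul, RingHom.id_apply]
    ring

theorem Theta_apply (v : Fin n → F) (e : ↥E) :
    Theta B μ E v e = B e.1.1 e.1.2 * (μ e.1.2 * v e.1.1 - μ e.1.1 * v e.1.2) := rfl

variable {B μ E}

theorem transpose_mulVec_Theta (hBsymm : ∀ i j, B i j = B j i) (hBμ : B.mulVec μ = 0)
    (hEdiag : ∀ a, (a, a) ∉ E)
    (hE' : ∀ a b, a ≠ b → B a b ≠ 0 → ((a, b) ∈ E ∧ (b, a) ∉ E) ∨ ((b, a) ∈ E ∧ (a, b) ∉ E))
    (v : Fin n → F) (hv : B.mulVec v = 0) :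
    ((Nmat E : Matrix ↥E (Fin n) F)ᵀ).mulVec (Theta B μ E v) = 0 := by
  classical
  funext i
  set X : Fin n → Fin n → F := fun a b => B a b * (μ b * v a - μ a * v b) with hX
  have hXanti : ∀ a b, X a b = - X b a := by
    intro a b
    simp only [hX]
    rw [hBsymm a b]; ring
  set Y : Fin n → Fin n → F := fun a b => if (a, b) ∈ E then X a b else 0 with hY
  have h1 : ((Nmat E : Matrix ↥E (Fin n) F)ᵀ).mulVec (Theta B μ E v) i =
      ∑ e : ↥E, ((if e.1.1 = i then (1 : F) else 0) - (if e.1.2 = i then 1 else 0)) *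
        X e.1.1 e.1.2 := by
    simp only [Matrix.mulVec, dotProduct, Matrix.transpose_apply, Nmat, Matrix.of_apply,
      Theta_apply, hX]
  rw [h1, Finset.sum_coe_sort E (fun p : Fin n × Fin n =>
    ((if p.1 = i then (1 : F) else 0) - (if p.2 = i then 1 else 0)) * X p.1 p.2),
    sum_mem_eq, Fintype.sum_prod_type]
  have h2 : ∀ a b : Fin n, (if (a, b) ∈ E then
      ((if (a, b).1 = i then (1 : F) else 0) - (if (a, b).2 = i then 1 else 0)) *
        X (a, b).1 (a, b).2 else 0) =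
      (if a = i then Y a b else 0) - (if b = i then Y a b else 0) := by
    intro a b
    simp only [hY]
    split_ifs <;> simp
  simp only [h2, Finset.sum_sub_distrib]
  rw [lemA, lemB, ← Finset.sum_sub_distrib]
  have h3 : ∀ j, Y i j - Y j i = X i j := by
    intro j
    simp only [hY]
    by_cases hij : i = j
    · subst hij
      rw [if_neg (hEdiag i), sub_self]
      simp only [hX]; ring
    · by_cases hB : B i j = 0
      · have hB' : B j i = 0 := by rw [← hBsymm]; exact hB
        have : X i j = 0 := by simp only [hX]; rw [hB, zero_mul]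
        have h' : X j i = 0 := by simp only [hX]; rw [hB', zero_mul]
        rw [this, h']; simp
      · rcases hE' i j hij hB with ⟨ha, hb⟩ | ⟨ha, hb⟩
        · rw [if_pos ha, if_neg hb, sub_zero]
        · rw [if_pos ha, if_neg hb, zero_sub, hXanti i j]
  rw [Finset.sum_congr rfl (fun j _ => h3 j)]
  have h4 : ∀ j, X i j = v i * (B i j * μ j) - μ i * (B i j * v j) := by
    intro j; simp only [hX]; ring
  rw [Finset.sum_congr rfl (fun j _ => h4 j), Finset.sum_sub_distrib, ← Finset.mul_sum,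
    ← Finset.mul_sum]
  have h5 : ∑ j, B i j * μ j = 0 := by
    have := congrFun hBμ i
    simpa [Matrix.mulVec, dotProduct] using this
  have h6 : ∑ j, B i j * v j = 0 := by
    have := congrFun hv i
    simpa [Matrix.mulVec, dotProduct] using this
  rw [h5, h6, mul_zero, mul_zero, sub_zero]
  rfl

end partII

section partII

variable {n : ℕ} {F : Type*} [Field F]
variable {B : Matrix (Fin n) (Fin n) F} {μ : Fin n → F} {E : Finset (Fin n × Fin n)}

theorem finrank_ker_le (hBsymm : ∀ i j, B i j = B j i) (hBμ : B.mulVec μ = 0)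
    (hμ : ∀ i, μ i ≠ 0) (hEdiag : ∀ a, (a, a) ∉ E) (hE : ∀ a b, (a, b) ∈ E → B a b ≠ 0)
    (hE' : ∀ a b, a ≠ b → B a b ≠ 0 → ((a, b) ∈ E ∧ (b, a) ∉ E) ∨ ((b, a) ∈ E ∧ (a, b) ∉ E))
    (hconn : ∀ u : Fin n → F, (∀ a b, (a, b) ∈ E → u a = u b) → ∀ i j, u i = u j) :
    finrank F (LinearMap.ker B.mulVecLin) + n ≤ E.card + 2 := by
  classical
  have hμK : μ ∈ LinearMap.ker B.mulVecLin := by
    rw [LinearMap.mem_ker, Matrix.mulVecLin_apply]; exact hBμ
  have e1 := LinearMap.finrank_range_add_finrank_ker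
    ((Theta B μ E).domRestrict (LinearMap.ker B.mulVecLin))
  have hkerR : finrank F (LinearMap.ker
      ((Theta B μ E).domRestrict (LinearMap.ker B.mulVecLin))) ≤ 1 := by
    have hμR : (⟨μ, hμK⟩ : LinearMap.ker B.mulVecLin) ∈ LinearMap.ker
        ((Theta B μ E).domRestrict (LinearMap.ker B.mulVecLin)) := by
      rw [LinearMap.mem_ker]
      funext e
      show Theta B μ E μ e = 0
      rw [Theta_apply]; ring
    refine finrank_le_one (⟨⟨μ, hμK⟩, hμR⟩ : LinearMap.ker
      ((Theta B μ E).domRestrict (LinearMap.ker B.mulVecLin))) ?_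
    rintro ⟨⟨w, hwK⟩, hw⟩
    rw [LinearMap.mem_ker] at hw
    have hu : ∀ a b, (a, b) ∈ E → w a / μ a = w b / μ b := by
      intro a b hab
      have := congrFun hw ⟨(a, b), hab⟩
      change B a b * (μ b * w a - μ a * w b) = 0 at this
      have h0 := (mul_eq_zero.1 this).resolve_left (hE a b hab)
      rw [div_eq_div_iff (hμ a) (hμ b)]
      linear_combination h0
    have hc := hconn (fun i => w i / μ i) hu
    refine ⟨if h : 0 < n then w ⟨0, h⟩ / μ ⟨0, h⟩ else 0, ?_⟩
    apply Subtype.ext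
    apply Subtype.ext
    funext i
    have hn : 0 < n := i.pos
    show (if h : 0 < n then w ⟨0, h⟩ / μ ⟨0, h⟩ else 0) * μ i = w i
    rw [dif_pos hn]
    have := hc ⟨0, hn⟩ i
    rw [this, div_mul_cancel₀ _ (hμ i)]
  have hrange : LinearMap.range ((Theta B μ E).domRestrict (LinearMap.ker B.mulVecLin)) ≤
      LinearMap.ker ((Nmat E : Matrix ↥E (Fin n) F)ᵀ).mulVecLin := by
    rintro _ ⟨⟨v, hvK⟩, rfl⟩
    rw [LinearMap.mem_ker, Matrix.mulVecLin_apply]
    rw [LinearMap.mem_ker, Matrix.mulVecLin_apply] at hvK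
    exact transpose_mulVec_Theta hBsymm hBμ hEdiag hE' v hvK
  have e2 := Submodule.finrank_mono hrange
  have e3 := LinearMap.finrank_range_add_finrank_ker ((Nmat E : Matrix ↥E (Fin n) F)ᵀ).mulVecLin
  have e4 := LinearMap.finrank_range_add_finrank_ker (Nmat E : Matrix ↥E (Fin n) F).mulVecLin
  have e5 : finrank F (LinearMap.range ((Nmat E : Matrix ↥E (Fin n) F)ᵀ).mulVecLin) =
      finrank F (LinearMap.range (Nmat E : Matrix ↥E (Fin n) F).mulVecLin) :=
    Matrix.rank_transpose (Nmat E : Matrix ↥E (Fin n) F)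
  have hkerN : finrank F (LinearMap.ker (Nmat E : Matrix ↥E (Fin n) F).mulVecLin) ≤ 1 := by
    have h1K : (fun _ => (1 : F)) ∈ LinearMap.ker (Nmat E : Matrix ↥E (Fin n) F).mulVecLin := by
      rw [LinearMap.mem_ker, Matrix.mulVecLin_apply]
      funext e
      rw [Nmat_mulVec]; simp
    refine finrank_le_one (⟨fun _ => 1, h1K⟩ :
      LinearMap.ker (Nmat E : Matrix ↥E (Fin n) F).mulVecLin) ?_
    rintro ⟨u, hu⟩
    rw [LinearMap.mem_ker, Matrix.mulVecLin_apply] at hu
    have hu' : ∀ a b, (a, b) ∈ E → u a = u b := by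
      intro a b hab
      have := congrFun hu ⟨(a, b), hab⟩
      rw [Nmat_mulVec] at this
      exact sub_eq_zero.1 this
    have hc := hconn u hu'
    refine ⟨if h : 0 < n then u ⟨0, h⟩ else 0, ?_⟩
    apply Subtype.ext
    funext i
    have hn : 0 < n := i.pos
    show (if h : 0 < n then u ⟨0, h⟩ else 0) * 1 = u i
    rw [dif_pos hn, mul_one, hc ⟨0, hn⟩ i]
  rw [Module.finrank_fintype_fun_eq_card, Fintype.card_coe] at e3
  rw [Module.finrank_fin_fun] at e4
  omega

end partII

section partI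

variable {n : ℕ} (A : Matrix (Fin n) (Fin n) ℤ) (m : Fin n → ℤ) (ℓ : ℕ)

theorem cast_mulVec (y : Fin n → ℤ) :
    (A.map (Int.castRingHom (ZMod ℓ))).mulVec (fun i => (y i : ZMod ℓ)) =
      fun i => ((A.mulVec y i : ℤ) : ZMod ℓ) := by
  funext i
  exact (RingHom.map_mulVec (Int.castRingHom (ZMod ℓ)) A y i).symm

theorem card_torsion_mul_le [Fact ℓ.Prime] (hn : 0 < n) (hAm : A.mulVec m = 0)
    (hℓm : ∀ i, ¬ ((ℓ : ℤ) ∣ m i)) :
    Nat.card (Submodule.torsionBy ℤ ((Fin n → ℤ) ⧸ LinearMap.range (Matrix.mulVecLin A)) (ℓ : ℤ))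
      * ℓ ≤ ℓ ^ finrank (ZMod ℓ)
        (LinearMap.ker (A.map (Int.castRingHom (ZMod ℓ))).mulVecLin) := by
  classical
  have hx : ∀ t : Submodule.torsionBy ℤ ((Fin n → ℤ) ⧸ LinearMap.range (Matrix.mulVecLin A)) (ℓ : ℤ),
      ∃ x : Fin n → ℤ, Submodule.Quotient.mk x =
        (t : (Fin n → ℤ) ⧸ LinearMap.range (Matrix.mulVecLin A)) :=
    fun t => Submodule.Quotient.mk_surjective _ t.1
  choose xr hxr using hx
  have hy : ∀ t : Submodule.torsionBy ℤ ((Fin n → ℤ) ⧸ LinearMap.range (Matrix.mulVecLin A)) (ℓ : ℤ),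
      ∃ y : Fin n → ℤ, A.mulVec y = (ℓ : ℤ) • xr t := by
    intro t
    have ht := t.2
    rw [Submodule.mem_torsionBy_iff, ← hxr t, ← Submodule.Quotient.mk_smul,
      Submodule.Quotient.mk_eq_zero] at ht
    obtain ⟨y, hy⟩ := ht
    exact ⟨y, by rw [← hy, Matrix.mulVecLin_apply]⟩
  choose yr hyr using hy
  have hBm : (A.map (Int.castRingHom (ZMod ℓ))).mulVec (fun i => (m i : ZMod ℓ)) = 0 := by
    rw [cast_mulVec, hAm]; funext i; simp
  have hmem : ∀ p : Submodule.torsionBy ℤ ((Fin n → ℤ) ⧸ LinearMap.range (Matrix.mulVecLin A)) (ℓ : ℤ)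
      × ZMod ℓ, ((fun i => (yr p.1 i : ZMod ℓ)) + p.2 • (fun i => (m i : ZMod ℓ))) ∈
        LinearMap.ker (A.map (Int.castRingHom (ZMod ℓ))).mulVecLin := by
    intro p
    rw [LinearMap.mem_ker, Matrix.mulVecLin_apply, Matrix.mulVec_add, Matrix.mulVec_smul, hBm,
      smul_zero, add_zero, cast_mulVec, hyr]
    funext i
    simp
  have hinj : Function.Injective (fun p : Submodule.torsionBy ℤ ((Fin n → ℤ) ⧸
      LinearMap.range (Matrix.mulVecLin A)) (ℓ : ℤ) × ZMod ℓ =>
      (⟨_, hmem p⟩ : LinearMap.ker (A.map (Int.castRingHom (ZMod ℓ))).mulVecLin)) := by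
    rintro ⟨t, a⟩ ⟨t', a'⟩ h
    have h' := congrArg Subtype.val h
    have hcoord : ∀ i, ((yr t i : ZMod ℓ)) + a * (m i : ZMod ℓ) =
        (yr t' i : ZMod ℓ) + a' * (m i : ZMod ℓ) := fun i => congrFun h' i
    obtain ⟨c, hc⟩ := ZMod.intCast_surjective (a' - a)
    have hz : ∀ i, ∃ z : ℤ, yr t i - yr t' i - c * m i = ℓ * z := by
      intro i
      have : ((yr t i - yr t' i - c * m i : ℤ) : ZMod ℓ) = 0 := by
        push_cast; rw [hc]; linear_combination hcoord i
      exact (CharP.intCast_eq_zero_iff (ZMod ℓ) ℓ _).1 this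
    choose z hz using hz
    have hvec : yr t - yr t' - c • m = (ℓ : ℤ) • z := by
      funext i
      simp only [Pi.sub_apply, Pi.smul_apply, smul_eq_mul]
      exact hz i
    have hA : A.mulVec (yr t) - A.mulVec (yr t') = (ℓ : ℤ) • A.mulVec z := by
      have := congrArg A.mulVec hvec
      rw [Matrix.mulVec_sub, Matrix.mulVec_sub, Matrix.mulVec_smul, Matrix.mulVec_smul, hAm,
        smul_zero, sub_zero] at this
      exact this
    rw [hyr, hyr, ← smul_sub] at hA
    have hℓ0 : (ℓ : ℤ) ≠ 0 := by exact_mod_cast (Fact.out : ℓ.Prime).ne_zero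
    have hxx : xr t - xr t' = A.mulVec z := by
      funext i
      have := congrFun hA i
      simp only [Pi.smul_apply, smul_eq_mul] at this
      exact mul_left_cancel₀ hℓ0 this
    have htt : t = t' := by
      apply Subtype.ext
      rw [← hxr t, ← hxr t', ← sub_eq_zero, ← Submodule.Quotient.mk_sub,
        Submodule.Quotient.mk_eq_zero, hxx]
      exact ⟨z, Matrix.mulVecLin_apply ..⟩
    subst htt
    have haa : a = a' := by
      have := hcoord ⟨0, hn⟩
      have hm0 : ((m ⟨0, hn⟩ : ℤ) : ZMod ℓ) ≠ 0 := by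
        rw [Ne, CharP.intCast_eq_zero_iff (ZMod ℓ) ℓ]; exact hℓm _
      exact mul_right_cancel₀ hm0 (add_left_cancel this)
    rw [haa]
  have hcard := Nat.card_le_card_of_injective _ hinj
  have hK := Module.natCard_eq_pow_finrank (K := ZMod ℓ)
    (V := LinearMap.ker (A.map (Int.castRingHom (ZMod ℓ))).mulVecLin)
  rw [Nat.card_prod, Nat.card_zmod, hK, Nat.card_zmod] at hcard
  exact hcard

end partI

theorem main {n : ℕ} (A : Matrix (Fin n) (Fin n) ℤ)
    (m : Fin n → ℤ) (hsymm : A.IsSymm) (hA : ∀ i j, i ≠ j → 0 ≤ A i j) (hm : ∀ i, 0 < m i)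
    (hAm : A.mulVec m = 0)
    (hconn : ∀ I : Finset (Fin n), I.Nonempty → I ≠ Finset.univ → ∃ i ∈ I, ∃ j ∉ I, A i j ≠ 0)
    (ℓ : ℕ) (hℓ : ℓ.Prime) (hℓA : ∀ i j, A i j ≠ 0 → ¬ ((ℓ : ℤ) ∣ A i j))
    (hℓm : ∀ i, ¬ ((ℓ : ℤ) ∣ m i)) :
    Nat.card (Submodule.torsionBy ℤ ((Fin n → ℤ) ⧸ LinearMap.range (Matrix.mulVecLin A)) (ℓ : ℤ))
      ≤ ℓ ^ ((Finset.univ.filter fun p : Fin n × Fin n => p.1 < p.2 ∧ 0 < A p.1 p.2).card + 1 - n) := by
  classical
  have : Fact ℓ.Prime := ⟨hℓ⟩
  rcases Nat.eq_zero_or_pos n with rfl | hn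
  · have : Subsingleton ((Fin 0 → ℤ) ⧸ LinearMap.range (Matrix.mulVecLin A)) :=
      (Submodule.Quotient.mk_surjective _).subsingleton
    rw [Nat.card_of_subsingleton (0 : Submodule.torsionBy ℤ
      ((Fin 0 → ℤ) ⧸ LinearMap.range (Matrix.mulVecLin A)) (ℓ : ℤ))]
    exact Nat.one_le_pow _ _ hℓ.pos
  · set E := Finset.univ.filter fun p : Fin n × Fin n => p.1 < p.2 ∧ 0 < A p.1 p.2 with hE
    have hcast0 : ∀ x : ℤ, ((x : ZMod ℓ) = 0) ↔ (ℓ : ℤ) ∣ x :=
      fun x => CharP.intCast_eq_zero_iff (ZMod ℓ) ℓ x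
    have hmemE : ∀ a b, (a, b) ∈ E ↔ a < b ∧ 0 < A a b := by
      intro a b; rw [hE, Finset.mem_filter]; simp
    have h1 := card_torsion_mul_le A m ℓ hn hAm hℓm
    have h2 : finrank (ZMod ℓ) (LinearMap.ker (A.map (Int.castRingHom (ZMod ℓ))).mulVecLin) + n
        ≤ E.card + 2 := by
      apply finrank_ker_le (μ := fun i => (m i : ZMod ℓ))
      · intro i j
        rw [Matrix.map_apply, Matrix.map_apply, hsymm.apply]
      · rw [cast_mulVec, hAm]; funext i; simp
      · intro i
        show ((m i : ℤ) : ZMod ℓ) ≠ 0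
        rw [Ne, hcast0]; exact hℓm i
      · intro a h
        rw [hmemE] at h
        exact lt_irrefl _ h.1
      · intro a b hab
        rw [hmemE] at hab
        rw [Matrix.map_apply]
        show ((A a b : ℤ) : ZMod ℓ) ≠ 0
        rw [Ne, hcast0]
        exact hℓA a b hab.2.ne'
      · intro a b hab hB
        rw [Matrix.map_apply] at hB
        have hne : A a b ≠ 0 := by
          intro h0
          apply hB
          show ((A a b : ℤ) : ZMod ℓ) = 0
          rw [h0, Int.cast_zero]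
        have hpos : 0 < A a b := lt_of_le_of_ne (hA a b hab) (Ne.symm hne)
        rcases lt_or_gt_of_ne hab with h | h
        · left
          rw [hmemE, hmemE]
          exact ⟨⟨h, hpos⟩, fun h' => lt_asymm h h'.1⟩
        · right
          rw [hmemE, hmemE]
          refine ⟨⟨h, ?_⟩, fun h' => lt_asymm h h'.1⟩
          rw [hsymm.apply]; exact hpos
      · intro u hu i j
        by_contra hij
        let I : Finset (Fin n) := Finset.univ.filter (fun k => u k = u i)
        have hI' : ∀ k, k ∈ I ↔ u k = u i := by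
          intro k; simp [I]
        have hiI : i ∈ I := (hI' i).2 rfl
        have hI : I ≠ Finset.univ := by
          intro h
          have : j ∈ I := h ▸ Finset.mem_univ j
          exact hij ((hI' j).1 this).symm
        obtain ⟨a, haI, b, hbI, hab⟩ := hconn I ⟨i, hiI⟩ hI
        have hua : u a = u i := (hI' a).1 haI
        have hub : ¬ u b = u i := fun h => hbI ((hI' b).2 h)
        have hne : a ≠ b := by
          rintro rfl; exact hbI haI
        have hpos : 0 < A a b := lt_of_le_of_ne (hA a b hne) (Ne.symm hab)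
        rcases lt_or_gt_of_ne hne with h | h
        · have := hu a b ((hmemE a b).2 ⟨h, hpos⟩)
          exact hub (this ▸ hua)
        · have hpos' : 0 < A b a := by rw [hsymm.apply]; exact hpos
          have := hu b a ((hmemE b a).2 ⟨h, hpos'⟩)
          exact hub (this.trans hua)
    -- arithmetic
    rcases Nat.eq_zero_or_pos (Nat.card (Submodule.torsionBy ℤ
      ((Fin n → ℤ) ⧸ LinearMap.range (Matrix.mulVecLin A)) (ℓ : ℤ))) with h0 | hpos
    · rw [h0]; exact Nat.zero_le _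
    · set k := finrank (ZMod ℓ) (LinearMap.ker (A.map (Int.castRingHom (ZMod ℓ))).mulVecLin)
      have hk : 1 ≤ k := by
        by_contra hk
        have hk0 : k = 0 := by omega
        rw [hk0, pow_zero] at h1
        have : ℓ ≤ 1 := le_trans (Nat.le_mul_of_pos_left ℓ hpos) h1
        have := hℓ.two_le
        omega
      have hle : k ≤ (E.card + 1 - n) + 1 := by omega
      have h3 : ℓ ^ k ≤ ℓ ^ ((E.card + 1 - n) + 1) := Nat.pow_le_pow_right hℓ.pos hle
      rw [pow_succ] at h3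
      exact Nat.le_of_mul_le_mul_right (le_trans h1 h3) hℓ.pos

end Groth.Agent.H64.LapTors
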