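import Mathlib
import Groth.Prelude.Def_W4c1bouilletffgsL3

/-!
Helper for the `Lie3Mod` rows: the substitution `φ` killing the linear forms, Cramer identities,
and the fact that `φ (det M)` is a non-zero-divisor over any commutative ring.
-/

namespace Groth.Agent.H64.Lie3

open MvPolynomial Lie3Mod

variable (A : Type*) [CommRing A]

/-- substitution killing `L`: `i := a`, `f := -b`, `h := -d`. -/
noncomputable def sub : Fin 9 → D A := fun j =>
  if j = 8 then X 0 else if j = 5 then -X 1 else if j = 7 then -X 3 else X j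

/-- the substitution homomorphism -/
noncomputable def phi : D A →ₐ[A] D A := aeval (sub A)

lemma phi_X (j : Fin 9) : phi A (X j) = sub A j := by
  simp [phi]

lemma L1_mem : L1 A ∈ idL A := Ideal.subset_span (by simp)
lemma L2_mem : L2 A ∈ idL A := Ideal.subset_span (by simp)
lemma L3_mem : L3 A ∈ idL A := Ideal.subset_span (by simp)

lemma X_sub_phi_mem (j : Fin 9) : (X j : D A) - phi A (X j) ∈ idL A := by
  rw [phi_X]
  fin_cases j
  · simp [sub]
  · simp [sub]
  · simp [sub]
  · simp [sub]
  · simp [sub]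
  · -- j = 5
    have : (X 5 : D A) - sub A 5 = L2 A := by
      simp only [sub, L2, va, vb, vf]
      simp
      ring
    simpa using this ▸ L2_mem A
  · simp [sub]
  · -- j = 7
    have : (X 7 : D A) - sub A 7 = L3 A := by
      simp only [sub, L3, vd, vh]
      simp
      ring
    simpa using this ▸ L3_mem A
  · -- j = 8
    have : (X 8 : D A) - sub A 8 = -L1 A := by
      simp only [sub, L1, va, vi]
      simp
    simpa using this ▸ (idL A).neg_mem (L1_mem A)

lemma sub_phi_mem (u : D A) : u - phi A u ∈ idL A := by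
  induction u using MvPolynomial.induction_on with
  | C r => simp [phi]
  | add p q hp hq =>
    have : p + q - phi A (p + q) = (p - phi A p) + (q - phi A q) := by
      rw [map_add]; ring
    rw [this]
    exact (idL A).add_mem hp hq
  | mul_X p j hp =>
    have : p * X j - phi A (p * X j) =
        (p - phi A p) * X j + phi A p * (X j - phi A (X j)) := by
      rw [map_mul]; ring
    rw [this]
    exact (idL A).add_mem ((idL A).mul_mem_right _ hp) ((idL A).mul_mem_left _ (X_sub_phi_mem A j))

lemma phi_L1 : phi A (L1 A) = 0 := by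
  simp [L1, va, vi, phi_X, sub]
lemma phi_L2 : phi A (L2 A) = 0 := by
  simp [L2, vb, vf, phi_X, sub]
lemma phi_L3 : phi A (L3 A) = 0 := by
  simp [L3, vd, vh, phi_X, sub]

lemma Q1_eq : Q1 A = vh * L1 A - vg * L2 A + vi * L3 A := by
  simp only [Q1, L1, L2, L3, va, vb, vc, vd, ve, vf, vg, vh, vi]; ring
lemma Q2_eq : Q2 A = -ve * L1 A - vh * L2 A + vb * L3 A := by
  simp only [Q2, L1, L2, L3, va, vb, vc, vd, ve, vf, vg, vh, vi]; ring
lemma Q3_eq : Q3 A = -vf * L1 A - vi * L2 A + vc * L3 A := by
  simp only [Q3, L1, L2, L3, va, vb, vc, vd, ve, vf, vg, vh, vi]; ring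

lemma phi_Q1 : phi A (Q1 A) = 0 := by
  rw [Q1_eq]; simp only [map_add, map_sub, map_mul, phi_L1, phi_L2, phi_L3]; simp
lemma phi_Q2 : phi A (Q2 A) = 0 := by
  rw [Q2_eq]; simp only [map_add, map_sub, map_mul, phi_L1, phi_L2, phi_L3]; simp
lemma phi_Q3 : phi A (Q3 A) = 0 := by
  rw [Q3_eq]; simp only [map_add, map_sub, map_mul, phi_L1, phi_L2, phi_L3]; simp

lemma idI_le_idL : idI A ≤ idL A := by
  rw [idI, Ideal.span_le]
  rintro x hx
  simp only [Set.mem_insert_iff, Set.mem_singleton_iff] at hx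
  rcases hx with rfl | rfl | rfl
  · rw [Q1_eq]
    exact (idL A).add_mem ((idL A).sub_mem ((idL A).mul_mem_left _ (L1_mem A))
      ((idL A).mul_mem_left _ (L2_mem A))) ((idL A).mul_mem_left _ (L3_mem A))
  · rw [Q2_eq]
    exact (idL A).add_mem ((idL A).sub_mem ((idL A).mul_mem_left _ (L1_mem A))
      ((idL A).mul_mem_left _ (L2_mem A))) ((idL A).mul_mem_left _ (L3_mem A))
  · rw [Q3_eq]
    exact (idL A).add_mem ((idL A).sub_mem ((idL A).mul_mem_left _ (L1_mem A))
      ((idL A).mul_mem_left _ (L2_mem A))) ((idL A).mul_mem_left _ (L3_mem A))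

lemma phi_idL {x : D A} (hx : x ∈ idL A) : phi A x = 0 := by
  have : idL A ≤ RingHom.ker (phi A).toRingHom := by
    rw [idL, Ideal.span_le]
    rintro x hx
    simp only [Set.mem_insert_iff, Set.mem_singleton_iff] at hx
    rcases hx with rfl | rfl | rfl
    · exact phi_L1 A
    · exact phi_L2 A
    · exact phi_L3 A
  exact this hx

lemma phi_idI {x : D A} (hx : x ∈ idI A) : phi A x = 0 := phi_idL A (idI_le_idL A hx)

lemma mem_idL_iff (x : D A) : x ∈ idL A ↔ phi A x = 0 := by
  constructor
  · exact phi_idL A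
  · intro h
    have := sub_phi_mem A x
    rwa [h, sub_zero] at this

lemma Q1_mem : Q1 A ∈ idI A := Ideal.subset_span (by simp)
lemma Q2_mem : Q2 A ∈ idI A := Ideal.subset_span (by simp)
lemma Q3_mem : Q3 A ∈ idI A := Ideal.subset_span (by simp)

/-- Cramer identities -/
lemma cramer1 : detM A * L1 A =
    (-(vh * vc) + vb * vi) * Q1 A + (vg * vc - vi ^ 2) * Q2 A + (-(vg * vb) + vi * vh) * Q3 A := by
  simp only [detM, Q1, Q2, Q3, L1, L2, L3, va, vb, vc, vd, ve, vf, vg, vh, vi]; ring
lemma cramer2 : detM A * L2 A =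
    (ve * vc - vb * vf) * Q1 A + (vh * vc + vi * vf) * Q2 A + (-(vh * vb) - vi * ve) * Q3 A := by
  simp only [detM, Q1, Q2, Q3, L1, L2, L3, va, vb, vc, vd, ve, vf, vg, vh, vi]; ring
lemma cramer3 : detM A * L3 A =
    (ve * vi - vh * vf) * Q1 A + (vh * vi + vg * vf) * Q2 A + (-(vh ^ 2) - vg * ve) * Q3 A := by
  simp only [detM, Q1, Q2, Q3, L1, L2, L3, va, vb, vc, vd, ve, vf, vg, vh, vi]; ring

lemma comb_mem (x y z : D A) : x * Q1 A + y * Q2 A + z * Q3 A ∈ idI A :=
  (idI A).add_mem ((idI A).add_mem ((idI A).mul_mem_left _ (Q1_mem A))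
    ((idI A).mul_mem_left _ (Q2_mem A))) ((idI A).mul_mem_left _ (Q3_mem A))

lemma detM_mul_mem {r : D A} (hr : r ∈ idL A) : detM A * r ∈ idI A := by
  rw [idL] at hr
  induction hr using Submodule.span_induction with
  | mem x hx =>
    simp only [Set.mem_insert_iff, Set.mem_singleton_iff] at hx
    rcases hx with rfl | rfl | rfl
    · rw [cramer1]; exact comb_mem A _ _ _
    · rw [cramer2]; exact comb_mem A _ _ _
    · rw [cramer3]; exact comb_mem A _ _ _
  | zero => simp
  | add x y _ _ hx hy => rw [mul_add]; exact (idI A).add_mem hx hy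
  | smul a x _ hx =>
    rw [smul_eq_mul, mul_left_comm]
    exact (idI A).mul_mem_left _ hx

/-- the image of `det M` under `φ` -/
noncomputable def Delta0 : D A :=
  X 4 * X 0 ^ 2 - 2 * X 0 * X 1 * X 3 - X 2 * X 3 ^ 2 - X 6 * X 1 ^ 2 - X 6 * X 4 * X 2

lemma phi_detM : phi A (detM A) = Delta0 A := by
  simp only [detM, va, vb, vc, vd, ve, vf, vg, vh, vi, map_add, map_sub, map_mul, map_neg, map_pow,
    phi_X, Delta0]
  simp [sub]
  ring

lemma Delta0_regular (y : D A) (hy : y * Delta0 A = 0) : y = 0 := by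
  rcases subsingleton_or_nontrivial A with hA | hA
  · exact Subsingleton.elim _ _
  · have hP : finSuccEquiv A 8 (Delta0 A) =
        Polynomial.C (X 3) * Polynomial.X ^ 2 + Polynomial.C (-2 * X 0 * X 2) * Polynomial.X +
          Polynomial.C (-(X 1 * X 2 ^ 2) - X 5 * X 0 ^ 2 - X 5 * X 3 * X 1) := by
      have h1 : (1 : Fin 9) = Fin.succ 0 := rfl
      have h2 : (2 : Fin 9) = Fin.succ 1 := rfl
      have h3 : (3 : Fin 9) = Fin.succ 2 := rfl
      have h4 : (4 : Fin 9) = Fin.succ 3 := rfl
      have h6 : (6 : Fin 9) = Fin.succ 5 := rfl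
      rw [Delta0, h1, h2, h3, h4, h6]
      simp only [map_add, map_sub, map_mul, map_pow, map_neg, finSuccEquiv_X_zero,
        finSuccEquiv_X_succ, map_ofNat]
      ring
    have hlc : (finSuccEquiv A 8 (Delta0 A)).leadingCoeff = X 3 := by
      rw [hP]
      exact Polynomial.leadingCoeff_quadratic (X_ne_zero 3)
    have hmem : finSuccEquiv A 8 (Delta0 A) ∈ nonZeroDivisors _ := by
      apply Polynomial.mem_nonZeroDivisors_of_leadingCoeff
      rw [hlc]
      exact (isRegular_X (R := A) (n := (3 : Fin 8))).mem_nonZeroDivisors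
    have h0 : finSuccEquiv A 8 y * finSuccEquiv A 8 (Delta0 A) = 0 := by
      rw [← map_mul, hy, map_zero]
    have := (mul_right_mem_nonZeroDivisors_eq_zero_iff hmem).mp h0
    exact (map_eq_zero_iff _ (finSuccEquiv A 8).injective).mp this

lemma mem_idL_of_mul_detM_mem {x : D A} (h : x * detM A ∈ idI A) : x ∈ idL A := by
  rw [mem_idL_iff]
  apply Delta0_regular
  rw [← phi_detM, ← map_mul]
  exact phi_idI A h

lemma idI_le_idJ : idI A ≤ idJ A := by
  rw [idI, Ideal.span_le]
  intro x hx
  simp only [Set.mem_insert_iff, Set.mem_singleton_iff] at hx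
  rcases hx with rfl | rfl | rfl
  · exact Ideal.subset_span (by simp)
  · exact Ideal.subset_span (by simp)
  · exact Ideal.subset_span (by simp)

lemma idJ_decomp {x : D A} (hx : x ∈ idJ A) : ∃ ι ∈ idI A, ∃ t : D A, x = ι + t * detM A := by
  rw [idJ] at hx
  induction hx using Submodule.span_induction with
  | mem x hx =>
    simp only [Set.mem_insert_iff, Set.mem_singleton_iff] at hx
    rcases hx with rfl | rfl | rfl | rfl
    · exact ⟨_, Q1_mem A, 0, by simp⟩
    · exact ⟨_, Q2_mem A, 0, by simp⟩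
    · exact ⟨_, Q3_mem A, 0, by simp⟩
    · exact ⟨0, (idI A).zero_mem, 1, by simp⟩
  | zero => exact ⟨0, (idI A).zero_mem, 0, by simp⟩
  | add x y _ _ hx hy =>
    obtain ⟨ι, hι, t, rfl⟩ := hx
    obtain ⟨ι', hι', t', rfl⟩ := hy
    exact ⟨ι + ι', (idI A).add_mem hι hι', t + t', by ring⟩
  | smul a x _ hx =>
    obtain ⟨ι, hι, t, rfl⟩ := hx
    exact ⟨a * ι, (idI A).mul_mem_left _ hι, a * t, by rw [smul_eq_mul]; ring⟩

lemma detM_mem : detM A ∈ idJ A := Ideal.subset_span (by simp)

theorem colon_I_J : (idI A).colon (idJ A : Set (D A)) = idL A := by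
  ext r
  rw [Submodule.mem_colon]
  constructor
  · intro h
    have := h (detM A) (detM_mem A)
    rw [smul_eq_mul] at this
    exact mem_idL_of_mul_detM_mem A this
  · intro hr s hs
    rw [smul_eq_mul]
    have hs' : s ∈ idJ A := hs
    clear hs
    rw [idJ] at hs'
    induction hs' using Submodule.span_induction with
    | mem x hx =>
      simp only [Set.mem_insert_iff, Set.mem_singleton_iff] at hx
      rcases hx with rfl | rfl | rfl | rfl
      · exact (idI A).mul_mem_left _ (Q1_mem A)
      · exact (idI A).mul_mem_left _ (Q2_mem A)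
      · exact (idI A).mul_mem_left _ (Q3_mem A)
      · rw [mul_comm]; exact detM_mul_mem A hr
    | zero => simp
    | add x y _ _ hx hy => rw [mul_add]; exact (idI A).add_mem hx hy
    | smul a x _ hx =>
      rw [smul_eq_mul, mul_left_comm]
      exact (idI A).mul_mem_left _ hx

theorem I_eq_J_inf_L : idI A = idJ A ⊓ idL A := by
  apply le_antisymm
  · exact le_inf (idI_le_idJ A) (idI_le_idL A)
  · rintro x ⟨hxJ, hxL⟩
    have hxJ' : x ∈ idJ A := hxJ
    have hxL' : x ∈ idL A := hxL
    -- write x = ι + t * detM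
    obtain ⟨ι, hι, t, rfl⟩ := idJ_decomp A hxJ'
    have h1 : t * detM A ∈ idL A := by
      have := (idL A).sub_mem hxL' (idI_le_idL A hι)
      simpa using this
    have h2 : phi A t * Delta0 A = 0 := by
      rw [← phi_detM, ← map_mul]
      exact phi_idL A h1
    have h3 : t ∈ idL A := (mem_idL_iff A t).mpr (Delta0_regular A _ h2)
    have h4 : t * detM A ∈ idI A := by
      rw [mul_comm]; exact detM_mul_mem A h3
    exact (idI A).add_mem hι h4

end Groth.Agent.H64.Lie3
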