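import Groth.Agent.H31.Invertible
import Groth.Agent.H31.FlatSite
import Mathlib.Algebra.Category.ModuleCat.Sheaf.LocallyFree

/-!
# Tensor products of globally generated / presented / free modules on a ringed site (helper64)
-/

set_option autoImplicit false
universe u
open CategoryTheory CategoryTheory.Limits Opposite

namespace Groth.Agent.H64.TensPerm

open Groth.Agent.H31

variable {C : Type u} [SmallCategory C] {J : GrothendieckTopology C} (O : Sheaf J CommRingCat.{u})

/-- `F ⊗ G`. -/
noncomputable abbrev T (F G : ModSite.Mod O) : ModSite.Mod O := ((ModSite.tensorBi O).obj F).obj G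

/-- `p ⊗ q`. -/
noncomputable def tmap {F F' G G' : ModSite.Mod O} (p : F ⟶ F') (q : G ⟶ G') : T O F G ⟶ T O F' G' :=
  ((ModSite.tensorBi O).map p).app G ≫ ((ModSite.tensorBi O).obj F').map q

instance epi_tmap {F F' G G' : ModSite.Mod O} (p : F ⟶ F') (q : G ⟶ G') [Epi p] [Epi q] :
    Epi (tmap O p q) := by
  have h1 : Epi (((ModSite.tensorBi O).map p).app G) :=
    inferInstanceAs (Epi (((ModSite.tensorBi O).flip.obj G).map p))
  unfold tmap
  infer_instance

instance isIso_tmap {F F' G G' : ModSite.Mod O} (p : F ⟶ F') (q : G ⟶ G') [IsIso p] [IsIso q] :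
    IsIso (tmap O p q) := by
  unfold tmap
  infer_instance

/-- `O^{(A)} ⊗ O^{(B)} ≅ O^{(A × B)}`. -/
noncomputable def freeTensorIso (A B : Type u) :
    T O (SheafOfModules.free (R := ModSite.ringSh O) A) (SheafOfModules.free (R := ModSite.ringSh O) B) ≅
      SheafOfModules.free (R := ModSite.ringSh O) (A × B) :=
  (show T O (SheafOfModules.free (R := ModSite.ringSh O) A) (SheafOfModules.free B) ≅
      ((ModSite.tensorBi O).flip.obj (SheafOfModules.free B)).obj
        (∐ fun _ : A => SheafOfModules.unit (ModSite.ringSh O)) from Iso.refl _) ≪≫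
    PreservesCoproduct.iso ((ModSite.tensorBi O).flip.obj (SheafOfModules.free B))
      (fun _ : A => SheafOfModules.unit (ModSite.ringSh O)) ≪≫
    Sigma.mapIso (fun _ : A => (tensorUnitNatIso O).app (SheafOfModules.free B)) ≪≫
    (show (∐ fun _ : A => (SheafOfModules.free (R := ModSite.ringSh O) B)) ≅
      ∐ fun _ : A => ∐ fun _ : B => SheafOfModules.unit (ModSite.ringSh O) from Iso.refl _) ≪≫
    (@sigmaSigmaIso (ModSite.Mod O) _ A (fun _ : A => B)
      (fun (_ : A) (_ : B) => SheafOfModules.unit (ModSite.ringSh O))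
      (fun _ => inferInstanceAs (HasCoproduct fun _ : B => SheafOfModules.unit (ModSite.ringSh O)))
      inferInstance) ≪≫
    (show (∐ fun _ : (Σ _ : A, B) => SheafOfModules.unit (ModSite.ringSh O)) ≅
        ∐ fun _ : A × B => SheafOfModules.unit (ModSite.ringSh O) from
      Sigma.whiskerEquiv (f := fun _ : (Σ _ : A, B) => SheafOfModules.unit (ModSite.ringSh O))
        (g := fun _ : A × B => SheafOfModules.unit (ModSite.ringSh O))
        (Equiv.sigmaEquivProd A B) (fun _ => Iso.refl _)) ≪≫
    (show (∐ fun _ : A × B => SheafOfModules.unit (ModSite.ringSh O)) ≅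
      SheafOfModules.free (R := ModSite.ringSh O) (A × B) from Iso.refl _)

/-- Generating sections of a tensor product. -/
noncomputable def genTensor {F G : ModSite.Mod O} (σ : SheafOfModules.GeneratingSections F)
    (τ : SheafOfModules.GeneratingSections G) : SheafOfModules.GeneratingSections (T O F G) where
  I := σ.I × τ.I
  s := SheafOfModules.freeHomEquiv _ ((freeTensorIso O σ.I τ.I).inv ≫ tmap O σ.π τ.π)
  epi := by
    rw [Equiv.symm_apply_apply]
    infer_instance

theorem genTensor_π {F G : ModSite.Mod O} (σ : SheafOfModules.GeneratingSections F)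
    (τ : SheafOfModules.GeneratingSections G) :
    (genTensor O σ τ).π = (freeTensorIso O σ.I τ.I).inv ≫ tmap O σ.π τ.π :=
  Equiv.symm_apply_apply _ _

instance genTensor_isFiniteType {F G : ModSite.Mod O} (σ : SheafOfModules.GeneratingSections F)
    (τ : SheafOfModules.GeneratingSections G) [σ.IsFiniteType] [τ.IsFiniteType] :
    (genTensor O σ τ).IsFiniteType where
  finite := inferInstanceAs (Finite (σ.I × τ.I))

instance genTensor_isIso_π {F G : ModSite.Mod O} (σ : SheafOfModules.GeneratingSections F)
    (τ : SheafOfModules.GeneratingSections G) [IsIso σ.π] [IsIso τ.π] :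
    IsIso (genTensor O σ τ).π := by
  rw [genTensor_π]
  have h1 : IsIso (tmap O σ.π τ.π) := isIso_tmap O σ.π τ.π
  have h2 : IsIso (freeTensorIso O σ.I τ.I).inv := inferInstance
  exact IsIso.comp_isIso

/-- A cokernel cofork with epi `π` is colimit as soon as the factorizations exist. -/
noncomputable def isColimitOfEpiOfExists {A : Type*} [Category A] [HasZeroMorphisms A] {X Y Z : A}
    (f : X ⟶ Y) (π : Y ⟶ Z) [Epi π] (w : f ≫ π = 0)
    (h : ∀ {Z' : A} (g : Y ⟶ Z'), f ≫ g = 0 → ∃ ψ : Z ⟶ Z', π ≫ ψ = g) :
    IsColimit (CokernelCofork.ofπ π w) :=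
  CokernelCofork.IsColimit.ofπ π w (fun g eq => (h g eq).choose) (fun g eq => (h g eq).choose_spec)
    (fun g eq m hm => by rw [← cancel_epi π, hm, (h g eq).choose_spec])

/-- Right exactness of the tensor product in both variables. -/
theorem exists_desc_tmap {A1 A0 A B1 B0 B Z : ModSite.Mod O} (a : A1 ⟶ A0) (p : A0 ⟶ A)
    (wa : a ≫ p = 0) (ha : IsColimit (CokernelCofork.ofπ p wa))
    (b : B1 ⟶ B0) (q : B0 ⟶ B) (wb : b ≫ q = 0) (hb : IsColimit (CokernelCofork.ofπ q wb))
    (φ : T O A0 B0 ⟶ Z) (h1 : ((ModSite.tensorBi O).map a).app B0 ≫ φ = 0)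
    (h2 : ((ModSite.tensorBi O).obj A0).map b ≫ φ = 0) :
    ∃ ψ : T O A B ⟶ Z, tmap O p q ≫ ψ = φ := by
  have hp : Epi p := epi_of_isColimit_cofork ha
  let L := (ModSite.tensorBi O).flip.obj B0
  have hL := (CokernelCofork.ofπ p wa).mapIsColimit ha L
  have h1' : L.map a ≫ φ = 0 := h1
  let φ' : T O A B0 ⟶ Z := hL.desc (CokernelCofork.ofπ φ h1')
  have hφ' : ((ModSite.tensorBi O).map p).app B0 ≫ φ' = φ :=
    hL.fac (CokernelCofork.ofπ φ h1') WalkingParallelPair.one
  have h3 : ((ModSite.tensorBi O).obj A).map b ≫ φ' = 0 := by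
    have : Epi (((ModSite.tensorBi O).map p).app B1) :=
      inferInstanceAs (Epi (((ModSite.tensorBi O).flip.obj B1).map p))
    rw [← cancel_epi (((ModSite.tensorBi O).map p).app B1), comp_zero, ← Category.assoc,
      ← NatTrans.naturality, Category.assoc, hφ', h2]
  let L' := (ModSite.tensorBi O).obj A
  have hL' := (CokernelCofork.ofπ q wb).mapIsColimit hb L'
  let φ'' : T O A B ⟶ Z := hL'.desc (CokernelCofork.ofπ φ' h3)
  have hφ'' : ((ModSite.tensorBi O).obj A).map q ≫ φ'' = φ' :=
    hL'.fac (CokernelCofork.ofπ φ' h3) WalkingParallelPair.one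
  exact ⟨φ'', by rw [tmap, Category.assoc, hφ'', hφ']⟩

/-- The relations map `O^{(R)} ⟶ O^{(I)}` of a presentation. -/
noncomputable def relMap {F : ModSite.Mod O} (P : SheafOfModules.Presentation F) :
    SheafOfModules.free (R := ModSite.ringSh O) P.relations.I ⟶
      SheafOfModules.free (R := ModSite.ringSh O) P.generators.I :=
  (SheafOfModules.freeHomEquiv _).symm P.relations.s ≫ kernel.ι _

theorem relMap_π {F : ModSite.Mod O} (P : SheafOfModules.Presentation F) :
    relMap O P ≫ P.generators.π = 0 := by
  simp [relMap]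

/-- `relMap` exhibits `F` as a cokernel. -/
noncomputable def relMapIsColimit {F : ModSite.Mod O} (P : SheafOfModules.Presentation F) :
    IsColimit (CokernelCofork.ofπ P.generators.π (relMap_π O P)) :=
  P.isColimit

section

variable {F G : ModSite.Mod O} (P : SheafOfModules.Presentation F)
  (Q : SheafOfModules.Presentation G)

/-- First family of relations of the tensor product. -/
noncomputable def relA :
    SheafOfModules.free (R := ModSite.ringSh O) (P.relations.I × Q.generators.I) ⟶
      SheafOfModules.free (R := ModSite.ringSh O) (P.generators.I × Q.generators.I) :=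
  (freeTensorIso O _ _).inv ≫
    ((ModSite.tensorBi O).map (relMap O P)).app (SheafOfModules.free Q.generators.I) ≫
    (freeTensorIso O _ _).hom

/-- Second family of relations of the tensor product. -/
noncomputable def relB :
    SheafOfModules.free (R := ModSite.ringSh O) (P.generators.I × Q.relations.I) ⟶
      SheafOfModules.free (R := ModSite.ringSh O) (P.generators.I × Q.generators.I) :=
  (freeTensorIso O _ _).inv ≫
    ((ModSite.tensorBi O).obj (SheafOfModules.free P.generators.I)).map (relMap O Q) ≫
    (freeTensorIso O _ _).hom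

/-- The generators map of the tensor product. -/
noncomputable def genMap :
    SheafOfModules.free (R := ModSite.ringSh O) (P.generators.I × Q.generators.I) ⟶ T O F G :=
  (freeTensorIso O _ _).inv ≫ tmap O P.generators.π Q.generators.π

instance : Epi (genMap O P Q) := by
  unfold genMap
  infer_instance

theorem relA_genMap : relA O P Q ≫ genMap O P Q = 0 := by
  have h : ((ModSite.tensorBi O).map (relMap O P)).app (SheafOfModules.free Q.generators.I) ≫
      ((ModSite.tensorBi O).map P.generators.π).app (SheafOfModules.free Q.generators.I) = 0 := by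
    rw [← NatTrans.comp_app, ← Functor.map_comp, relMap_π]
    exact ((ModSite.tensorBi O).flip.obj (SheafOfModules.free Q.generators.I)).map_zero _ _
  simp only [relA, genMap, tmap, Category.assoc, Iso.hom_inv_id_assoc]
  rw [reassoc_of% h]
  simp

theorem relB_genMap : relB O P Q ≫ genMap O P Q = 0 := by
  have h : ((ModSite.tensorBi O).obj (SheafOfModules.free P.generators.I)).map (relMap O Q) ≫
      ((ModSite.tensorBi O).map P.generators.π).app (SheafOfModules.free Q.generators.I) ≫
      ((ModSite.tensorBi O).obj F).map Q.generators.π = 0 := by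
    rw [← Category.assoc, NatTrans.naturality, Category.assoc, ← Functor.map_comp, relMap_π,
      Functor.map_zero, comp_zero]
  simp only [relB, genMap, tmap, Category.assoc, Iso.hom_inv_id_assoc]
  rw [h]
  simp

/-- All relations. -/
noncomputable def relAll :
    SheafOfModules.free (R := ModSite.ringSh O)
      ((P.relations.I × Q.generators.I) ⊕ (P.generators.I × Q.relations.I)) ⟶
      SheafOfModules.free (R := ModSite.ringSh O) (P.generators.I × Q.generators.I) :=
  (SheafOfModules.freeSumIso _ _).inv ≫ coprod.desc (relA O P Q) (relB O P Q)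

theorem relAll_genMap : relAll O P Q ≫ genMap O P Q = 0 := by
  unfold relAll
  rw [Category.assoc]
  have : coprod.desc (relA O P Q) (relB O P Q) ≫ genMap O P Q = 0 := by
    apply coprod.hom_ext
    · rw [coprod.inl_desc_assoc, relA_genMap, comp_zero]
    · rw [coprod.inr_desc_assoc, relB_genMap, comp_zero]
  rw [this, comp_zero]

theorem exists_desc_genMap {Z : ModSite.Mod O}
    (φ : SheafOfModules.free (R := ModSite.ringSh O) (P.generators.I × Q.generators.I) ⟶ Z)
    (h : relAll O P Q ≫ φ = 0) : ∃ ψ : T O F G ⟶ Z, genMap O P Q ≫ ψ = φ := by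
  have h0 : coprod.desc (relA O P Q) (relB O P Q) ≫ φ = 0 := by
    have := congrArg (fun x => (SheafOfModules.freeSumIso _ _).hom ≫ x) h
    simpa only [relAll, Category.assoc, Iso.hom_inv_id_assoc, comp_zero] using this
  have hA : relA O P Q ≫ φ = 0 := by
    rw [← coprod.inl_desc (relA O P Q) (relB O P Q), Category.assoc, h0, comp_zero]
  have hB : relB O P Q ≫ φ = 0 := by
    rw [← coprod.inr_desc (relA O P Q) (relB O P Q), Category.assoc, h0, comp_zero]
  obtain ⟨ψ, hψ⟩ := exists_desc_tmap O (relMap O P) P.generators.π (relMap_π O P)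
    (relMapIsColimit O P) (relMap O Q) Q.generators.π (relMap_π O Q) (relMapIsColimit O Q)
    ((freeTensorIso O _ _).hom ≫ φ)
    (by
      have := congrArg (fun x => (freeTensorIso O _ _).hom ≫ x) hA
      simpa [relA] using this)
    (by
      have := congrArg (fun x => (freeTensorIso O _ _).hom ≫ x) hB
      simpa [relB] using this)
  exact ⟨ψ, by rw [genMap, Category.assoc, hψ, Iso.inv_hom_id_assoc]⟩

/-- The presentation of a tensor product. -/
noncomputable def presTensor : SheafOfModules.Presentation (T O F G) :=
  SheafOfModules.presentationOfIsCokernelFree (relAll O P Q) (genMap O P Q) (relAll_genMap O P Q)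
    (isColimitOfEpiOfExists _ _ _ (fun g hg => exists_desc_genMap O P Q g hg))

instance presTensor_isFinite [P.IsFinite] [Q.IsFinite] : (presTensor O P Q).IsFinite where
  isFiniteType_generators :=
    ⟨inferInstanceAs (Finite (P.generators.I × Q.generators.I))⟩
  isFiniteType_relations :=
    ⟨inferInstanceAs (Finite
      ((P.relations.I × Q.generators.I) ⊕ (P.generators.I × Q.relations.I)))⟩

end

end Groth.Agent.H64.TensPerm
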