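import Groth.Agent.H64.ModSiteFT
import Groth.Agent.H64.TensPermGlobal

/-!
# Finite presentation on ringed spaces: cokernels and kernels (helper64)
-/

set_option autoImplicit false
universe u
open CategoryTheory CategoryTheory.Limits Opposite TopologicalSpace

namespace Groth.Agent.H64.ModSiteFP

open Groth.Agent.H64.TensPerm Groth.Agent.H64.ModSiteFT

variable {X : TopCat.{u}} (O : Sheaf (Opens.grothendieckTopology X) CommRingCat.{u})

/-- Modules on the slice over `W0`. -/
abbrev SMod (W0 : Opens X) : Type (u + 1) := SheafOfModules.{u} ((ModSite.ringSh O).over W0)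

/-- Maps from the unit into a restricted slice module are sections. -/
noncomputable def evS {W0 : Opens X} (M' : SMod O W0) {W : Opens X} (f : W ⟶ W0) :
    (SheafOfModules.unit ((ModSite.ringSh O).over W) ⟶ (rho (ModSite.ringSh O) f).obj M') ≃+
      M'.val.obj (op (Over.mk f)) :=
  Groth.Agent.H31.ExtZero.unitHomAddEquiv ((rho (ModSite.ringSh O) f).obj M')
    (Over.mkIdTerminal (X := W))

theorem evS_comp {W0 : Opens X} {M' N' : SMod O W0} (θ : M' ⟶ N') {W : Opens X} (f : W ⟶ W0)
    (v : SheafOfModules.unit ((ModSite.ringSh O).over W) ⟶ (rho (ModSite.ringSh O) f).obj M') :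
    evS O N' f (v ≫ (rho (ModSite.ringSh O) f).map θ) =
      θ.val.app (op (Over.mk f)) (evS O M' f v) := rfl

theorem evS_rho {W0 : Opens X} (M' : SMod O W0) {W : Opens X} (f : W ⟶ W0)
    (u : SheafOfModules.unit ((ModSite.ringSh O).over W0) ⟶ M') :
    evS O M' f ((rho (ModSite.ringSh O) f).map u) =
      M'.val.map (Over.homMk f : Over.mk f ⟶ Over.mk (𝟙 W0)).op
        (u.val.app (op (Over.mk (𝟙 W0)))
          (1 : ((ModSite.ringSh O).over W0).obj.obj (op (Over.mk (𝟙 W0))))) := by
  let g : (op (Over.mk (𝟙 W0)) : (Over W0)ᵒᵖ) ⟶ op (Over.mk f) :=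
    (Over.homMk f : Over.mk f ⟶ Over.mk (𝟙 W0)).op
  have h1 := PresheafOfModules.naturality_apply u.val g
    (1 : ((ModSite.ringSh O).over W0).obj.obj (op (Over.mk (𝟙 W0))))
  have h2 : (SheafOfModules.unit ((ModSite.ringSh O).over W0)).val.map g
      (1 : ((ModSite.ringSh O).over W0).obj.obj (op (Over.mk (𝟙 W0)))) =
      (1 : ((ModSite.ringSh O).over W0).obj.obj (op (Over.mk f))) :=
    PresheafOfModules.unit_map_one _ _
  exact (h1.symm.trans (congrArg (u.val.app (op (Over.mk f))) h2)).symm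

theorem finset_inf_mem {C : Type*} [Category C] (J : GrothendieckTopology C) {U : C} {K : Type*}
    (s : Finset K) (S : K → Sieve U) (h : ∀ k, S k ∈ J U) : s.inf S ∈ J U := by
  classical
  induction s using Finset.induction_on with
  | empty => simpa using J.top_mem U
  | insert a s ha ih =>
    rw [Finset.inf_insert]
    exact J.intersection_covering (h a) ih

/-- Finite families of maps from the unit lift locally along epimorphisms of slice modules. -/
theorem exists_lift_family' {W0 : Opens X} {G' F' : SMod O W0} (θ : G' ⟶ F') [Epi θ]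
    {K : Type u} [Finite K]
    (u : K → (SheafOfModules.unit ((ModSite.ringSh O).over W0) ⟶ F')) (x : X) (hx : x ∈ W0) :
    ∃ (W : Opens X) (f : W ⟶ W0), x ∈ W ∧ ∀ k,
      ∃ v : SheafOfModules.unit ((ModSite.ringSh O).over W) ⟶ (rho (ModSite.ringSh O) f).obj G',
        v ≫ (rho (ModSite.ringSh O) f).map θ = (rho (ModSite.ringSh O) f).map (u k) := by
  classical
  have := Fintype.ofFinite K
  have := Groth.Agent.H45.toSheaf_preservesFiniteColimits ((ModSite.ringSh O).over W0)
  have h1 : Epi ((SheafOfModules.toSheaf ((ModSite.ringSh O).over W0)).map θ) := inferInstance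
  have h2 : Sheaf.IsLocallySurjective
      ((SheafOfModules.toSheaf ((ModSite.ringSh O).over W0)).map θ) :=
    (Sheaf.isLocallySurjective_iff_epi' _ _).2 h1
  let s : K → F'.val.obj (op (Over.mk (𝟙 W0))) := fun k =>
    (u k).val.app (op (Over.mk (𝟙 W0)))
      (1 : ((ModSite.ringSh O).over W0).obj.obj (op (Over.mk (𝟙 W0))))
  let S : K → Sieve (Over.mk (𝟙 W0)) := fun k =>
    Presheaf.imageSieve ((SheafOfModules.toSheaf ((ModSite.ringSh O).over W0)).map θ).hom (s k)
  have hS : ∀ k, S k ∈ ((Opens.grothendieckTopology X).over W0) (Over.mk (𝟙 W0)) := fun k =>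
    Presheaf.imageSieve_mem ((Opens.grothendieckTopology X).over W0)
      ((SheafOfModules.toSheaf ((ModSite.ringSh O).over W0)).map θ).hom
      (U := op (Over.mk (𝟙 W0))) (s k)
  have hinf := finset_inf_mem ((Opens.grothendieckTopology X).over W0) Finset.univ S hS
  rw [GrothendieckTopology.mem_over_iff] at hinf
  obtain ⟨V, f, hf, hxV⟩ := hinf x hx
  rw [Sieve.overEquiv_iff] at hf
  refine ⟨V, f, hxV, fun k => ?_⟩
  have hk : S k (Over.homMk f : Over.mk (f ≫ (Over.mk (𝟙 W0)).hom) ⟶ Over.mk (𝟙 W0)) :=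
    (Finset.inf_le (Finset.mem_univ k) : Finset.univ.inf S ≤ S k) _ hf
  obtain ⟨t, ht⟩ := hk
  refine ⟨(evS O G' f).symm t, ?_⟩
  apply (evS O F' f).injective
  refine (evS_comp O θ f _).trans ?_
  refine Eq.trans ?_ (evS_rho O F' f (u k)).symm
  rw [AddEquiv.apply_symm_apply]
  exact ht

/-- In an abelian category: if `π'` is a cokernel of `r'` and `ψ` is a cokernel of `b ≫ π'`,
then `π' ≫ ψ` is a cokernel of `[r', b]`. -/
noncomputable def isColimit_coker_coprod {𝒜 : Type*} [Category 𝒜] [Abelian 𝒜]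
    {A1 A0 B F' Q : 𝒜} (r' : A1 ⟶ A0) (π' : A0 ⟶ F') (w1 : r' ≫ π' = 0)
    (h1 : IsColimit (CokernelCofork.ofπ π' w1)) (b : B ⟶ A0) (ψ : F' ⟶ Q)
    (w2 : (b ≫ π') ≫ ψ = 0) (h2 : IsColimit (CokernelCofork.ofπ ψ w2))
    (w : coprod.desc r' b ≫ π' ≫ ψ = 0) :
    IsColimit (CokernelCofork.ofπ (π' ≫ ψ) w) := by
  have e1 : Epi π' := epi_of_isColimit_cofork h1
  have e2 : Epi ψ := epi_of_isColimit_cofork h2
  refine isColimitOfEpiOfExists _ _ w (fun {Z'} χ hχ => ?_)
  have hr : r' ≫ χ = 0 := by
    rw [← coprod.inl_desc r' b, Category.assoc, hχ, comp_zero]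
  have hb : b ≫ χ = 0 := by
    rw [← coprod.inr_desc r' b, Category.assoc, hχ, comp_zero]
  let χ' : F' ⟶ Z' := h1.desc (CokernelCofork.ofπ χ hr)
  have hχ' : π' ≫ χ' = χ := h1.fac (CokernelCofork.ofπ χ hr) WalkingParallelPair.one
  have hb' : (b ≫ π') ≫ χ' = 0 := by rw [Category.assoc, hχ', hb]
  let χ'' : Q ⟶ Z' := h2.desc (CokernelCofork.ofπ χ' hb')
  have hχ'' : ψ ≫ χ'' = χ' := h2.fac (CokernelCofork.ofπ χ' hb') WalkingParallelPair.one
  exact ⟨χ'', by rw [Category.assoc, hχ'', hχ']⟩

section General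

variable {C : Type u} [SmallCategory C] {J : GrothendieckTopology C} {R : Sheaf J RingCat.{u}}

/-- The relations map of a presentation. -/
noncomputable def relMap' {F : SheafOfModules.{u} R} (P : F.Presentation) :
    SheafOfModules.free (R := R) P.relations.I ⟶ SheafOfModules.free (R := R) P.generators.I :=
  (SheafOfModules.freeHomEquiv _).symm P.relations.s ≫ kernel.ι _

theorem relMap'_π {F : SheafOfModules.{u} R} (P : F.Presentation) :
    relMap' P ≫ P.generators.π = 0 := by
  simp [relMap']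

noncomputable def relMap'IsColimit {F : SheafOfModules.{u} R} (P : F.Presentation) :
    IsColimit (CokernelCofork.ofπ P.generators.π (relMap'_π P)) :=
  P.isColimit

/-- A finite presentation from a cokernel description. -/
theorem exists_pres_of_isColimit {M : SheafOfModules.{u} R} {I1 I2 I0 : Type u} [Finite I1]
    [Finite I2] [Finite I0]
    (f : SheafOfModules.free (R := R) I1 ⨿ SheafOfModules.free I2 ⟶ SheafOfModules.free I0)
    (g : SheafOfModules.free I0 ⟶ M) (w : f ≫ g = 0)
    (h : IsColimit (CokernelCofork.ofπ g w)) : ∃ P : M.Presentation, P.IsFinite := by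
  have w' : ((SheafOfModules.freeSumIso I1 I2).inv ≫ f) ≫ g = 0 := by
    rw [Category.assoc, w, comp_zero]
  refine ⟨SheafOfModules.presentationOfIsCokernelFree
    ((SheafOfModules.freeSumIso I1 I2).inv ≫ f) g w'
    (isCokernelEpiComp h (SheafOfModules.freeSumIso I1 I2).inv rfl), ?_⟩
  exact ⟨⟨(inferInstance : Finite I0)⟩, ⟨(inferInstance : Finite (I1 ⊕ I2))⟩⟩

end General

section General2

variable {C : Type u} [SmallCategory C] {J : GrothendieckTopology C} {R : Sheaf J RingCat.{u}}
  {C' : Type u} [SmallCategory C'] {J' : GrothendieckTopology C'} {R' : Sheaf J' RingCat.{u}}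

theorem lift_comp_eq (ρ : SheafOfModules.{u} R ⥤ SheafOfModules.{u} R')
    [PreservesColimitsOfSize.{u, u} ρ]
    (η : SheafOfModules.unit R' ≅ ρ.obj (SheafOfModules.unit R)) {M N : SheafOfModules.{u} R}
    (σ : M.GeneratingSections) (τ : N.GeneratingSections) (φ : M ⟶ N)
    (v : σ.I → (SheafOfModules.unit R' ⟶ ρ.obj (SheafOfModules.free τ.I)))
    (hv : ∀ k, v k ≫ ρ.map τ.π = η.hom ≫ ρ.map (SheafOfModules.ιFree k ≫ σ.π ≫ φ)) :
    Cofan.IsColimit.desc (SheafOfModules.isColimitFreeCofan σ.I)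
        (fun k => v k ≫ (SheafOfModules.mapFreeIso ρ τ.I η).inv) ≫ (τ.map ρ η).π =
      (σ.map ρ η).π ≫ ρ.map φ := by
  apply desc_comp_eq
  intro k
  have e1 : (v k ≫ (SheafOfModules.mapFreeIso ρ τ.I η).inv) ≫ (τ.map ρ η).π =
      v k ≫ ρ.map τ.π := by
    rw [SheafOfModules.GeneratingSections.map_π_eq, Category.assoc, Iso.inv_hom_id_assoc]
  have e2 := ιFree_map_π σ ρ η k
  have e3 : SheafOfModules.ιFree k ≫ (σ.map ρ η).π ≫ ρ.map φ =
      (η.hom ≫ ρ.map (SheafOfModules.ιFree k ≫ σ.π)) ≫ ρ.map φ :=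
    (Category.assoc _ _ _).symm.trans (congrArg (fun z => z ≫ ρ.map φ) e2)
  refine e1.trans ((hv k).trans (Eq.trans ?_ e3.symm))
  rw [Category.assoc, ← ρ.map_comp, Category.assoc]

end General2

/-- The image of a cokernel under an exact functor, precomposed with an epi. -/
noncomputable def isColimit_map_cokernel {𝒜 ℬ : Type*} [Category 𝒜] [Category ℬ] [Abelian 𝒜]
    [Abelian ℬ] (T : 𝒜 ⥤ ℬ) [T.Additive] [PreservesFiniteColimits T] {M N : 𝒜} (φ : M ⟶ N)
    {A : ℬ} (a : A ⟶ T.obj M) [Epi a] (c : A ⟶ T.obj N) (hc : c = a ≫ T.map φ)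
    (w : c ≫ T.map (cokernel.π φ) = 0) :
    IsColimit (CokernelCofork.ofπ (T.map (cokernel.π φ)) w) :=
  isCokernelEpiComp ((CokernelCofork.ofπ (cokernel.π φ) (cokernel.condition φ)).mapIsColimit
    (cokernelIsCokernel φ) T) a hc

theorem map_cokernel_w {𝒜 ℬ : Type*} [Category 𝒜] [Category ℬ] [Abelian 𝒜]
    [Abelian ℬ] (T : 𝒜 ⥤ ℬ) [T.Additive] {M N : 𝒜} (φ : M ⟶ N)
    {A : ℬ} (a : A ⟶ T.obj M) (c : A ⟶ T.obj N) (hc : c = a ≫ T.map φ) :
    c ≫ T.map (cokernel.π φ) = 0 := by
  rw [hc, Category.assoc, ← T.map_comp, cokernel.condition, T.map_zero, comp_zero]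

/-- Local finite presentation of a cokernel. -/
theorem exists_pres_coker {G F : ModSite.Mod O} (φ : G ⟶ F) (W0 : Opens X)
    (σ : (SheafOfModules.over (R := ModSite.ringSh O) G W0).GeneratingSections)
    [hσ : σ.IsFiniteType]
    (P : (SheafOfModules.over (R := ModSite.ringSh O) F W0).Presentation) [hP : P.IsFinite]
    (x : X) (hx : x ∈ W0) :
    ∃ W : Opens X, x ∈ W ∧
      ∃ P' : (SheafOfModules.over (R := ModSite.ringSh O) (cokernel φ) W).Presentation,
        P'.IsFinite := by
  have := hσ.finite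
  have := hP.isFiniteType_generators.finite
  have := hP.isFiniteType_relations.finite
  let u : σ.I → (SheafOfModules.unit ((ModSite.ringSh O).over W0) ⟶
      SheafOfModules.over (R := ModSite.ringSh O) F W0) :=
    fun k => SheafOfModules.ιFree k ≫ σ.π ≫ (ModSite.restr O W0).map φ
  obtain ⟨W, f, hxW, hv⟩ := exists_lift_family' O P.generators.π u x hx
  choose v hv using hv
  refine ⟨W, hxW, ?_⟩
  let ρ := rho (ModSite.ringSh O) f
  let η := rhoUnit (ModSite.ringSh O) f
  let P1 := presRestr (ModSite.ringSh O) f P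
  let σ1 := genRestr (ModSite.ringSh O) f σ
  have hσ1 : Epi σ1.π := σ1.epi
  let b : SheafOfModules.free (R := (ModSite.ringSh O).over W) σ.I ⟶
      SheafOfModules.free (R := (ModSite.ringSh O).over W) P.generators.I :=
    Cofan.IsColimit.desc (SheafOfModules.isColimitFreeCofan σ.I)
      (fun k => v k ≫ (SheafOfModules.mapFreeIso ρ P.generators.I η).inv)
  have hb : b ≫ P1.generators.π = σ1.π ≫ (ModSite.restr O W).map φ :=
    lift_comp_eq ρ η σ P.generators ((ModSite.restr O W0).map φ) v
      (fun k => (hv k).trans (Category.id_comp _).symm)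
  have hw2 : (b ≫ P1.generators.π) ≫ (ModSite.restr O W).map (cokernel.π φ) = 0 :=
    map_cokernel_w (ModSite.restr O W) φ σ1.π (b ≫ P1.generators.π) hb
  have hψ := @isColimit_map_cokernel _ _ _ _ _ _ (ModSite.restr O W) _ _ _ _ φ _ σ1.π hσ1
    (b ≫ P1.generators.π) hb hw2
  have hcol := isColimit_coker_coprod (relMap' P1) P1.generators.π (relMap'_π P1)
    (relMap'IsColimit P1) b ((ModSite.restr O W).map (cokernel.π φ)) hw2 hψ (by
      apply coprod.hom_ext
      · rw [coprod.inl_desc_assoc, ← Category.assoc, relMap'_π, zero_comp, comp_zero]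
      · rw [coprod.inr_desc_assoc, comp_zero, ← Category.assoc]
        exact hw2)
  exact exists_pres_of_isColimit _ _ _ hcol

/-- Finite presentation is a local property. -/
theorem isFinitePresentation_of_local (M : ModSite.Mod O)
    (h : ∀ x : X, ∃ W : Opens X, x ∈ W ∧
      ∃ P : (SheafOfModules.over (R := ModSite.ringSh O) M W).Presentation, P.IsFinite) :
    SheafOfModules.IsFinitePresentation (R := ModSite.ringSh O) M := by
  choose W hxW P hP using h
  let q : SheafOfModules.QuasicoherentData.{u} (R := ModSite.ringSh O) M :=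
    { I := (X : Type u), X := W, presentation := P
      coversTop := by
        intro W0 y hy
        exact ⟨W0 ⊓ W y, homOfLE inf_le_left, ⟨y, ⟨homOfLE inf_le_right⟩⟩, ⟨hy, hxW y⟩⟩ }
  have hq : q.IsFinitePresentation := { isFinite_presentation := fun i => hP i }
  exact { exists_quasicoherentData := ⟨q, hq⟩ }

/-- A finitely presented module is finitely presented near every point. -/
theorem exists_local_of_isFinitePresentation (M : ModSite.Mod O)
    [h : SheafOfModules.IsFinitePresentation (R := ModSite.ringSh O) M] (x : X) :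
    ∃ W : Opens X, x ∈ W ∧
      ∃ P : (SheafOfModules.over (R := ModSite.ringSh O) M W).Presentation, P.IsFinite := by
  obtain ⟨q, hq⟩ := SheafOfModules.IsFinitePresentation.exists_quasicoherentData M
  obtain ⟨V, f, ⟨i, ⟨g⟩⟩, hxV⟩ := q.coversTop ⊤ x trivial
  have := hq.isFinite_presentation i
  exact ⟨V, hxV, presRestr (ModSite.ringSh O) g (q.presentation i),
    presRestr_isFinite _ g (q.presentation i)⟩

/-- On a ringed space, the cokernel of a map from a finite type module to a finitely presented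
module is finitely presented. -/
theorem isFinitePresentation_cokernel {G F : ModSite.Mod O} (φ : G ⟶ F)
    [SheafOfModules.IsFiniteType (R := ModSite.ringSh O) G]
    [SheafOfModules.IsFinitePresentation (R := ModSite.ringSh O) F] :
    SheafOfModules.IsFinitePresentation (R := ModSite.ringSh O) (cokernel φ) := by
  apply isFinitePresentation_of_local
  intro x
  obtain ⟨W1, hx1, σ, hσ⟩ := exists_local_of_isFiniteType O G x
  obtain ⟨W3, hx3, P, hP⟩ := exists_local_of_isFinitePresentation O F x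
  have h1 := genRestr_isFiniteType (ModSite.ringSh O) (homOfLE (inf_le_left : W1 ⊓ W3 ≤ W1)) σ
  have h3 := presRestr_isFinite (ModSite.ringSh O) (homOfLE (inf_le_right : W1 ⊓ W3 ≤ W3)) P
  exact exists_pres_coker O φ (W1 ⊓ W3)
    (genRestr (ModSite.ringSh O) (homOfLE inf_le_left) σ)
    (presRestr (ModSite.ringSh O) (homOfLE inf_le_right) P) x ⟨hx1, hx3⟩

end Groth.Agent.H64.ModSiteFP
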