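import Mathlib
import Groth.Prelude
import Groth.Agent.S0342
import Groth.Agent.S0343
import Groth.Agent.H60.GorTransfer
import Groth.Agent.H61.ObsDimMain
import Groth.Agent.Lead.CompleteNoetherian

/-!
# helper14's S1589 squad, piece (P2): an ordinary double point is Gorenstein
-/

set_option autoImplicit false
universe u
open CategoryTheory CategoryTheory.Limits AlgebraicGeometry TensorProduct

namespace Groth.Agent.H64.NG_P2

open IsLocalRing

/-- `K[[u,v]]/(uv)` is a Gorenstein local ring -/
theorem gor_node (K : Type u) [Field K] :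
    LocCoh.IsGorensteinLocalRing (MvPowerSeries (Fin 2) K ⧸
      Ideal.span {(MvPowerSeries.X 0 * MvPowerSeries.X 1 : MvPowerSeries (Fin 2) K)}) := by
  haveI hreg : IsRegularLocalRing (MvPowerSeries (Fin 2) K) :=
    Groth.Agent.H61.Obs.ps_isRegularLocalRing (k := K) 2
  have hG : LocCoh.IsGorensteinLocalRing (MvPowerSeries (Fin 2) K) := Groth.Agent.S0342.result _
  have hX : ∀ i : Fin 2, (MvPowerSeries.X i : MvPowerSeries (Fin 2) K) ∈
      maximalIdeal (MvPowerSeries (Fin 2) K) := by
    intro i
    rw [IsLocalRing.mem_maximalIdeal, mem_nonunits_iff, MvPowerSeries.isUnit_iff_constantCoeff]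
    simp
  have hf : (MvPowerSeries.X 0 * MvPowerSeries.X 1 : MvPowerSeries (Fin 2) K) ∈
      maximalIdeal (MvPowerSeries (Fin 2) K) := Ideal.mul_mem_right _ _ (hX 0)
  have hnz : (MvPowerSeries.X 0 * MvPowerSeries.X 1 : MvPowerSeries (Fin 2) K) ∈
      nonZeroDivisors (MvPowerSeries (Fin 2) K) :=
    mul_mem MvPowerSeries.X_mem_nonzeroDivisors MvPowerSeries.X_mem_nonzeroDivisors
  have hsr : IsSMulRegular (MvPowerSeries (Fin 2) K)
      (MvPowerSeries.X 0 * MvPowerSeries.X 1 : MvPowerSeries (Fin 2) K) := by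
    intro a b hab
    have h0 : (MvPowerSeries.X 0 * MvPowerSeries.X 1 : MvPowerSeries (Fin 2) K) * (a - b) = 0 := by
      rw [mul_sub, sub_eq_zero]
      exact hab
    have := (mem_nonZeroDivisors_iff.mp hnz).1 (a - b) h0
    exact sub_eq_zero.mp this
  exact (Groth.Agent.S0343.result (MvPowerSeries (Fin 2) K) _ hf hsr).1 hG

/-- (P2) -/
theorem gorenstein_of_isOrdDoublePt (K : Type u) [Field K] (A : Type u) [CommRing A] [Algebra K A]
    [IsLocalRing A] [IsNoetherianRing A] (h : Curv2.IsOrdDoublePt K A) :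
    LocCoh.IsGorensteinLocalRing A := by
  obtain ⟨e, -⟩ := h
  have hfg : (maximalIdeal A).FG := (maximalIdeal A).fg_of_isNoetherianRing
  haveI : IsNoetherianRing (AdicCompletion (maximalIdeal A) A) :=
    Groth.Agent.Lead.isNoetherianRing_adicCompletion (maximalIdeal A) hfg
  have hhat : LocCoh.IsGorensteinLocalRing (AdicCompletion (maximalIdeal A) A) :=
    Groth.Agent.H60.GorTransfer.gor_of_ringEquiv e.symm (gor_node K)
  have hq : Function.Surjective
      ((AdicCompletion.evalOneₐ (maximalIdeal A)).toRingHom :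
        AdicCompletion (maximalIdeal A) A →+* ResidueField A) :=
    AdicCompletion.evalOneₐ_surjective (maximalIdeal A)
  have hker : RingHom.ker ((AdicCompletion.evalOneₐ (maximalIdeal A)).toRingHom :
        AdicCompletion (maximalIdeal A) A →+* ResidueField A) =
      (maximalIdeal A).map (algebraMap A (AdicCompletion (maximalIdeal A) A)) :=
    AdicCompletion.ker_evalOneₐ_eq_map (maximalIdeal A) hfg
  exact ((Groth.Agent.H60.GorTransfer.flat_local_iff A (AdicCompletion (maximalIdeal A) A)
    (ResidueField A) _ hq hker).1 hhat).1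

end Groth.Agent.H64.NG_P2
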