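import Mathlib
import Groth.Prelude.Def_FlatCA

/-!
# (P2) for helper93's S1244 squad: an open of `Spec A`, `A = lim A_n` with surjective
nil-kernel transitions, containing the image of `Spec A_0` is everything.
-/

set_option autoImplicit false
universe u
open CategoryTheory AlgebraicGeometry

namespace Groth.Agent.H64.NilLim_P2

variable {A : Type u} [CommRing A] {A' : ℕ → Type u} [∀ n, CommRing (A' n)]
  {φ : ∀ n, A' (n + 1) →+* A' n} {π : ∀ n, A →+* A' n}

theorem surjective_pi_zero (hlim : FlatCA.IsRingLimit A A' φ π)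
    (hsurj : ∀ n, Function.Surjective (φ n)) : Function.Surjective (π 0) := by
  intro x0
  choose s hs using hsurj
  let x : ∀ n, A' n := fun n => Nat.rec (motive := fun n => A' n) x0 (fun n y => s n y) n
  have hx : ∀ n, φ n (x (n + 1)) = x n := fun n => hs n (x n)
  obtain ⟨a, ha⟩ := hlim.2.2 x hx
  exact ⟨a, ha 0⟩

theorem isNilpotent_pi (hlim : FlatCA.IsRingLimit A A' φ π)
    (hnil : ∀ n, ∀ x ∈ RingHom.ker (φ n), IsNilpotent x) (k : A) (hk : π 0 k = 0) (n : ℕ) :
    IsNilpotent (π n k) := by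
  induction n with
  | zero => rw [hk]; exact IsNilpotent.zero
  | succ n ih =>
    obtain ⟨m, hm⟩ := ih
    have h1 : φ n (π (n + 1) k) = π n k := by
      rw [← RingHom.comp_apply, hlim.1 n]
    have h2 : (π (n + 1) k) ^ m ∈ RingHom.ker (φ n) := by
      rw [RingHom.mem_ker, map_pow, h1, hm]
    obtain ⟨l, hl⟩ := hnil n _ h2
    exact ⟨m * l, by rw [pow_mul]; exact hl⟩

theorem isUnit_one_add (hlim : FlatCA.IsRingLimit A A' φ π)
    (hnil : ∀ n, ∀ x ∈ RingHom.ker (φ n), IsNilpotent x) (k : A) (hk : π 0 k = 0) :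
    IsUnit (1 + k) := by
  have hu : ∀ n, IsUnit (π n (1 + k)) := by
    intro n
    rw [map_add, map_one]
    exact (isNilpotent_pi hlim hnil k hk n).isUnit_one_add
  have hy : ∀ n, φ n (↑(hu (n + 1)).unit⁻¹ : A' (n + 1)) = (↑(hu n).unit⁻¹ : A' n) := by
    intro n
    have e1 : φ n (↑(hu (n + 1)).unit⁻¹ : A' (n + 1)) * π n (1 + k) = 1 := by
      have : π n (1 + k) = φ n (π (n + 1) (1 + k)) := by
        rw [← RingHom.comp_apply, hlim.1 n]
      rw [this, ← map_mul]
      have : (↑(hu (n + 1)).unit⁻¹ : A' (n + 1)) * π (n + 1) (1 + k) = 1 :=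
        (hu (n + 1)).val_inv_mul
      rw [this, map_one]
    have e2 : π n (1 + k) * (↑(hu n).unit⁻¹ : A' n) = 1 := (hu n).mul_val_inv
    exact left_inv_eq_right_inv e1 e2
  obtain ⟨b, hb⟩ := hlim.2.2 (fun n => (↑(hu n).unit⁻¹ : A' n)) hy
  have hb1 : b * (1 + k) = 1 := by
    apply hlim.2.1
    intro n
    rw [map_mul, hb n, map_one]
    exact (hu n).val_inv_mul
  exact IsUnit.of_mul_eq_one b (by rw [mul_comm]; exact hb1)

theorem eq_univ_of_open (hlim : FlatCA.IsRingLimit A A' φ π)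
    (hsurj : ∀ n, Function.Surjective (φ n)) (hnil : ∀ n, ∀ x ∈ RingHom.ker (φ n), IsNilpotent x)
    (W : Set (PrimeSpectrum A)) (hW : IsOpen W)
    (h0 : ∀ q : PrimeSpectrum (A' 0), PrimeSpectrum.comap (π 0) q ∈ W) : W = Set.univ := by
  have hπ0 := surjective_pi_zero hlim hsurj
  rw [Set.eq_univ_iff_forall]
  intro p
  by_contra hp
  obtain ⟨s, hs⟩ := (PrimeSpectrum.isClosed_iff_zeroLocus Wᶜ).mp hW.isClosed_compl
  obtain ⟨m, hm, hpm⟩ := Ideal.exists_le_maximal p.asIdeal p.2.ne_top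
  have hmW : (⟨m, hm.isPrime⟩ : PrimeSpectrum A) ∈ Wᶜ := by
    rw [hs, PrimeSpectrum.mem_zeroLocus]
    have hp' : p ∈ PrimeSpectrum.zeroLocus s := hs ▸ hp
    rw [PrimeSpectrum.mem_zeroLocus] at hp'
    exact hp'.trans hpm
  have hker : RingHom.ker (π 0) ≤ m := by
    intro k hk
    by_contra hkm
    obtain ⟨y, i, hi, hyi⟩ := hm.exists_inv hkm
    have hi' : i = 1 + -(y * k) := by rw [← hyi]; ring
    have hu : IsUnit i := by
      rw [hi']
      apply isUnit_one_add hlim hnil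
      rw [map_neg, map_mul, RingHom.mem_ker.mp hk, mul_zero, neg_zero]
    exact hm.ne_top (Ideal.eq_top_of_isUnit_mem _ hi hu)
  have := hm.isPrime
  have hprime : (m.map (π 0)).IsPrime := Ideal.map_isPrime_of_surjective hπ0 hker
  have hcomap : PrimeSpectrum.comap (π 0) ⟨m.map (π 0), hprime⟩ = ⟨m, hm.isPrime⟩ := by
    apply PrimeSpectrum.ext
    show Ideal.comap (π 0) (m.map (π 0)) = m
    rw [Ideal.comap_map_of_surjective _ hπ0]
    exact sup_eq_left.mpr (by rw [← RingHom.ker_eq_comap_bot]; exact hker)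
  exact hmW (hcomap ▸ h0 ⟨m.map (π 0), hprime⟩)

end Groth.Agent.H64.NilLim_P2
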