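import Mathlib
import Groth.Prelude.Def_W4c3degenlocivbPfaff

/-! Helper lemmas on the prelude Pfaffian `W4c3degenlocivb.pf` (helper64), for S16355. -/

namespace Groth.Agent.H64.Pfaff

open W4c3degenlocivb

universe u

section general

variable {R S : Type*} [CommRing R] [CommRing S]

/-- `pf` commutes with ring homomorphisms. -/
theorem pf_map (f : R →+* S) : ∀ (n : ℕ) (T : Matrix (Fin n) (Fin n) R),
    pf n (T.map f) = f (pf n T) := by
  intro n
  induction n using Nat.twoStepInduction with
  | zero => intro T; simp [pf]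
  | one => intro T; simp [pf]
  | more n ih0 _ =>
    intro T
    rw [pf, pf, map_sum]
    refine Finset.sum_congr rfl fun j _ => ?_
    rw [map_mul, map_mul, map_pow, map_neg, map_one, Matrix.submatrix_map, ih0, Matrix.map_apply]

/-- homogeneity of the Pfaffian of a matrix of linear forms -/
theorem pf_isHomogeneous {σ : Type*} {k : Type*} [CommRing k] :
    ∀ (n : ℕ) (T : Matrix (Fin n) (Fin n) (MvPolynomial σ k)),
    (∀ a b, (T a b).IsHomogeneous 1) → (pf n T).IsHomogeneous (n / 2) := by
  intro n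
  induction n using Nat.twoStepInduction with
  | zero => intro T _; rw [pf]; exact MvPolynomial.isHomogeneous_one σ k
  | one => intro T _; rw [pf]; exact MvPolynomial.isHomogeneous_zero σ k _
  | more n ih0 _ =>
    intro T hT
    rw [pf]
    have hdeg : (n + 2) / 2 = 0 + 1 + n / 2 := by omega
    rw [hdeg]
    refine MvPolynomial.IsHomogeneous.sum _ _ _ fun j _ => ?_
    refine MvPolynomial.IsHomogeneous.mul (MvPolynomial.IsHomogeneous.mul ?_ (hT _ _))
      (ih0 _ fun a b => hT _ _)
    have : ((-1 : MvPolynomial σ k)) ^ ((j : ℕ) + 1) = MvPolynomial.C ((-1) ^ ((j : ℕ) + 1)) := by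
      simp
    rw [this]
    exact MvPolynomial.isHomogeneous_C σ _

/-- the alternating "path" matrix with edge weights `w` -/
def pathM (w : ℕ → R) (m : ℕ) : Matrix (Fin m) (Fin m) R :=
  Matrix.of fun a b => if (b : ℕ) = (a : ℕ) + 1 then w a
    else if (a : ℕ) = (b : ℕ) + 1 then - w b else 0

theorem pf_pathM (w : ℕ → R) : ∀ n : ℕ, pf n (pathM w n) =
    if n % 2 = 0 then ∏ t ∈ Finset.range (n / 2), w (2 * t) else 0 := by
  intro n
  induction n using Nat.twoStepInduction with
  | zero => simp [pf]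
  | one => simp [pf]
  | more n ih0 _ =>
    rw [pf, Finset.sum_eq_single (Fin.last n)]
    · have e1 : pathM w (n + 2) (Fin.last (n + 1)) (Fin.castSucc (Fin.last n)) = - w n := by
        simp only [pathM, Matrix.of_apply, Fin.val_last, Fin.val_castSucc]
        rw [if_neg (by omega), if_pos trivial]
      have e2 : (pathM w (n + 2)).submatrix (Fin.castSucc ∘ (Fin.last n).succAbove)
          (Fin.castSucc ∘ (Fin.last n).succAbove) = pathM w n := by
        ext a b
        simp [pathM, Fin.succAbove_last]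
      rw [e1, e2, ih0, Fin.val_last]
      by_cases hn : n % 2 = 0
      · have hn2 : (n + 2) % 2 = 0 := by omega
        have hdiv : (n + 2) / 2 = n / 2 + 1 := by omega
        have hmul : 2 * (n / 2) = n := by omega
        have hsign : (-1 : R) ^ (n + 1) = -1 := Odd.neg_one_pow (by rw [Nat.odd_iff]; omega)
        rw [if_pos hn, if_pos hn2, hdiv, Finset.prod_range_succ, hmul, hsign]
        ring
      · have hn2 : ¬ (n + 2) % 2 = 0 := by omega
        rw [if_neg hn, if_neg hn2, mul_zero]
    · intro j _ hj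
      have hj' : (j : ℕ) ≠ n := fun h => hj (Fin.ext (by rw [Fin.val_last]; exact h))
      have hj2 : (j : ℕ) < n + 1 := j.isLt
      have : pathM w (n + 2) (Fin.last (n + 1)) (Fin.castSucc j) = 0 := by
        simp only [pathM, Matrix.of_apply, Fin.val_last, Fin.val_castSucc]
        rw [if_neg (by omega), if_neg (by omega)]
      rw [this, mul_zero, zero_mul]
    · intro h; exact absurd (Finset.mem_univ _) h

theorem val_succAbove {m : ℕ} (i : Fin (m + 1)) (a : Fin m) :
    ((i.succAbove a : Fin (m + 1)) : ℕ) = if (a : ℕ) < (i : ℕ) then (a : ℕ) else (a : ℕ) + 1 := by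
  by_cases h : (a : ℕ) < (i : ℕ)
  · rw [if_pos h, Fin.succAbove_of_castSucc_lt i a (by simpa [Fin.lt_def] using h)]; simp
  · rw [if_neg h, Fin.succAbove_of_le_castSucc i a (by simpa [Fin.le_def] using (not_lt.mp h))]; simp

theorem pathM_submatrix_succAbove (w : ℕ → R) (m : ℕ) (i : Fin (m + 1)) :
    (pathM w (m + 1)).submatrix i.succAbove i.succAbove =
      pathM (fun t => if t + 1 < (i : ℕ) then w t else if t + 1 = (i : ℕ) then 0 else w (t + 1)) m := by
  ext a b
  simp only [Matrix.submatrix_apply, pathM, Matrix.of_apply, val_succAbove]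
  split_ifs <;> first | rfl | (exfalso; omega) | simp

theorem prod_ite_lt {M : Type*} [CommMonoid M] (x y : M) (r s : ℕ) (hs : s ≤ r) :
    ∏ t ∈ Finset.range r, (if t < s then x else y) = x ^ s * y ^ (r - s) := by
  obtain ⟨d, rfl⟩ := Nat.exists_eq_add_of_le hs
  rw [Finset.prod_range_add]
  have h1 : ∏ t ∈ Finset.range s, (if t < s then x else y) = x ^ s := by
    rw [Finset.prod_congr rfl (fun t ht => if_pos (Finset.mem_range.mp ht)), Finset.prod_const,
      Finset.card_range]
  have h2 : ∏ t ∈ Finset.range d, (if s + t < s then x else y) = y ^ d := by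
    rw [Finset.prod_congr rfl (fun t _ => if_neg (by omega)), Finset.prod_const,
      Finset.card_range]
  rw [h1, h2, Nat.add_sub_cancel_left]

end general

section specific

variable (k : Type u) [Field k]

/-- exponent vector of `y0^s y1^(r-s)` -/
noncomputable def mono (r : ℕ) (s : Fin (r + 1)) : Fin 2 →₀ ℕ :=
  Finsupp.single 0 (s : ℕ) + Finsupp.single 1 (r - (s : ℕ))

/-- the even index `2s` -/
def idx (r : ℕ) (s : Fin (r + 1)) : Fin (2 * r + 1) :=
  ⟨2 * (s : ℕ), by have := s.isLt; omega⟩

/-- the matrix of linear forms attached to a coefficient array -/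
noncomputable def Nc (r : ℕ) (c : Fin (2 * r + 1) → Fin (2 * r + 1) → Fin 2 → k) :
    Matrix (Fin (2 * r + 1)) (Fin (2 * r + 1)) (MvPolynomial (Fin 2) k) :=
  Matrix.of fun a b => ∑ l : Fin 2, MvPolynomial.C (c a b l) * MvPolynomial.X l

def u0 (t : ℕ) (l : Fin 2) : k := if t % 2 = (l : ℕ) then 1 else 0

/-- the tridiagonal example -/
def c0 (r : ℕ) : Fin (2 * r + 1) → Fin (2 * r + 1) → Fin 2 → k := fun a b l =>
  if (b : ℕ) = (a : ℕ) + 1 then u0 k a l
  else if (a : ℕ) = (b : ℕ) + 1 then - u0 k b l else 0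

noncomputable def ell (t : ℕ) : MvPolynomial (Fin 2) k :=
  ∑ l : Fin 2, MvPolynomial.C (u0 k t l) * MvPolynomial.X l

theorem c0_antisymm (r : ℕ) : ∀ i j l, c0 k r j i l = - c0 k r i j l := by
  intro i j l
  unfold c0
  by_cases h1 : (j : ℕ) = (i : ℕ) + 1
  · have h2 : ¬ ((i : ℕ) = (j : ℕ) + 1) := by omega
    simp only [if_pos h1, if_neg h2]
  · by_cases h2 : (i : ℕ) = (j : ℕ) + 1
    · simp only [if_neg h1, if_pos h2, neg_neg]
    · simp only [if_neg h1, if_neg h2, neg_zero]

theorem ell_even (t : ℕ) : ell k (2 * t) = MvPolynomial.X 0 := by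
  simp [ell, u0, Fin.sum_univ_two]

theorem ell_odd (t : ℕ) : ell k (2 * t + 1) = MvPolynomial.X 1 := by
  have h : (2 * t + 1) % 2 = 1 := by omega
  simp [ell, u0, Fin.sum_univ_two, h]

theorem Nc_c0 (r : ℕ) : Nc k r (c0 k r) = pathM (ell k) (2 * r + 1) := by
  ext a b
  simp only [Nc, Matrix.of_apply, pathM, c0, ell]
  by_cases h1 : (b : ℕ) = (a : ℕ) + 1
  · simp only [if_pos h1]
  · by_cases h2 : (a : ℕ) = (b : ℕ) + 1
    · simp only [if_neg h1, if_pos h2, map_neg, neg_mul, Finset.sum_neg_distrib]
    · simp only [if_neg h1, if_neg h2, map_zero, zero_mul, Finset.sum_const_zero]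

theorem example_pf (r : ℕ) (s' : Fin (r + 1)) :
    pf (2 * r) ((pathM (ell k) (2 * r + 1)).submatrix (idx r s').succAbove (idx r s').succAbove)
      = MvPolynomial.X 0 ^ (s' : ℕ) * MvPolynomial.X 1 ^ (r - (s' : ℕ)) := by
  have hs : (s' : ℕ) ≤ r := Nat.lt_succ_iff.mp s'.isLt
  rw [pathM_submatrix_succAbove, pf_pathM, if_pos (Nat.mul_mod_right 2 r),
    Nat.mul_div_cancel_left r (by norm_num : 0 < 2)]
  have key : ∀ t ∈ Finset.range r,
      (if 2 * t + 1 < ((idx r s' : Fin (2 * r + 1)) : ℕ) then ell k (2 * t)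
        else if 2 * t + 1 = ((idx r s' : Fin (2 * r + 1)) : ℕ) then 0 else ell k (2 * t + 1))
      = if t < (s' : ℕ) then (MvPolynomial.X 0 : MvPolynomial (Fin 2) k) else MvPolynomial.X 1 := by
    intro t _
    have hidx : ((idx r s' : Fin (2 * r + 1)) : ℕ) = 2 * (s' : ℕ) := rfl
    rw [hidx]
    by_cases h : t < (s' : ℕ)
    · rw [if_pos (by omega), if_pos h, ell_even]
    · rw [if_neg (by omega), if_neg (by omega), if_neg h, ell_odd]
  calc _ = ∏ t ∈ Finset.range r,
        (if t < (s' : ℕ) then (MvPolynomial.X 0 : MvPolynomial (Fin 2) k) else MvPolynomial.X 1) :=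
        Finset.prod_congr rfl key
    _ = _ := prod_ite_lt _ _ r s' hs

theorem coeff_example (r : ℕ) (s' s : Fin (r + 1)) :
    MvPolynomial.coeff (mono r s)
      ((MvPolynomial.X 0 : MvPolynomial (Fin 2) k) ^ (s' : ℕ) * MvPolynomial.X 1 ^ (r - (s' : ℕ)))
      = if s' = s then 1 else 0 := by
  have h : (MvPolynomial.X 0 : MvPolynomial (Fin 2) k) ^ (s' : ℕ) * MvPolynomial.X 1 ^ (r - (s' : ℕ))
      = MvPolynomial.monomial (mono r s') 1 := by
    rw [MvPolynomial.X_pow_eq_monomial, MvPolynomial.X_pow_eq_monomial,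
      MvPolynomial.monomial_mul, one_mul]
    rfl
  rw [h, MvPolynomial.coeff_monomial]
  by_cases hss : s' = s
  · subst hss; simp
  · rw [if_neg hss, if_neg]
    intro hm
    apply hss
    have h0 := DFunLike.congr_fun hm 0
    simp [mono] at h0
    exact Fin.ext h0

theorem expansion (r : ℕ) (g : MvPolynomial (Fin 2) k) (hg : g.IsHomogeneous r) :
    g = ∑ s : Fin (r + 1),
      MvPolynomial.monomial (mono r s) (MvPolynomial.coeff (mono r s) g) := by
  ext m
  rw [MvPolynomial.coeff_sum]
  simp only [MvPolynomial.coeff_monomial]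
  by_cases hm : m 0 + m 1 = r
  · have hs : m 0 < r + 1 := by omega
    have hmm : mono r ⟨m 0, hs⟩ = m := by
      ext i
      fin_cases i
      · simp [mono]
      · simp [mono]; omega
    rw [Finset.sum_eq_single ⟨m 0, hs⟩]
    · rw [if_pos hmm, hmm]
    · intro s _ hs'
      rw [if_neg]
      intro h
      apply hs'
      have h0 := DFunLike.congr_fun h 0
      simp [mono] at h0
      exact Fin.ext h0
    · intro h; exact absurd (Finset.mem_univ _) h
  · have hdeg : m.degree ≠ r := by
      rw [Finsupp.degree_eq_sum, Fin.sum_univ_two]; exact hm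
    rw [hg.coeff_eq_zero hdeg]
    symm
    apply Finset.sum_eq_zero
    intro s _
    rw [if_neg]
    intro h
    apply hm
    have hs : (s : ℕ) ≤ r := Nat.lt_succ_iff.mp s.isLt
    rw [← h]
    simp [mono]
    omega

theorem span_of_det_ne_zero (r : ℕ) (P : Fin (2 * r + 1) → MvPolynomial (Fin 2) k)
    (hP : ∀ i, (P i).IsHomogeneous r)
    (hdet : (Matrix.of fun s' s : Fin (r + 1) =>
      MvPolynomial.coeff (mono r s) (P (idx r s'))).det ≠ 0) :
    Submodule.span k (Set.range P) = MvPolynomial.homogeneousSubmodule (Fin 2) k r := by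
  set Q : Matrix (Fin (r + 1)) (Fin (r + 1)) k :=
    Matrix.of fun s' s => MvPolynomial.coeff (mono r s) (P (idx r s')) with hQ
  apply le_antisymm
  · rw [Submodule.span_le]
    rintro _ ⟨i, rfl⟩
    exact (MvPolynomial.mem_homogeneousSubmodule _ _).mpr (hP i)
  · intro f hf
    have hfh : f.IsHomogeneous r := (MvPolynomial.mem_homogeneousSubmodule _ _).mp hf
    have hunit : IsUnit Q.det := isUnit_iff_ne_zero.mpr hdet
    have hexp : ∀ s' : Fin (r + 1), P (idx r s') =
        ∑ s : Fin (r + 1), (Q s' s) • MvPolynomial.monomial (mono r s) (1 : k) := by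
      intro s'
      conv_lhs => rw [expansion k r (P (idx r s')) (hP _)]
      refine Finset.sum_congr rfl fun s _ => ?_
      rw [MvPolynomial.smul_monomial, smul_eq_mul, mul_one]
      rfl
    have hmon : ∀ t : Fin (r + 1),
        MvPolynomial.monomial (mono r t) (1 : k) ∈ Submodule.span k (Set.range P) := by
      intro t
      have hsum : ∑ s' : Fin (r + 1), (Q⁻¹ t s') • P (idx r s')
          = MvPolynomial.monomial (mono r t) (1 : k) := by
        calc ∑ s' : Fin (r + 1), (Q⁻¹ t s') • P (idx r s')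
            = ∑ s' : Fin (r + 1), ∑ s : Fin (r + 1),
                (Q⁻¹ t s' * Q s' s) • MvPolynomial.monomial (mono r s) (1 : k) := by
              refine Finset.sum_congr rfl fun s' _ => ?_
              rw [hexp s', Finset.smul_sum]
              refine Finset.sum_congr rfl fun s _ => ?_
              rw [smul_smul]
          _ = ∑ s : Fin (r + 1), ∑ s' : Fin (r + 1),
                (Q⁻¹ t s' * Q s' s) • MvPolynomial.monomial (mono r s) (1 : k) := Finset.sum_comm
          _ = ∑ s : Fin (r + 1), ((1 : Matrix (Fin (r + 1)) (Fin (r + 1)) k) t s) •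
                MvPolynomial.monomial (mono r s) (1 : k) := by
              refine Finset.sum_congr rfl fun s _ => ?_
              rw [← Finset.sum_smul, ← Matrix.mul_apply, Matrix.nonsing_inv_mul Q hunit]
          _ = MvPolynomial.monomial (mono r t) (1 : k) := by
              rw [Finset.sum_eq_single t]
              · rw [Matrix.one_apply_eq, one_smul]
              · intro s _ hs
                rw [Matrix.one_apply_ne (Ne.symm hs), zero_smul]
              · intro h; exact absurd (Finset.mem_univ _) h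
      rw [← hsum]
      exact Submodule.sum_mem _ fun s' _ =>
        Submodule.smul_mem _ _ (Submodule.subset_span ⟨_, rfl⟩)
    rw [expansion k r f hfh]
    refine Submodule.sum_mem _ fun s _ => ?_
    have h1 : MvPolynomial.monomial (mono r s) (MvPolynomial.coeff (mono r s) f)
        = (MvPolynomial.coeff (mono r s) f) • MvPolynomial.monomial (mono r s) (1 : k) := by
      rw [MvPolynomial.smul_monomial, smul_eq_mul, mul_one]
    rw [h1]
    exact Submodule.smul_mem _ _ (hmon s)

/-- generic matrix -/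
noncomputable def Ngen (r : ℕ) : Matrix (Fin (2 * r + 1)) (Fin (2 * r + 1))
    (MvPolynomial (Fin 2) (MvPolynomial (Fin (2 * r + 1) × Fin (2 * r + 1) × Fin 2) k)) :=
  Matrix.of fun a b => ∑ l : Fin 2,
    MvPolynomial.C (MvPolynomial.X (a, b, l)) * MvPolynomial.X l

noncomputable def Qgen (r : ℕ) : Matrix (Fin (r + 1)) (Fin (r + 1))
    (MvPolynomial (Fin (2 * r + 1) × Fin (2 * r + 1) × Fin 2) k) :=
  Matrix.of fun s' s => MvPolynomial.coeff (mono r s)
    (pf (2 * r) ((Ngen k r).submatrix (idx r s').succAbove (idx r s').succAbove))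

theorem eval_det_Qgen (r : ℕ) (c : Fin (2 * r + 1) → Fin (2 * r + 1) → Fin 2 → k) :
    MvPolynomial.eval (fun p => c p.1 p.2.1 p.2.2) (Qgen k r).det =
      (Matrix.of fun s' s : Fin (r + 1) => MvPolynomial.coeff (mono r s)
        (pf (2 * r) ((Nc k r c).submatrix (idx r s').succAbove (idx r s').succAbove))).det := by
  rw [RingHom.map_det]
  congr 1
  ext s' s
  have hN : (Ngen k r).map (MvPolynomial.map (MvPolynomial.eval fun p => c p.1 p.2.1 p.2.2))
      = Nc k r c := by
    ext a b
    simp [Ngen, Nc]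
  simp only [RingHom.mapMatrix_apply, Matrix.map_apply, Matrix.of_apply, Qgen]
  rw [← MvPolynomial.coeff_map
    (MvPolynomial.eval fun p : Fin (2 * r + 1) × Fin (2 * r + 1) × Fin 2 => c p.1 p.2.1 p.2.2),
    ← pf_map, ← Matrix.submatrix_map, hN]

theorem main (r : ℕ) :
    ∃ Φ : MvPolynomial (Fin (2 * r + 1) × Fin (2 * r + 1) × Fin 2) k,
      (∃ c : Fin (2 * r + 1) → Fin (2 * r + 1) → Fin 2 → k, (∀ i j l, c j i l = -c i j l) ∧
        MvPolynomial.eval (fun p => c p.1 p.2.1 p.2.2) Φ ≠ 0) ∧
      ∀ c : Fin (2 * r + 1) → Fin (2 * r + 1) → Fin 2 → k,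
        MvPolynomial.eval (fun p => c p.1 p.2.1 p.2.2) Φ ≠ 0 →
        Submodule.span k (Set.range fun i : Fin (2 * r + 1) =>
            pf (2 * r) ((Nc k r c).submatrix i.succAbove i.succAbove)) =
          MvPolynomial.homogeneousSubmodule (Fin 2) k r := by
  refine ⟨(Qgen k r).det, ⟨c0 k r, c0_antisymm k r, ?_⟩, ?_⟩
  · rw [eval_det_Qgen]
    have h1 : (Matrix.of fun s' s : Fin (r + 1) => MvPolynomial.coeff (mono r s)
        (pf (2 * r) ((Nc k r (c0 k r)).submatrix (idx r s').succAbove (idx r s').succAbove)))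
        = (1 : Matrix (Fin (r + 1)) (Fin (r + 1)) k) := by
      ext s' s
      rw [Matrix.of_apply, Nc_c0, example_pf, coeff_example, Matrix.one_apply]
    rw [h1, Matrix.det_one]
    exact one_ne_zero
  · intro c hc
    rw [eval_det_Qgen] at hc
    refine span_of_det_ne_zero k r _ (fun i => ?_) hc
    have hT : ∀ a b, (((Nc k r c).submatrix i.succAbove i.succAbove) a b).IsHomogeneous 1 := by
      intro a b
      simp only [Matrix.submatrix_apply, Nc, Matrix.of_apply]
      refine MvPolynomial.IsHomogeneous.sum _ _ _ fun l _ => ?_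
      simpa using (MvPolynomial.isHomogeneous_C (Fin 2) (c (i.succAbove a) (i.succAbove b) l)).mul
        (MvPolynomial.isHomogeneous_X k l)
    have h := pf_isHomogeneous (2 * r) _ hT
    rwa [Nat.mul_div_cancel_left r (by norm_num : 0 < 2)] at h

end specific

end Groth.Agent.H64.Pfaff
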