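import Mathlib

/-!
Helper library for S7340: the trace of a `p`-th root extension `R[x]/(x^p - a)` on Kähler
differentials is compatible with `R`-algebra maps.

Main ingredients:
* `add_two`, `add_many`: additivity of `u ↦ u^(p-1) du` modulo exact forms (valid over any
  commutative ring, using only that `p` divides the middle binomial coefficients);
* a trace functional `T` killing `y^i dy` (`i ≤ p - 2`) kills all exact forms, all `g^i dg`, and
  sends `g^(p-1) dg` to `d (g^p)`.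
-/

namespace Groth.Agent.H64.PthTrace

open Polynomial KaehlerDifferential

universe u v w

section Additivity

variable {R : Type u} {S : Type v} {M : Type w} [CommRing R] [CommRing S] [Algebra R S]
  [AddCommGroup M] [Module R M] [Module S M]

lemma choose_facts (q : ℕ) (hp : (q + 1).Prime) (j : ℕ) (hj : j < q) :
    ((q + 1).choose (j + 1) / (q + 1)) * (j + 1) = q.choose j ∧
    ((q + 1).choose (j + 1) / (q + 1)) * (q - j) = q.choose (j + 1) := by
  have hdvd : (q + 1) ∣ (q + 1).choose (j + 1) :=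
    hp.dvd_choose_self (Nat.succ_ne_zero j) (by omega)
  obtain ⟨e, he⟩ := hdvd
  have hpos : 0 < q + 1 := Nat.succ_pos q
  rw [he, Nat.mul_div_cancel_left e hpos]
  constructor
  · apply Nat.eq_of_mul_eq_mul_left hpos
    have h1 := Nat.add_one_mul_choose_eq q j
    rw [← mul_assoc, ← he]
    exact h1.symm
  · apply Nat.eq_of_mul_eq_mul_left hpos
    have h2 := Nat.choose_mul_succ_eq q (j + 1)
    rw [← mul_assoc, ← he, mul_comm (q + 1) (q.choose (j + 1)), h2]
    congr 1
    omega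

lemma add_two (q : ℕ) (hp : (q + 1).Prime) (D : Derivation R S M) (u v : S) :
    ∃ h : S, (u + v) ^ q • D (u + v) = u ^ q • D u + v ^ q • D v + D h := by
  obtain ⟨e, he⟩ : ∃ e : ℕ → ℕ, e = fun j => (q + 1).choose (j + 1) / (q + 1) := ⟨_, rfl⟩
  have he1 : ∀ j, j < q → e j * (j + 1) = q.choose j := fun j hj => by
    rw [he]; exact (choose_facts q hp j hj).1
  have he2 : ∀ j, j < q → e j * (q - j) = q.choose (j + 1) := fun j hj => by
    rw [he]; exact (choose_facts q hp j hj).2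
  refine ⟨∑ j ∈ Finset.range q, ((e j : ℕ) : S) * (u ^ (j + 1) * v ^ (q - j)), ?_⟩
  have hA : (u + v) ^ q =
      ∑ j ∈ Finset.range q, ((q.choose j : ℕ) : S) * u ^ j * v ^ (q - j) + u ^ q := by
    rw [add_pow, Finset.sum_range_succ, Nat.sub_self, pow_zero, Nat.choose_self, Nat.cast_one,
      mul_one, mul_one]
    congr 1
    apply Finset.sum_congr rfl
    intro j _
    ring
  have hB : (u + v) ^ q =
      ∑ j ∈ Finset.range q, ((q.choose (j + 1) : ℕ) : S) * u ^ (j + 1) * v ^ (q - (j + 1)) +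
        v ^ q := by
    rw [add_pow, Finset.sum_range_succ', pow_zero, Nat.sub_zero, Nat.choose_zero_right,
      Nat.cast_one, mul_one, one_mul]
    congr 1
    apply Finset.sum_congr rfl
    intro j _
    ring
  have hterm : ∀ j ∈ Finset.range q, D (((e j : ℕ) : S) * (u ^ (j + 1) * v ^ (q - j))) =
      (((q.choose (j + 1) : ℕ) : S) * u ^ (j + 1) * v ^ (q - (j + 1))) • D v +
        (((q.choose j : ℕ) : S) * u ^ j * v ^ (q - j)) • D u := by
    intro j hj
    have hjq : j < q := Finset.mem_range.mp hj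
    have c1 : ((e j : ℕ) : S) * ((j + 1 : ℕ) : S) = ((q.choose j : ℕ) : S) := by
      rw [← Nat.cast_mul, he1 j hjq]
    have c2 : ((e j : ℕ) : S) * ((q - j : ℕ) : S) = ((q.choose (j + 1) : ℕ) : S) := by
      rw [← Nat.cast_mul, he2 j hjq]
    rw [Derivation.leibniz, Derivation.map_natCast, smul_zero, add_zero, Derivation.leibniz,
      Derivation.leibniz_pow, Derivation.leibniz_pow, Nat.add_sub_cancel, Nat.sub_add_eq,
      ← Nat.cast_smul_eq_nsmul S, ← Nat.cast_smul_eq_nsmul S, smul_add, smul_smul, smul_smul,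
      smul_smul, smul_smul, smul_smul, smul_smul]
    congr 1
    · congr 1
      linear_combination (u ^ (j + 1) * v ^ (q - j - 1)) * c2
    · congr 1
      linear_combination (u ^ j * v ^ (q - j)) * c1
  rw [map_sum, Finset.sum_congr rfl hterm, Finset.sum_add_distrib, ← Finset.sum_smul,
    ← Finset.sum_smul, map_add, smul_add]
  have h1 : (u + v) ^ q • D u =
      (∑ j ∈ Finset.range q, ((q.choose j : ℕ) : S) * u ^ j * v ^ (q - j)) • D u +
        u ^ q • D u := by
    rw [← add_smul, ← hA]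
  have h2 : (u + v) ^ q • D v =
      (∑ j ∈ Finset.range q, ((q.choose (j + 1) : ℕ) : S) * u ^ (j + 1) * v ^ (q - (j + 1))) •
        D v + v ^ q • D v := by
    rw [← add_smul, ← hB]
  rw [h1, h2]
  abel

lemma add_many (q : ℕ) (hp : (q + 1).Prime) (D : Derivation R S M) {ι : Type*}
    (s : Finset ι) (u : ι → S) :
    ∃ h : S, (∑ i ∈ s, u i) ^ q • D (∑ i ∈ s, u i) = ∑ i ∈ s, (u i) ^ q • D (u i) + D h := by
  classical
  induction s using Finset.induction_on with
  | empty => exact ⟨0, by simp⟩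
  | insert i s hi ih =>
    obtain ⟨h2, hh2⟩ := ih
    obtain ⟨h1, hh1⟩ := add_two q hp D (u i) (∑ j ∈ s, u j)
    refine ⟨h1 + h2, ?_⟩
    rw [Finset.sum_insert hi, Finset.sum_insert hi, hh1, hh2, map_add]
    abel

end Additivity

section Main

variable (p : ℕ) [hpF : Fact p.Prime] {R : Type u} [CommRing R] [CharP R p]

include hpF in
lemma nontrivial_of_charP : Nontrivial R :=
  CharP.nontrivial_of_char_ne_one (R := R) (Fact.out : p.Prime).ne_one

omit [CharP R p] in
lemma monic_f (c : R) : (X ^ p - C c : R[X]).Monic :=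
  monic_X_pow_sub_C c (Fact.out : p.Prime).ne_zero

omit [CharP R p] hpF in
lemma root_pow_p (c : R) :
    (AdjoinRoot.root (X ^ p - C c : R[X])) ^ p = AdjoinRoot.of (X ^ p - C c) c := by
  have h := AdjoinRoot.eval₂_root (X ^ p - C c : R[X])
  rw [eval₂_sub, eval₂_pow, eval₂_X, eval₂_C] at h
  exact sub_eq_zero.mp h

lemma of_injective (c : R) : Function.Injective (AdjoinRoot.of (X ^ p - C c : R[X])) := by
  have : Nontrivial R := nontrivial_of_charP p
  have hpos : 0 < p := (Fact.out : p.Prime).pos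
  have hm := monic_f p c
  have hdeg : ∀ r : R, (C r : R[X]) %ₘ (X ^ p - C c) = C r := by
    intro r
    apply (modByMonic_eq_self_iff hm).mpr
    refine lt_of_le_of_lt degree_C_le ?_
    rw [degree_X_pow_sub_C hpos c]
    exact_mod_cast hpos
  intro r s h
  have h2 := congrArg (AdjoinRoot.modByMonicHom hm) h
  rw [← AdjoinRoot.mk_C r, ← AdjoinRoot.mk_C s, AdjoinRoot.modByMonicHom_mk,
    AdjoinRoot.modByMonicHom_mk, hdeg, hdeg] at h2
  exact C_injective h2

omit [CharP R p] hpF in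
lemma T_of_mul {f : R[X]} (T : Ω[AdjoinRoot f⁄R] →ₗ[R] Ω[R⁄ℤ]) (r : R) (z : AdjoinRoot f)
    (ω : Ω[AdjoinRoot f⁄R]) : T ((AdjoinRoot.of f r * z) • ω) = r • T (z • ω) := by
  rw [mul_smul, ← AdjoinRoot.algebraMap_eq, algebraMap_smul, map_smul]

omit [CharP R p] hpF in
lemma root_pow_eq {f : R[X]} (c : R) (hroot : AdjoinRoot.root f ^ p = AdjoinRoot.of f c) (m : ℕ) :
    AdjoinRoot.root f ^ m =
      AdjoinRoot.of f (c ^ (m / p)) * AdjoinRoot.root f ^ (m % p) := by
  conv_lhs => rw [← Nat.div_add_mod m p]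
  rw [pow_add, pow_mul, hroot, map_pow]

omit [CharP R p] in
lemma T_root_of_not_dvd {f : R[X]} (c : R) (hroot : AdjoinRoot.root f ^ p = AdjoinRoot.of f c)
    (T : Ω[AdjoinRoot f⁄R] →ₗ[R] Ω[R⁄ℤ])
    (hT : ∀ i : ℕ, i + 2 ≤ p →
      T (AdjoinRoot.root f ^ i • D R (AdjoinRoot f) (AdjoinRoot.root f)) = 0)
    (m : ℕ) (hm : ¬ p ∣ m + 1) :
    T (AdjoinRoot.root f ^ m • D R (AdjoinRoot f) (AdjoinRoot.root f)) = 0 := by
  have hp := (Fact.out : p.Prime)
  have hmod : m % p + 2 ≤ p := by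
    have h1 : m % p < p := Nat.mod_lt _ hp.pos
    by_contra hcon
    apply hm
    have h2 : m % p = p - 1 := by omega
    have h3 := Nat.div_add_mod m p
    have hpos := hp.pos
    exact ⟨m / p + 1, by rw [mul_add, mul_one]; omega⟩
  rw [root_pow_eq p c hroot m, T_of_mul, hT (m % p) hmod, smul_zero]

omit [CharP R p] hpF in
lemma T_root_top {f : R[X]} (c : R) (hroot : AdjoinRoot.root f ^ p = AdjoinRoot.of f c)
    (T : Ω[AdjoinRoot f⁄R] →ₗ[R] Ω[R⁄ℤ])
    (hT' : T (AdjoinRoot.root f ^ (p - 1) • D R (AdjoinRoot f) (AdjoinRoot.root f)) = D ℤ R c)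
    (k : ℕ) :
    T (AdjoinRoot.root f ^ (p * k + (p - 1)) • D R (AdjoinRoot f) (AdjoinRoot.root f)) =
      c ^ k • D ℤ R c := by
  rw [pow_add, pow_mul, hroot, ← map_pow, T_of_mul, hT']

lemma T_D {f : R[X]} (c : R) (hroot : AdjoinRoot.root f ^ p = AdjoinRoot.of f c)
    (T : Ω[AdjoinRoot f⁄R] →ₗ[R] Ω[R⁄ℤ])
    (hT : ∀ i : ℕ, i + 2 ≤ p →
      T (AdjoinRoot.root f ^ i • D R (AdjoinRoot f) (AdjoinRoot.root f)) = 0)
    (h : AdjoinRoot f) : T (D R (AdjoinRoot f) h) = 0 := by
  obtain ⟨w, rfl⟩ := AdjoinRoot.mk_surjective h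
  rw [← AdjoinRoot.aeval_eq, Derivation.map_aeval]
  induction w using Polynomial.induction_on' with
  | add w1 w2 h1 h2 => rw [derivative_add, map_add, add_smul, map_add, h1, h2, add_zero]
  | monomial n r =>
    rw [derivative_monomial, aeval_monomial, AdjoinRoot.algebraMap_eq, T_of_mul]
    by_cases hn : p ∣ n
    · have : (n : R) = 0 := (CharP.cast_eq_zero_iff R p n).mpr hn
      rw [this, mul_zero, zero_smul]
    · have hn1 : 1 ≤ n := by
        rcases n with _ | n
        · exact absurd (dvd_zero p) hn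
        · omega
      rw [T_root_of_not_dvd p c hroot T hT (n - 1) (by rwa [Nat.sub_add_cancel hn1]), smul_zero]

lemma eq_zero_of_nsmul_eq_zero {M : Type*} [AddCommGroup M] [Module R M] (z : M) (n : ℕ)
    (hn : ¬ p ∣ n) (h : n • z = 0) : z = 0 := by
  have hp := (Fact.out : p.Prime)
  have hpz : p • z = 0 := by
    rw [← Nat.cast_smul_eq_nsmul R, CharP.cast_eq_zero R p, zero_smul]
  have h1 : addOrderOf z ∣ n := addOrderOf_dvd_of_nsmul_eq_zero h
  have h2 : addOrderOf z ∣ p := addOrderOf_dvd_of_nsmul_eq_zero hpz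
  have h3 : addOrderOf z = 1 := by
    rcases (Nat.dvd_prime hp).mp h2 with h | h
    · exact h
    · exfalso; apply hn; rw [← h]; exact h1
  exact AddMonoid.addOrderOf_eq_one_iff.mp h3

lemma T_pow_smul_D {f : R[X]} (c : R) (hroot : AdjoinRoot.root f ^ p = AdjoinRoot.of f c)
    (T : Ω[AdjoinRoot f⁄R] →ₗ[R] Ω[R⁄ℤ])
    (hT : ∀ i : ℕ, i + 2 ≤ p →
      T (AdjoinRoot.root f ^ i • D R (AdjoinRoot f) (AdjoinRoot.root f)) = 0)
    (g : AdjoinRoot f) (i : ℕ) (hi : i + 2 ≤ p) :
    T (g ^ i • D R (AdjoinRoot f) g) = 0 := by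
  have h1 := T_D p c hroot T hT (g ^ (i + 1))
  rw [Derivation.leibniz_pow, Nat.add_sub_cancel, map_nsmul] at h1
  exact eq_zero_of_nsmul_eq_zero (R := R) p _ (i + 1)
    (Nat.not_dvd_of_pos_of_lt (Nat.succ_pos i) (by omega)) h1

lemma T_frob {f : R[X]} (c : R) (hroot : AdjoinRoot.root f ^ p = AdjoinRoot.of f c)
    (hinj : Function.Injective (AdjoinRoot.of f))
    (T : Ω[AdjoinRoot f⁄R] →ₗ[R] Ω[R⁄ℤ])
    (hT : ∀ i : ℕ, i + 2 ≤ p →
      T (AdjoinRoot.root f ^ i • D R (AdjoinRoot f) (AdjoinRoot.root f)) = 0)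
    (hT' : T (AdjoinRoot.root f ^ (p - 1) • D R (AdjoinRoot f) (AdjoinRoot.root f)) = D ℤ R c)
    (g : AdjoinRoot f) (a : R) (hg : g ^ p = AdjoinRoot.of f a) :
    T (g ^ (p - 1) • D R (AdjoinRoot f) g) = D ℤ R a := by
  have hp := (Fact.out : p.Prime)
  have hchar : CharP (AdjoinRoot f) p :=
    charP_of_injective_algebraMap (R := R) (A := AdjoinRoot f)
      (by rw [AdjoinRoot.algebraMap_eq]; exact hinj) p
  have htop := T_root_top p c hroot T hT'
  have hTD := T_D p c hroot T hT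
  have hpR : (p : R) = 0 := CharP.cast_eq_zero R p
  obtain ⟨q, hq⟩ : ∃ q, q + 1 = p := ⟨p - 1, Nat.sub_add_cancel hp.pos⟩
  have hq' : p - 1 = q := by omega
  have hqp : (q + 1).Prime := by rw [hq]; exact hp
  rw [hq'] at htop ⊢
  obtain ⟨w, rfl⟩ := AdjoinRoot.mk_surjective g
  have hgw : AdjoinRoot.mk f w = ∑ n ∈ Finset.range (w.natDegree + 1),
      AdjoinRoot.of f (w.coeff n) * AdjoinRoot.root f ^ n := by
    rw [← AdjoinRoot.aeval_eq, aeval_eq_sum_range]
    apply Finset.sum_congr rfl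
    intro n _
    rw [Algebra.smul_def, AdjoinRoot.algebraMap_eq]
  -- the value of a
  have ha : a = ∑ n ∈ Finset.range (w.natDegree + 1), w.coeff n ^ p * c ^ n := by
    apply hinj
    rw [← hg, hgw, sum_pow_char p, map_sum]
    apply Finset.sum_congr rfl
    intro n _
    rw [mul_pow, ← pow_mul, mul_comm n p, pow_mul, hroot, ← map_pow, ← map_pow, ← map_mul]
  -- the differential of a
  have hda : D ℤ R a = ∑ n ∈ Finset.range (w.natDegree + 1),
      ((n : R) * w.coeff n ^ p * c ^ (n - 1)) • D ℤ R c := by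
    rw [ha, map_sum]
    apply Finset.sum_congr rfl
    intro n _
    rw [Derivation.leibniz, Derivation.leibniz_pow, Derivation.leibniz_pow,
      ← Nat.cast_smul_eq_nsmul R, ← Nat.cast_smul_eq_nsmul R, hpR, zero_smul, smul_zero, add_zero,
      smul_smul, smul_smul]
    congr 1
    ring
  -- the terms
  have hterm : ∀ n ∈ Finset.range (w.natDegree + 1),
      T ((AdjoinRoot.of f (w.coeff n) * AdjoinRoot.root f ^ n) ^ q •
        D R (AdjoinRoot f) (AdjoinRoot.of f (w.coeff n) * AdjoinRoot.root f ^ n)) =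
      ((n : R) * w.coeff n ^ p * c ^ (n - 1)) • D ℤ R c := by
    intro n _
    rcases n with _ | k
    · rw [pow_zero, mul_one, ← AdjoinRoot.algebraMap_eq, Derivation.map_algebraMap, smul_zero,
        map_zero, Nat.cast_zero, zero_mul, zero_mul, zero_smul]
    · have hexp : p * k + q = (k + 1) * q + k := by rw [← hq]; ring
      have key : (AdjoinRoot.of f (w.coeff (k + 1)) * AdjoinRoot.root f ^ (k + 1)) ^ q •
          D R (AdjoinRoot f) (AdjoinRoot.of f (w.coeff (k + 1)) * AdjoinRoot.root f ^ (k + 1)) =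
          (AdjoinRoot.of f (w.coeff (k + 1) ^ (q + 1) * ((k + 1 : ℕ) : R)) *
            AdjoinRoot.root f ^ (p * k + q)) • D R (AdjoinRoot f) (AdjoinRoot.root f) := by
        rw [Derivation.leibniz, ← AdjoinRoot.algebraMap_eq, Derivation.map_algebraMap, smul_zero,
          add_zero, Derivation.leibniz_pow, Nat.add_sub_cancel,
          ← Nat.cast_smul_eq_nsmul (AdjoinRoot f), smul_smul, smul_smul, smul_smul]
        congr 1
        rw [map_mul, map_pow, map_natCast, hexp]
        ring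
      rw [key, T_of_mul, htop k, smul_smul, Nat.add_sub_cancel, ← hq]
      congr 1
      ring
  obtain ⟨h0, hh0⟩ := add_many q hqp (D R (AdjoinRoot f)) (Finset.range (w.natDegree + 1))
    (fun n => AdjoinRoot.of f (w.coeff n) * AdjoinRoot.root f ^ n)
  rw [hgw, hh0, map_add, hTD h0, add_zero, map_sum, Finset.sum_congr rfl hterm, hda]

theorem main {fa fb : R[X]} (a b : R)
    (hra : AdjoinRoot.root fa ^ p = AdjoinRoot.of fa a)
    (hrb : AdjoinRoot.root fb ^ p = AdjoinRoot.of fb b)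
    (hinjb : Function.Injective (AdjoinRoot.of fb))
    (φ : AdjoinRoot fa →ₐ[R] AdjoinRoot fb)
    (Tx : Ω[AdjoinRoot fa⁄R] →ₗ[R] Ω[R⁄ℤ])
    (Ty : Ω[AdjoinRoot fb⁄R] →ₗ[R] Ω[R⁄ℤ])
    (hTx : ∀ i : ℕ, i + 2 ≤ p →
      Tx (AdjoinRoot.root fa ^ i • D R (AdjoinRoot fa) (AdjoinRoot.root fa)) = 0)
    (hTx' : Tx (AdjoinRoot.root fa ^ (p - 1) • D R (AdjoinRoot fa) (AdjoinRoot.root fa)) =
      D ℤ R a)
    (hTy : ∀ i : ℕ, i + 2 ≤ p →
      Ty (AdjoinRoot.root fb ^ i • D R (AdjoinRoot fb) (AdjoinRoot.root fb)) = 0)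
    (hTy' : Ty (AdjoinRoot.root fb ^ (p - 1) • D R (AdjoinRoot fb) (AdjoinRoot.root fb)) =
      D ℤ R b)
    (s t : AdjoinRoot fa) :
    Tx (s • D R (AdjoinRoot fa) t) = Ty (φ s • D R (AdjoinRoot fb) (φ t)) := by
  have hp := (Fact.out : p.Prime)
  have hgp : (φ (AdjoinRoot.root fa)) ^ p = AdjoinRoot.of fb a := by
    rw [← map_pow, hra, ← AdjoinRoot.algebraMap_eq, φ.commutes, AdjoinRoot.algebraMap_eq]
  -- powers
  have h1 : ∀ m : ℕ, Tx (AdjoinRoot.root fa ^ m • D R (AdjoinRoot fa) (AdjoinRoot.root fa)) =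
      Ty ((φ (AdjoinRoot.root fa)) ^ m • D R (AdjoinRoot fb) (φ (AdjoinRoot.root fa))) := by
    intro m
    have hgm : (φ (AdjoinRoot.root fa)) ^ m =
        AdjoinRoot.of fb (a ^ (m / p)) * (φ (AdjoinRoot.root fa)) ^ (m % p) := by
      conv_lhs => rw [← Nat.div_add_mod m p]
      rw [pow_add, pow_mul, hgp, map_pow]
    rw [root_pow_eq p a hra m, hgm, T_of_mul, T_of_mul]
    congr 1
    have hlt : m % p < p := Nat.mod_lt _ hp.pos
    by_cases hi : m % p + 2 ≤ p
    · rw [hTx _ hi, T_pow_smul_D p b hrb Ty hTy _ _ hi]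
    · have hi' : m % p = p - 1 := by omega
      rw [hi', hTx', T_frob p b hrb hinjb Ty hTy hTy' _ a hgp]
  -- polynomials in the root
  have h2 : ∀ w : R[X], Tx (aeval (AdjoinRoot.root fa) w • D R (AdjoinRoot fa) (AdjoinRoot.root fa)) =
      Ty (aeval (φ (AdjoinRoot.root fa)) w • D R (AdjoinRoot fb) (φ (AdjoinRoot.root fa))) := by
    intro w
    induction w using Polynomial.induction_on' with
    | add w1 w2 e1 e2 => rw [map_add, map_add, add_smul, add_smul, map_add, map_add, e1, e2]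
    | monomial m r =>
      rw [aeval_monomial, aeval_monomial, AdjoinRoot.algebraMap_eq, AdjoinRoot.algebraMap_eq,
        T_of_mul, T_of_mul, h1]
  obtain ⟨ws, rfl⟩ := AdjoinRoot.mk_surjective s
  obtain ⟨wt, rfl⟩ := AdjoinRoot.mk_surjective t
  rw [← AdjoinRoot.aeval_eq, ← AdjoinRoot.aeval_eq, ← aeval_algHom_apply φ, ← aeval_algHom_apply φ,
    Derivation.map_aeval, Derivation.map_aeval, smul_smul, smul_smul, ← map_mul, ← map_mul]
  exact h2 (ws * derivative wt)

end Main

end Groth.Agent.H64.PthTrace
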