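import Mathlib

/-!
# Rational maximisers of `ℓ·y / √q(y)` on the non-negative orthant

Helper library for S19138.  `qf C y = y ⬝ᵥ C *ᵥ y`, `bf` its symmetrised polarisation.
-/

namespace Groth.Agent.H64.RatMax

open Matrix

variable {n : ℕ}

/-- the quadratic form of a (not necessarily symmetric) matrix -/
def qf (C : Matrix (Fin n) (Fin n) ℝ) (y : Fin n → ℝ) : ℝ := y ⬝ᵥ C *ᵥ y

/-- the symmetrised bilinear form -/
def bf (C : Matrix (Fin n) (Fin n) ℝ) (y w : Fin n → ℝ) : ℝ := y ⬝ᵥ C *ᵥ w + w ⬝ᵥ C *ᵥ y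

/-- the gradient of `qf` -/
def G (C : Matrix (Fin n) (Fin n) ℝ) (v : Fin n → ℝ) (j : Fin n) : ℝ :=
  ∑ i, (C i j + C j i) * v i

/-- the function to maximise -/
noncomputable def phi (l : Fin n → ℝ) (C : Matrix (Fin n) (Fin n) ℝ) (y : Fin n → ℝ) : ℝ :=
  l ⬝ᵥ y / Real.sqrt (qf C y)

/-- `y` minimises `qf C` on `{y ≥ 0, l·y = 1}` -/
def IsMin (l : Fin n → ℝ) (C : Matrix (Fin n) (Fin n) ℝ) (y : Fin n → ℝ) : Prop :=
  (∀ i, 0 ≤ y i) ∧ l ⬝ᵥ y = 1 ∧
    ∀ z : Fin n → ℝ, (∀ i, 0 ≤ z i) → l ⬝ᵥ z = 1 → qf C y ≤ qf C z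

theorem qf_add_smul (C : Matrix (Fin n) (Fin n) ℝ) (y w : Fin n → ℝ) (t : ℝ) :
    qf C (y + t • w) = qf C y + t * bf C y w + t ^ 2 * qf C w := by
  unfold qf bf
  simp only [Matrix.mulVec_add, Matrix.mulVec_smul, add_dotProduct, dotProduct_add,
    smul_dotProduct, dotProduct_smul, smul_eq_mul]
  ring

theorem qf_smul (C : Matrix (Fin n) (Fin n) ℝ) (c : ℝ) (y : Fin n → ℝ) :
    qf C (c • y) = c ^ 2 * qf C y := by
  unfold qf
  simp only [Matrix.mulVec_smul, smul_dotProduct, dotProduct_smul, smul_eq_mul]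
  ring

theorem qf_neg (C : Matrix (Fin n) (Fin n) ℝ) (y : Fin n → ℝ) : qf C (-y) = qf C y := by
  have h := qf_smul C (-1) y
  simpa using h

theorem bf_sub_left (C : Matrix (Fin n) (Fin n) ℝ) (v v' w : Fin n → ℝ) :
    bf C (v - v') w = bf C v w - bf C v' w := by
  unfold bf
  rw [sub_dotProduct, Matrix.mulVec_sub, dotProduct_sub]
  ring

theorem bf_eq_dot (C : Matrix (Fin n) (Fin n) ℝ) (v w : Fin n → ℝ) :
    bf C v w = G C v ⬝ᵥ w := by
  unfold bf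
  simp only [G, dotProduct, mulVec, Finset.mul_sum, Finset.sum_mul]
  rw [Finset.sum_comm, ← Finset.sum_add_distrib]
  refine Finset.sum_congr rfl fun j _ => ?_
  rw [← Finset.sum_add_distrib]
  refine Finset.sum_congr rfl fun i _ => ?_
  ring

theorem phi_smul (l : Fin n → ℝ) (C : Matrix (Fin n) (Fin n) ℝ) (c : ℝ) (hc : 0 < c)
    (y : Fin n → ℝ) : phi l C (c • y) = phi l C y := by
  unfold phi
  rw [qf_smul, dotProduct_smul, smul_eq_mul, Real.sqrt_mul (sq_nonneg c), Real.sqrt_sq hc.le,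
    mul_div_mul_left _ _ hc.ne']

theorem exists_pos_forall_nonneg (y w : Fin n → ℝ) (hy : ∀ i, 0 ≤ y i)
    (hw : ∀ i, y i = 0 → w i = 0) :
    ∃ δ : ℝ, 0 < δ ∧ ∀ t : ℝ, |t| ≤ δ → ∀ i, 0 ≤ y i + t * w i := by
  have h1 : ∀ i, ∀ᶠ t : ℝ in nhds 0, 0 ≤ y i + t * w i := by
    intro i
    by_cases hi : y i = 0
    · refine Filter.Eventually.of_forall fun t => ?_
      rw [hi, hw i hi]
      simp
    · have hpos : 0 < y i := lt_of_le_of_ne (hy i) (Ne.symm hi)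
      have hc : ContinuousAt (fun t : ℝ => y i + t * w i) 0 := by fun_prop
      have h2 := hc.tendsto.eventually
        (lt_mem_nhds (show (0 : ℝ) < (fun t : ℝ => y i + t * w i) 0 by simpa using hpos))
      exact h2.mono fun t ht => ht.le
  have h2 : ∀ᶠ t : ℝ in nhds 0, ∀ i, 0 ≤ y i + t * w i := Filter.eventually_all.2 h1
  obtain ⟨ε, hε, hε'⟩ := Metric.eventually_nhds_iff.1 h2
  refine ⟨ε / 2, by positivity, fun t ht i => hε' ?_ i⟩
  rw [Real.dist_eq, sub_zero]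
  linarith

/-- Existence of a real minimiser of `qf C` on `{y ≥ 0, l·y = 1}`. -/
theorem exists_min (l : Fin n → ℝ) (C : Matrix (Fin n) (Fin n) ℝ)
    (hpos : ∀ y : Fin n → ℝ, (∀ i, 0 ≤ y i) → y ≠ 0 → 0 < qf C y)
    (hl : ∃ y : Fin n → ℝ, (∀ i, 0 ≤ y i) ∧ 0 < l ⬝ᵥ y) :
    ∃ y : Fin n → ℝ, IsMin l C y := by
  obtain ⟨y1, hy1, hly1⟩ := hl
  have hy1ne : y1 ≠ 0 := by
    rintro rfl
    simp at hly1
  obtain ⟨i0, -⟩ : ∃ i, y1 i ≠ 0 := by
    by_contra h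
    push Not at h
    exact hy1ne (funext h)
  have hsimp_ne : ∀ y ∈ stdSimplex ℝ (Fin n), y ≠ 0 := by
    rintro y hy rfl
    have := hy.2
    simp at this
  have hcl : Continuous fun y : Fin n → ℝ => l ⬝ᵥ y := by
    simp only [dotProduct]
    fun_prop
  have hcq : Continuous (qf C) := by
    unfold qf
    simp only [dotProduct, mulVec]
    fun_prop
  have hcont : ContinuousOn (phi l C) (stdSimplex ℝ (Fin n)) :=
    hcl.continuousOn.div (Real.continuous_sqrt.comp hcq).continuousOn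
      (fun y hy => (Real.sqrt_pos.2 (hpos y hy.1 (hsimp_ne y hy))).ne')
  obtain ⟨y0, hy0mem, hy0max⟩ := (isCompact_stdSimplex ℝ (Fin n)).exists_isMaxOn
    ⟨_, single_mem_stdSimplex ℝ i0⟩ hcont
  have hmax : ∀ z : Fin n → ℝ, (∀ i, 0 ≤ z i) → z ≠ 0 → phi l C z ≤ phi l C y0 := by
    intro z hz0 hzne
    obtain ⟨i, hi⟩ : ∃ i, z i ≠ 0 := by
      by_contra h
      push Not at h
      exact hzne (funext h)
    have hs : 0 < ∑ i, z i :=
      Finset.sum_pos' (fun i _ => hz0 i)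
        ⟨i, Finset.mem_univ i, lt_of_le_of_ne (hz0 i) (Ne.symm hi)⟩
    have hmem : (1 / ∑ i, z i) • z ∈ stdSimplex ℝ (Fin n) := by
      refine ⟨fun i => ?_, ?_⟩
      · simp only [Pi.smul_apply, smul_eq_mul]
        exact mul_nonneg (one_div_pos.2 hs).le (hz0 i)
      · simp only [Pi.smul_apply, smul_eq_mul, ← Finset.mul_sum]
        exact one_div_mul_cancel hs.ne'
    have h1 := isMaxOn_iff.1 hy0max _ hmem
    rwa [phi_smul l C _ (one_div_pos.2 hs)] at h1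
  have hq1 : 0 < qf C y1 := hpos y1 hy1 hy1ne
  have hφ1 : 0 < phi l C y1 := div_pos hly1 (Real.sqrt_pos.2 hq1)
  have hy0ne : y0 ≠ 0 := hsimp_ne y0 hy0mem
  have hq0 : 0 < qf C y0 := hpos y0 hy0mem.1 hy0ne
  have hφ0 : 0 < phi l C y0 := lt_of_lt_of_le hφ1 (hmax y1 hy1 hy1ne)
  have hc : 0 < l ⬝ᵥ y0 := (div_pos_iff_of_pos_right (Real.sqrt_pos.2 hq0)).1 hφ0
  obtain ⟨y, hy⟩ : ∃ y : Fin n → ℝ, y = (1 / (l ⬝ᵥ y0)) • y0 := ⟨_, rfl⟩
  have hy0' : ∀ i, 0 ≤ y i := by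
    intro i
    rw [hy]
    simp only [Pi.smul_apply, smul_eq_mul]
    exact mul_nonneg (one_div_pos.2 hc).le (hy0mem.1 i)
  have hly : l ⬝ᵥ y = 1 := by
    rw [hy, dotProduct_smul, smul_eq_mul, one_div_mul_cancel hc.ne']
  have hyne : y ≠ 0 := by
    intro h
    rw [h] at hly
    simp at hly
  have hqy : 0 < qf C y := hpos y hy0' hyne
  have hyφ : phi l C y = phi l C y0 := by
    rw [hy]
    exact phi_smul l C _ (one_div_pos.2 hc) y0
  refine ⟨y, hy0', hly, fun z hz0 hlz => ?_⟩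
  have hzne : z ≠ 0 := by
    intro h
    rw [h] at hlz
    simp at hlz
  have hqz : 0 < qf C z := hpos z hz0 hzne
  have h1 : phi l C z ≤ phi l C y := by
    rw [hyφ]
    exact hmax z hz0 hzne
  unfold phi at h1
  rw [hlz, hly, one_div_le_one_div (Real.sqrt_pos.2 hqz) (Real.sqrt_pos.2 hqy)] at h1
  exact (Real.sqrt_le_sqrt_iff hqz.le).1 h1

/-- A minimiser of minimal support, with stationarity and non-degeneracy. -/
theorem exists_good (l : Fin n → ℝ) (C : Matrix (Fin n) (Fin n) ℝ)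
    (hnn : ∀ y : Fin n → ℝ, 0 ≤ qf C y)
    (hpos : ∀ y : Fin n → ℝ, (∀ i, 0 ≤ y i) → y ≠ 0 → 0 < qf C y)
    (hl : ∃ y : Fin n → ℝ, (∀ i, 0 ≤ y i) ∧ 0 < l ⬝ᵥ y) :
    ∃ y : Fin n → ℝ, IsMin l C y ∧
      (∀ w : Fin n → ℝ, (∀ i, y i = 0 → w i = 0) → l ⬝ᵥ w = 0 → bf C y w = 0) ∧
      (∀ w : Fin n → ℝ, (∀ i, y i = 0 → w i = 0) → l ⬝ᵥ w = 0 → qf C w = 0 → w = 0) := by
  classical
  have hex : ∃ k : ℕ, ∃ y : Fin n → ℝ, IsMin l C y ∧
      (Finset.univ.filter fun i => y i ≠ 0).card = k := by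
    obtain ⟨y, hy⟩ := exists_min l C hpos hl
    exact ⟨_, y, hy, rfl⟩
  obtain ⟨y, hyMin, hk⟩ := Nat.find_spec hex
  obtain ⟨hy0, hly, hmin⟩ := hyMin
  have hminimal : ∀ y' : Fin n → ℝ, IsMin l C y' →
      (Finset.univ.filter fun i => y i ≠ 0).card ≤
        (Finset.univ.filter fun i => y' i ≠ 0).card := by
    intro y' hy'
    rw [hk]
    exact Nat.find_min' hex ⟨y', hy', rfl⟩
  have hbq : ∀ w : Fin n → ℝ, qf C w = 0 → bf C y w = 0 := by
    intro w hw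
    by_contra hb
    have h1 := hnn (y + (-(qf C y + 1) / bf C y w) • w)
    rw [qf_add_smul, hw, mul_zero, add_zero, div_mul_cancel₀ _ hb] at h1
    linarith
  have hstat : ∀ w : Fin n → ℝ, (∀ i, y i = 0 → w i = 0) → l ⬝ᵥ w = 0 → bf C y w = 0 := by
    intro w hw hlw
    obtain ⟨δ, hδ, hδw⟩ := exists_pos_forall_nonneg y w hy0 hw
    have hstep : ∀ t : ℝ, |t| ≤ δ → 0 ≤ t * bf C y w + t ^ 2 * qf C w := by
      intro t ht
      have h1 := hmin (y + t • w) (fun i => by simpa using hδw t ht i)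
        (by rw [dotProduct_add, dotProduct_smul, hly, hlw, smul_zero, add_zero])
      rw [qf_add_smul] at h1
      linarith
    have hQ : 0 ≤ qf C w := hnn w
    have key : ∀ t : ℝ, 0 < t → t ≤ δ → |bf C y w| ≤ t * qf C w := by
      intro t ht htδ
      have h1 := hstep t (by rwa [abs_of_pos ht])
      have h2 := hstep (-t) (by rwa [abs_neg, abs_of_pos ht])
      rw [abs_le]
      constructor
      · by_contra h
        push Not at h
        nlinarith [mul_pos ht (sub_pos.2 h)]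
      · by_contra h
        push Not at h
        nlinarith [mul_pos ht (sub_pos.2 h)]
    by_contra hb
    have hbpos : 0 < |bf C y w| := abs_pos.2 hb
    have ht : 0 < min δ (|bf C y w| / (2 * (qf C w + 1))) :=
      lt_min hδ (div_pos hbpos (by linarith))
    have h3 := key _ ht (min_le_left _ _)
    have h4 : min δ (|bf C y w| / (2 * (qf C w + 1))) ≤ |bf C y w| / (2 * (qf C w + 1)) :=
      min_le_right _ _
    rw [le_div_iff₀ (by linarith)] at h4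
    nlinarith [mul_nonneg ht.le hQ]
  have hcore : ∀ w : Fin n → ℝ, (∀ i, y i = 0 → w i = 0) → l ⬝ᵥ w = 0 → qf C w = 0 →
      ¬ ∃ i, w i < 0 := by
    rintro w hw hlw hqw ⟨i1, hi1⟩
    obtain ⟨T, hT⟩ : ∃ T : Finset (Fin n), T = Finset.univ.filter fun i => w i < 0 := ⟨_, rfl⟩
    have hTne : T.Nonempty := ⟨i1, by simp [hT, hi1]⟩
    obtain ⟨i0, hi0T, hi0min⟩ := Finset.exists_min_image T (fun i => y i / (-w i)) hTne
    have hwi0 : w i0 < 0 := by simpa [hT] using hi0T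
    obtain ⟨t, ht⟩ : ∃ t : ℝ, t = y i0 / (-w i0) := ⟨_, rfl⟩
    have ht0 : 0 ≤ t := by
      rw [ht]
      exact div_nonneg (hy0 i0) (by linarith)
    have hz0 : ∀ i, 0 ≤ (y + t • w) i := by
      intro i
      simp only [Pi.add_apply, Pi.smul_apply, smul_eq_mul]
      by_cases hwi : w i < 0
      · have h1 : y i0 / (-w i0) ≤ y i / (-w i) := hi0min i (by simp [hT, hwi])
        rw [← ht, le_div_iff₀ (by linarith)] at h1
        linarith
      · push Not at hwi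
        have := mul_nonneg ht0 hwi
        linarith [hy0 i]
    have hlz : l ⬝ᵥ (y + t • w) = 1 := by
      rw [dotProduct_add, dotProduct_smul, hly, hlw, smul_zero, add_zero]
    have hqz : qf C (y + t • w) = qf C y := by
      rw [qf_add_smul, hbq w hqw, hqw]
      ring
    have hzmin : IsMin l C (y + t • w) :=
      ⟨hz0, hlz, fun z' hz' hlz' => by rw [hqz]; exact hmin z' hz' hlz'⟩
    have hzi0 : (y + t • w) i0 = 0 := by
      simp only [Pi.add_apply, Pi.smul_apply, smul_eq_mul]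
      have h1 : t * w i0 = -y i0 := by
        rw [ht, div_mul_eq_mul_div, div_eq_iff (neg_ne_zero.2 hwi0.ne)]
        ring
      rw [h1]
      ring
    have hyi0 : y i0 ≠ 0 := fun h => by
      have := hw i0 h
      linarith
    have hsub : (Finset.univ.filter fun i => (y + t • w) i ≠ 0) ⊂
        (Finset.univ.filter fun i => y i ≠ 0) := by
      rw [Finset.ssubset_iff_of_subset]
      · refine ⟨i0, by simp [hyi0], ?_⟩
        simp only [Finset.mem_filter, Finset.mem_univ, true_and, not_not]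
        exact hzi0
      · intro i hi
        simp only [Finset.mem_filter, Finset.mem_univ, true_and] at hi ⊢
        intro hyi
        apply hi
        simp [hyi, hw i hyi]
    exact absurd (hminimal _ hzmin) (not_le.2 (Finset.card_lt_card hsub))
  have hN : ∀ w : Fin n → ℝ, (∀ i, y i = 0 → w i = 0) → l ⬝ᵥ w = 0 → qf C w = 0 → w = 0 := by
    intro w hw hlw hqw
    by_contra hne
    obtain ⟨i, hi⟩ : ∃ i, w i ≠ 0 := by
      by_contra h
      push Not at h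
      exact hne (funext h)
    rcases lt_or_gt_of_ne hi with h | h
    · exact hcore w hw hlw hqw ⟨i, h⟩
    · exact hcore (-w) (fun j hj => by simp [hw j hj])
        (by rw [dotProduct_neg, hlw, neg_zero]) (by rw [qf_neg, hqw])
        ⟨i, by simpa using h⟩
  exact ⟨y, ⟨hy0, hly, hmin⟩, hstat, hN⟩

/-- A `ℚ`-linear retraction of `ℝ` onto `ℚ`, as a plain function. -/
theorem exists_sigma : ∃ σ : ℝ → ℝ,
    (∀ (r : ℚ) (x : ℝ), σ ((r : ℝ) * x) = (r : ℝ) * σ x) ∧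
    (∀ (m : ℕ) (f : Fin m → ℝ), σ (∑ i, f i) = ∑ i, σ (f i)) ∧
    (∀ r : ℚ, σ (r : ℝ) = r) ∧ (∀ x, ∃ r : ℚ, σ x = (r : ℝ)) := by
  obtain ⟨ρ, hρ⟩ := LinearMap.exists_leftInverse_of_injective (Algebra.linearMap ℚ ℝ)
    (LinearMap.ker_eq_bot.mpr (fun a b h => (algebraMap ℚ ℝ).injective h))
  have hρr : ∀ r : ℚ, ρ (r : ℝ) = r := fun r => by
    have := LinearMap.congr_fun hρ r
    simpa using this
  refine ⟨fun x => ((ρ x : ℚ) : ℝ), ?_, ?_, ?_, ?_⟩
  · intro r x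
    show ((ρ ((r : ℝ) * x) : ℚ) : ℝ) = (r : ℝ) * ((ρ x : ℚ) : ℝ)
    rw [← Rat.smul_def, map_smul, smul_eq_mul, Rat.cast_mul]
  · intro m f
    show ((ρ (∑ i, f i) : ℚ) : ℝ) = ∑ i, ((ρ (f i) : ℚ) : ℝ)
    rw [map_sum, Rat.cast_sum]
  · intro r
    show ((ρ (r : ℝ) : ℚ) : ℝ) = r
    rw [hρr]
  · intro x
    exact ⟨ρ x, rfl⟩

/-- The rational minimiser. -/
theorem exists_rat_min (ℓ : Fin n → ℚ) (B : Matrix (Fin n) (Fin n) ℚ)
    (l : Fin n → ℝ) (C : Matrix (Fin n) (Fin n) ℝ)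
    (hlℓ : ∀ i, l i = (ℓ i : ℝ)) (hCB : ∀ i j, C i j = (B i j : ℝ))
    (hnn : ∀ y : Fin n → ℝ, 0 ≤ qf C y)
    (hpos : ∀ y : Fin n → ℝ, (∀ i, 0 ≤ y i) → y ≠ 0 → 0 < qf C y)
    (hl : ∃ y : Fin n → ℝ, (∀ i, 0 ≤ y i) ∧ 0 < l ⬝ᵥ y) :
    ∃ x : Fin n → ℚ, (∀ i, 0 ≤ x i) ∧ IsMin l C (fun i => (x i : ℝ)) := by
  classical
  obtain ⟨y, ⟨hy0, hly, hmin⟩, hstat, hN⟩ := exists_good l C hnn hpos hl
  obtain ⟨σ, hσ_mul, hσ_sum, hσ_rat, hσ_ex⟩ := exists_sigma
  have hσ_zero : σ 0 = 0 := by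
    have := hσ_rat 0
    simpa using this
  obtain ⟨y', hy'⟩ : ∃ y' : Fin n → ℝ, ∀ i, y' i = σ (y i) := ⟨_, fun _ => rfl⟩
  have hly' : l ⬝ᵥ y' = 1 := by
    have h1 : l ⬝ᵥ y' = σ (l ⬝ᵥ y) := by
      simp only [dotProduct]
      rw [hσ_sum]
      refine Finset.sum_congr rfl fun i _ => ?_
      rw [hlℓ i, hσ_mul, hy' i]
    rw [h1, hly]
    have := hσ_rat 1
    rwa [Rat.cast_one] at this
  obtain ⟨j0, -, hj0⟩ : ∃ j ∈ Finset.univ, l j * y j ≠ 0 := by
    apply Finset.exists_ne_zero_of_sum_ne_zero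
    show l ⬝ᵥ y ≠ 0
    rw [hly]
    exact one_ne_zero
  have hlj0 : l j0 ≠ 0 := left_ne_zero_of_mul hj0
  have hyj0 : y j0 ≠ 0 := right_ne_zero_of_mul hj0
  have hrel : ∀ j, y j ≠ 0 → l j0 * G C y j = l j * G C y j0 := by
    intro j hj
    obtain ⟨v, hvdef⟩ : ∃ v : Fin n → ℝ,
        v = l j0 • Pi.single j (1 : ℝ) - l j • Pi.single j0 (1 : ℝ) := ⟨_, rfl⟩
    have hv : ∀ i, y i = 0 → v i = 0 := by
      intro i hi
      have hij : i ≠ j := fun h => hj (h ▸ hi)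
      have hij0 : i ≠ j0 := fun h => hyj0 (h ▸ hi)
      rw [hvdef]
      simp [hij, hij0]
    have hlw : l ⬝ᵥ v = 0 := by
      rw [hvdef, dotProduct_sub, dotProduct_smul, dotProduct_smul, dotProduct_single,
        dotProduct_single]
      simp only [smul_eq_mul, mul_one]
      ring
    have h1 := hstat v hv hlw
    rw [bf_eq_dot, hvdef, dotProduct_sub, dotProduct_smul, dotProduct_smul, dotProduct_single,
      dotProduct_single] at h1
    simp only [smul_eq_mul, mul_one] at h1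
    linarith
  have hrelσ : ∀ j, y j ≠ 0 → l j0 * σ (G C y j) = l j * σ (G C y j0) := by
    intro j hj
    have h := hrel j hj
    rw [hlℓ j0, hlℓ j] at h ⊢
    have h2 := congrArg σ h
    rwa [hσ_mul, hσ_mul] at h2
  have hGy' : ∀ j, G C y' j = σ (G C y j) := by
    intro j
    unfold G
    rw [hσ_sum]
    refine Finset.sum_congr rfl fun i _ => ?_
    rw [hCB i j, hCB j i, ← Rat.cast_add, hσ_mul, hy' i]
  obtain ⟨w, hw_def⟩ : ∃ w : Fin n → ℝ, w = y - y' := ⟨_, rfl⟩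
  have hwv : ∀ i, y i = 0 → w i = 0 := by
    intro i hi
    rw [hw_def, Pi.sub_apply, hy' i, hi, hσ_zero, sub_zero]
  have hlw : l ⬝ᵥ w = 0 := by rw [hw_def, dotProduct_sub, hly, hly', sub_self]
  have hbyw : bf C y w = 0 := hstat w hwv hlw
  have hby'w : bf C y' w = 0 := by
    rw [bf_eq_dot]
    have h1 : l j0 * (G C y' ⬝ᵥ w) = σ (G C y j0) * (l ⬝ᵥ w) := by
      simp only [dotProduct, Finset.mul_sum]
      refine Finset.sum_congr rfl fun j _ => ?_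
      by_cases hj : y j = 0
      · rw [hwv j hj]
        ring
      · rw [hGy' j, ← mul_assoc, hrelσ j hj]
        ring
    rw [hlw, mul_zero] at h1
    exact (mul_eq_zero.1 h1).resolve_left hlj0
  have hqw : qf C w = 0 := by
    have h2 : bf C w w = bf C y w - bf C y' w := by
      rw [← bf_sub_left, ← hw_def]
    have h3 : bf C w w = qf C w + qf C w := rfl
    rw [hbyw, hby'w, sub_zero] at h2
    linarith
  have hw0 : w = 0 := hN w hwv hlw hqw
  have hyy' : y = y' := by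
    rw [hw_def] at hw0
    exact sub_eq_zero.1 hw0
  choose x hx using fun i => hσ_ex (y i)
  have hyx : y = fun i => (x i : ℝ) := by
    funext i
    rw [← hx i, ← hy' i]
    exact congrFun hyy' i
  refine ⟨x, fun i => ?_, ?_⟩
  · have h := hy0 i
    rw [congrFun hyx i] at h
    exact_mod_cast h
  · rw [← hyx]
    exact ⟨hy0, hly, hmin⟩

/-- From a minimiser of `qf` on the slice to a maximiser of `phi`. -/
theorem phi_le_of_min (l : Fin n → ℝ) (C : Matrix (Fin n) (Fin n) ℝ)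
    (hpos : ∀ y : Fin n → ℝ, (∀ i, 0 ≤ y i) → y ≠ 0 → 0 < qf C y)
    (x : Fin n → ℝ) (hx : IsMin l C x) (z : Fin n → ℝ) (hz0 : ∀ i, 0 ≤ z i) (hz : z ≠ 0) :
    l ⬝ᵥ z / Real.sqrt (qf C z) ≤ l ⬝ᵥ x / Real.sqrt (qf C x) := by
  obtain ⟨hx0, hlx, hmin⟩ := hx
  have hxne : x ≠ 0 := by
    intro h
    rw [h] at hlx
    simp at hlx
  have hqx : 0 < qf C x := hpos x hx0 hxne
  have hqz : 0 < qf C z := hpos z hz0 hz
  rw [hlx]
  by_cases h : l ⬝ᵥ z ≤ 0
  · calc l ⬝ᵥ z / Real.sqrt (qf C z) ≤ 0 :=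
          div_nonpos_of_nonpos_of_nonneg h (Real.sqrt_nonneg _)
      _ ≤ 1 / Real.sqrt (qf C x) := by positivity
  · push Not at h
    have hmem : ∀ i, 0 ≤ ((1 / (l ⬝ᵥ z)) • z) i := by
      intro i
      simp only [Pi.smul_apply, smul_eq_mul]
      exact mul_nonneg (one_div_pos.2 h).le (hz0 i)
    have hlz' : l ⬝ᵥ ((1 / (l ⬝ᵥ z)) • z) = 1 := by
      rw [dotProduct_smul, smul_eq_mul, one_div_mul_cancel h.ne']
    have h1 := hmin _ hmem hlz'
    rw [qf_smul] at h1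
    have hle : (l ⬝ᵥ z) ^ 2 * qf C x ≤ qf C z := by
      have h2 : (l ⬝ᵥ z) ^ 2 * qf C x ≤ (l ⬝ᵥ z) ^ 2 * ((1 / (l ⬝ᵥ z)) ^ 2 * qf C z) :=
        mul_le_mul_of_nonneg_left h1 (sq_nonneg _)
      have h3 : (l ⬝ᵥ z) ^ 2 * ((1 / (l ⬝ᵥ z)) ^ 2 * qf C z) = qf C z := by
        field_simp
      rwa [h3] at h2
    rw [div_le_div_iff₀ (Real.sqrt_pos.2 hqz) (Real.sqrt_pos.2 hqx), one_mul]
    have h4 : Real.sqrt ((l ⬝ᵥ z) ^ 2 * qf C x) = l ⬝ᵥ z * Real.sqrt (qf C x) := by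
      rw [Real.sqrt_mul (sq_nonneg _), Real.sqrt_sq h.le]
    rw [← h4]
    exact Real.sqrt_le_sqrt hle

end Groth.Agent.H64.RatMax
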