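import Mathlib
import Groth.Agent.H64.CD_P3a

/-!
# (Dcore) for helper85's S3220 squad: flat descent of "generated by one nonzerodivisor",
locally at a prime.  Elementary route through flat base change of colon ideals.
-/

set_option autoImplicit false

universe u

namespace Groth.Agent.H64.RelDiv_Dcore

theorem exists_not_mem_comap_of_colon {A B : Type u} [CommRing A] [CommRing B]
    [IsNoetherianRing A] [Algebra A B] [Module.Flat A B] (J K : Ideal A) (c : B) (𝔮 : Ideal B)
    (hc : c ∉ 𝔮)
    (hx : ∀ y ∈ K.map (algebraMap A B), y * c ∈ J.map (algebraMap A B)) :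
    ∃ s : A, (∀ k ∈ K, s * k ∈ J) ∧ s ∉ 𝔮.comap (algebraMap A B) := by
  have h1 : c ∈ (J.colon (K : Set A)).map (algebraMap A B) :=
    CD_P3a.mem_map_of_forall_mul_mem_map A B J K (J.colon (K : Set A))
      (fun a ha => Submodule.mem_colon.mpr fun k hk => by
        rw [smul_eq_mul, mul_comm]; exact ha k hk) c hx
  by_contra hcon
  push Not at hcon
  apply hc
  have hle : J.colon (K : Set A) ≤ 𝔮.comap (algebraMap A B) := by
    intro s hs
    exact hcon s (fun k hk => by simpa [smul_eq_mul] using Submodule.mem_colon.mp hs k hk)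
  exact (Ideal.map_le_iff_le_comap.mpr hle) h1

theorem exists_away_principal_nzd {A B : Type u} [CommRing A] [CommRing B] [IsNoetherianRing A]
    [Algebra A B] [Module.Flat A B] (I : Ideal A) (b : B) (hb : b ∈ nonZeroDivisors B)
    (hI : I.map (algebraMap A B) = Ideal.span {b}) (𝔮 : Ideal B) [𝔮.IsPrime] :
    ∃ g : A, g ∉ 𝔮.comap (algebraMap A B) ∧ ∃ a' : Localization.Away g,
      a' ∈ nonZeroDivisors (Localization.Away g) ∧
      I.map (algebraMap A (Localization.Away g)) = Ideal.span {a'} := by
  have hbc : ∀ {y : B}, b * y = 0 → y = 0 := fun {y} h =>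
    (mem_nonZeroDivisors_iff_left.mp hb) y h
  -- Step 0: a generator candidate `a1 = b * c1` with `c1 ∉ 𝔮`.
  obtain ⟨a1, ha1, c1, hc1, hac⟩ :
      ∃ a1 ∈ I, ∃ c1 : B, c1 ∉ 𝔮 ∧ algebraMap A B a1 = b * c1 := by
    by_contra hcon
    push Not at hcon
    have key : ∀ y ∈ I.map (algebraMap A B), ∃ c ∈ 𝔮, y = b * c := by
      intro y hy
      rw [Ideal.map] at hy
      refine Submodule.span_induction ?_ ?_ ?_ ?_ hy
      · rintro _ ⟨a, ha, rfl⟩
        have : algebraMap A B a ∈ Ideal.span {b} := hI ▸ Ideal.mem_map_of_mem _ ha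
        obtain ⟨c, hc⟩ := Ideal.mem_span_singleton'.mp this
        refine ⟨c, ?_, by rw [← hc, mul_comm]⟩
        by_contra hcq
        exact hcon a ha c hcq (by rw [← hc, mul_comm])
      · exact ⟨0, 𝔮.zero_mem, by simp⟩
      · rintro u v _ _ ⟨c, hc, rfl⟩ ⟨d, hd, rfl⟩
        exact ⟨c + d, 𝔮.add_mem hc hd, by ring⟩
      · rintro r u _ ⟨c, hc, rfl⟩
        exact ⟨r * c, 𝔮.mul_mem_left r hc, by rw [smul_eq_mul]; ring⟩
    obtain ⟨c, hc, hbc'⟩ := key b (hI ▸ Ideal.mem_span_singleton_self b)
    have hc1 : c = 1 := by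
      have : b * (c - 1) = 0 := by rw [mul_sub, ← hbc', mul_one, sub_self]
      exact sub_eq_zero.mp (hbc this)
    exact (Ideal.IsPrime.ne_top ‹_›) ((Ideal.eq_top_iff_one _).mpr (hc1 ▸ hc))
  -- Step 1: `s ∉ p` with `s • I ⊆ (a1)`.
  obtain ⟨s, hs, hsp⟩ := exists_not_mem_comap_of_colon (Ideal.span {a1}) I c1 𝔮 hc1 (by
    intro y hy
    rw [hI] at hy
    obtain ⟨y', rfl⟩ := Ideal.mem_span_singleton'.mp hy
    rw [mul_assoc, ← hac]
    exact Ideal.mul_mem_left _ _ (Ideal.mem_map_of_mem _ (Ideal.mem_span_singleton_self a1)))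
  -- Step 2: `t ∉ p` killing the annihilator of `a1`.
  obtain ⟨t, ht, htp⟩ := exists_not_mem_comap_of_colon (⊥ : Ideal A)
      ((⊥ : Ideal A).colon ({a1} : Set A)) c1 𝔮 hc1 (by
    intro y hy
    rw [Ideal.map_bot]
    rw [Ideal.map] at hy
    refine Submodule.span_induction ?_ ?_ ?_ ?_ hy
    · rintro _ ⟨n, hn, rfl⟩
      have hn' : n * a1 = 0 := by
        simpa [smul_eq_mul] using Submodule.mem_colon_singleton.mp hn
      have : b * (algebraMap A B n * c1) = 0 := by
        rw [mul_left_comm, ← hac, ← map_mul, hn', map_zero]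
      exact (Submodule.mem_bot _).mpr (hbc this)
    · simp
    · intro u v _ _ hu hv
      rw [add_mul]
      exact Ideal.add_mem _ hu hv
    · intro r u _ hu
      rw [smul_eq_mul, mul_assoc]
      exact Ideal.mul_mem_left _ _ hu)
  have ht' : ∀ n : A, n * a1 = 0 → t * n = 0 := by
    intro n hn
    have := ht n (Submodule.mem_colon_singleton.mpr (by simpa [smul_eq_mul] using hn))
    simpa using this
  -- Step 3: conclude on `A_g`, `g = s * t`.
  have hprime : (𝔮.comap (algebraMap A B)).IsPrime := Ideal.comap_isPrime _ _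
  refine ⟨s * t, fun h => (hprime.mem_or_mem h).elim hsp htp,
    algebraMap A (Localization.Away (s * t)) a1, ?_, ?_⟩
  · -- nonzerodivisor
    have hu : IsUnit (algebraMap A (Localization.Away (s * t)) (s * t)) :=
      IsLocalization.Away.algebraMap_isUnit (s * t)
    have hut : IsUnit (algebraMap A (Localization.Away (s * t)) t) := by
      rw [map_mul] at hu
      exact isUnit_of_mul_isUnit_right hu
    rw [mem_nonZeroDivisors_iff_right]
    intro z hz
    obtain ⟨⟨y, m⟩, hym⟩ := IsLocalization.surj (Submonoid.powers (s * t)) z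
    simp only at hym
    have hmu : IsUnit (algebraMap A (Localization.Away (s * t)) (m : A)) :=
      IsLocalization.map_units _ m
    have h0 : algebraMap A (Localization.Away (s * t)) (y * a1) = 0 := by
      rw [map_mul, ← hym, mul_right_comm, hz, zero_mul]
    obtain ⟨m', hm'⟩ := (IsLocalization.map_eq_zero_iff (Submonoid.powers (s * t)) _ _).mp h0
    have h1 : t * ((m' : A) * y) = 0 := ht' _ (by rw [mul_assoc]; exact hm')
    have h2 : algebraMap A (Localization.Away (s * t)) t *
        (algebraMap A (Localization.Away (s * t)) (m' : A) *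
          algebraMap A (Localization.Away (s * t)) y) = 0 := by
      rw [← map_mul, ← map_mul, h1, map_zero]
    have hm'u : IsUnit (algebraMap A (Localization.Away (s * t)) (m' : A)) :=
      IsLocalization.map_units _ m'
    have h3 : algebraMap A (Localization.Away (s * t)) y = 0 :=
      (hm'u.mul_right_eq_zero).mp ((hut.mul_right_eq_zero).mp h2)
    rw [h3] at hym
    exact (hmu.mul_left_eq_zero).mp hym
  · -- principal
    have hu : IsUnit (algebraMap A (Localization.Away (s * t)) (s * t)) :=
      IsLocalization.Away.algebraMap_isUnit (s * t)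
    have hus : IsUnit (algebraMap A (Localization.Away (s * t)) s) := by
      rw [map_mul] at hu
      exact isUnit_of_mul_isUnit_left hu
    apply le_antisymm
    · rw [Ideal.map_le_iff_le_comap]
      intro a ha
      rw [Ideal.mem_comap]
      obtain ⟨r, hr⟩ := Ideal.mem_span_singleton'.mp (hs a ha)
      rw [← Ideal.unit_mul_mem_iff_mem _ hus, ← map_mul, ← hr, map_mul]
      exact Ideal.mul_mem_left _ _ (Ideal.mem_span_singleton_self _)
    · rw [Ideal.span_le, Set.singleton_subset_iff]
      exact Ideal.mem_map_of_mem _ ha1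

end Groth.Agent.H64.RelDiv_Dcore
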