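import Mathlib
import Groth.Agent.H8.FlatBaseChange

/-!
# helper28's S12090 squad, piece (K1): in a cartesian square of closed immersions the kernel of
`O_{Z',i'u'} → O_{U',u'}` is generated by images of germs of sections of `O_Z` vanishing on `U`
-/

set_option autoImplicit false
set_option maxHeartbeats 400000
universe u
open CategoryTheory CategoryTheory.Limits AlgebraicGeometry TopologicalSpace Opposite

namespace Groth.Agent.H64.RelPC_K1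

/-- in a pushout square of commutative rings with `φ` surjective, the kernel of the pushed-out map
is the extension of the kernel of `φ` -/
theorem mem_map_ker_of_isPushout {A B A' B' : CommRingCat.{u}} {φ : A ⟶ B} {α : A ⟶ A'}
    {β : B ⟶ B'} {φ' : A' ⟶ B'} (h : IsPushout φ α β φ') (hφ : Function.Surjective φ.hom)
    (s : A') (hs : φ'.hom s = 0) : s ∈ Ideal.map α.hom (RingHom.ker φ.hom) := by
  let J : Ideal A' := Ideal.map α.hom (RingHom.ker φ.hom)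
  let kmap : A' ⟶ CommRingCat.of (A' ⧸ J) := CommRingCat.ofHom (Ideal.Quotient.mk J)
  have hle : RingHom.ker φ.hom ≤ RingHom.ker ((Ideal.Quotient.mk J).comp α.hom) := by
    intro a ha
    rw [RingHom.mem_ker, RingHom.comp_apply, Ideal.Quotient.eq_zero_iff_mem]
    exact Ideal.mem_map_of_mem _ ha
  let hB : B ⟶ CommRingCat.of (A' ⧸ J) :=
    CommRingCat.ofHom (RingHom.liftOfSurjective φ.hom hφ ⟨(Ideal.Quotient.mk J).comp α.hom, hle⟩)
  have w : φ ≫ hB = α ≫ kmap := by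
    ext a
    show RingHom.liftOfSurjective φ.hom hφ ⟨(Ideal.Quotient.mk J).comp α.hom, hle⟩ (φ.hom a) =
      (Ideal.Quotient.mk J) (α.hom a)
    exact RingHom.liftOfRightInverse_comp_apply _ _ _ _ a
  have h1 : φ' ≫ h.desc hB kmap w = kmap := h.inr_desc hB kmap w
  have h2 : kmap.hom s = 0 := by
    rw [← h1]
    show (h.desc hB kmap w).hom (φ'.hom s) = 0
    rw [hs, map_zero]
  exact Ideal.Quotient.eq_zero_iff_mem.mp h2

/-- (K1) -/
theorem ker_stalkMap_le_span {U Z U' Z' : Scheme.{u}}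
    {i : U ⟶ Z} {q : Z' ⟶ Z} {i' : U' ⟶ Z'} {g' : U' ⟶ U} (sq : IsPullback g' i' i q)
    [IsClosedImmersion i] [IsClosedImmersion i'] (u' : U')
    (k : Z'.presheaf.stalk (i' u')) (hk : (i'.stalkMap u').hom k = 0) :
    k ∈ Ideal.span {y : Z'.presheaf.stalk (i' u') | ∃ (W : Z.Opens) (b : Γ(Z, W))
      (hz : q (i' u') ∈ W), (i.app W).hom b = 0 ∧
        y = (q.stalkMap (i' u')).hom (Z.presheaf.germ W (q (i' u')) hz b)} := by
  -- an affine open `V` of `Z` around `q (i' u')`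
  obtain ⟨V, hV, hzV, -⟩ := exists_isAffineOpen_mem_and_subset (x := q (i' u'))
    (U := (⊤ : Z.Opens)) trivial
  -- a representative of `k`
  obtain ⟨V₀, hz'V₀, s₀, rfl⟩ := Z'.presheaf.exists_germ_eq k
  have hk' : U'.presheaf.germ (i' ⁻¹ᵁ V₀) u' hz'V₀ ((i'.app V₀).hom s₀) = 0 := by
    rw [← Scheme.Hom.germ_stalkMap_apply]
    exact hk
  have hk'' : U'.presheaf.germ (i' ⁻¹ᵁ V₀) u' hz'V₀ ((i'.app V₀).hom s₀) =
      U'.presheaf.germ (i' ⁻¹ᵁ V₀) u' hz'V₀ 0 := by rw [hk', map_zero]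
  obtain ⟨N, hu'N, iU, iV, hres⟩ := U'.presheaf.germ_eq u' hz'V₀ hz'V₀ _ _ hk''
  rw [map_zero] at hres
  -- `N` is the preimage of an open of `Z'`
  obtain ⟨N', hN'o, hN'⟩ := i'.isClosedEmbedding.isInducing.isOpen_iff.mp N.2
  let N'o : Z'.Opens := ⟨N', hN'o⟩
  have hz'N' : i' u' ∈ N'o := by
    show u' ∈ i' ⁻¹' N'
    rw [hN']
    exact hu'N
  -- an affine open `V'` of `Z'`
  have hz'W : i' u' ∈ V₀ ⊓ N'o ⊓ q ⁻¹ᵁ V := ⟨⟨hz'V₀, hz'N'⟩, hzV⟩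
  obtain ⟨V', hV', hz'V', hV'le⟩ := exists_isAffineOpen_mem_and_subset (x := i' u')
    (U := V₀ ⊓ N'o ⊓ q ⁻¹ᵁ V) hz'W
  have hV'V₀ : V' ≤ V₀ := fun x hx => (hV'le hx).1.1
  have hV'N' : V' ≤ N'o := fun x hx => (hV'le hx).1.2
  have hVV' : V' ≤ q ⁻¹ᵁ V := fun x hx => (hV'le hx).2
  let s : Γ(Z', V') := (Z'.presheaf.map (homOfLE hV'V₀).op).hom s₀
  have hks : Z'.presheaf.germ V₀ (i' u') hz'V₀ s₀ = Z'.presheaf.germ V' (i' u') hz'V' s :=
    (TopCat.Presheaf.germ_res_apply Z'.presheaf (homOfLE hV'V₀) (i' u') hz'V' s₀).symm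
  rw [hks]
  -- the pushout square of sections
  have hU : IsAffineOpen (i ⁻¹ᵁ V) := hV.preimage i
  have hUV : i ⁻¹ᵁ V ≤ i ⁻¹ᵁ V := le_rfl
  have hpush : IsPushout (i.appLE V (i ⁻¹ᵁ V) hUV) (q.appLE V V' hVV')
      (g'.appLE (i ⁻¹ᵁ V) (g' ⁻¹ᵁ (i ⁻¹ᵁ V) ⊓ i' ⁻¹ᵁ V') inf_le_left)
      (i'.appLE V' (g' ⁻¹ᵁ (i ⁻¹ᵁ V) ⊓ i' ⁻¹ᵁ V') inf_le_right) := by
    have := AlgebraicGeometry.isIso_pushoutSection_of_isAffineOpen sq hVV' hUV rfl hV hV' hU
    exact (AlgebraicGeometry.isIso_pushoutSection_iff sq hVV' hUV rfl).mp this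
  have hsurj : Function.Surjective (i.appLE V (i ⁻¹ᵁ V) hUV).hom := by
    rw [Scheme.Hom.appLE_eq_app]
    exact i.app_surjective V hV
  -- `s` dies in the pushout
  have hU''N : g' ⁻¹ᵁ (i ⁻¹ᵁ V) ⊓ i' ⁻¹ᵁ V' ≤ N := by
    intro x hx
    have h1 : i' x ∈ N'o := hV'N' hx.2
    have h2 : x ∈ i' ⁻¹' N' := h1
    rw [hN'] at h2
    exact h2
  have hs0 : (i'.appLE V' (g' ⁻¹ᵁ (i ⁻¹ᵁ V) ⊓ i' ⁻¹ᵁ V') inf_le_right).hom s = 0 := by
    have e1 : (i'.appLE V' (g' ⁻¹ᵁ (i ⁻¹ᵁ V) ⊓ i' ⁻¹ᵁ V') inf_le_right).hom s =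
        (i'.appLE V₀ (g' ⁻¹ᵁ (i ⁻¹ᵁ V) ⊓ i' ⁻¹ᵁ V')
          (inf_le_right.trans (fun x hx => hV'V₀ hx))).hom s₀ := by
      have := Scheme.Hom.map_appLE i' (U := V') (V := g' ⁻¹ᵁ (i ⁻¹ᵁ V) ⊓ i' ⁻¹ᵁ V')
        inf_le_right (homOfLE hV'V₀).op
      exact congrArg (fun m => m.hom s₀) this
    have e2 : (i'.appLE V₀ (g' ⁻¹ᵁ (i ⁻¹ᵁ V) ⊓ i' ⁻¹ᵁ V')
          (inf_le_right.trans (fun x hx => hV'V₀ hx))).hom s₀ =
        (U'.presheaf.map (homOfLE hU''N).op).hom ((U'.presheaf.map iU.op).hom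
          ((i'.app V₀).hom s₀)) := by
      have h3 : i'.app V₀ ≫ U'.presheaf.map iU.op ≫ U'.presheaf.map (homOfLE hU''N).op =
          i'.appLE V₀ (g' ⁻¹ᵁ (i ⁻¹ᵁ V) ⊓ i' ⁻¹ᵁ V')
            (inf_le_right.trans (fun x hx => hV'V₀ hx)) := by
        rw [← Functor.map_comp, Scheme.Hom.appLE]
        congr 1
      exact (congrArg (fun m => m.hom s₀) h3).symm
    rw [e1, e2]
    show (U'.presheaf.map (homOfLE hU''N).op).hom ((U'.presheaf.map iU.op) ((i'.app V₀).hom s₀)) = 0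
    rw [hres, map_zero]
  have hsJ := mem_map_ker_of_isPushout hpush hsurj s hs0
  -- conclude
  set T : Ideal (Z'.presheaf.stalk (i' u')) :=
    Ideal.span {y : Z'.presheaf.stalk (i' u') | ∃ (W : Z.Opens) (b : Γ(Z, W))
      (hz : q (i' u') ∈ W), (i.app W).hom b = 0 ∧
        y = (q.stalkMap (i' u')).hom (Z.presheaf.germ W (q (i' u')) hz b)} with hT
  have hJT : Ideal.map (q.appLE V V' hVV').hom (RingHom.ker (i.appLE V (i ⁻¹ᵁ V) hUV).hom) ≤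
      T.comap (Z'.presheaf.germ V' (i' u') hz'V').hom := by
    rw [Ideal.map_le_iff_le_comap]
    intro b hb
    rw [Ideal.mem_comap, Ideal.mem_comap]
    apply Ideal.subset_span
    refine ⟨V, b, hzV, ?_, ?_⟩
    · rw [← Scheme.Hom.appLE_eq_app]
      exact hb
    · have := Groth.Agent.H8.germ_stalkMap_eq q hVV' (i' u') hz'V'
      exact (congrArg (fun m => m.hom b) this).symm
  exact hJT hsJ

end Groth.Agent.H64.RelPC_K1
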