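import Mathlib
import Groth.Prelude.Def_W4c1hurwitzcptBd

/-!
Coordinates of `k⟦x⟧` over `k⟦x^p⟧` and valuation-graded generators of `k⟦t⟧`-submodules of
`RootDisk p k` (rows S13884, S13885).
-/

namespace Groth.Agent.H64.RootD

open PowerSeries W4c1hurwitzcpt

variable {k : Type*} [Field k] (p : ℕ) [NeZero p]

/-- the `c`-th coordinate of a power series w.r.t. `1, X, …, X^(p-1)` over `k⟦X^p⟧`. -/
noncomputable def A (c : ℕ) : PowerSeries k →+ PowerSeries k where
  toFun z := PowerSeries.mk fun n => coeff (p * n + c) z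
  map_zero' := by ext n; simp
  map_add' z w := by ext n; simp

lemma coeff_A (c n : ℕ) (z : PowerSeries k) : coeff n (A p c z) = coeff (p * n + c) z := by
  simp [A]

lemma coeff_expand_mul_X_pow (c c' : Fin p) (a : PowerSeries k) (n : ℕ) :
    coeff (p * n + c) (expand p (NeZero.ne p) a * X ^ (c' : ℕ)) =
      if c' = c then coeff n a else 0 := by
  rw [coeff_mul_X_pow']
  by_cases h : c' = c
  · subst h
    rw [if_pos (Nat.le_add_left _ _), if_pos rfl, Nat.add_sub_cancel, coeff_expand_mul]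
  · rw [if_neg h]
    split_ifs with hle
    · rw [coeff_expand, if_neg]
      rintro ⟨q, hq⟩
      apply h
      have h1 : (c : ℕ) + p * n = (c' : ℕ) + p * q := by omega
      have h2 := congrArg (· % p) h1
      simp only [Nat.add_mul_mod_self_left] at h2
      rw [Nat.mod_eq_of_lt c.2, Nat.mod_eq_of_lt c'.2] at h2
      exact Fin.ext h2.symm
    · rfl

lemma decomp (z : PowerSeries k) :
    z = ∑ c : Fin p, expand p (NeZero.ne p) (A p c z) * X ^ (c : ℕ) := by
  have hp : 0 < p := Nat.pos_of_ne_zero (NeZero.ne p)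
  ext m
  obtain ⟨n, c, rfl⟩ : ∃ (n : ℕ) (c : Fin p), m = p * n + c :=
    ⟨m / p, ⟨m % p, Nat.mod_lt _ hp⟩, (Nat.div_add_mod m p).symm⟩
  rw [map_sum, Finset.sum_eq_single c]
  · rw [coeff_expand_mul_X_pow, if_pos rfl, coeff_A]
  · intro c' _ hne
    rw [coeff_expand_mul_X_pow, if_neg hne]
  · intro h; exact absurd (Finset.mem_univ c) h

lemma A_sum (a : Fin p → PowerSeries k) (c : Fin p) :
    A p c (∑ c' : Fin p, expand p (NeZero.ne p) (a c') * X ^ (c' : ℕ)) = a c := by
  ext n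
  rw [coeff_A, map_sum, Finset.sum_eq_single c]
  · rw [coeff_expand_mul_X_pow, if_pos rfl]
  · intro c' _ hne
    rw [coeff_expand_mul_X_pow, if_neg hne]
  · intro h; exact absurd (Finset.mem_univ c) h

lemma A_smul (c : Fin p) (r z : PowerSeries k) :
    A p c (expand p (NeZero.ne p) r * z) = r * A p c z := by
  conv_lhs => rw [decomp p z, Finset.mul_sum]
  have : ∀ c' : Fin p, expand p (NeZero.ne p) r *
      (expand p (NeZero.ne p) (A p c' z) * X ^ (c' : ℕ))
      = expand p (NeZero.ne p) (r * A p c' z) * X ^ (c' : ℕ) := fun c' => by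
    rw [map_mul, mul_assoc]
  simp_rw [this]
  exact A_sum p (fun c' => r * A p c' z) c

theorem val_smul (r : PowerSeries k) (z : RootDisk p k) :
    RootDisk.val (r • z) = PowerSeries.expand p (NeZero.ne p) r * RootDisk.val z := rfl

/-- the coordinate as a `k⟦t⟧`-linear map on `RootDisk p k`. -/
noncomputable def Ac (c : Fin p) : RootDisk p k →ₗ[PowerSeries k] PowerSeries k where
  toFun z := A p c (RootDisk.val z)
  map_add' z w := by rw [map_add, map_add]
  map_smul' r z := by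
    rw [RingHom.id_apply, smul_eq_mul, val_smul]
    exact A_smul p c r (RootDisk.val z)

lemma Ac_apply (c : Fin p) (z : RootDisk p k) : Ac p c z = A p c (RootDisk.val z) := rfl

lemma dvd_of_coeff (a b : PowerSeries k) (d : ℕ) (ha : coeff d a ≠ 0)
    (hb : ∀ m < d, coeff m b = 0) : a ∣ b := by
  have ha0 : a ≠ 0 := fun h => ha (by rw [h, map_zero])
  have hle : a.order.toNat ≤ d := by
    have h1 : a.order ≤ d := order_le d ha
    have h2 : (a.order.toNat : ℕ∞) = a.order := coe_toNat_order ha0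
    rw [← h2] at h1
    exact_mod_cast h1
  have h1 : a ∣ X ^ d := by
    have hu := isUnit_divided_by_X_pow_order ha0
    have : X ^ a.order.toNat * divXPowOrder a ∣ X ^ d :=
      (IsUnit.mul_right_dvd hu).mpr (pow_dvd_pow X hle)
    rwa [X_pow_order_mul_divXPowOrder] at this
  exact h1.trans (X_pow_dvd_iff.mpr hb)

theorem exists_gens_aux (n : ℕ) : ∀ (J : Finset (Fin p))
    (M : Submodule (PowerSeries k) (RootDisk p k)),
    J.card ≤ n → (∀ z ∈ M, ∀ c : Fin p, c ∉ J → Ac p c z = 0) →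
    ∃ (C : Finset (Fin p)) (g : Fin p → RootDisk p k), C ⊆ J ∧
      (∀ c ∈ C, g c ∈ M ∧ g c ≠ 0 ∧
        (PowerSeries.order (RootDisk.val (g c))).toNat % p = (c : ℕ)) ∧
      M = Submodule.span (PowerSeries k) (g '' (C : Set (Fin p))) := by
  have hp : 0 < p := Nat.pos_of_ne_zero (NeZero.ne p)
  have hdet : ∀ z : RootDisk p k, z ≠ 0 → ∀ (d : ℕ) (c : Fin p),
      (PowerSeries.order (RootDisk.val z)).toNat = p * d + c → coeff d (Ac p c z) ≠ 0 := by
    intro z hz d c h
    rw [Ac_apply, coeff_A, ← h]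
    exact coeff_order ((map_ne_zero_iff RootDisk.val RootDisk.val.injective).mpr hz)
  induction n with
  | zero =>
    intro J M hJ hM
    have hJ0 : J = ∅ := Finset.card_eq_zero.mp (Nat.le_zero.mp hJ)
    have hbot : M = ⊥ := by
      rw [Submodule.eq_bot_iff]
      intro z hz
      by_contra hz0
      have h1 := hdet z hz0 ((PowerSeries.order (RootDisk.val z)).toNat / p)
        ⟨(PowerSeries.order (RootDisk.val z)).toNat % p, Nat.mod_lt _ hp⟩
        (Nat.div_add_mod _ p).symm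
      apply h1
      rw [hM z hz _ (by rw [hJ0]; exact Finset.notMem_empty _), map_zero]
    exact ⟨∅, fun _ => 0, by simp, by simp, by simp [hbot]⟩
  | succ n ih =>
    intro J M hJ hM
    by_cases hbot : M = ⊥
    · exact ⟨∅, fun _ => 0, by simp, by simp, by simp [hbot]⟩
    obtain ⟨z₁, hz₁M, hz₁0⟩ := Submodule.exists_mem_ne_zero_of_ne_bot hbot
    obtain ⟨n₀, ⟨z₀, hz₀M, hz₀0, hn₀⟩, hmin⟩ := wellFounded_lt.has_min
      {m : ℕ | ∃ z ∈ M, z ≠ 0 ∧ (PowerSeries.order (RootDisk.val z)).toNat = m}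
      ⟨_, z₁, hz₁M, hz₁0, rfl⟩
    obtain ⟨d₀, c₀, hn₀eq⟩ : ∃ (d : ℕ) (c : Fin p), n₀ = p * d + c :=
      ⟨n₀ / p, ⟨n₀ % p, Nat.mod_lt _ hp⟩, (Nat.div_add_mod n₀ p).symm⟩
    have hcoef : coeff d₀ (Ac p c₀ z₀) ≠ 0 := hdet z₀ hz₀0 d₀ c₀ (hn₀.trans hn₀eq)
    have hc₀J : c₀ ∈ J := by
      by_contra h
      exact hcoef (by rw [hM z₀ hz₀M c₀ h, map_zero])
    have hdvd : ∀ z ∈ M, Ac p c₀ z₀ ∣ Ac p c₀ z := by
      intro z hz
      by_cases hz0 : z = 0
      · rw [hz0, map_zero]; exact dvd_zero _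
      apply dvd_of_coeff _ _ d₀ hcoef
      intro m hm
      rw [Ac_apply, coeff_A]
      apply coeff_of_lt_order_toNat
      have h1 : ¬ (PowerSeries.order (RootDisk.val z)).toNat < n₀ := hmin _ ⟨z, hz, hz0, rfl⟩
      have h2 : p * (m + 1) ≤ p * d₀ := Nat.mul_le_mul_left p hm
      have h3 : p * (m + 1) = p * m + p := Nat.mul_succ p m
      have h4 := c₀.2
      omega
    obtain ⟨M₁, hM₁⟩ : ∃ M₁ : Submodule (PowerSeries k) (RootDisk p k),
      M₁ = M ⊓ LinearMap.ker (Ac p c₀) := ⟨_, rfl⟩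
    have hcard : (J.erase c₀).card ≤ n := by
      rw [Finset.card_erase_of_mem hc₀J]; omega
    have hM₁' : ∀ z ∈ M₁, ∀ c : Fin p, c ∉ J.erase c₀ → Ac p c z = 0 := by
      intro z hz c hc
      rw [hM₁] at hz
      obtain ⟨hzM, hzk⟩ := Submodule.mem_inf.mp hz
      by_cases hcc : c = c₀
      · rw [hcc]; exact LinearMap.mem_ker.mp hzk
      · exact hM z hzM c (fun h => hc (Finset.mem_erase.mpr ⟨hcc, h⟩))
    obtain ⟨C₁, g₁, hC₁, hg₁, hspan₁⟩ := ih (J.erase c₀) M₁ hcard hM₁'
    have hc₀C₁ : c₀ ∉ C₁ := fun h => (Finset.mem_erase.mp (hC₁ h)).1 rfl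
    have hprop : ∀ c ∈ insert c₀ C₁, Function.update g₁ c₀ z₀ c ∈ M ∧
        Function.update g₁ c₀ z₀ c ≠ 0 ∧
        (PowerSeries.order (RootDisk.val (Function.update g₁ c₀ z₀ c))).toNat % p = (c : ℕ) := by
      intro c hc
      rcases Finset.mem_insert.mp hc with h | hc
      · rw [h, Function.update_self]
        refine ⟨hz₀M, hz₀0, ?_⟩
        rw [hn₀, hn₀eq, Nat.mul_add_mod, Nat.mod_eq_of_lt c₀.2]
      · have hne : c ≠ c₀ := fun h => hc₀C₁ (h ▸ hc)
        rw [Function.update_of_ne hne]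
        obtain ⟨h1, h2, h3⟩ := hg₁ c hc
        rw [hM₁] at h1
        exact ⟨(Submodule.mem_inf.mp h1).1, h2, h3⟩
    refine ⟨insert c₀ C₁, Function.update g₁ c₀ z₀, ?_, hprop, ?_⟩
    · exact Finset.insert_subset hc₀J (hC₁.trans (Finset.erase_subset _ _))
    · apply le_antisymm
      · intro z hz
        obtain ⟨r, hr⟩ := hdvd z hz
        have hw : z - r • z₀ ∈ M₁ := by
          rw [hM₁]
          refine Submodule.mem_inf.mpr ⟨M.sub_mem hz (M.smul_mem r hz₀M), ?_⟩
          rw [LinearMap.mem_ker, map_sub, map_smul, smul_eq_mul, hr, mul_comm, sub_self]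
        rw [hspan₁] at hw
        have hsub : Submodule.span (PowerSeries k) (g₁ '' (C₁ : Set (Fin p))) ≤
            Submodule.span (PowerSeries k) (Function.update g₁ c₀ z₀ ''
              ((insert c₀ C₁ : Finset (Fin p)) : Set (Fin p))) := by
          apply Submodule.span_mono
          rintro _ ⟨c, hc, rfl⟩
          have hc' : c ∈ C₁ := Finset.mem_coe.mp hc
          have hne : c ≠ c₀ := fun h => hc₀C₁ (h ▸ hc')
          exact ⟨c, Finset.mem_coe.mpr (Finset.mem_insert_of_mem hc'),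
            Function.update_of_ne hne _ _⟩
        have hz₀s : z₀ ∈ Submodule.span (PowerSeries k) (Function.update g₁ c₀ z₀ ''
            ((insert c₀ C₁ : Finset (Fin p)) : Set (Fin p))) :=
          Submodule.subset_span ⟨c₀, Finset.mem_coe.mpr (Finset.mem_insert_self _ _),
            Function.update_self _ _ _⟩
        have hz : z = (z - r • z₀) + r • z₀ := (sub_add_cancel _ _).symm
        rw [hz]
        exact Submodule.add_mem _ (hsub hw) (Submodule.smul_mem _ r hz₀s)
      · rw [Submodule.span_le]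
        rintro _ ⟨c, hc, rfl⟩
        exact (hprop c (Finset.mem_coe.mp hc)).1

theorem exists_gens (M : Submodule (PowerSeries k) (RootDisk p k)) :
    ∃ (C : Finset (Fin p)) (g : Fin p → RootDisk p k),
      (∀ c ∈ C, g c ∈ M ∧ g c ≠ 0 ∧
        (PowerSeries.order (RootDisk.val (g c))).toNat % p = (c : ℕ)) ∧
      M = Submodule.span (PowerSeries k) (g '' (C : Set (Fin p))) := by
  obtain ⟨C, g, -, hg, hspan⟩ := exists_gens_aux p p Finset.univ M (by simp)
    (fun z _ c hc => absurd (Finset.mem_univ c) hc)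
  exact ⟨C, g, hg, hspan⟩

end Groth.Agent.H64.RootD
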