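import Mathlib
import Groth.Agent.H69.Sec.S1
import Groth.Agent.H44.FinrankFA

/-!
# (S3) for helper69's S18918 squad: at most `n` pairwise disjoint sections of a finite étale
morphism of constant degree `n`, with equality iff they cover.
-/

set_option autoImplicit false
set_option linter.style.haveILetI false
universe u
open CategoryTheory CategoryTheory.Limits AlgebraicGeometry

namespace Groth.Agent.H64.Sec_S3

open Groth.Agent.H69.Sec

theorem card_le_finrank (k : ℕ) : ∀ {P T : Scheme.{u}} (p : P ⟶ T) [IsFinite p] [Etale p]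
    [Nonempty T] (n : ℕ) (_ : ∀ t : T, p.finrank t = n) (σ : Fin k → (T ⟶ P))
    (_ : ∀ i, σ i ≫ p = 𝟙 T)
    (_ : ∀ i j, i ≠ j → Disjoint (Set.range (σ i).base) (Set.range (σ j).base)),
    k ≤ n ∧ (k = n → ∀ z : P, ∃ i, z ∈ Set.range (σ i).base) := by
  induction k with
  | zero =>
    intro P T p _ _ _ n hn σ hσ hdisj
    refine ⟨Nat.zero_le _, fun h0 z => ?_⟩
    have h1 := Scheme.Hom.one_le_finrank_map p z
    rw [hn, ← h0] at h1
    exact absurd h1 (by norm_num)
  | succ k ih =>
    intro P T p _ _ _ n hn σ hσ hdisj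
    haveI hoi : IsOpenImmersion (σ 0) := isOpenImmersion_of_section p (σ 0) (hσ 0)
    have hclopen : IsClopen (Set.range (σ 0).base) := isClopen_range_of_section p (σ 0) (hσ 0)
    let U : P.Opens := (σ 0).opensRange
    let W : P.Opens := ⟨(Set.range (σ 0).base)ᶜ, hclopen.1.isOpen_compl⟩
    have hUW : IsCompl U W := by
      constructor
      · rw [disjoint_iff]
        ext x
        simp only [TopologicalSpace.Opens.coe_inf, TopologicalSpace.Opens.coe_bot,
          Set.mem_inter_iff, Set.mem_empty_iff_false, iff_false, not_and]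
        intro hx hx'
        exact hx' hx
      · rw [codisjoint_iff]
        ext x
        simp only [TopologicalSpace.Opens.coe_sup, TopologicalSpace.Opens.coe_top, Set.mem_union,
          Set.mem_univ, iff_true]
        exact Classical.em _
    haveI hWci : IsClosedImmersion W.ι :=
      Groth.Agent.H44.FinrankFA.isClosedImmersion_ι_of_isCompl W U hUW.symm
    -- `U.ι ≫ p` is an isomorphism
    have hUiso : (Scheme.Hom.isoOpensRange (σ 0)).hom ≫ (U.ι ≫ p) = 𝟙 T := by
      rw [← Category.assoc, Scheme.Hom.isoOpensRange_hom_ι, hσ 0]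
    haveI : IsIso (U.ι ≫ p) := by
      have : U.ι ≫ p = (Scheme.Hom.isoOpensRange (σ 0)).inv := by
        rw [← cancel_epi (Scheme.Hom.isoOpensRange (σ 0)).hom, hUiso, Iso.hom_inv_id]
      rw [this]
      infer_instance
    have hrank : ∀ t : T, (W.ι ≫ p).finrank t + 1 = n := by
      intro t
      have h1 := Groth.Agent.H44.FinrankFA.finrank_add_of_isCompl p U W hUW t
      rw [hn t, congrFun (Scheme.Hom.finrank_eq_one_of_isIso (U.ι ≫ p)) t] at h1
      rw [h1, add_comm]
      rfl
    have hrank' : ∀ t : T, (W.ι ≫ p).finrank t = n - 1 := fun t => by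
      have := hrank t
      omega
    have hn1 : 1 ≤ n := by
      obtain ⟨t⟩ := ‹Nonempty T›
      have := hrank t
      omega
    -- the other sections factor through `W`
    have hsub : ∀ i : Fin k, Set.range (σ i.succ).base ⊆ Set.range W.ι.base := by
      intro i x hx
      rw [Scheme.Opens.range_ι]
      show x ∈ (Set.range (σ 0).base)ᶜ
      intro hx0
      exact (Set.disjoint_left.mp (hdisj 0 i.succ (Fin.succ_ne_zero i).symm) hx0) hx
    have hfac : ∀ i : Fin k, IsOpenImmersion.lift W.ι (σ i.succ) (hsub i) ≫ W.ι = σ i.succ :=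
      fun i => IsOpenImmersion.lift_fac _ _ _
    obtain ⟨hle, hcov⟩ := ih (W.ι ≫ p) (n - 1) hrank'
      (fun i => IsOpenImmersion.lift W.ι (σ i.succ) (hsub i))
      (fun i => by rw [← Category.assoc, hfac i, hσ i.succ])
      (fun i j hij => by
        rw [Set.disjoint_left]
        rintro x ⟨a, rfl⟩ ⟨b, hb⟩
        have h1 : (σ i.succ).base a = (σ j.succ).base b := by
          rw [← hfac i, ← hfac j, Scheme.Hom.comp_apply, Scheme.Hom.comp_apply, hb]
        exact Set.disjoint_left.mp (hdisj i.succ j.succ (fun h => hij (Fin.succ_injective _ h)))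
          ⟨a, rfl⟩ ⟨b, h1.symm⟩)
    refine ⟨by omega, fun hk z => ?_⟩
    by_cases hz : z ∈ Set.range (σ 0).base
    · exact ⟨0, hz⟩
    · obtain ⟨i, a, ha⟩ := hcov (by omega) ⟨z, hz⟩
      refine ⟨i.succ, a, ?_⟩
      rw [← hfac i, Scheme.Hom.comp_apply, ha]
      rfl

end Groth.Agent.H64.Sec_S3
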