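import Mathlib
import Groth.Agent.S2016
import Groth.Agent.H64.Crimp

/-!
Helper for S19624: length of the cokernel of a square matrix over a DVR, and of a family of
semilinear maps.
-/

namespace Groth.Agent.H64.SemiSmith

open Module IsDiscreteValuationRing Matrix

section DVR

variable {R : Type*} [CommRing R] [IsDomain R] [IsDiscreteValuationRing R]

lemma length_self_eq_top : Module.length R R = ⊤ := by
  by_contra h
  have hfin : IsFiniteLength R R := Module.length_ne_top_iff.1 h
  have hart : IsArtinian R R := (isFiniteLength_iff_isNoetherian_isArtinian.1 hfin).2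
  have : IsArtinianRing R := hart
  exact IsDiscreteValuationRing.not_isField R (IsArtinianRing.isField_of_isDomain R)

lemma length_quot_span' (a : R) :
    Module.length R (R ⧸ Ideal.span {a}) = addVal R a := by
  by_cases ha : a = 0
  · subst ha
    rw [addVal_zero]
    have hbot : Ideal.span {(0 : R)} = ⊥ := Ideal.span_singleton_eq_bot.2 rfl
    rw [(Submodule.quotEquivOfEqBot (Ideal.span {(0 : R)}) hbot).length_eq]
    exact length_self_eq_top
  · exact Groth.Agent.H64.Crimp.length_quot_span a ha

theorem length_quot_range_mulVecLin {ι : Type*} [Fintype ι] [DecidableEq ι]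
    (A : Matrix ι ι R) :
    Module.length R ((ι → R) ⧸ LinearMap.range A.mulVecLin) = addVal R A.det := by
  have hch : ∀ a b : R, a ∣ b ∨ b ∣ a := fun a b => ValuationRing.dvd_total a b
  obtain ⟨U, V, d, hU, hV, hUAV⟩ := Groth.Agent.S2016.smith hch A
  have hUu : IsUnit U.det := by rw [hU]; exact isUnit_one
  have hVu : IsUnit V.det := by rw [hV]; exact isUnit_one
  have h1 : U.mulVecLin.comp U⁻¹.mulVecLin = LinearMap.id := by
    rw [← Matrix.mulVecLin_mul, Matrix.mul_nonsing_inv U hUu, Matrix.mulVecLin_one]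
  have h2 : U⁻¹.mulVecLin.comp U.mulVecLin = LinearMap.id := by
    rw [← Matrix.mulVecLin_mul, Matrix.nonsing_inv_mul U hUu, Matrix.mulVecLin_one]
  have hVsurj : LinearMap.range V.mulVecLin = ⊤ := by
    rw [LinearMap.range_eq_top]
    intro x
    refine ⟨V⁻¹.mulVecLin x, ?_⟩
    have h3 : V.mulVecLin.comp V⁻¹.mulVecLin = LinearMap.id := by
      rw [← Matrix.mulVecLin_mul, Matrix.mul_nonsing_inv V hVu, Matrix.mulVecLin_one]
    exact LinearMap.congr_fun h3 x
  obtain ⟨eU, heU⟩ : ∃ eU : (ι → R) ≃ₗ[R] (ι → R), (eU : (ι → R) →ₗ[R] (ι → R)) = U.mulVecLin :=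
    ⟨LinearEquiv.ofLinear U.mulVecLin U⁻¹.mulVecLin h1 h2, rfl⟩
  have hmap : (LinearMap.range A.mulVecLin).map (eU : (ι → R) →ₗ[R] (ι → R)) =
      LinearMap.range (Matrix.diagonal d).mulVecLin := by
    rw [heU, ← LinearMap.range_comp, ← Matrix.mulVecLin_mul, ← hUAV, Matrix.mulVecLin_mul (U * A) V,
      LinearMap.range_comp_of_range_eq_top _ hVsurj]
  have hpi : LinearMap.range (Matrix.diagonal d).mulVecLin =
      Submodule.pi Set.univ (fun i => Ideal.span {d i}) := by
    ext x
    rw [LinearMap.mem_range, Submodule.mem_pi]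
    constructor
    · rintro ⟨y, rfl⟩ i -
      rw [Matrix.mulVecLin_apply, Matrix.mulVec_diagonal]
      exact Ideal.mem_span_singleton'.2 ⟨y i, mul_comm _ _⟩
    · intro hx
      have hx' : ∀ i, ∃ a, a * d i = x i := fun i => Ideal.mem_span_singleton'.1 (hx i (Set.mem_univ i))
      choose y hy using hx'
      refine ⟨y, ?_⟩
      funext i
      rw [Matrix.mulVecLin_apply, Matrix.mulVec_diagonal, mul_comm, hy i]
  rw [(Submodule.Quotient.equiv _ _ eU hmap).length_eq,
    (Submodule.quotEquivOfEq _ _ hpi).length_eq,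
    (Submodule.quotientPi (fun i => Ideal.span {d i})).length_eq,
    Module.length_pi_of_fintype]
  have hdet : A.det = ∏ i, d i := by
    have h4 := congrArg Matrix.det hUAV
    rw [Matrix.det_mul, Matrix.det_mul, hU, hV, one_mul, mul_one, Matrix.det_diagonal] at h4
    exact h4
  rw [hdet, Groth.Agent.H64.Crimp.addVal_prod]
  exact Finset.sum_congr rfl fun i _ => length_quot_span' (d i)

theorem main (ω : R → R) {n : ℕ} (r : Fin n → ℕ)
    (M N : Fin n → Type*) [∀ i, AddCommGroup (M i)] [∀ i, Module R (M i)]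
    [∀ i, AddCommGroup (N i)] [∀ i, Module R (N i)]
    (bM : ∀ i, Module.Basis (Fin (r i)) R (M i)) (bN : ∀ i, Module.Basis (Fin (r i)) R (N i))
    (χ : ∀ i, M i →+ N i) (hχ : ∀ i (b : R) (x : M i), χ i (b • x) = ω b • χ i x) :
    Module.length R ((∀ i, N i) ⧸ Submodule.span R
      (Set.range (fun (x : ∀ i, M i) (i : Fin n) => χ i (x i)))) =
      addVal R (∏ i, Matrix.det
        (Matrix.of fun (a c : Fin (r i)) => (bN i).repr (χ i (bM i c)) a)) := by
  classical
  obtain ⟨Q, hQ⟩ : ∃ Q : ∀ i, Submodule R (N i),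
      ∀ i, Q i = Submodule.span R (Set.range fun c => χ i (bM i c)) := ⟨_, fun _ => rfl⟩
  have hspan : Submodule.span R (Set.range (fun (x : ∀ i, M i) (i : Fin n) => χ i (x i))) =
      Submodule.pi Set.univ Q := by
    apply le_antisymm
    · rw [Submodule.span_le]
      rintro _ ⟨x, rfl⟩
      rw [SetLike.mem_coe, Submodule.mem_pi]
      intro i _
      show χ i (x i) ∈ Q i
      have hx : x i = ∑ c, (bM i).repr (x i) c • bM i c := ((bM i).sum_repr (x i)).symm
      rw [hx, map_sum]
      refine Submodule.sum_mem _ fun c _ => ?_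
      rw [hχ, hQ]
      exact Submodule.smul_mem _ _ (Submodule.subset_span ⟨c, rfl⟩)
    · intro y hy
      rw [Submodule.mem_pi] at hy
      have key : ∀ i, Q i ≤ (Submodule.span R
          (Set.range (fun (x : ∀ i, M i) (i : Fin n) => χ i (x i)))).comap
            (LinearMap.single R N i) := by
        intro i
        rw [hQ, Submodule.span_le]
        rintro _ ⟨c, rfl⟩
        rw [SetLike.mem_coe, Submodule.mem_comap]
        apply Submodule.subset_span
        refine ⟨Pi.single i (bM i c), ?_⟩
        funext j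
        by_cases hji : j = i
        · subst hji
          simp
        · simp [Pi.single_eq_of_ne hji]
      rw [← Finset.univ_sum_single y]
      refine Submodule.sum_mem _ fun i _ => ?_
      exact key i (hy i (Set.mem_univ i))
  rw [(Submodule.quotEquivOfEq _ _ hspan).length_eq, (Submodule.quotientPi Q).length_eq,
    Module.length_pi_of_fintype, Groth.Agent.H64.Crimp.addVal_prod]
  refine Finset.sum_congr rfl fun i _ => ?_
  have hmap : (Q i).map ((bN i).equivFun : N i →ₗ[R] (Fin (r i) → R)) =
      LinearMap.range (Matrix.of fun (a c : Fin (r i)) =>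
        (bN i).repr (χ i (bM i c)) a).mulVecLin := by
    rw [Matrix.range_mulVecLin, hQ, Submodule.map_span, ← Set.range_comp]
    rfl
  rw [(Submodule.Quotient.equiv _ _ (bN i).equivFun hmap).length_eq]
  exact length_quot_range_mulVecLin _

end DVR

end Groth.Agent.H64.SemiSmith
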