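import Groth.Agent.H67.SubDefs2
import Groth.Agent.H64.Sub_B1a

/-!
# (QF1)-(QF3) for helper67's S0947/S0884 squad: qc-flasque sheaves on quasi-separated
prespectral spaces are acyclic
-/

set_option autoImplicit false
universe u
open CategoryTheory CategoryTheory.Limits TopologicalSpace Opposite
open Groth.Agent.H42.CohTopLib Groth.Agent.H45.CohTopPush Groth.Agent.H67.Sub
  Groth.Agent.H67.SpecClosedAb

namespace Groth.Agent.H64.Sub_QF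

open Groth.Agent.H64.Sub_B1a

section Lift

variable {Z : TopCat.{u}} (S : ShortComplex (CohTop.Ab Z)) (V : Opens Z)
  (q : S.X₃.obj.obj (op V))

/-- `q` lifts to `S.X₂` over the open `U ≤ V` -/
def HasL (U : Opens Z) : Prop :=
  ∃ (hU : U ≤ V) (s : S.X₂.obj.obj (op U)), S.g.hom.app (op U) s = ρ S.X₃ hU q

variable {S V q}

lemma hasL_sup [QuasiSeparatedSpace Z] (hS : S.ShortExact) (h1 : IsQcFlasque S.X₁)
    {U₁ U₂ : Opens Z} (hc₁ : IsCompact (U₁ : Set Z)) (hc₂ : IsCompact (U₂ : Set Z))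
    (hL₁ : HasL S V q U₁) (hL₂ : HasL S V q U₂) : HasL S V q (U₁ ⊔ U₂) := by
  obtain ⟨hV₁, s₁, hs₁⟩ := hL₁
  obtain ⟨hV₂, s₂, hs₂⟩ := hL₂
  have hI₁ : U₁ ⊓ U₂ ≤ U₁ := inf_le_left
  have hI₂ : U₁ ⊓ U₂ ≤ U₂ := inf_le_right
  have hcI : IsCompact ((U₁ ⊓ U₂ : Opens Z) : Set Z) :=
    QuasiSeparatedSpace.inter_isCompact _ _ U₁.2 hc₁ U₂.2 hc₂
  have hd : S.g.hom.app (op (U₁ ⊓ U₂)) (ρ S.X₂ hI₁ s₁ - ρ S.X₂ hI₂ s₂) = 0 := by
    rw [map_sub, app_ρ, app_ρ, hs₁, hs₂, ρ_ρ, ρ_ρ, sub_self]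
  obtain ⟨e, he⟩ := TopCat.Sheaf.sections_exact_of_left_exact hS.1 hS.2 _ hd
  obtain ⟨t, ht⟩ := h1 (U₁ ⊓ U₂) hcI e
  have ht' : ρ S.X₁ (le_top : U₁ ⊓ U₂ ≤ ⊤) t = e := ht
  let s₂' : S.X₂.obj.obj (op U₂) := s₂ + S.f.hom.app (op U₂) (ρ S.X₁ (le_top : U₂ ≤ ⊤) t)
  have hs₂' : S.g.hom.app (op U₂) s₂' = ρ S.X₃ hV₂ q := by
    rw [map_add, gf_zero, add_zero, hs₂]
  have hagree : ρ S.X₂ hI₁ s₁ = ρ S.X₂ hI₂ s₂' := by
    have h3 : ρ S.X₂ hI₁ s₁ - ρ S.X₂ hI₂ s₂ =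
        ρ S.X₂ hI₂ (S.f.hom.app (op U₂) (ρ S.X₁ (le_top : U₂ ≤ ⊤) t)) := by
      rw [← he, ← ht', ← app_ρ, ρ_ρ]
    rw [sub_eq_iff_eq_add] at h3
    rw [h3, map_add, add_comm]
  obtain ⟨V'', h₁, h₂, hle, s, hs₁', hs₂''⟩ := glue₂ S.X₂ U₁ U₂ s₁ s₂' hagree
  have hV'' : V'' = U₁ ⊔ U₂ := le_antisymm hle (sup_le h₁ h₂)
  subst hV''
  refine ⟨sup_le hV₁ hV₂, s, ?_⟩
  refine TopCat.Sheaf.eq_of_locally_eq₂ S.X₃ (homOfLE h₁) (homOfLE h₂) le_rfl _ _ ?_ ?_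
  · change ρ S.X₃ h₁ _ = ρ S.X₃ h₁ _
    rw [← app_ρ, hs₁', hs₁, ρ_ρ]
  · change ρ S.X₃ h₂ _ = ρ S.X₃ h₂ _
    rw [← app_ρ, hs₂'', hs₂', ρ_ρ]

end Lift

open Topology in
/-- (QF1) -/
theorem exists_lift_qc {Z : TopCat.{u}} [QuasiSeparatedSpace Z] [PrespectralSpace Z]
    (S : ShortComplex (CohTop.Ab Z)) (hS : S.ShortExact) (h1 : IsQcFlasque S.X₁) (V : Opens Z)
    (hV : IsCompact (V : Set Z)) (q : S.X₃.obj.obj (op V)) :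
    ∃ s : S.X₂.obj.obj (op V), S.g.hom.app (op V) s = q := by
  have hloc := (TopCat.Presheaf.isLocallySurjective_iff S.g.hom).mp
    ((TopCat.Sheaf.isLocallySurjective_iff_epi S.g).mpr hS.epi_g)
  have hp : ∃ U : Opens Z, IsCompact (U : Set Z) ∧ (V : Set Z) ⊆ (U : Set Z) ∧ HasL S V q U := by
    refine hV.induction_on
      (p := fun A => ∃ U : Opens Z, IsCompact (U : Set Z) ∧ A ⊆ (U : Set Z) ∧ HasL S V q U)
      ?_ ?_ ?_ ?_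
    · refine ⟨⊥, by simp, by simp, bot_le, 0, ?_⟩
      exact TopCat.Sheaf.eq_of_locally_eq' S.X₃ (fun i : PEmpty.{1} => (i.elim : Opens Z)) ⊥
        (fun i => i.elim) bot_le _ _ (fun i => i.elim)
    · rintro A B hAB ⟨U, hUc, hBU, hL⟩
      exact ⟨U, hUc, hAB.trans hBU, hL⟩
    · rintro A B ⟨U₁, hc₁, hA, hL₁⟩ ⟨U₂, hc₂, hB, hL₂⟩
      refine ⟨U₁ ⊔ U₂, ?_, ?_, hasL_sup hS h1 hc₁ hc₂ hL₁ hL₂⟩
      · rw [Opens.coe_sup]
        exact hc₁.union hc₂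
      · rw [Opens.coe_sup]
        exact Set.union_subset_union hA hB
    · intro x hx
      obtain ⟨W, hWV, ⟨s, hs⟩, hxW⟩ := hloc V q x hx
      obtain ⟨U₀, ⟨hU₀o, hU₀c⟩, hxU₀, hU₀W⟩ :=
        PrespectralSpace.isTopologicalBasis.exists_subset_of_mem_open hxW W.2
      let U : Opens Z := ⟨U₀, hU₀o⟩
      have hUW : U ≤ W := hU₀W
      refine ⟨U₀, mem_nhdsWithin_of_mem_nhds (hU₀o.mem_nhds hxU₀), U, hU₀c, le_rfl,
        hUW.trans hWV, ρ S.X₂ hUW s, ?_⟩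
      have hs' : S.g.hom.app (op W) s = ρ S.X₃ hWV q := hs
      rw [app_ρ, hs', ρ_ρ]
  obtain ⟨U, -, hVU, hUV, s, hs⟩ := hp
  have hUeq : U = V := le_antisymm hUV hVU
  subst hUeq
  exact ⟨s, hs.trans (ρ_self S.X₃ _ q)⟩

/-- (QF2) -/
theorem isQcFlasque_X₃ {Z : TopCat.{u}} [QuasiSeparatedSpace Z] [PrespectralSpace Z]
    (S : ShortComplex (CohTop.Ab Z)) (hS : S.ShortExact) (h1 : IsQcFlasque S.X₁)
    (h2 : IsQcFlasque S.X₂) : IsQcFlasque S.X₃ := by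
  intro V hV q
  obtain ⟨s, hs⟩ := exists_lift_qc S hS h1 V hV q
  obtain ⟨t₂, ht₂⟩ := h2 V hV s
  have ht₂' : ρ S.X₂ (le_top : V ≤ ⊤) t₂ = s := ht₂
  refine ⟨S.g.hom.app (op ⊤) t₂, ?_⟩
  change ρ S.X₃ (le_top : V ≤ ⊤) _ = q
  rw [← app_ρ, ht₂', hs]

/-- flasque sheaves are qc-flasque -/
theorem isQcFlasque_of_isFlasque {Z : TopCat.{u}} (G : CohTop.Ab Z) [TopCat.Sheaf.IsFlasque G] :
    IsQcFlasque G := by
  intro V _ s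
  have hepi : Epi (G.obj.map (homOfLE (le_top : V ≤ ⊤)).op) :=
    TopCat.Presheaf.IsFlasque.epi (F := G.obj) _
  exact (AddCommGrpCat.epi_iff_surjective _).mp hepi s

/-- (QF3) -/
theorem subsingleton_H_of_isQcFlasque {Z : TopCat.{u}} [CompactSpace Z] [QuasiSeparatedSpace Z]
    [PrespectralSpace Z] (G : CohTop.Ab Z) (hG : IsQcFlasque G) (n : ℕ) :
    Subsingleton (CohTop.H G (n + 1)) := by
  have key : ∀ x : Abelian.Ext (constZ Z) G (n + 1), x = 0 := by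
    refine ext_succ_eq_zero (constZ Z) (fun A => IsQcFlasque A) ?_ n G hG
    intro S hS h₁ h₂
    have : TopCat.Sheaf.IsFlasque S.X₂ := isFlasque_of_injective S.X₂
    have h₂' : IsQcFlasque S.X₂ := isQcFlasque_of_isFlasque S.X₂
    refine ⟨isQcFlasque_X₃ S hS h₁ h₂', fun g => ?_⟩
    obtain ⟨s, hs⟩ := exists_lift_qc S hS h₁ ⊤ isCompact_univ ((secRepConst Z).e S.X₃ g)
    refine ⟨((secRepConst Z).e S.X₂).symm s, ((secRepConst Z).e S.X₃).injective ?_⟩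
    rw [(secRepConst Z).nat, Equiv.apply_symm_apply, hs]
  exact ⟨fun x y => (key x).trans (key y).symm⟩

end Groth.Agent.H64.Sub_QF
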