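import Groth.Agent.H67.SubDefs2
import Groth.Agent.H64.Sub_K

/-!
# (T) for helper67's S0947/S0884 squad: a pro-qc-open subset of a spectral space is
quasi-compact, quasi-separated and prespectral
-/

set_option autoImplicit false
universe u
open CategoryTheory CategoryTheory.Limits TopologicalSpace Opposite
open Groth.Agent.H42.CohTopLib Groth.Agent.H45.CohTopPush Groth.Agent.H67.Sub
  Groth.Agent.H67.SpecClosedAb

namespace Groth.Agent.H64.Sub_T

open Groth.Agent.H64.Sub_K

theorem isCompact_inter {X : TopCat.{u}} [SpectralSpace X] {W : Set X} {Q : Opens X → Prop}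
    (h : QFam W Q) (B : Set X) (hBo : IsOpen B) (hBc : IsCompact B) : IsCompact (W ∩ B) := by
  apply isCompact_of_finite_subcover
  intro ι O hO hcov
  obtain ⟨U, hU, hUB⟩ := exists_inter_subset h B (⋃ i, O i) hBo hBc (isOpen_iUnion hO) hcov
  have hc : IsCompact ((U : Set X) ∩ B) :=
    QuasiSeparatedSpace.inter_isCompact _ _ U.2 (h.cpt U hU) hBo hBc
  obtain ⟨t, ht⟩ := hc.elim_finite_subcover O hO hUB
  exact ⟨t, (Set.inter_subset_inter_left _ (h.sub U hU)).trans ht⟩

/-- preimages in `W` of qc opens of `X` are compact -/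
lemma isCompact_preimage_val {X : TopCat.{u}} [SpectralSpace X] {W : Set X} {Q : Opens X → Prop}
    (h : QFam W Q) (O : Set X) (hOo : IsOpen O) (hOc : IsCompact O) :
    IsCompact ((Subtype.val : W → X) ⁻¹' O) := by
  rw [Subtype.isCompact_iff, Subtype.image_preimage_coe]
  exact isCompact_inter h O hOo hOc

/-- qc opens of `W` are preimages of qc opens of `X` -/
lemma exists_preimage_eq {X : TopCat.{u}} [SpectralSpace X] {W : Set X} (U : Set W)
    (hUo : IsOpen U) (hUc : IsCompact U) :
    ∃ O : Set X, IsOpen O ∧ IsCompact O ∧ (Subtype.val : W → X) ⁻¹' O = U := by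
  obtain ⟨O', hO', rfl⟩ := isOpen_induced_iff.1 hUo
  have hK : IsCompact ((Subtype.val : W → X) '' ((Subtype.val : W → X) ⁻¹' O')) :=
    hUc.image continuous_subtype_val
  obtain ⟨O, hOc, hOo, hKO, hOO'⟩ :=
    PrespectralSpace.exists_isCompact_and_isOpen_between hK hO' (Set.image_preimage_subset _ _)
  refine ⟨O, hOo, hOc, ?_⟩
  apply Set.Subset.antisymm
  · exact Set.preimage_mono hOO'
  · intro x hx
    exact hKO ⟨x, hx, rfl⟩

theorem compactSpace_of {X : TopCat.{u}} [SpectralSpace X] {W : Set X} {Q : Opens X → Prop}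
    (h : QFam W Q) : CompactSpace (TopCat.of W) := by
  have h1 : IsCompact (W ∩ Set.univ) := isCompact_inter h Set.univ isOpen_univ isCompact_univ
  rw [Set.inter_univ] at h1
  exact isCompact_iff_compactSpace.1 h1

theorem quasiSeparatedSpace_of {X : TopCat.{u}} [SpectralSpace X] {W : Set X} {Q : Opens X → Prop}
    (h : QFam W Q) : QuasiSeparatedSpace (TopCat.of W) := by
  refine ⟨fun U V hUo hUc hVo hVc => ?_⟩
  obtain ⟨O₁, hO₁o, hO₁c, rfl⟩ := exists_preimage_eq (X := X) U hUo hUc
  obtain ⟨O₂, hO₂o, hO₂c, rfl⟩ := exists_preimage_eq (X := X) V hVo hVc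
  rw [← Set.preimage_inter]
  exact isCompact_preimage_val h (O₁ ∩ O₂) (hO₁o.inter hO₂o)
    (QuasiSeparatedSpace.inter_isCompact _ _ hO₁o hO₁c hO₂o hO₂c)

theorem prespectralSpace_of {X : TopCat.{u}} [SpectralSpace X] {W : Set X} {Q : Opens X → Prop}
    (h : QFam W Q) : PrespectralSpace (TopCat.of W) := by
  have hb := (PrespectralSpace.isTopologicalBasis (X := X)).isInducing
    (Topology.IsInducing.subtypeVal (t := W))
  refine PrespectralSpace.of_isTopologicalBasis hb ?_
  rintro _ ⟨O, ⟨hOo, hOc⟩, rfl⟩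
  exact isCompact_preimage_val h O hOo hOc

end Groth.Agent.H64.Sub_T
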