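import Groth.Agent.H67.SubDefs2
import Groth.Agent.H64.Sub_T

/-!
# (QF4) for helper67's S0947/S0884 squad: the inverse image of an injective abelian sheaf to a
pro-qc-open subset of a spectral space is qc-flasque.

The main theorem is first proved with the H⁰-surjectivity statement (REP) as a hypothesis
(`isQcFlasque_pull_of_injective_of_rep`).
-/

set_option autoImplicit false
universe u
open CategoryTheory CategoryTheory.Limits TopologicalSpace Opposite
open Groth.Agent.H42.CohTopLib Groth.Agent.H45.CohTopPush Groth.Agent.H67.Sub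
  Groth.Agent.H67.SpecClosedAb

namespace Groth.Agent.H64.Sub_QF4

open Groth.Agent.H64.Sub_T

/-- the (REP) statement for a given `X` -/
def REPStmt (X : TopCat.{u}) [SpectralSpace X] : Prop :=
  ∀ {W : Set X} {Q : Opens X → Prop} (_ : QFam W Q)
    {F P : TopCat.Sheaf AddCommGrpCat.{u} X} (η : F ⟶ P) (_ : HA η W) (_ : HB η W)
    (t : P.1.obj (op ⊤)), ∃ U : Opens X, Q U ∧ ∃ s, Rep η t U s

/-- restriction along an endomorphism of an open is the identity -/
theorem map_endo {Y : TopCat.{u}} (P : (Opens Y)ᵒᵖ ⥤ AddCommGrpCat.{u}) {A : (Opens Y)ᵒᵖ}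
    (k : A ⟶ A) (x : P.obj A) : P.map k x = x := by
  rw [Subsingleton.elim k (𝟙 A), P.map_id]
  rfl

/-- for a flasque sheaf `F` and an inducing map `i : Z → X` whose range is pro-qc-open, the
global-sections component of the unit `F → i_* L F` is surjective -/
theorem unit_app_top_surjective_spectral {X Z : TopCat.{u}} [SpectralSpace X]
    (hREP : REPStmt X) (i : Z ⟶ X)
    {L : TopCat.Sheaf AddCommGrpCat.{u} X ⥤ TopCat.Sheaf AddCommGrpCat.{u} Z}
    (adj : L ⊣ TopCat.Sheaf.pushforward AddCommGrpCat.{u} i)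
    (F : TopCat.Sheaf AddCommGrpCat.{u} X)
    [TopCat.Sheaf.IsFlasque F] (hi : Topology.IsInducing i)
    {Q : Opens X → Prop} (hQ : QFam (Set.range i) Q) :
    Function.Surjective ((adj.unit.app F).hom.app (op ⊤)) := by
  intro t
  obtain ⟨U, hUQ, s, hs⟩ := hREP hQ (adj.unit.app F) (HA_unit i adj F) (HB_unit i adj F hi) t
  have hSU : Set.range i ⊆ (U : Set X) := hQ.sub U hUQ
  have hepi : Epi (F.1.map (homOfLE (le_top : U ≤ ⊤)).op) :=
    TopCat.Presheaf.IsFlasque.epi _
  obtain ⟨s', hs'⟩ := (AddCommGrpCat.epi_iff_surjective _).mp hepi s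
  refine ⟨s', ?_⟩
  have hle : (Opens.map i).obj ⊤ ≤ (Opens.map i).obj U := fun x _ => hSU ⟨x, rfl⟩
  have hle' : (Opens.map i).obj U ≤ (Opens.map i).obj ⊤ := fun x _ => trivial
  have key : ∀ y : (L.obj F).1.obj (op ((Opens.map i).obj ⊤)),
      (L.obj F).1.map (homOfLE hle).op ((L.obj F).1.map (homOfLE hle').op y) = y := by
    intro y
    rw [map_map_eq _ _ _ (𝟙 _), CategoryTheory.Functor.map_id]
    rfl
  have hs1 : (adj.unit.app F).hom.app (op U) s =
      (L.obj F).1.map (homOfLE hle').op t := hs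
  have e : (L.obj F).1.map (homOfLE hle').op ((adj.unit.app F).hom.app (op ⊤) s') =
      (L.obj F).1.map (homOfLE hle').op t := by
    rw [← hs1, ← hs']
    exact (NatTrans.naturality_apply (adj.unit.app F).hom (homOfLE (le_top : U ≤ ⊤)).op s').symm
  have k1 := key ((adj.unit.app F).hom.app (op ⊤) s')
  have k2 := key t
  exact k1.symm.trans ((congr_arg (fun y => (L.obj F).1.map (homOfLE hle).op y) e).trans k2)

/-- (QF4), with (REP) as a hypothesis -/
theorem isQcFlasque_pull_of_injective_of_rep {X : TopCat.{u}} [SpectralSpace X]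
    (hREP : REPStmt X) {W : Set X}
    {Q : Opens X → Prop} (h : QFam W Q) (I : CohTop.Ab X) [Injective I] :
    IsQcFlasque ((CohTop.pull (incl W)).obj I) := by
  intro V hV s
  have : TopCat.Sheaf.IsFlasque I := isFlasque_of_injective I
  obtain ⟨O, hOo, hOc, hOV⟩ := exists_preimage_eq (X := X) (V : Set W) V.2 hV
  let K : Set (TopCat.of W) := (V : Set (TopCat.of W))
  let i : TopCat.of W ⟶ X := incl W
  let a : TopCat.of K ⟶ TopCat.of W := incl K
  let G : CohTop.Ab (TopCat.of W) := (CohTop.pull i).obj I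
  let H : CohTop.Ab (TopCat.of K) := (CohTop.pull a).obj G
  let adjK : (CohTop.pull i ⋙ CohTop.pull a) ⊣
      TopCat.Sheaf.pushforward AddCommGrpCat.{u} (a ≫ i) :=
    (pullPushAdj i).comp (pullPushAdj a)
  have hind : Topology.IsInducing (a ≫ i) :=
    Topology.IsInducing.subtypeVal.comp Topology.IsInducing.subtypeVal
  have hrange : Set.range (a ≫ i) = W ∩ O := by
    ext x
    constructor
    · rintro ⟨k, rfl⟩
      refine ⟨k.1.2, ?_⟩
      have : k.1 ∈ (Subtype.val : W → X) ⁻¹' O := by rw [hOV]; exact k.2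
      exact this
    · rintro ⟨hxW, hxO⟩
      have hk : (⟨x, hxW⟩ : W) ∈ K := by
        have : (⟨x, hxW⟩ : W) ∈ (Subtype.val : W → X) ⁻¹' O := hxO
        rw [hOV] at this
        exact this
      exact ⟨⟨⟨x, hxW⟩, hk⟩, rfl⟩
  have hQ : QFam (Set.range (a ≫ i)) (fun U' => ∃ U, Q U ∧ U' = U ⊓ ⟨O, hOo⟩) := by
    rw [hrange]
    exact h.inter ⟨O, hOo⟩ hOc
  have hKV : K ⊆ (V : Set (TopCat.of W)) := le_rfl
  have hsurj := unit_app_top_surjective_spectral hREP (a ≫ i) adjK I hind hQ
  obtain ⟨s', hs'⟩ := hsurj (r K G V hKV s)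
  let t : G.obj.obj (op ⊤) := ((pullPushAdj i).unit.app I).hom.app (op ⊤) s'
  have ht : r K G ⊤ (fun _ _ => trivial) t = r K G V hKV s := by
    have h1 : (adjK.unit.app I).hom.app (op ⊤) s' =
        ((pullPushAdj a).unit.app G).hom.app (op ⊤) t :=
      congrArg (fun m => m.hom.app (op ⊤) s')
        (Adjunction.comp_unit_app (pullPushAdj i) (pullPushAdj a) I)
    refine Eq.trans ?_ hs'
    refine Eq.trans ?_ h1.symm
    exact map_endo H.obj _ _
  have hgerm : ∀ y : TopCat.of W, ∀ hy : y ∈ K,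
      (TopCat.Sheaf.presheaf G).germ ⊤ y trivial t =
        (TopCat.Sheaf.presheaf G).germ V y (hKV hy) s := by
    intro y hy
    exact Groth.Agent.H67.SpecClosedAb.unit_germ_inj a (pullPushAdj a) G ⟨y, hy⟩ (U := ⊤)
      (U' := V) trivial (hKV hy) t s ⊤ trivial (top_le_map K ⊤ (fun _ _ => trivial))
      (top_le_map K V hKV) ht
  refine ⟨t, ?_⟩
  apply TopCat.Presheaf.section_ext G
  intro x hx
  have e1 := TopCat.Presheaf.germ_res_apply (TopCat.Sheaf.presheaf G)
    (homOfLE (le_top : V ≤ ⊤)) x hx t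
  exact e1.trans (hgerm x hx)

end Groth.Agent.H64.Sub_QF4
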