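import Groth.Agent.H67.SubDefs2
import Groth.Agent.H64.Sub_QF4
import Groth.Agent.H24.Sub_REP

/-!
# (QF4) for helper67's S0947/S0884 squad, closed form (uses helper24's (REP))
-/

set_option autoImplicit false
universe u
open CategoryTheory CategoryTheory.Limits TopologicalSpace Opposite
open Groth.Agent.H42.CohTopLib Groth.Agent.H45.CohTopPush Groth.Agent.H67.Sub
  Groth.Agent.H67.SpecClosedAb

namespace Groth.Agent.H64.Sub_QF4

/-- (QF4) -/
theorem isQcFlasque_pull_of_injective {X : TopCat.{u}} [SpectralSpace X] {W : Set X}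
    {Q : Opens X → Prop} (h : QFam W Q) (I : CohTop.Ab X) [Injective I] :
    IsQcFlasque ((CohTop.pull (incl W)).obj I) :=
  isQcFlasque_pull_of_injective_of_rep
    (by
      intro W' Q' hq F P η hA hB t
      exact Groth.Agent.H24.Sub_REP.exists_rep_spectral hq η hA hB t) h I

end Groth.Agent.H64.Sub_QF4
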