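import Mathlib

/-!
# (NC2) for helper85's S14315: a finite morphism out of an integral scheme of dimension one is
not constant on points (helper64)
-/

set_option autoImplicit false
universe u
open CategoryTheory CategoryTheory.Limits AlgebraicGeometry

namespace Groth.Agent.H64.SurfBC_NC2

/-- (NC2) -/
theorem range_nontrivial_of_isFinite {C' C : Scheme.{u}} [IsIntegral C']
    (hdim : topologicalKrullDim C' = 1) (ψ : C' ⟶ C) [IsFinite ψ] :
    (Set.range ψ.base).Nontrivial := by
  have h1 : ((1 : ℕ) : WithBot ℕ∞) ≤ Order.krullDim (TopologicalSpace.IrreducibleCloseds C') := by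
    have h : topologicalKrullDim C' = Order.krullDim (TopologicalSpace.IrreducibleCloseds C') := rfl
    rw [← h, hdim]
    rfl
  obtain ⟨l, hl⟩ := Order.le_krullDim_iff.1 h1
  have hlt : l.head < l.last := by
    apply l.strictMono
    rw [Fin.lt_def]
    simp [hl]
  set Z₀ := l.head with hZ₀
  set Z₁ := l.last with hZ₁
  have hc₀ : closure ({Z₀.isIrreducible.genericPoint} : Set C') = (Z₀ : Set C') :=
    Z₀.isIrreducible.closure_genericPoint Z₀.isClosed
  have hc₁ : closure ({Z₁.isIrreducible.genericPoint} : Set C') = (Z₁ : Set C') :=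
    Z₁.isIrreducible.closure_genericPoint Z₁.isClosed
  set x₀ := Z₀.isIrreducible.genericPoint with hx₀
  set x₁ := Z₁.isIrreducible.genericPoint with hx₁
  have hsub : (Z₀ : Set C') ⊆ (Z₁ : Set C') := hlt.le
  have hmem : x₀ ∈ (Z₀ : Set C') := by
    rw [← hc₀]
    exact subset_closure rfl
  have hspec : x₁ ⤳ x₀ := by
    rw [specializes_iff_mem_closure, hc₁]
    exact hsub hmem
  refine ⟨ψ.base x₀, ⟨x₀, rfl⟩, ψ.base x₁, ⟨x₁, rfl⟩, fun heq => ?_⟩
  have hxx : x₁ = x₀ :=
    (ψ.isDiscrete_preimage_singleton (ψ.base x₀)).eq_of_specializes hspec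
      (by simp [heq]) (by simp)
  apply hlt.ne
  apply TopologicalSpace.IrreducibleCloseds.ext
  rw [← hc₀, ← hc₁, hxx]

end Groth.Agent.H64.SurfBC_NC2
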