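import Mathlib
import Groth.Prelude.Def_RedSub
import Groth.Agent.H33.TQ_QU

/-!
# (T6-PB) for helper43's S6119 squad: the cartesian square of the third isomorphism theorem
-/

set_option autoImplicit false
set_option linter.style.haveILetI false
universe u
open CategoryTheory Limits MonoidalCategory CartesianMonoidalCategory MonObj GrpObj AlgebraicGeometry

namespace Groth.Agent.H64.T6_PB

theorem act_eq {S : Scheme.{u}} {G H : Over S} [GrpObj G] [GrpObj H] (i : H ⟶ G) :
    (G ◁ i) ≫ μ[G] = fst G H * (snd G H ≫ i) := by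
  rw [Hom.mul_def]
  congr 1

/-- the tensor product of two fppf maps is fppf -/
lemma fppf_tensorHom {S : Scheme.{u}} {X Y X' Y' : Over S} (f : X ⟶ Y) (g : X' ⟶ Y')
    (h₁ : Surjective f.left) (h₂ : Flat f.left) (h₃ : LocallyOfFinitePresentation f.left)
    (h₁' : Surjective g.left) (h₂' : Flat g.left) (h₃' : LocallyOfFinitePresentation g.left) :
    Surjective (f ⊗ₘ g).left ∧ Flat (f ⊗ₘ g).left ∧
      LocallyOfFinitePresentation (f ⊗ₘ g).left := by
  haveI : MorphismProperty.IsStableUnderComposition @Surjective.{u} :=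
    ⟨fun f g hf hg => by
      haveI := hf
      haveI := hg
      infer_instance⟩
  refine ⟨?_, ?_, ?_⟩
  · rw [Over.tensorHom_left]
    exact MorphismProperty.pullbackMap (P := @Surjective.{u}) h₁ h₁' (Over.w f).symm
      (Over.w g).symm
  · rw [Over.tensorHom_left]
    exact MorphismProperty.pullbackMap (P := @Flat) h₂ h₂' (Over.w f).symm (Over.w g).symm
  · rw [Over.tensorHom_left]
    exact MorphismProperty.pullbackMap (P := @LocallyOfFinitePresentation) h₃ h₃'
      (Over.w f).symm (Over.w g).symm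

theorem isPullback_third_iso {S : Scheme.{u}} {G D C T'' H Q : Over S} [GrpObj G] [GrpObj D]
    [GrpObj C] [GrpObj T''] [GrpObj H] (d : D ⟶ G) [IsMonHom d] (f₀ : G ⟶ C) [IsMonHom f₀]
    (hquot : RedSub.IsQuotient d f₀) (t : T'' ⟶ C) [IsMonHom t] [Mono t] (k : H ⟶ G)
    [IsMonHom k] (g : H ⟶ T'') [IsMonHom g] (hsq : IsPullback k g f₀ t) (q : G ⟶ Q)
    (hq : RedSub.IsQuotient k q) (q' : C ⟶ Q) (hq' : f₀ ≫ q' = q) :
    IsPullback (fst C T'') ((C ◁ t) ≫ μ[C]) q' q' := by
  obtain ⟨hs, hf, hp, -⟩ := hquot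
  have hsqL := hsq.map (Over.forget S)
  have gs : Surjective g.left := MorphismProperty.of_isPullback (P := @Surjective) hsqL hs
  have gf : Flat g.left := MorphismProperty.of_isPullback (P := @Flat) hsqL hf
  have gp : LocallyOfFinitePresentation g.left :=
    MorphismProperty.of_isPullback (P := @LocallyOfFinitePresentation) hsqL hp
  obtain ⟨ts, tf, tp⟩ := fppf_tensorHom f₀ g hs hf hp gs gf gp
  haveI : Epi (f₀ ⊗ₘ g) := Groth.Agent.H33.TQ_QU.epi_of_fppf _ ts tf tp
  -- (a) commutativity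
  have key : (f₀ ⊗ₘ g) ≫ ((C ◁ t) ≫ μ[C]) = ((G ◁ k) ≫ μ[G]) ≫ f₀ := by
    rw [act_eq, act_eq, MonObj.comp_mul, MonObj.mul_comp _ _ f₀, tensorHom_fst,
      ← Category.assoc (f₀ ⊗ₘ g), tensorHom_snd, Category.assoc, Category.assoc, hsq.w]
  have w : fst C T'' ≫ q' = ((C ◁ t) ≫ μ[C]) ≫ q' := by
    rw [← cancel_epi (f₀ ⊗ₘ g)]
    have e1 : (f₀ ⊗ₘ g) ≫ fst C T'' ≫ q' = fst G H ≫ q := by
      rw [← Category.assoc, tensorHom_fst, Category.assoc, hq']
    have e2 : (f₀ ⊗ₘ g) ≫ ((C ◁ t) ≫ μ[C]) ≫ q' = ((G ◁ k) ≫ μ[G]) ≫ q := by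
      rw [← Category.assoc, key, Category.assoc, hq']
    rw [e1, e2]
    exact hq.2.2.2.w
  -- (b) the lifting property
  have ex : ∀ (X : Over S) (a b : X ⟶ C), a ≫ q' = b ≫ q' →
      ∃ τ : X ⟶ T'', a * (τ ≫ t) = b := by
    intro X a b hab
    obtain ⟨fs, ff, fp⟩ := fppf_tensorHom f₀ f₀ hs hf hp hs hf hp
    have sqX := IsPullback.of_hasPullback (lift a b) (f₀ ⊗ₘ f₀)
    have sqXL := sqX.map (Over.forget S)
    have prS : Surjective (pullback.fst (lift a b) (f₀ ⊗ₘ f₀)).left :=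
      MorphismProperty.of_isPullback (P := @Surjective) sqXL.flip fs
    have prF : Flat (pullback.fst (lift a b) (f₀ ⊗ₘ f₀)).left :=
      MorphismProperty.of_isPullback (P := @Flat) sqXL.flip ff
    have prP : LocallyOfFinitePresentation (pullback.fst (lift a b) (f₀ ⊗ₘ f₀)).left :=
      MorphismProperty.of_isPullback (P := @LocallyOfFinitePresentation) sqXL.flip fp
    obtain ⟨X', pr, w', hprS, hprF, hprP, hw'⟩ : ∃ (X' : Over S) (pr : X' ⟶ X)
        (w' : X' ⟶ G ⊗ G), Surjective pr.left ∧ Flat pr.left ∧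
          LocallyOfFinitePresentation pr.left ∧ pr ≫ lift a b = w' ≫ (f₀ ⊗ₘ f₀) :=
      ⟨_, _, _, prS, prF, prP, sqX.w⟩
    have hat : pr ≫ a = (w' ≫ fst G G) ≫ f₀ := by
      have := congrArg (fun m => m ≫ fst C C) hw'
      simpa only [Category.assoc, lift_fst, tensorHom_fst] using this
    have hbt : pr ≫ b = (w' ≫ snd G G) ≫ f₀ := by
      have := congrArg (fun m => m ≫ snd C C) hw'
      simpa only [Category.assoc, lift_snd, tensorHom_snd] using this
    have hq2 : (w' ≫ fst G G) ≫ q = (w' ≫ snd G G) ≫ q := by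
      rw [← hq', ← Category.assoc, ← hat, ← Category.assoc _ f₀, ← hbt, Category.assoc,
        Category.assoc, hab]
    have sqQ := hq.2.2.2
    obtain ⟨h', h'1, h'2⟩ : ∃ h' : X' ⟶ G ⊗ H, h' ≫ fst G H = w' ≫ fst G G ∧
        h' ≫ ((G ◁ k) ≫ μ[G]) = w' ≫ snd G G :=
      ⟨sqQ.lift _ _ hq2, sqQ.lift_fst _ _ _, sqQ.lift_snd _ _ _⟩
    rw [act_eq, MonObj.comp_mul, h'1, ← Category.assoc] at h'2
    have h3 : (w' ≫ fst G G) ≫ f₀ * ((h' ≫ snd G H) ≫ k) ≫ f₀ = (w' ≫ snd G G) ≫ f₀ := by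
      rw [← MonObj.mul_comp _ _ f₀, h'2]
    rw [← hat, ← hbt, Category.assoc (h' ≫ snd G H), hsq.w, ← Category.assoc] at h3
    have h4 : ((h' ≫ snd G H) ≫ g) ≫ t = pr ≫ (a⁻¹ * b) := by
      rw [MonObj.comp_mul, GrpObj.comp_inv, ← h3, inv_mul_cancel_left]
    -- the mono argument in `Scheme`
    haveI : Mono t.left := inferInstance
    have h4L : pr.left ≫ (a⁻¹ * b).left = ((h' ≫ snd G H) ≫ g).left ≫ t.left := by
      have := congrArg (fun m => m.left) h4.symm
      simpa only [Over.comp_left] using this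
    haveI := hprS
    haveI := hprF
    haveI := hprP
    haveI : EffectiveEpi pr.left := inferInstance
    haveI : StrongEpi pr.left := inferInstance
    haveI : StrongEpi (pullback.lift pr.left ((h' ≫ snd G H) ≫ g).left h4L ≫
        pullback.fst (a⁻¹ * b).left t.left) := by
      rw [pullback.lift_fst]
      infer_instance
    haveI : StrongEpi (pullback.fst (a⁻¹ * b).left t.left) :=
      strongEpi_of_strongEpi (pullback.lift pr.left ((h' ≫ snd G H) ≫ g).left h4L) _
    haveI : IsIso (pullback.fst (a⁻¹ * b).left t.left) := isIso_of_mono_of_strongEpi _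
    have hτ₀ : (inv (pullback.fst (a⁻¹ * b).left t.left) ≫
        pullback.snd (a⁻¹ * b).left t.left) ≫ t.left = (a⁻¹ * b).left := by
      rw [Category.assoc, ← pullback.condition, IsIso.inv_hom_id_assoc]
    have hwτ : (inv (pullback.fst (a⁻¹ * b).left t.left) ≫
        pullback.snd (a⁻¹ * b).left t.left) ≫ T''.hom = X.hom := by
      rw [← Over.w t, ← Category.assoc, hτ₀, Over.w]
    refine ⟨Over.homMk _ hwτ, ?_⟩
    have hτ : Over.homMk _ hwτ ≫ t = a⁻¹ * b := by
      ext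
      exact hτ₀
    rw [hτ, mul_inv_cancel_left]
  have actl : ∀ (X : Over S) (l : X ⟶ C ⊗ T''),
      l ≫ ((C ◁ t) ≫ μ[C]) = (l ≫ fst C T'') * ((l ≫ snd C T'') ≫ t) := by
    intro X l
    rw [act_eq, MonObj.comp_mul, Category.assoc]
  refine ⟨⟨w⟩, ⟨PullbackCone.IsLimit.mk _
    (fun s => lift s.fst (ex _ s.fst s.snd s.condition).choose) ?_ ?_ ?_⟩⟩
  · intro s
    exact lift_fst _ _
  · intro s
    rw [actl, lift_fst, lift_snd]
    exact (ex _ s.fst s.snd s.condition).choose_spec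
  · intro s m h1 h2
    have hτ := (ex _ s.fst s.snd s.condition).choose_spec
    rw [actl, h1] at h2
    have h3 := (cancel_mono t).mp (mul_left_cancel (h2.trans hτ.symm))
    apply CartesianMonoidalCategory.hom_ext
    · rw [h1, lift_fst]
    · rw [h3, lift_snd]

end Groth.Agent.H64.T6_PB
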