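import Groth.Agent.H31.TensorSiteOver
import Mathlib.Algebra.Category.ModuleCat.Sheaf.LocallyFree

/-!
# Restriction of generating sections / presentations to smaller slices (helper64)
-/

set_option autoImplicit false
universe u
open CategoryTheory CategoryTheory.Limits Opposite

namespace Groth.Agent.H64.TensPerm

variable {C : Type u} [SmallCategory C] {J : GrothendieckTopology C}
  (R : Sheaf J RingCat.{u})

/-- The identity, seen as a morphism of sheaves of rings over `Over.map f`. -/
noncomputable def rhoφ {U W : C} (f : W ⟶ U) :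
    R.over W ⟶ ((Over.map f).sheafPushforwardContinuous RingCat.{u} (J.over W) (J.over U)).obj
      (R.over U) := 𝟙 (R.over W)

instance {U W : C} (f : W ⟶ U) : IsIso (rhoφ R f) := inferInstanceAs (IsIso (𝟙 (R.over W)))

/-- Restriction from `C/U` to `C/W` along `f : W ⟶ U`. -/
noncomputable def rho {U W : C} (f : W ⟶ U) :
    SheafOfModules.{u} (R.over U) ⥤ SheafOfModules.{u} (R.over W) :=
  SheafOfModules.pushforward.{u} (F := Over.map f) (R := R.over U) (S := R.over W) (rhoφ R f)

instance rho_isLeftAdjoint [HasPullbacks C] {U W : C} (f : W ⟶ U) : (rho R f).IsLeftAdjoint := by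
  unfold rho
  have : (Over.map f).IsLeftAdjoint := ⟨_, ⟨Over.mapPullbackAdj f⟩⟩
  exact SheafOfModules.isLeftAdjoint_pushforward_of_isIso _

theorem rho_over {U W : C} (f : W ⟶ U) (M : SheafOfModules.{u} R) :
    (rho R f).obj (M.over U) = M.over W := rfl

noncomputable def rhoUnit {U W : C} (f : W ⟶ U) :
    SheafOfModules.unit (R.over W) ≅ (rho R f).obj (SheafOfModules.unit (R.over U)) := Iso.refl _

variable [HasPullbacks C]

/-- Restriction of generating sections to a smaller slice. -/
noncomputable def genRestr {U W : C} (f : W ⟶ U) {M : SheafOfModules.{u} R}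
    (σ : (M.over U).GeneratingSections) : (M.over W).GeneratingSections :=
  σ.map (rho R f) (rhoUnit R f)

instance genRestr_isFiniteType {U W : C} (f : W ⟶ U) {M : SheafOfModules.{u} R}
    (σ : (M.over U).GeneratingSections) [σ.IsFiniteType] : (genRestr R f σ).IsFiniteType :=
  inferInstanceAs (σ.map (rho R f) (rhoUnit R f)).IsFiniteType

instance genRestr_isIso_π {U W : C} (f : W ⟶ U) {M : SheafOfModules.{u} R}
    (σ : (M.over U).GeneratingSections) [IsIso σ.π] : IsIso (genRestr R f σ).π :=
  inferInstanceAs (IsIso (σ.map (rho R f) (rhoUnit R f)).π)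

/-- Restriction of a presentation to a smaller slice. -/
noncomputable def presRestr {U W : C} (f : W ⟶ U) {M : SheafOfModules.{u} R}
    (P : (M.over U).Presentation) : (M.over W).Presentation :=
  P.map (rho R f) (rhoUnit R f)

instance presRestr_isFinite {U W : C} (f : W ⟶ U) {M : SheafOfModules.{u} R}
    (P : (M.over U).Presentation) [P.IsFinite] : (presRestr R f P).IsFinite where
  isFiniteType_generators := ⟨inferInstanceAs (Finite P.generators.I)⟩
  isFiniteType_relations := ⟨inferInstanceAs (Finite P.relations.I)⟩

end Groth.Agent.H64.TensPerm
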