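import Groth.Agent.H64.TensPermRestr
import Groth.Agent.H64.TensPermGlobal

/-!
# Permanence of local properties under tensor products on a ringed space (helper64)
-/

set_option autoImplicit false
universe u
open CategoryTheory CategoryTheory.Limits Opposite TopologicalSpace

namespace Groth.Agent.H64.TensPerm

open Groth.Agent.H31

variable {X : TopCat.{u}}

theorem coversTop_inf {I I' : Type u} (U : I → Opens X) (V : I' → Opens X)
    (hU : (Opens.grothendieckTopology X).CoversTop U)
    (hV : (Opens.grothendieckTopology X).CoversTop V) :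
    (Opens.grothendieckTopology X).CoversTop (fun p : I × I' => U p.1 ⊓ V p.2) := by
  intro W x hx
  obtain ⟨W1, f1, ⟨i, ⟨g1⟩⟩, hx1⟩ := hU W x hx
  obtain ⟨W2, f2, ⟨j, ⟨g2⟩⟩, hx2⟩ := hV W x hx
  exact ⟨W1 ⊓ W2, homOfLE (inf_le_left.trans f1.le), ⟨(i, j),
    ⟨homOfLE (le_inf (inf_le_left.trans g1.le) (inf_le_right.trans g2.le))⟩⟩, ⟨hx1, hx2⟩⟩

theorem isIso_ofEpi_π {C : Type u} [SmallCategory C] {J : GrothendieckTopology C}
    {R : Sheaf J RingCat.{u}} {M N : SheafOfModules.{u} R} (σ : M.GeneratingSections)
    (p : M ⟶ N) [hp : IsIso p] [hσ : IsIso σ.π] : IsIso (σ.ofEpi p).π := by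
  rw [SheafOfModules.GeneratingSections.ofEpi_π]
  exact @IsIso.comp_isIso _ _ _ _ _ _ _ hσ hp

variable (O : Sheaf (Opens.grothendieckTopology X) CommRingCat.{u}) {F G : ModSite.Mod O}

/-- Generating sections of `(F ⊗ G)|_{U ⊓ V}` from those of `F|_U` and `G|_V`. -/
noncomputable def genTensorInf {U V : Opens X}
    (σ : (SheafOfModules.over (R := ModSite.ringSh O) F U).GeneratingSections)
    (τ : (SheafOfModules.over (R := ModSite.ringSh O) G V).GeneratingSections) :
    (SheafOfModules.over (R := ModSite.ringSh O) (T O F G) (U ⊓ V)).GeneratingSections :=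
  (genTensor (O.over (U ⊓ V))
      (genRestr (ModSite.ringSh O) (homOfLE inf_le_left) σ)
      (genRestr (ModSite.ringSh O) (homOfLE inf_le_right) τ)).ofEpi
      (restrTensorIso (U ⊓ V) F G).inv

theorem genTensorInf_isFiniteType {U V : Opens X}
    (σ : (SheafOfModules.over (R := ModSite.ringSh O) F U).GeneratingSections)
    (τ : (SheafOfModules.over (R := ModSite.ringSh O) G V).GeneratingSections)
    [hσ : σ.IsFiniteType] [hτ : τ.IsFiniteType] : (genTensorInf O σ τ).IsFiniteType := by
  have := hσ.finite
  have := hτ.finite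
  exact ⟨inferInstanceAs (Finite (σ.I × τ.I))⟩

theorem genTensorInf_isIso {U V : Opens X}
    (σ : (SheafOfModules.over (R := ModSite.ringSh O) F U).GeneratingSections)
    (τ : (SheafOfModules.over (R := ModSite.ringSh O) G V).GeneratingSections)
    [hσ : IsIso σ.π] [hτ : IsIso τ.π] : IsIso (genTensorInf O σ τ).π := by
  have h1 : IsIso (genRestr (ModSite.ringSh O) (homOfLE (inf_le_left : U ⊓ V ≤ U)) σ).π :=
    genRestr_isIso_π _ _ σ
  have h2 : IsIso (genRestr (ModSite.ringSh O) (homOfLE (inf_le_right : U ⊓ V ≤ V)) τ).π :=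
    genRestr_isIso_π _ _ τ
  have h3 := @genTensor_isIso_π _ _ _ (O.over (U ⊓ V)) _ _
    (genRestr (ModSite.ringSh O) (homOfLE inf_le_left) σ)
    (genRestr (ModSite.ringSh O) (homOfLE inf_le_right) τ) h1 h2
  exact @isIso_ofEpi_π _ _ _ _ _ _ _ (restrTensorIso (U ⊓ V) F G).inv inferInstance h3

/-- Local generators of a tensor product. -/
noncomputable def lgdTensor
    (qF : SheafOfModules.LocalGeneratorsData.{u} (R := ModSite.ringSh O) F)
    (qG : SheafOfModules.LocalGeneratorsData.{u} (R := ModSite.ringSh O) G) :
    SheafOfModules.LocalGeneratorsData.{u} (R := ModSite.ringSh O) (T O F G) where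
  I := qF.I × qG.I
  X p := qF.X p.1 ⊓ qG.X p.2
  coversTop := coversTop_inf _ _ qF.coversTop qG.coversTop
  generators p := genTensorInf O (qF.generators p.1) (qG.generators p.2)

theorem lgdTensor_isFiniteType
    (qF : SheafOfModules.LocalGeneratorsData.{u} (R := ModSite.ringSh O) F)
    (qG : SheafOfModules.LocalGeneratorsData.{u} (R := ModSite.ringSh O) G)
    [hF : qF.IsFiniteType] [hG : qG.IsFiniteType] : (lgdTensor O qF qG).IsFiniteType where
  isFiniteType p := by
    have := hF.isFiniteType p.1
    have := hG.isFiniteType p.2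
    exact genTensorInf_isFiniteType O (qF.generators p.1) (qG.generators p.2)

theorem lgdTensor_isLocallyFreeData
    (qF : SheafOfModules.LocalGeneratorsData.{u} (R := ModSite.ringSh O) F)
    (qG : SheafOfModules.LocalGeneratorsData.{u} (R := ModSite.ringSh O) G)
    [hF : qF.IsLocallyFreeData] [hG : qG.IsLocallyFreeData] :
    (lgdTensor O qF qG).IsLocallyFreeData where
  isIso p := by
    have := hF.isIso p.1
    have := hG.isIso p.2
    exact genTensorInf_isIso O (qF.generators p.1) (qG.generators p.2)

/-- A presentation of `(F ⊗ G)|_{U ⊓ V}` from those of `F|_U` and `G|_V`. -/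
noncomputable def presTensorInf {U V : Opens X}
    (P : (SheafOfModules.over (R := ModSite.ringSh O) F U).Presentation)
    (Q : (SheafOfModules.over (R := ModSite.ringSh O) G V).Presentation) :
    (SheafOfModules.over (R := ModSite.ringSh O) (T O F G) (U ⊓ V)).Presentation :=
  (presTensor (O.over (U ⊓ V))
      (presRestr (ModSite.ringSh O) (homOfLE inf_le_left) P)
      (presRestr (ModSite.ringSh O) (homOfLE inf_le_right) Q)).ofIsIso
      (restrTensorIso (U ⊓ V) F G).inv

theorem presTensorInf_isFinite {U V : Opens X}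
    (P : (SheafOfModules.over (R := ModSite.ringSh O) F U).Presentation)
    (Q : (SheafOfModules.over (R := ModSite.ringSh O) G V).Presentation)
    [hP : P.IsFinite] [hQ : Q.IsFinite] : (presTensorInf O P Q).IsFinite := by
  have := hP.isFiniteType_generators.finite
  have := hP.isFiniteType_relations.finite
  have := hQ.isFiniteType_generators.finite
  have := hQ.isFiniteType_relations.finite
  exact ⟨⟨inferInstanceAs (Finite (P.generators.I × Q.generators.I))⟩,
    ⟨inferInstanceAs (Finite
      ((P.relations.I × Q.generators.I) ⊕ (P.generators.I × Q.relations.I)))⟩⟩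

/-- Local presentations of a tensor product. -/
noncomputable def qcdTensor
    (qF : SheafOfModules.QuasicoherentData.{u} (R := ModSite.ringSh O) F)
    (qG : SheafOfModules.QuasicoherentData.{u} (R := ModSite.ringSh O) G) :
    SheafOfModules.QuasicoherentData.{u} (R := ModSite.ringSh O) (T O F G) where
  I := qF.I × qG.I
  X p := qF.X p.1 ⊓ qG.X p.2
  coversTop := coversTop_inf _ _ qF.coversTop qG.coversTop
  presentation p := presTensorInf O (qF.presentation p.1) (qG.presentation p.2)

theorem qcdTensor_isFinitePresentation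
    (qF : SheafOfModules.QuasicoherentData.{u} (R := ModSite.ringSh O) F)
    (qG : SheafOfModules.QuasicoherentData.{u} (R := ModSite.ringSh O) G)
    [hF : qF.IsFinitePresentation] [hG : qG.IsFinitePresentation] :
    (qcdTensor O qF qG).IsFinitePresentation where
  isFinite_presentation p := by
    have := hF.isFinite_presentation p.1
    have := hG.isFinite_presentation p.2
    exact presTensorInf_isFinite O (qF.presentation p.1) (qG.presentation p.2)

theorem tensor_permanence (F G : ModSite.Mod O) :
    (Nonempty (SheafOfModules.LocalGeneratorsData.{u} (R := ModSite.ringSh O) F) →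
        Nonempty (SheafOfModules.LocalGeneratorsData.{u} (R := ModSite.ringSh O) G) →
          Nonempty (SheafOfModules.LocalGeneratorsData.{u} (R := ModSite.ringSh O) (((ModSite.tensorBi O).obj F).obj G))) ∧
      (SheafOfModules.IsFiniteType (R := ModSite.ringSh O) F → SheafOfModules.IsFiniteType (R := ModSite.ringSh O) G →
        SheafOfModules.IsFiniteType (R := ModSite.ringSh O) (((ModSite.tensorBi O).obj F).obj G)) ∧
      (SheafOfModules.IsQuasicoherent (R := ModSite.ringSh O) F →
        SheafOfModules.IsQuasicoherent (R := ModSite.ringSh O) G →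
          SheafOfModules.IsQuasicoherent (R := ModSite.ringSh O) (((ModSite.tensorBi O).obj F).obj G)) ∧
      (SheafOfModules.IsFinitePresentation (R := ModSite.ringSh O) F →
        SheafOfModules.IsFinitePresentation (R := ModSite.ringSh O) G →
          SheafOfModules.IsFinitePresentation (R := ModSite.ringSh O) (((ModSite.tensorBi O).obj F).obj G)) ∧
      (SheafOfModules.IsLocallyFree (R := ModSite.ringSh O) F → SheafOfModules.IsLocallyFree (R := ModSite.ringSh O) G →
        SheafOfModules.IsLocallyFree (R := ModSite.ringSh O) (((ModSite.tensorBi O).obj F).obj G)) := by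
  refine ⟨?_, ?_, ?_, ?_, ?_⟩
  · rintro ⟨qF⟩ ⟨qG⟩
    exact ⟨lgdTensor O qF qG⟩
  · intro hF hG
    obtain ⟨qF, hqF⟩ := SheafOfModules.IsFiniteType.exists_localGeneratorsData F
    obtain ⟨qG, hqG⟩ := SheafOfModules.IsFiniteType.exists_localGeneratorsData G
    exact { exists_localGeneratorsData := ⟨lgdTensor O qF qG, lgdTensor_isFiniteType O qF qG⟩ }
  · intro hF hG
    obtain ⟨qF⟩ := hF.nonempty_quasicoherentData
    obtain ⟨qG⟩ := hG.nonempty_quasicoherentData
    exact { nonempty_quasicoherentData := ⟨qcdTensor O qF qG⟩ }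
  · intro hF hG
    obtain ⟨qF, hqF⟩ := SheafOfModules.IsFinitePresentation.exists_quasicoherentData F
    obtain ⟨qG, hqG⟩ := SheafOfModules.IsFinitePresentation.exists_quasicoherentData G
    exact { exists_quasicoherentData := ⟨qcdTensor O qF qG, qcdTensor_isFinitePresentation O qF qG⟩ }
  · intro hF hG
    obtain ⟨qF, hqF⟩ := hF.exists_isLocallyFreeData
    obtain ⟨qG, hqG⟩ := hG.exists_isLocallyFreeData
    exact { exists_isLocallyFreeData := ⟨lgdTensor O qF qG, lgdTensor_isLocallyFreeData O qF qG⟩ }

end Groth.Agent.H64.TensPerm
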