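import Mathlib
import Groth.Prelude.Def_Omega3
import Groth.Prelude.Def_CAlgX
import Groth.Agent.H70.UTTrans.Defs
import Groth.Agent.H41.UTS_RS

/-!
# helper70's S9772 squad, pieces (K1) and (KQ)
-/

set_option autoImplicit false
universe u
open Groth.Agent.H70.UTTrans

namespace Groth.Agent.H64.UTK_K1

/-- (K1) `R → R/K² → B₀` is a universal first order thickening of `B₀ = R/K` over `R` -/
theorem univProp_quotient_sq {R B₀ : Type u} [CommRing R] [CommRing B₀] (ρ : R →+* B₀)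
    (hρ : Function.Surjective ρ) :
    ∃ π : R ⧸ (RingHom.ker ρ) ^ 2 →+* B₀,
      π.comp (Ideal.Quotient.mk ((RingHom.ker ρ) ^ 2)) = ρ ∧
      UnivProp (Ideal.Quotient.mk ((RingHom.ker ρ) ^ 2)) π := by
  have hle : (RingHom.ker ρ) ^ 2 ≤ RingHom.ker ρ := Ideal.pow_le_self (by norm_num)
  let π : R ⧸ (RingHom.ker ρ) ^ 2 →+* B₀ :=
    Ideal.Quotient.lift ((RingHom.ker ρ) ^ 2) ρ (fun a ha => hle ha)
  have hπmk : ∀ r : R, π (Ideal.Quotient.mk ((RingHom.ker ρ) ^ 2) r) = ρ r := fun r => rfl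
  refine ⟨π, RingHom.ext hπmk, ?_, ?_, ?_⟩
  · intro b
    obtain ⟨r, rfl⟩ := hρ b
    exact ⟨Ideal.Quotient.mk _ r, hπmk r⟩
  · -- the kernel has square zero
    have h1 : RingHom.ker π ≤ (RingHom.ker ρ).map (Ideal.Quotient.mk ((RingHom.ker ρ) ^ 2)) := by
      intro x hx
      obtain ⟨r, rfl⟩ := Ideal.Quotient.mk_surjective x
      rw [RingHom.mem_ker, hπmk] at hx
      exact Ideal.mem_map_of_mem _ hx
    rw [eq_bot_iff]
    refine (Ideal.pow_right_mono h1 2).trans ?_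
    rw [← Ideal.map_pow, Ideal.map_quotient_self]
  · intro D _ δ L hL a ha
    -- `δ` maps `K` into `L`
    have hδK : (RingHom.ker ρ).map δ ≤ L := by
      rw [Ideal.map_le_iff_le_comap]
      intro r hr
      rw [Ideal.mem_comap, ← Ideal.Quotient.eq_zero_iff_mem]
      have := congrArg (fun f => f r) ha
      simp only [RingHom.comp_apply] at this
      rw [← this, hπmk, (RingHom.mem_ker).mp hr, map_zero]
    have hδ2 : ∀ x ∈ (RingHom.ker ρ) ^ 2, δ x = 0 := by
      intro x hx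
      have h1 : δ x ∈ ((RingHom.ker ρ) ^ 2).map δ := Ideal.mem_map_of_mem _ hx
      rw [Ideal.map_pow] at h1
      have h2 : δ x ∈ L ^ 2 := Ideal.pow_right_mono hδK 2 h1
      rw [hL] at h2
      exact (Ideal.mem_bot).mp h2
    refine ⟨Ideal.Quotient.lift ((RingHom.ker ρ) ^ 2) δ hδ2, ⟨?_, ?_⟩, ?_⟩
    · ext r
      rfl
    · apply Ideal.Quotient.ringHom_ext
      ext r
      have := congrArg (fun f => f r) ha
      simp only [RingHom.comp_apply] at this
      simp only [RingHom.comp_apply, Ideal.Quotient.lift_mk]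
      exact this.symm
    · rintro y ⟨hy1, -⟩
      apply Ideal.Quotient.ringHom_ext
      ext r
      have := congrArg (fun f => f r) hy1
      simp only [RingHom.comp_apply] at this
      simp only [RingHom.comp_apply, Ideal.Quotient.lift_mk]
      exact this

/-- (KQ) -/
theorem exists_kappa_sigma {A B' B₀ R : Type u} [CommRing A] [CommRing B'] [CommRing B₀]
    [CommRing R] {α : A →+* B'} {π'' : B' →+* B₀} (hU : UnivProp α π'') (φ : A →+* R)
    (hlift : ∀ (D : Type u) [CommRing D] (L : Ideal D), L ^ 2 = ⊥ →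
      ∀ (β : R →+* D ⧸ L) (a : A →+* D), (Ideal.Quotient.mk L).comp a = β.comp φ →
        ∃ l : R →+* D, (Ideal.Quotient.mk L).comp l = β ∧ l.comp φ = a)
    (ρ : R →+* B₀) (hρ : Function.Surjective ρ) (hcomm : ρ.comp φ = π''.comp α) :
    ∃ (κ : B' →+* R ⧸ (RingHom.ker ρ) ^ 2) (σ : R ⧸ (RingHom.ker ρ) ^ 2 →+* B'),
      (∀ x, σ (κ x) = x) ∧
      (∀ x, ∃ r : R, κ x = Ideal.Quotient.mk ((RingHom.ker ρ) ^ 2) r ∧ ρ r = π'' x) ∧
      (∀ r : R, π'' (σ (Ideal.Quotient.mk ((RingHom.ker ρ) ^ 2) r)) = ρ r) := by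
  obtain ⟨π, hπmk, hK1⟩ := univProp_quotient_sq ρ hρ
  have hπmk' : ∀ r : R, π (Ideal.Quotient.mk ((RingHom.ker ρ) ^ 2) r) = ρ r :=
    fun r => congrArg (fun f => f r) hπmk
  let e : (R ⧸ (RingHom.ker ρ) ^ 2) ⧸ RingHom.ker π ≃+* B₀ :=
    RingHom.quotientKerEquivOfSurjective hK1.1
  have he : ∀ y, e (Ideal.Quotient.mk (RingHom.ker π) y) = π y :=
    fun y => RingHom.quotientKerEquivOfSurjective_apply_mk hK1.1 y
  have hcond : (e.symm : B₀ →+* _).comp (π''.comp α) =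
      (Ideal.Quotient.mk (RingHom.ker π)).comp
        ((Ideal.Quotient.mk ((RingHom.ker ρ) ^ 2)).comp φ) := by
    ext x
    simp only [RingHom.comp_apply, RingHom.coe_coe]
    rw [RingEquiv.symm_apply_eq, he, hπmk']
    have := congrArg (fun f => f x) hcomm
    simp only [RingHom.comp_apply] at this
    exact this.symm
  obtain ⟨κ, ⟨hκ₁, hκ₂'⟩, -⟩ := hU.2.2 _ ((Ideal.Quotient.mk ((RingHom.ker ρ) ^ 2)).comp φ)
    (RingHom.ker π) hK1.2.1 (e.symm : B₀ →+* _) hcond
  have hκ₂ : π.comp κ = π'' := by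
    ext x
    have := congrArg (fun f => f x) hκ₂'
    simp only [RingHom.comp_apply, RingHom.coe_coe] at this
    rw [RingHom.comp_apply, ← he, this, RingEquiv.apply_symm_apply]
  obtain ⟨σ, hσκ, hσπ⟩ := Groth.Agent.H41.UTS_RS.exists_retraction hK1 hU κ hκ₁ hκ₂ hlift
  refine ⟨κ, σ, fun x => congrArg (fun f => f x) hσκ, fun x => ?_, fun r => ?_⟩
  · obtain ⟨r, hr⟩ := Ideal.Quotient.mk_surjective (κ x)
    refine ⟨r, hr.symm, ?_⟩
    rw [← hπmk', hr]
    exact congrArg (fun f => f x) hκ₂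
  · have := congrArg (fun f => f (Ideal.Quotient.mk ((RingHom.ker ρ) ^ 2) r)) hσπ
    simp only [RingHom.comp_apply] at this
    rw [this, hπmk']

end Groth.Agent.H64.UTK_K1
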