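import Mathlib
import Groth.Prelude.Def_Omega3
import Groth.Prelude.Def_CAlgX
import Groth.Agent.H70.UTTrans.Defs
import Groth.Agent.H41.UTS_RS
import Groth.Agent.H39.ConormalFree

/-!
# helper70's S9772 squad, piece (KP): the conormal module of a retract of `R/K²`, `K` generated by an
`H₁`-regular sequence, is finite projective
-/

set_option autoImplicit false
universe u
open Groth.Agent.H70.UTTrans

namespace Groth.Agent.H64.UTK_KP

/-- (KP) -/
theorem finite_projective_of_retraction {B' B₀ R : Type u} [CommRing B'] [CommRing B₀]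
    [CommRing R] (π'' : B' →+* B₀) (hπ : Function.Surjective π'')
    (ρ : R →+* B₀) (hρ : Function.Surjective ρ) (rs : List R) (hrs : CAlgX.IsH1Regular rs.get)
    (hker : RingHom.ker ρ = Ideal.ofList rs)
    (κ : B' →+* R ⧸ (RingHom.ker ρ) ^ 2) (σ : R ⧸ (RingHom.ker ρ) ^ 2 →+* B')
    (hσκ : ∀ x, σ (κ x) = x)
    (hκ : ∀ x, ∃ r : R, κ x = Ideal.Quotient.mk ((RingHom.ker ρ) ^ 2) r ∧ ρ r = π'' x)
    (hσ : ∀ r : R, π'' (σ (Ideal.Quotient.mk ((RingHom.ker ρ) ^ 2) r)) = ρ r)
    (M : Type u) [AddCommGroup M] [Module B₀ M]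
    (Θ : M ≃+ (RingHom.ker π'').Cotangent)
    (hΘ : ∀ (b : B') (m : M), Θ (π'' b • m) = b • Θ m) :
    Module.Finite B₀ M ∧ Module.Projective B₀ M := by
  classical
  have hKspan : (RingHom.ker ρ) = Ideal.span (Set.range rs.get) := by
    rw [hker, Ideal.ofList, Set.range_list_get]
  -- (F1)
  have F1 : ∀ x ∈ (RingHom.ker π''), ∃ c : Fin rs.length → R, κ x = (Ideal.Quotient.mk ((RingHom.ker ρ) ^ 2)) (∑ k, c k * rs.get k) := by
    intro x hx
    obtain ⟨r, hr1, hr2⟩ := hκ x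
    have hrK : r ∈ (RingHom.ker ρ) := by
      rw [RingHom.mem_ker, hr2]
      exact hx
    rw [hKspan] at hrK
    obtain ⟨c, hc⟩ := (Submodule.mem_span_range_iff_exists_fun R).mp hrK
    refine ⟨c, ?_⟩
    rw [hr1, ← hc]
    simp only [smul_eq_mul]
  -- (F2)
  have hIN : (RingHom.ker π'').map κ ≤ (RingHom.ker ρ).map (Ideal.Quotient.mk ((RingHom.ker ρ) ^ 2)) := by
    rw [Ideal.map_le_iff_le_comap]
    intro x hx
    obtain ⟨r, hr1, hr2⟩ := hκ x
    rw [Ideal.mem_comap, hr1]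
    apply Ideal.mem_map_of_mem
    rw [RingHom.mem_ker, hr2]
    exact hx
  have F2 : ∀ x ∈ (RingHom.ker π'') ^ 2, κ x = 0 := by
    intro x hx
    have h1 : κ x ∈ ((RingHom.ker π'') ^ 2).map κ := Ideal.mem_map_of_mem _ hx
    rw [Ideal.map_pow] at h1
    have h2 : κ x ∈ ((RingHom.ker ρ).map (Ideal.Quotient.mk ((RingHom.ker ρ) ^ 2))) ^ 2 := Ideal.pow_right_mono hIN 2 h1
    rw [← Ideal.map_pow, Ideal.map_quotient_self] at h2
    exact (Ideal.mem_bot).mp h2
  -- (F3)
  have F3 : ∀ (x x' : (RingHom.ker π'')) (c c' : Fin rs.length → R), (RingHom.ker π'').toCotangent x = (RingHom.ker π'').toCotangent x' →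
      κ x = (Ideal.Quotient.mk ((RingHom.ker ρ) ^ 2)) (∑ k, c k * rs.get k) → κ x' = (Ideal.Quotient.mk ((RingHom.ker ρ) ^ 2)) (∑ k, c' k * rs.get k) → ∀ k, ρ (c k) = ρ (c' k) := by
    intro x x' c c' hxx hc hc' k
    have h1 : ((x : B') - (x' : B')) ∈ (RingHom.ker π'') ^ 2 := (Ideal.toCotangent_eq _).mp hxx
    have h2 := F2 _ h1
    rw [map_sub, hc, hc', ← map_sub, ← Finset.sum_sub_distrib] at h2
    have h3 : ∑ k, (c k - c' k) * rs.get k ∈ Ideal.span (Set.range rs.get) ^ 2 := by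
      rw [← hKspan]
      have h4 := Ideal.Quotient.eq_zero_iff_mem.mp h2
      convert h4 using 1
      exact Finset.sum_congr rfl (fun i _ => by ring)
    have h5 := Groth.Agent.H39.ConormalFree.coeff_mem_of_sum_mem_sq rs.get hrs (fun k => c k - c' k) h3 k
    rw [← hKspan, RingHom.mem_ker, map_sub, sub_eq_zero] at h5
    exact h5
  -- the relation defining the section
  let P : M → (Fin rs.length → B₀) → Prop := fun m v =>
    ∃ (x : (RingHom.ker π'')) (c : Fin rs.length → R), (RingHom.ker π'').toCotangent x = Θ m ∧ κ x = (Ideal.Quotient.mk ((RingHom.ker ρ) ^ 2)) (∑ k, c k * rs.get k) ∧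
      ∀ k, v k = ρ (c k)
  have Pex : ∀ m, ∃ v, P m v := by
    intro m
    obtain ⟨x, hx⟩ := Ideal.toCotangent_surjective (RingHom.ker π'') (Θ m)
    obtain ⟨c, hc⟩ := F1 x x.2
    exact ⟨fun k => ρ (c k), x, c, hx, hc, fun k => rfl⟩
  have Puniq : ∀ m v v', P m v → P m v' → v = v' := by
    rintro m v v' ⟨x, c, hx, hc, hv⟩ ⟨x', c', hx', hc', hv'⟩
    funext k
    rw [hv k, hv' k]
    exact F3 x x' c c' (hx.trans hx'.symm) hc hc' k
  have Padd : ∀ m m' v v', P m v → P m' v' → P (m + m') (v + v') := by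
    rintro m m' v v' ⟨x, c, hx, hc, hv⟩ ⟨x', c', hx', hc', hv'⟩
    refine ⟨x + x', c + c', ?_, ?_, ?_⟩
    · rw [map_add, map_add, hx, hx']
    · rw [Submodule.coe_add, map_add, hc, hc', ← map_add, ← Finset.sum_add_distrib]
      congr 1
      exact Finset.sum_congr rfl (fun i _ => by rw [Pi.add_apply]; ring)
    · intro k
      rw [Pi.add_apply, Pi.add_apply, map_add, hv k, hv' k]
  have Psmul : ∀ (b : B') m v, P m v → P (π'' b • m) (π'' b • v) := by
    rintro b m v ⟨x, c, hx, hc, hv⟩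
    obtain ⟨rb, hrb1, hrb2⟩ := hκ b
    refine ⟨b • x, fun k => rb * c k, ?_, ?_, ?_⟩
    · rw [map_smul, hx, hΘ]
    · rw [Submodule.coe_smul, smul_eq_mul, map_mul, hc, hrb1, ← map_mul, Finset.mul_sum]
      congr 1
      exact Finset.sum_congr rfl (fun i _ => by ring)
    · intro k
      rw [Pi.smul_apply, smul_eq_mul, map_mul, hrb2, hv k]
  -- the section
  let s : M → (Fin rs.length → B₀) := fun m => Classical.choose (Pex m)
  have hs : ∀ m, P m (s m) := fun m => Classical.choose_spec (Pex m)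
  let slin : M →ₗ[B₀] (Fin rs.length → B₀) :=
    { toFun := s
      map_add' := fun m m' => Puniq _ _ _ (hs (m + m')) (Padd m m' _ _ (hs m) (hs m'))
      map_smul' := fun b₀ m => by
        obtain ⟨b, rfl⟩ := hπ b₀
        exact Puniq _ _ _ (hs (π'' b • m)) (Psmul b m _ (hs m)) }
  -- the retraction
  have hmem : ∀ k, σ ((Ideal.Quotient.mk ((RingHom.ker ρ) ^ 2)) (rs.get k)) ∈ (RingHom.ker π'') := by
    intro k
    rw [RingHom.mem_ker, hσ]
    have : rs.get k ∈ (RingHom.ker ρ) := by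
      rw [hKspan]
      exact Ideal.subset_span ⟨k, rfl⟩
    exact this
  let mvec : Fin rs.length → M := fun k => Θ.symm ((RingHom.ker π'').toCotangent ⟨σ ((Ideal.Quotient.mk ((RingHom.ker ρ) ^ 2)) (rs.get k)), hmem k⟩)
  let rlin : (Fin rs.length → B₀) →ₗ[B₀] M := Fintype.linearCombination B₀ mvec
  have hrs' : ∀ m v, P m v → rlin v = m := by
    rintro m v ⟨x, c, hx, hc, hv⟩
    apply Θ.injective
    rw [Fintype.linearCombination_apply, map_sum, ← hx]
    have h1 : ∀ k, Θ (v k • mvec k) = (RingHom.ker π'').toCotangent (σ ((Ideal.Quotient.mk ((RingHom.ker ρ) ^ 2)) (c k)) • ⟨σ ((Ideal.Quotient.mk ((RingHom.ker ρ) ^ 2)) (rs.get k)), hmem k⟩) := by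
      intro k
      rw [hv k, ← hσ (c k), hΘ, map_smul]
      congr 1
      exact Θ.apply_symm_apply _
    rw [Finset.sum_congr rfl (fun k _ => h1 k), ← map_sum]
    congr 1
    apply Subtype.ext
    rw [Submodule.coe_sum]
    simp only [Submodule.coe_smul, smul_eq_mul]
    rw [← hσκ (x : B'), hc, map_sum, map_sum]
    exact Finset.sum_congr rfl (fun k _ => by rw [map_mul, map_mul])
  have hcomp : rlin.comp slin = LinearMap.id := by
    ext m
    exact hrs' m (s m) (hs m)
  refine ⟨?_, Module.Projective.of_split slin rlin hcomp⟩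
  refine Module.Finite.of_surjective rlin (fun m => ⟨s m, hrs' m (s m) (hs m)⟩)

end Groth.Agent.H64.UTK_KP
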