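import Mathlib
import Groth.Prelude.Def_GrTwist
import Groth.Agent.H18.Veronese
import Groth.Agent.H41.GrModQCoh

/-!
# (O) for helper88's S9577 squad: helper18's Veronese morphism `vMap` on sections, pointwise
-/

set_option autoImplicit false
universe u
open CategoryTheory CategoryTheory.Limits AlgebraicGeometry Opposite TopologicalSpace
open Groth.Agent.H18.Veronese
open Groth.Agent.H41.GrModQCoh (rval)

namespace Groth.Agent.H64.VerTw_O

variable {R A B : Type u} [CommRing R] [CommRing A] [Algebra R A] {𝒜 : ℕ → Submodule R A}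
  [GradedAlgebra 𝒜] [CommRing B] [Algebra R B] {ℬ : ℕ → Submodule R B} [GradedAlgebra ℬ]
  {d : ℕ} (hd : 0 < d) (φ : B →ₐ[R] A)
  (hdeg : ∀ n : ℕ, Submodule.map φ.toLinearMap (ℬ n) = 𝒜 (n * d))

theorem localRingHom_mk_pow {B A : Type u} [CommRing B] [CommRing A] (I : Ideal B) [I.IsPrime]
    (J : Ideal A) [J.IsPrime] (f : B →+* A) (hIJ : I = J.comap f) (b g : B) (k : ℕ)
    (hs : g ^ k ∈ I.primeCompl) (hs' : (f g) ^ k ∈ J.primeCompl) :
    Localization.localRingHom I J f hIJ (Localization.mk b ⟨g ^ k, hs⟩) =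
      Localization.mk (f b) ⟨(f g) ^ k, hs'⟩ := by
  rw [Localization.mk_eq_mk', Localization.localRingHom_mk', Localization.mk_eq_mk']
  congr 1
  exact Subtype.ext (map_pow f g k)

/-- (O) `vMap` on sections, pointwise; (O') as a hypothesis. -/
theorem rval_vMap_app_of
    (hO' : ∀ {n : ℕ} {g : B} (hn : 0 < n) (hg : g ∈ ℬ n)
      (hle : Proj.basicOpen 𝒜 (φ g) ≤ vMap φ hdeg hd ⁻¹ᵁ Proj.basicOpen ℬ g),
      Proj.awayToSection ℬ g ≫ (vMap φ hdeg hd).appLE (Proj.basicOpen ℬ g)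
        (Proj.basicOpen 𝒜 (φ g)) hle =
      CommRingCat.ofHom (vAway φ hdeg ⟨n, hg⟩) ≫ Proj.awayToSection 𝒜 (φ g))
    (U : (Proj ℬ).Opens) (r : Γ(Proj ℬ, U)) (y : ↥(vMap φ hdeg hd ⁻¹ᵁ U)) :
    (rval 𝒜 ((vMap φ hdeg hd).app U r) y).val =
      Localization.localRingHom ((vMap φ hdeg hd).base y.1).asHomogeneousIdeal.toIdeal
        (y.1 : ProjectiveSpectrum 𝒜).asHomogeneousIdeal.toIdeal φ.toRingHom (vMap_base φ hdeg hd y.1)
        (rval ℬ r ⟨(vMap φ hdeg hd).base y.1, y.2⟩).val := by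
  obtain ⟨n₀, a, ha, hay, haU⟩ :=
    Groth.Agent.H41.GrModSections.exists_homogeneous_basicOpen_subset ℬ U
      ((vMap φ hdeg hd).base y.1) y.2
  obtain ⟨n₁, g₁, hn₁, hg₁, hg₁y⟩ := exists_pos_map_not_mem φ hdeg hd y.1
  have hg : a * g₁ ∈ ℬ (n₀ + n₁) := SetLike.mul_mem_graded ha hg₁
  have hn : 0 < n₀ + n₁ := Nat.add_pos_right _ hn₁
  have hg₁y' : g₁ ∉ ((vMap φ hdeg hd).base y.1).asHomogeneousIdeal := fun h =>
    hg₁y ((vMap_mem_iff φ hdeg hd y.1 hg₁).mp h)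
  have hgy : a * g₁ ∉ ((vMap φ hdeg hd).base y.1).asHomogeneousIdeal := fun h =>
    (((vMap φ hdeg hd).base y.1).isPrime.mem_or_mem h).elim hay hg₁y'
  have hgU : Proj.basicOpen ℬ (a * g₁) ≤ U := by
    intro x hx
    exact haU x (fun h => ((ProjectiveSpectrum.mem_basicOpen ℬ (a * g₁) x).mp hx)
      (Ideal.mul_mem_right _ _ h))
  generalize a * g₁ = g at hg hgy hgU
  generalize n₀ + n₁ = n at hg hn
  have hle : Proj.basicOpen 𝒜 (φ g) ≤ vMap φ hdeg hd ⁻¹ᵁ Proj.basicOpen ℬ g :=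
    (vMap_preimage_basicOpen φ hdeg hd hn hg).ge
  have hφgy : y.1 ∈ Proj.basicOpen 𝒜 (φ g) := by
    rw [← vMap_preimage_basicOpen φ hdeg hd hn hg]
    exact hgy
  have hleU : Proj.basicOpen 𝒜 (φ g) ≤ vMap φ hdeg hd ⁻¹ᵁ U := fun x hx => hgU (hle hx)
  obtain ⟨z, hz⟩ := (ConcreteCategory.bijective_of_isIso
    (Proj.basicOpenIsoAway ℬ g hg hn).hom).2 ((Proj ℬ).presheaf.map (homOfLE hgU).op r)
  obtain ⟨k, b, hb, rfl⟩ := HomogeneousLocalization.Away.mk_surjective ℬ hg z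
  have hz' : (Proj.awayToSection ℬ g) (HomogeneousLocalization.Away.mk ℬ hg k b hb) =
      (Proj ℬ).presheaf.map (homOfLE hgU).op r := hz
  have e1 : (Proj ℬ).presheaf.map (homOfLE hgU).op ≫
      (vMap φ hdeg hd).appLE (Proj.basicOpen ℬ g) (Proj.basicOpen 𝒜 (φ g)) hle =
      (vMap φ hdeg hd).appLE U (Proj.basicOpen 𝒜 (φ g)) hleU :=
    Scheme.Hom.map_appLE _ _ _
  have hsec : (Proj 𝒜).presheaf.map (homOfLE hleU).op ((vMap φ hdeg hd).app U r) =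
      Proj.awayToSection 𝒜 (φ g) (HomogeneousLocalization.Away.mk 𝒜 (phi_mem φ hdeg hg) k (φ b)
        (phi_mem_smul φ hdeg hb)) := by
    have h1 : (Proj 𝒜).presheaf.map (homOfLE hleU).op ((vMap φ hdeg hd).app U r) =
        ((vMap φ hdeg hd).appLE U (Proj.basicOpen 𝒜 (φ g)) hleU) r := rfl
    rw [h1, ← e1, CommRingCat.comp_apply, ← hz', ← CommRingCat.comp_apply, hO' hn hg hle,
      CommRingCat.comp_apply]
    congr 1
    exact vAway_mk φ hdeg hg k b hb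
  have hL : (rval 𝒜 ((vMap φ hdeg hd).app U r) y).val =
      (rval 𝒜 ((Proj 𝒜).presheaf.map (homOfLE hleU).op ((vMap φ hdeg hd).app U r))
        ⟨y.1, hφgy⟩).val := rfl
  have hR : (rval ℬ r ⟨(vMap φ hdeg hd).base y.1, y.2⟩).val =
      (rval ℬ ((Proj ℬ).presheaf.map (homOfLE hgU).op r) ⟨(vMap φ hdeg hd).base y.1, hgy⟩).val :=
    rfl
  rw [hL, hR, hsec, ← hz']
  have hgk : g ^ k ∈ ((vMap φ hdeg hd).base y.1).asHomogeneousIdeal.toIdeal.primeCompl := fun h =>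
    hgy (((vMap φ hdeg hd).base y.1).isPrime.mem_of_pow_mem k h)
  have hφgk : (φ g) ^ k ∈ (y.1 : ProjectiveSpectrum 𝒜).asHomogeneousIdeal.toIdeal.primeCompl :=
    fun h => ((ProjectiveSpectrum.mem_basicOpen 𝒜 (φ g) y.1).mp hφgy)
      ((y.1 : ProjectiveSpectrum 𝒜).isPrime.mem_of_pow_mem k h)
  have hA : (rval 𝒜 (Proj.awayToSection 𝒜 (φ g) (HomogeneousLocalization.Away.mk 𝒜
      (phi_mem φ hdeg hg) k (φ b) (phi_mem_smul φ hdeg hb))) ⟨y.1, hφgy⟩).val =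
      Localization.mk (φ b) ⟨(φ g) ^ k, hφgk⟩ := rfl
  have hB : (rval ℬ (Proj.awayToSection ℬ g (HomogeneousLocalization.Away.mk ℬ hg k b hb))
      ⟨(vMap φ hdeg hd).base y.1, hgy⟩).val = Localization.mk b ⟨g ^ k, hgk⟩ := rfl
  rw [hA, hB]
  exact (localRingHom_mk_pow _ _ φ.toRingHom (vMap_base φ hdeg hd y.1) b g k hgk hφgk).symm

end Groth.Agent.H64.VerTw_O
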