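import Groth.Agent.H64.VerTw_O
import Groth.Agent.H20.VerTw_OP

/-!
# (O) for helper88's S9577 squad, closed form (with helper20's (O'))
-/

set_option autoImplicit false
universe u
open CategoryTheory CategoryTheory.Limits AlgebraicGeometry Opposite TopologicalSpace
open Groth.Agent.H18.Veronese
open Groth.Agent.H41.GrModQCoh (rval)

namespace Groth.Agent.H64.VerTw_O

variable {R A B : Type u} [CommRing R] [CommRing A] [Algebra R A] {𝒜 : ℕ → Submodule R A}
  [GradedAlgebra 𝒜] [CommRing B] [Algebra R B] {ℬ : ℕ → Submodule R B} [GradedAlgebra ℬ]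
  {d : ℕ} (hd : 0 < d) (φ : B →ₐ[R] A)
  (hdeg : ∀ n : ℕ, Submodule.map φ.toLinearMap (ℬ n) = 𝒜 (n * d))

/-- (O) `vMap` on sections, pointwise. -/
theorem rval_vMap_app (U : (Proj ℬ).Opens) (r : Γ(Proj ℬ, U)) (y : ↥(vMap φ hdeg hd ⁻¹ᵁ U)) :
    (rval 𝒜 ((vMap φ hdeg hd).app U r) y).val =
      Localization.localRingHom ((vMap φ hdeg hd).base y.1).asHomogeneousIdeal.toIdeal
        (y.1 : ProjectiveSpectrum 𝒜).asHomogeneousIdeal.toIdeal φ.toRingHom (vMap_base φ hdeg hd y.1)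
        (rval ℬ r ⟨(vMap φ hdeg hd).base y.1, y.2⟩).val :=
  rval_vMap_app_of hd φ hdeg
    (fun hn hg hle => Groth.Agent.H20.VerTw_OP.awayToSection_comp_appLE_vMap hd φ hdeg hn hg hle)
    U r y

end Groth.Agent.H64.VerTw_O
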