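import Mathlib

set_option autoImplicit false
open Complex

namespace Groth.Agent.H64.Verlinde

/-- unique sorting permutation -/
lemma existsUnique_perm_strictAnti {r N : ℕ} (κ : Fin r → Fin N) (hκ : Function.Injective κ) :
    ∃ σ : Equiv.Perm (Fin r), StrictAnti (κ ∘ σ) ∧
      ∀ τ : Equiv.Perm (Fin r), StrictAnti (κ ∘ τ) → τ = σ := by
  have hm : Monotone ((OrderDual.toDual ∘ κ) ∘ Tuple.sort (OrderDual.toDual ∘ κ)) :=
    Tuple.monotone_sort _
  have ha : Antitone (κ ∘ Tuple.sort (OrderDual.toDual ∘ κ)) := fun i j hij => hm hij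
  refine ⟨Tuple.sort (OrderDual.toDual ∘ κ),
    ha.strictAnti_of_injective (hκ.comp (Equiv.injective _)), ?_⟩
  intro τ hτ
  have h := Tuple.unique_antitone hτ.antitone ha
  exact Equiv.ext fun i => hκ (congrFun h i)

lemma sum_eq_sum_strictAnti_perm {r N : ℕ}
    [DecidablePred fun u : Fin r → Fin N => StrictAnti u] (Φ : (Fin r → Fin N) → ℂ)
    (hΦ : ∀ κ, ¬ Function.Injective κ → Φ κ = 0) :
    ∑ κ : Fin r → Fin N, Φ κ =
      ∑ u ∈ (Finset.univ : Finset (Fin r → Fin N)).filter (fun u => StrictAnti u),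
        ∑ σ : Equiv.Perm (Fin r), Φ (u ∘ σ) := by
  classical
  have h1 : ∀ κ : Fin r → Fin N,
      Φ κ = ∑ σ : Equiv.Perm (Fin r), if StrictAnti (κ ∘ σ) then Φ κ else 0 := by
    intro κ
    by_cases hκ : Function.Injective κ
    · obtain ⟨σ0, hσ0, huniq⟩ := existsUnique_perm_strictAnti κ hκ
      rw [Finset.sum_eq_single σ0]
      · rw [if_pos hσ0]
      · intro τ _ hτ
        rw [if_neg]
        intro h
        exact hτ (huniq τ h)
      · intro h
        exact absurd (Finset.mem_univ _) h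
    · rw [hΦ κ hκ]
      simp
  have h2 : ∀ σ : Equiv.Perm (Fin r),
      (∑ κ : Fin r → Fin N, if StrictAnti (κ ∘ σ) then Φ κ else 0) =
        ∑ u : Fin r → Fin N, if StrictAnti u then Φ (u ∘ σ.symm) else 0 := by
    intro σ
    refine Fintype.sum_equiv (Equiv.arrowCongr σ.symm (Equiv.refl (Fin N))) _ _ ?_
    intro κ
    have e1 : (Equiv.arrowCongr σ.symm (Equiv.refl (Fin N))) κ = κ ∘ σ := by
      funext i
      simp [Equiv.arrowCongr]
    rw [e1]
    have e2 : (κ ∘ σ) ∘ σ.symm = κ := by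
      funext i
      simp
    rw [e2]
  calc ∑ κ : Fin r → Fin N, Φ κ
      = ∑ κ : Fin r → Fin N, ∑ σ : Equiv.Perm (Fin r),
          if StrictAnti (κ ∘ σ) then Φ κ else 0 :=
        Finset.sum_congr rfl fun κ _ => h1 κ
    _ = ∑ σ : Equiv.Perm (Fin r), ∑ κ : Fin r → Fin N,
          if StrictAnti (κ ∘ σ) then Φ κ else 0 :=
        Finset.sum_comm
    _ = ∑ σ : Equiv.Perm (Fin r), ∑ u : Fin r → Fin N,
          if StrictAnti u then Φ (u ∘ σ.symm) else 0 :=
        Finset.sum_congr rfl fun σ _ => h2 σ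
    _ = ∑ u : Fin r → Fin N, ∑ σ : Equiv.Perm (Fin r),
          if StrictAnti u then Φ (u ∘ σ.symm) else 0 :=
        Finset.sum_comm
    _ = ∑ u ∈ (Finset.univ : Finset (Fin r → Fin N)).filter (fun u => StrictAnti u),
        ∑ σ : Equiv.Perm (Fin r), Φ (u ∘ σ) := by
        rw [Finset.sum_filter]
        refine Finset.sum_congr rfl fun u _ => ?_
        by_cases hu : StrictAnti u
        · rw [if_pos hu]
          simp only [if_pos hu]
          exact Fintype.sum_equiv (Equiv.inv (Equiv.Perm (Fin r))) _ _ (fun σ => rfl)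
        · rw [if_neg hu]
          simp only [if_neg hu]
          simp

/-- Cauchy–Binet-type expansion along rows. -/
theorem det_mul_expand {R : Type*} [CommRing R] {n m : ℕ}
    (B : Matrix (Fin m) (Fin n) R) (A : Matrix (Fin n) (Fin m) R) :
    (B * A).det = ∑ κ : Fin m → Fin n, (∏ i, B i (κ i)) * (A.submatrix κ id).det := by
  have h1 : (B * A) = fun i => ∑ k ∈ (Finset.univ : Finset (Fin n)), B i k • A k := by
    funext i j
    simp [Matrix.mul_apply, Finset.sum_apply]
  have h2 := (Matrix.detRowAlternating (R := R) (n := Fin m)).toMultilinearMap.map_sum_finset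
    (fun (i : Fin m) (k : Fin n) => B i k • A k) (fun _ => (Finset.univ : Finset (Fin n)))
  have h3 : (B * A).det = Matrix.detRowAlternating
      (fun i => ∑ k ∈ (Finset.univ : Finset (Fin n)), B i k • A k) := by
    rw [← h1]; rfl
  rw [h3]
  erw [h2]
  rw [Fintype.piFinset_univ]
  refine Finset.sum_congr rfl fun κ _ => ?_
  have h4 := (Matrix.detRowAlternating (R := R) (n := Fin m)).toMultilinearMap.map_smul_univ
    (fun i => B i (κ i)) (fun i => A (κ i))
  erw [h4]
  rw [smul_eq_mul]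
  rfl

lemma andreief {r N : ℕ} [DecidablePred fun u : Fin r → Fin N => StrictAnti u]
    (w : Fin N → ℂ) (a b : Fin r → Fin N → ℂ) :
    ∑ u ∈ (Finset.univ : Finset (Fin r → Fin N)).filter (fun u => StrictAnti u),
      (∏ j, w (u j)) * (Matrix.of fun i j => a i (u j)).det *
        (Matrix.of fun i j => b i (u j)).det
    = (Matrix.of fun i i' : Fin r => ∑ x, w x * a i x * b i' x).det := by
  classical
  set A' : Matrix (Fin r) (Fin N) ℂ := Matrix.of fun i x => w x * a i x with hA'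
  set B' : Matrix (Fin N) (Fin r) ℂ := Matrix.of fun x i' => b i' x with hB'
  have hM : (Matrix.of fun i i' : Fin r => ∑ x, w x * a i x * b i' x) = A' * B' := by
    ext i i'
    simp [A', B', Matrix.mul_apply]
  rw [hM, det_mul_expand]
  have hsub : ∀ κ : Fin r → Fin N,
      (B'.submatrix κ id).det = (Matrix.of fun i j => b i (κ j)).det := by
    intro κ
    rw [← Matrix.det_transpose]
    rfl
  set Φ : (Fin r → Fin N) → ℂ :=
    fun κ => (∏ i, A' i (κ i)) * (Matrix.of fun i j => b i (κ j)).det with hΦdef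
  have hΦ0 : ∀ κ, ¬ Function.Injective κ → Φ κ = 0 := by
    intro κ hκ
    simp only [Function.Injective, not_forall] at hκ
    obtain ⟨j1, j2, hj, hne⟩ := hκ
    have : (Matrix.of fun i j => b i (κ j)).det = 0 :=
      Matrix.det_zero_of_column_eq hne (fun i => by simp [hj])
    simp [Φ, this]
  symm
  calc ∑ κ : Fin r → Fin N, (∏ i, A' i (κ i)) * (B'.submatrix κ id).det
      = ∑ κ : Fin r → Fin N, Φ κ := by
        refine Finset.sum_congr rfl fun κ _ => ?_
        rw [hsub κ]
    _ = ∑ u ∈ (Finset.univ : Finset (Fin r → Fin N)).filter (fun u => StrictAnti u),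
          ∑ σ : Equiv.Perm (Fin r), Φ (u ∘ σ) := sum_eq_sum_strictAnti_perm Φ hΦ0
    _ = _ := by
        refine Finset.sum_congr rfl fun u _ => ?_
        have hdetb : ∀ σ : Equiv.Perm (Fin r), (Matrix.of fun i j => b i ((u ∘ σ) j)).det
            = ((Equiv.Perm.sign σ : ℤ) : ℂ) * (Matrix.of fun i j => b i (u j)).det := by
          intro σ
          exact Matrix.det_permute' σ (Matrix.of fun i j => b i (u j))
        have hdeta : (Matrix.of fun i j => a i (u j)).det
            = ∑ σ : Equiv.Perm (Fin r), ((Equiv.Perm.sign σ : ℤ) : ℂ) * ∏ i, a i (u (σ i)) := by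
          rw [← Matrix.det_transpose, Matrix.det_apply']
          rfl
        calc ∑ σ : Equiv.Perm (Fin r), Φ (u ∘ σ)
            = ∑ σ : Equiv.Perm (Fin r), (∏ j, w (u j)) * (Matrix.of fun i j => b i (u j)).det *
                (((Equiv.Perm.sign σ : ℤ) : ℂ) * ∏ i, a i (u (σ i))) := by
              refine Finset.sum_congr rfl fun σ _ => ?_
              have hp : ∏ i, A' i ((u ∘ σ) i) = (∏ j, w (u j)) * ∏ i, a i (u (σ i)) := by
                simp only [A', Matrix.of_apply, Function.comp_apply, Finset.prod_mul_distrib]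
                rw [Equiv.prod_comp σ (fun j => w (u j))]
              simp only [Φ]
              rw [hp, hdetb σ]
              ring
          _ = (∏ j, w (u j)) * (Matrix.of fun i j => a i (u j)).det *
                (Matrix.of fun i j => b i (u j)).det := by
              rw [← Finset.mul_sum, ← hdeta]
              ring

lemma det_add_smul_ones {n : Type*} [Fintype n] [DecidableEq n] (A : Matrix n n ℂ)
    (hA : A.det ≠ 0) :
    ∃ q : ℂ, ∀ t : ℂ, (A + t • (Matrix.of fun (_ : n) (_ : n) => (1:ℂ))).det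
      = A.det * (1 + t * q) := by
  refine ⟨(Matrix.replicateRow Unit (fun _ : n => (1:ℂ)) * A⁻¹ *
    Matrix.replicateCol Unit (fun _ : n => (1:ℂ))) () (), fun t => ?_⟩
  have hJ : t • (Matrix.of fun (_ : n) (_ : n) => (1:ℂ)) =
      Matrix.replicateCol Unit (fun _ : n => t) *
        Matrix.replicateRow Unit (fun _ : n => (1:ℂ)) := by
    ext i j
    simp [Matrix.mul_apply]
  rw [hJ, Matrix.det_add_replicateCol_mul_replicateRow (isUnit_iff_ne_zero.mpr hA)]
  congr 1
  rw [Matrix.det_unique]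
  have hc : Matrix.replicateCol Unit (fun _ : n => t) =
      t • Matrix.replicateCol Unit (fun _ : n => (1:ℂ)) := by
    ext i j
    simp
  rw [hc, Matrix.mul_smul]
  simp

lemma rank_one_trick {n : Type*} [Fintype n] [DecidableEq n] (A : Matrix n n ℂ) (ξ : ℂ)
    (hξ : ξ ≠ 1)
    (h : (A + ξ • (Matrix.of fun (_ : n) (_ : n) => (1:ℂ))).det =
      (A + (1:ℂ) • (Matrix.of fun (_ : n) (_ : n) => (1:ℂ))).det) :
    (A + (1:ℂ) • (Matrix.of fun (_ : n) (_ : n) => (1:ℂ))).det = A.det := by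
  set J : Matrix n n ℂ := Matrix.of fun _ _ => (1:ℂ) with hJ
  by_cases hM : (A + (1:ℂ) • J).det = 0
  · rw [hM]
    by_contra hA
    have hA' : A.det ≠ 0 := fun h0 => hA h0.symm
    obtain ⟨q, hq⟩ := det_add_smul_ones A hA'
    have h1 := hq 1
    have h2 := hq ξ
    rw [hM] at h1
    rw [h, hM] at h2
    have e1 : 1 + 1 * q = 0 := by
      rcases mul_eq_zero.mp h1.symm with h | h
      · exact absurd h hA'
      · exact h
    have e2 : 1 + ξ * q = 0 := by
      rcases mul_eq_zero.mp h2.symm with h | h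
      · exact absurd h hA'
      · exact h
    have e3 : (ξ - 1) * q = 0 := by linear_combination e2 - e1
    have hq0 : q = 0 := by
      rcases mul_eq_zero.mp e3 with h | h
      · exact absurd (sub_eq_zero.mp h) hξ
      · exact h
    rw [hq0] at e1
    norm_num at e1
  · obtain ⟨q, hq⟩ := det_add_smul_ones (A + (1:ℂ) • J) hM
    have hs : ∀ s : ℂ, A + (1:ℂ) • J + s • J = A + (1 + s) • J := by
      intro s
      rw [add_assoc, ← add_smul]
    have h2 := hq (ξ - 1)
    rw [hs, show (1:ℂ) + (ξ - 1) = ξ by ring, h] at h2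
    have e1 : (ξ - 1) * q = 0 := by
      have : (A + (1:ℂ) • J).det * ((ξ - 1) * q) = 0 := by linear_combination (-1 : ℂ) * h2
      rcases mul_eq_zero.mp this with h | h
      · exact absurd h hM
      · exact h
    have hq0 : q = 0 := by
      rcases mul_eq_zero.mp e1 with h | h
      · exact absurd (sub_eq_zero.mp h) hξ
      · exact h
    have h3 := hq (-1)
    rw [hs, show (1:ℂ) + (-1) = 0 by ring, zero_smul, add_zero, hq0] at h3
    rw [h3]
    ring


lemma combi2 {r N : ℕ} (l l' : Fin r → ℕ) (hl : StrictAnti l) (hl' : StrictAnti l')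
    (hlN : ∀ i, l i < N) (hl'N : ∀ i, l' i < N) (c : ℤ)
    (hc : (r:ℤ) * c = ((∑ i, l i : ℕ) : ℤ) + ((∑ i, l' i : ℕ) : ℤ))
    (hall : ∀ i, ∃ j, (N:ℤ) ∣ (l i : ℤ) + (l' j : ℤ) - c) :
    ∀ i, (l i : ℤ) + (l' (Fin.rev i) : ℤ) = c := by
  choose π hπ using hall
  have πinj : Function.Injective π := by
    intro i i' h
    have h1 := hπ i
    have h2 := hπ i'
    rw [h] at h1
    have h3 : (N:ℤ) ∣ (l i : ℤ) - (l i' : ℤ) := by
      have := dvd_sub h1 h2
      have e : ((l i : ℤ) + (l' (π i') : ℤ) - c) - ((l i' : ℤ) + (l' (π i') : ℤ) - c)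
          = (l i : ℤ) - l i' := by ring
      rwa [e] at this
    have h4 : (l i : ℤ) - (l i' : ℤ) = 0 := by
      apply Int.eq_zero_of_abs_lt_dvd h3
      have := hlN i
      have := hlN i'
      rw [abs_lt]
      constructor <;> omega
    apply hl.injective
    omega
  have πbij : Function.Bijective π := Finite.injective_iff_bijective.mp πinj
  have hsumπ : ∑ i, l' (π i) = ∑ j, l' j := Function.Bijective.sum_comp πbij l'
  set d : Fin r → ℤ := fun i => (l i : ℤ) + (l' (π i) : ℤ) - c with hd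
  have hdvd : ∀ i, (N:ℤ) ∣ d i := hπ
  have hsum : ∑ i, d i = 0 := by
    have e1 : ∑ i, d i = (∑ i, (l i : ℤ)) + (∑ i, (l' (π i) : ℤ)) - (r:ℤ) * c := by
      simp only [hd, Finset.sum_sub_distrib, Finset.sum_add_distrib, Finset.sum_const,
        Finset.card_univ, Fintype.card_fin, nsmul_eq_mul]
    have e2 : (∑ i, (l' (π i) : ℤ)) = ((∑ j, l' j : ℕ) : ℤ) := by
      rw [← hsumπ, Nat.cast_sum]
    have e3 : (∑ i, (l i : ℤ)) = ((∑ i, l i : ℕ) : ℤ) := by rw [Nat.cast_sum]
    rw [e1, e2, e3, hc]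
    ring
  have hbound : ∀ i i', d i - d i' < 2 * (N:ℤ) := by
    intro i i'
    have := hlN i
    have := hl'N (π i)
    show (l i : ℤ) + (l' (π i) : ℤ) - c - ((l i' : ℤ) + (l' (π i') : ℤ) - c) < 2 * (N:ℤ)
    omega
  have hnonneg_or : (∀ i, 0 ≤ d i) ∨ (∀ i, d i ≤ 0) := by
    by_contra hcon
    push Not at hcon
    obtain ⟨⟨i, hi⟩, ⟨i', hi'⟩⟩ := hcon
    have h1 : (N:ℤ) ≤ d i' := Int.le_of_dvd hi' (hdvd i')
    have h2 : (N:ℤ) ≤ -d i := Int.le_of_dvd (by omega) ((dvd_neg).mpr (hdvd i))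
    have := hbound i' i
    omega
  have hzero : ∀ i, d i = 0 := by
    rcases hnonneg_or with h | h
    · exact fun i => (Finset.sum_eq_zero_iff_of_nonneg (fun i _ => h i)).mp hsum i
        (Finset.mem_univ i)
    · have h' : ∑ i, (- d i) = 0 := by rw [Finset.sum_neg_distrib, hsum, neg_zero]
      intro i
      have := (Finset.sum_eq_zero_iff_of_nonneg (fun i _ => neg_nonneg.mpr (h i))).mp h' i
        (Finset.mem_univ i)
      omega
  have heq : ∀ i, (l i : ℤ) + (l' (π i) : ℤ) = c := fun i => by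
    have h := hzero i
    have : (l i : ℤ) + (l' (π i) : ℤ) - c = 0 := h
    omega
  have πanti : StrictAnti π := by
    intro i i' hii'
    have h1 := hl hii'
    have := heq i
    have := heq i'
    have h2 : l' (π i) < l' (π i') := by omega
    exact (StrictAnti.lt_iff_gt hl').mp h2
  have hrev : ∀ i, π i = Fin.rev i := by
    have hmono : StrictMono (fun i => Fin.rev (π i)) :=
      fun i i' h => Fin.rev_lt_rev.mpr (πanti h)
    intro i
    have h1 : i ≤ Fin.rev (π i) := hmono.le_apply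
    have h2 : Fin.rev (π i) ≤ i := hmono.apply_le
    have h3 : Fin.rev (π i) = i := le_antisymm h2 h1
    have h4 := congrArg Fin.rev h3
    rw [Fin.rev_rev] at h4
    exact h4
  intro i
  rw [← hrev i]
  exact heq i

lemma combi {r N : ℕ} (hN : 0 < N) (l l' : Fin r → ℕ) (hl : StrictAnti l) (hl' : StrictAnti l')
    (hlN : ∀ i, l i < N) (hl'N : ∀ i, l' i < N) (c : ℤ)
    (hc : (r:ℤ) * c = ((∑ i, l i : ℕ) : ℤ) + ((∑ i, l' i : ℕ) : ℤ))
    (hne' : ¬ ∀ i, (l i : ℤ) + (l' (Fin.rev i) : ℤ) = c) :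
    ∃ i1 i2 : Fin r, i1 ≠ i2 ∧ ∀ j, ¬ ((N:ℤ) ∣ (l i1 : ℤ) + (l' j : ℤ) - c) ∧
      ¬ ((N:ℤ) ∣ (l i2 : ℤ) + (l' j : ℤ) - c) := by
  classical
  haveI : NeZero N := ⟨hN.ne'⟩
  set Z : Finset (Fin r) :=
    Finset.univ.filter (fun i => ∀ j, ¬ ((N:ℤ) ∣ (l i : ℤ) + (l' j : ℤ) - c)) with hZ
  suffices h2 : 1 < Z.card by
    obtain ⟨i1, h1, i2, h2', hne⟩ := Finset.one_lt_card.mp h2
    exact ⟨i1, i2, hne, fun j =>
      ⟨(Finset.mem_filter.mp h1).2 j, (Finset.mem_filter.mp h2').2 j⟩⟩
  by_contra hcard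
  push Not at hcard
  let fa : Fin r → ZMod N := fun i => ((l i : ℕ) : ZMod N)
  let fb : Fin r → ZMod N := fun j => ((c : ℤ) : ZMod N) - ((l' j : ℕ) : ZMod N)
  have injnat : ∀ a b : ℕ, a < N → b < N → ((a:ℕ) : ZMod N) = ((b:ℕ) : ZMod N) → a = b := by
    intro a b ha hb h
    have := (ZMod.natCast_eq_natCast_iff' a b N).mp h
    rwa [Nat.mod_eq_of_lt ha, Nat.mod_eq_of_lt hb] at this
  have injA : Function.Injective fa :=
    fun i i' h => hl.injective (injnat _ _ (hlN i) (hlN i') h)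
  have injB : Function.Injective fb := fun j j' h => by
    have : ((l' j : ℕ) : ZMod N) = ((l' j' : ℕ) : ZMod N) := by
      simp only [fb] at h
      exact sub_right_injective h
    exact hl'.injective (injnat _ _ (hl'N j) (hl'N j') this)
  have hPi : ∀ i j, ((N:ℤ) ∣ (l i : ℤ) + (l' j : ℤ) - c) ↔ fa i = fb j := by
    intro i j
    rw [← ZMod.intCast_zmod_eq_zero_iff_dvd]
    simp only [fa, fb]
    push_cast
    constructor
    · intro h
      linear_combination h
    · intro h
      linear_combination h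
  set A : Finset (ZMod N) := Finset.univ.image fa with hA
  set B : Finset (ZMod N) := Finset.univ.image fb with hB
  have cardA : A.card = r := by
    rw [hA, Finset.card_image_of_injective _ injA]
    simp
  have cardB : B.card = r := by
    rw [hB, Finset.card_image_of_injective _ injB]
    simp
  have hZA : A \ B = Z.image fa := by
    ext a
    simp only [Finset.mem_sdiff, Finset.mem_image, Finset.mem_univ, true_and, hA, hB, hZ,
      Finset.mem_filter]
    constructor
    · rintro ⟨⟨i, rfl⟩, hnb⟩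
      exact ⟨i, fun j hdvd => hnb ⟨j, ((hPi i j).mp hdvd).symm⟩, rfl⟩
    · rintro ⟨i, hi, rfl⟩
      refine ⟨⟨i, rfl⟩, ?_⟩
      rintro ⟨j, hj⟩
      exact hi j ((hPi i j).mpr hj.symm)
  have cardAB : (A \ B).card = Z.card := by
    rw [hZA, Finset.card_image_of_injective _ injA]
  have cardBA : (B \ A).card = (A \ B).card := Finset.card_sdiff_comm (cardB.trans cardA.symm)
  have sumA : ∑ a ∈ A, a = ∑ i, fa i := by
    rw [hA, Finset.sum_image (fun _ _ _ _ h => injA h)]
  have sumB : ∑ b ∈ B, b = ∑ j, fb j := by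
    rw [hB, Finset.sum_image (fun _ _ _ _ h => injB h)]
  have sumEq : ∑ i, fa i = ∑ j, fb j := by
    simp only [fa, fb, Finset.sum_sub_distrib, Finset.sum_const, Finset.card_univ,
      Fintype.card_fin, nsmul_eq_mul]
    have hc' := congrArg (fun z : ℤ => (z : ZMod N)) hc
    push_cast at hc' ⊢
    linear_combination -hc'
  have sumSd : ∑ a ∈ A \ B, a = ∑ b ∈ B \ A, b := by
    have h1 := Finset.sum_inter_add_sum_sdiff A B (fun a => a)
    have h2 := Finset.sum_inter_add_sum_sdiff B A (fun a => a)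
    rw [Finset.inter_comm] at h2
    have hAB : ∑ a ∈ A, a = ∑ b ∈ B, b := by rw [sumA, sumB, sumEq]
    have h3 : ∑ x ∈ A ∩ B, x + ∑ x ∈ A \ B, x = ∑ x ∈ A ∩ B, x + ∑ x ∈ B \ A, x := by
      rw [h1, h2, hAB]
    exact add_left_cancel h3
  rcases Nat.lt_or_ge Z.card 1 with h0 | h1
  · have hZempty : Z = ∅ := Finset.card_eq_zero.mp (by omega)
    apply hne'
    apply combi2 l l' hl hl' hlN hl'N c hc
    intro i
    by_contra hcon
    push Not at hcon
    have : i ∈ Z := Finset.mem_filter.mpr ⟨Finset.mem_univ _, hcon⟩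
    rw [hZempty] at this
    exact absurd this (Finset.notMem_empty _)
  · have hZ1 : Z.card = 1 := le_antisymm hcard h1
    have hc1 : (A \ B).card = 1 := cardAB.trans hZ1
    have hc2 : (B \ A).card = 1 := cardBA.trans hc1
    obtain ⟨a, ha⟩ := Finset.card_eq_one.mp hc1
    obtain ⟨b, hb⟩ := Finset.card_eq_one.mp hc2
    rw [ha, hb, Finset.sum_singleton, Finset.sum_singleton] at sumSd
    have haA : a ∈ A \ B := by
      rw [ha]
      exact Finset.mem_singleton_self a
    have hbB : b ∈ B \ A := by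
      rw [hb]
      exact Finset.mem_singleton_self b
    rw [Finset.mem_sdiff] at haA hbB
    exact haA.2 (sumSd ▸ hbB.1)

lemma pair_identity (a b : ℂ) (M : ℂ) :
    (2 * Complex.sin (Real.pi * (a - b) / M)) ^ 2 =
      (Complex.exp (2 * Real.pi * Complex.I * b / M) -
          Complex.exp (2 * Real.pi * Complex.I * a / M)) *
        (Complex.exp (-(2 * Real.pi * Complex.I * b / M)) -
          Complex.exp (-(2 * Real.pi * Complex.I * a / M))) := by
  set A := Complex.exp (Real.pi * Complex.I * a / M) with hA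
  set B := Complex.exp (Real.pi * Complex.I * b / M) with hB
  have hA0 : A ≠ 0 := Complex.exp_ne_zero _
  have hB0 : B ≠ 0 := Complex.exp_ne_zero _
  have e1 : Complex.exp (2 * Real.pi * Complex.I * a / M) = A * A := by
    rw [hA, ← Complex.exp_add]
    congr 1
    ring
  have e2 : Complex.exp (2 * Real.pi * Complex.I * b / M) = B * B := by
    rw [hB, ← Complex.exp_add]
    congr 1
    ring
  have e3 : Complex.exp (-(2 * Real.pi * Complex.I * a / M)) = (A * A)⁻¹ := by
    rw [Complex.exp_neg, e1]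
  have e4 : Complex.exp (-(2 * Real.pi * Complex.I * b / M)) = (B * B)⁻¹ := by
    rw [Complex.exp_neg, e2]
  have e5 : Complex.exp (-(Real.pi * (a - b) / M) * Complex.I) = B / A := by
    rw [eq_div_iff hA0, hA, hB, ← Complex.exp_add]
    congr 1
    ring
  have e6 : Complex.exp ((Real.pi * (a - b) / M) * Complex.I) = A / B := by
    rw [eq_div_iff hB0, hA, hB, ← Complex.exp_add]
    congr 1
    ring
  rw [Complex.sin, e1, e2, e3, e4, e5, e6]
  have hI : (2 * ((B / A - A / B) * Complex.I / 2)) ^ 2 = -((B / A - A / B) ^ 2) := by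
    ring_nf
    rw [Complex.I_sq]
    ring
  rw [hI]
  field_simp
  ring

lemma prod_pairs {r : ℕ} [DecidablePred fun p : Fin r × Fin r => p.1 < p.2]
    (f : Fin r → Fin r → ℂ) :
    ∏ p ∈ (Finset.univ : Finset (Fin r × Fin r)).filter (fun p => p.1 < p.2), f p.1 p.2
      = ∏ i, ∏ j ∈ Finset.Ioi i, f i j := by
  rw [Finset.prod_filter, Fintype.prod_prod_type]
  refine Finset.prod_congr rfl fun i _ => ?_
  simp only []
  rw [← Finset.prod_filter]
  congr 1
  ext j
  simp


lemma vandermonde_facts {r : ℕ} (zz ezz : Fin r → ℂ) (hze : ∀ j, zz j * ezz j = 1) :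
    (∏ i, ∏ j ∈ Finset.Ioi i, (zz j - zz i)) =
      ((Equiv.Perm.sign (Fin.revPerm : Equiv.Perm (Fin r)) : ℤ) : ℂ) *
        (Matrix.of fun i j : Fin r => zz j ^ (r - 1 - (i:ℕ))).det ∧
    (∏ i, ∏ j ∈ Finset.Ioi i, (ezz j - ezz i)) =
      (∏ j, ezz j ^ (r - 1)) * (Matrix.of fun i j : Fin r => zz j ^ (r - 1 - (i:ℕ))).det ∧
    (Function.Injective zz → (Matrix.of fun i j : Fin r => zz j ^ (r - 1 - (i:ℕ))).det ≠ 0) := by
  set ε : ℂ := ((Equiv.Perm.sign (Fin.revPerm : Equiv.Perm (Fin r)) : ℤ) : ℂ) with hε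
  have hDm : (Matrix.of fun i j : Fin r => zz j ^ (r - 1 - (i:ℕ))) =
      ((Matrix.vandermonde zz).transpose).submatrix (Fin.revPerm : Equiv.Perm (Fin r)) id := by
    ext i j
    simp only [Matrix.of_apply, Matrix.submatrix_apply, Matrix.transpose_apply,
      Matrix.vandermonde_apply, Fin.revPerm_apply, Fin.val_rev, id]
    congr 1
    omega
  have hD : (Matrix.of fun i j : Fin r => zz j ^ (r - 1 - (i:ℕ))).det =
      ε * (Matrix.vandermonde zz).det := by
    rw [hDm, Matrix.det_permute, Matrix.det_transpose]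
  have hεε : ε * ε = 1 := by
    rcases Int.units_eq_one_or (Equiv.Perm.sign (Fin.revPerm : Equiv.Perm (Fin r))) with h | h <;>
      simp [ε, h]
  refine ⟨?_, ?_, ?_⟩
  · rw [← Matrix.det_vandermonde, hD, ← mul_assoc, hεε, one_mul]
  · rw [← Matrix.det_vandermonde, ← Matrix.det_transpose]
    have hT : (Matrix.vandermonde ezz).transpose = Matrix.of fun i j =>
        (ezz j ^ (r - 1)) * (Matrix.of fun i j : Fin r => zz j ^ (r - 1 - (i:ℕ))) i j := by
      ext i j
      simp only [Matrix.transpose_apply, Matrix.vandermonde_apply, Matrix.of_apply]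
      have hi : (i:ℕ) + (r - 1 - (i:ℕ)) = r - 1 := by
        have := i.2
        omega
      calc ezz j ^ (i:ℕ) = ezz j ^ (i:ℕ) * (zz j * ezz j) ^ (r - 1 - (i:ℕ)) := by
            rw [hze, one_pow, mul_one]
        _ = ezz j ^ ((i:ℕ) + (r - 1 - (i:ℕ))) * zz j ^ (r - 1 - (i:ℕ)) := by
            rw [mul_pow, pow_add]
            ring
        _ = _ := by rw [hi]
    rw [hT, Matrix.det_mul_row]
  · intro hinj
    rw [hD]
    have hε0 : ε ≠ 0 := fun h0 => by
      rw [h0, zero_mul] at hεε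
      exact zero_ne_one hεε
    exact mul_ne_zero hε0 (Matrix.det_vandermonde_ne_zero_iff.mpr hinj)

lemma main_abstract {r N : ℕ} (hN : 0 < N)
    [DecidablePred fun u : Fin r → Fin N => StrictAnti u]
    (x y : Fin r → ℂ) (ξ : ℂ) (hx : ∀ i, x i ^ N = ξ) (hy : ∀ j, y j ^ N = 1)
    (hprod : (∏ i, x i) * ∏ j, y j = 1)
    (hcaseA : ξ = 1 → ∃ i1 i2 : Fin r, i1 ≠ i2 ∧ ∀ j, x i1 * y j ≠ 1 ∧ x i2 * y j ≠ 1) :
    ∑ u ∈ (Finset.univ : Finset (Fin r → Fin N)).filter (fun u => StrictAnti u),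
      (1 - ∏ j, (if ((u j : Fin N) : ℕ) = 0 then (0:ℂ) else 1)) *
        (Matrix.of fun i j => x i ^ ((u j : Fin N) : ℕ)).det *
        (Matrix.of fun i j => y i ^ ((u j : Fin N) : ℕ)).det = 0 := by
  classical
  have A1 : ∑ u ∈ (Finset.univ : Finset (Fin r → Fin N)).filter (fun u => StrictAnti u),
      (∏ _j : Fin r, (1:ℂ)) * (Matrix.of fun i j => x i ^ ((u j : Fin N) : ℕ)).det *
        (Matrix.of fun i j => y i ^ ((u j : Fin N) : ℕ)).det =
      (Matrix.of fun i i' : Fin r =>
        ∑ t : Fin N, (1:ℂ) * x i ^ (t:ℕ) * y i' ^ (t:ℕ)).det :=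
    andreief (fun _ => (1:ℂ)) (fun i t => x i ^ (t:ℕ)) (fun i t => y i ^ (t:ℕ))
  have A2 : ∑ u ∈ (Finset.univ : Finset (Fin r → Fin N)).filter (fun u => StrictAnti u),
      (∏ j : Fin r, (if ((u j : Fin N) : ℕ) = 0 then (0:ℂ) else 1)) *
        (Matrix.of fun i j => x i ^ ((u j : Fin N) : ℕ)).det *
        (Matrix.of fun i j => y i ^ ((u j : Fin N) : ℕ)).det =
      (Matrix.of fun i i' : Fin r =>
        ∑ t : Fin N, (if (t:ℕ) = 0 then (0:ℂ) else 1) * x i ^ (t:ℕ) * y i' ^ (t:ℕ)).det :=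
    andreief (fun t => if (t:ℕ) = 0 then (0:ℂ) else 1) (fun i t => x i ^ (t:ℕ))
      (fun i t => y i ^ (t:ℕ))
  obtain ⟨G, hG⟩ : ∃ G : Fin r → Fin r → ℂ,
      ∀ i j, G i j = ∑ t ∈ Finset.range N, (x i * y j) ^ t := ⟨_, fun _ _ => rfl⟩
  have hM1 : (Matrix.of fun i i' : Fin r =>
      ∑ t : Fin N, (1:ℂ) * x i ^ (t:ℕ) * y i' ^ (t:ℕ)) = Matrix.of fun i j => G i j := by
    ext i j
    simp only [Matrix.of_apply]
    rw [hG, ← Fin.sum_univ_eq_sum_range (fun t => (x i * y j) ^ t) N]
    refine Finset.sum_congr rfl fun t _ => ?_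
    rw [one_mul, mul_pow]
  have hw : ∀ θ : ℂ, ∑ t : Fin N, (if (t:ℕ) = 0 then (0:ℂ) else 1) * θ ^ (t:ℕ) =
      (∑ t ∈ Finset.range N, θ ^ t) - 1 := by
    intro θ
    rw [Fin.sum_univ_eq_sum_range (fun n => (if n = 0 then (0:ℂ) else 1) * θ ^ n) N]
    obtain ⟨N', rfl⟩ := Nat.exists_eq_succ_of_ne_zero hN.ne'
    rw [Finset.sum_range_succ', Finset.sum_range_succ' (fun t => θ ^ t)]
    simp
  have hM0 : (Matrix.of fun i i' : Fin r =>
      ∑ t : Fin N, (if (t:ℕ) = 0 then (0:ℂ) else 1) * x i ^ (t:ℕ) * y i' ^ (t:ℕ)) =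
      Matrix.of fun i j => G i j - 1 := by
    ext i j
    simp only [Matrix.of_apply]
    rw [hG, ← hw]
    refine Finset.sum_congr rfl fun t _ => ?_
    rw [mul_pow, mul_assoc]
  have hgeom : ∀ i j, G i j * (x i * y j - 1) = ξ - 1 := by
    intro i j
    rw [hG, geom_sum_mul, mul_pow, hx, hy, mul_one]
  have hsplit : ∀ u : Fin r → Fin N,
      (1 - ∏ j, (if ((u j : Fin N) : ℕ) = 0 then (0:ℂ) else 1)) *
        (Matrix.of fun i j => x i ^ ((u j : Fin N) : ℕ)).det *
        (Matrix.of fun i j => y i ^ ((u j : Fin N) : ℕ)).det =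
      (∏ _j : Fin r, (1:ℂ)) * (Matrix.of fun i j => x i ^ ((u j : Fin N) : ℕ)).det *
        (Matrix.of fun i j => y i ^ ((u j : Fin N) : ℕ)).det -
      (∏ j : Fin r, (if ((u j : Fin N) : ℕ) = 0 then (0:ℂ) else 1)) *
        (Matrix.of fun i j => x i ^ ((u j : Fin N) : ℕ)).det *
        (Matrix.of fun i j => y i ^ ((u j : Fin N) : ℕ)).det := by
    intro u
    rw [Finset.prod_const_one]
    ring
  rw [Finset.sum_congr rfl (fun u _ => hsplit u), Finset.sum_sub_distrib, A1, A2, hM1, hM0]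
  rw [sub_eq_zero]
  set A : Matrix (Fin r) (Fin r) ℂ := Matrix.of fun i j => G i j - 1 with hA
  have hA1 : A + (1:ℂ) • (Matrix.of fun (_ : Fin r) (_ : Fin r) => (1:ℂ)) =
      Matrix.of fun i j => G i j := by
    ext i j
    simp [A]
  by_cases hξ : ξ = 1
  · obtain ⟨i1, i2, hne, h12⟩ := hcaseA hξ
    have hG0 : ∀ i, (∀ j, x i * y j ≠ 1) → ∀ j, G i j = 0 := by
      intro i hi j
      have h := hgeom i j
      rw [hξ, sub_self] at h
      rcases mul_eq_zero.mp h with h | h
      · exact h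
      · exact absurd (sub_eq_zero.mp h) (hi j)
    have hG1 := hG0 i1 (fun j => (h12 j).1)
    have hG2 := hG0 i2 (fun j => (h12 j).2)
    have d1 : (Matrix.of fun i j => G i j).det = 0 :=
      Matrix.det_eq_zero_of_row_eq_zero i1 (fun j => by simp [hG1 j])
    have d2 : A.det = 0 :=
      Matrix.det_zero_of_row_eq hne (funext fun j => by simp [A, hG1 j, hG2 j])
    rw [d1, d2]
  · have hAξ : A + ξ • (Matrix.of fun (_ : Fin r) (_ : Fin r) => (1:ℂ)) =
        Matrix.of fun i j => x i * (y j * G i j) := by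
      ext i j
      simp only [A, Matrix.add_apply, Matrix.smul_apply, Matrix.of_apply, smul_eq_mul, mul_one]
      linear_combination (-1 : ℂ) * hgeom i j
    have hdet1 : (Matrix.of fun i j => x i * (y j * G i j)).det =
        (∏ i, x i) * (Matrix.of fun i j => y j * G i j).det :=
      Matrix.det_mul_column x (Matrix.of fun i j => y j * G i j)
    have hdet2 : (Matrix.of fun i j => y j * G i j).det =
        (∏ j, y j) * (Matrix.of fun i j => G i j).det :=
      Matrix.det_mul_row y (Matrix.of fun i j => G i j)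
    have h := rank_one_trick A ξ hξ (by
      rw [hAξ, hA1, hdet1, hdet2, ← mul_assoc, hprod, one_mul])
    rw [hA1] at h
    exact h

end Groth.Agent.H64.Verlinde
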