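import Mathlib
import Groth.Agent.H64.VerlindeLib

set_option autoImplicit false
open Complex

namespace Groth.Agent.H64.Verlinde

/-- Rewrite a sum over the alcove `{v strictly anti, last coordinate 0}` as a weighted sum over
strictly anti `v`. -/
lemma alcove_filter_sum {r N : ℕ} (hr : 1 ≤ r) (f : (Fin r → Fin N) → ℂ)
    [DecidablePred (fun v : Fin r → Fin N =>
      StrictAnti v ∧ ∀ i : Fin r, (i:ℕ) = r - 1 → ((v i : Fin N) : ℕ) = 0)]
    [DecidablePred fun u : Fin r → Fin N => StrictAnti u] :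
    ∑ v ∈ (Finset.univ : Finset (Fin r → Fin N)).filter
        (fun v => StrictAnti v ∧ ∀ i : Fin r, (i:ℕ) = r - 1 → ((v i : Fin N) : ℕ) = 0), f v =
      ∑ v ∈ (Finset.univ : Finset (Fin r → Fin N)).filter (fun v => StrictAnti v),
        (1 - ∏ j, (if ((v j : Fin N) : ℕ) = 0 then (0:ℂ) else 1)) * f v := by
  rw [Finset.sum_filter, Finset.sum_filter]
  refine Finset.sum_congr rfl fun v _ => ?_
  by_cases hv : StrictAnti v
  · rw [if_pos hv]
    by_cases hq : (∀ i : Fin r, (i:ℕ) = r - 1 → ((v i : Fin N) : ℕ) = 0)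
    · rw [if_pos ⟨hv, hq⟩]
      have hW : ∏ j, (if ((v j : Fin N) : ℕ) = 0 then (0:ℂ) else 1) = 0 :=
        Finset.prod_eq_zero (Finset.mem_univ (⟨r - 1, by omega⟩ : Fin r))
          (by rw [if_pos (hq _ rfl)])
      rw [hW, sub_zero, one_mul]
    · rw [if_neg (fun h => hq h.2)]
      push Not at hq
      obtain ⟨i0, hi0, hvi0⟩ := hq
      have hpos : ∀ j, ((v j : Fin N) : ℕ) ≠ 0 := by
        intro j hj
        have hle : j ≤ i0 := by
          have := j.2
          show (j:ℕ) ≤ (i0:ℕ)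
          omega
        have h1 : ((v i0 : Fin N) : ℕ) ≤ ((v j : Fin N) : ℕ) := hv.antitone hle
        omega
      have hW : ∏ j, (if ((v j : Fin N) : ℕ) = 0 then (0:ℂ) else 1) = 1 :=
        Finset.prod_eq_one (fun j _ => by rw [if_neg (hpos j)])
      rw [hW, sub_self, zero_mul]
  · rw [if_neg hv, if_neg (fun h => hv h.1)]

/-- The alcove sum of a product of two generalized Vandermonde determinants as a difference of
two `r × r` determinants. -/
lemma alcove_sum_eq {r N : ℕ} (hr : 1 ≤ r) (hN : 0 < N)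
    [DecidablePred (fun v : Fin r → Fin N =>
      StrictAnti v ∧ ∀ i : Fin r, (i:ℕ) = r - 1 → ((v i : Fin N) : ℕ) = 0)]
    (x y : Fin r → ℂ) :
    ∑ u ∈ (Finset.univ : Finset (Fin r → Fin N)).filter
        (fun v => StrictAnti v ∧ ∀ i : Fin r, (i:ℕ) = r - 1 → ((v i : Fin N) : ℕ) = 0),
        (Matrix.of fun i j => x i ^ ((u j : Fin N) : ℕ)).det *
        (Matrix.of fun i j => y i ^ ((u j : Fin N) : ℕ)).det =
      (Matrix.of fun i j : Fin r => ∑ t ∈ Finset.range N, (x i * y j) ^ t).det -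
      (Matrix.of fun i j : Fin r => (∑ t ∈ Finset.range N, (x i * y j) ^ t) - 1).det := by
  classical
  rw [alcove_filter_sum hr]
  have A1 : ∑ u ∈ (Finset.univ : Finset (Fin r → Fin N)).filter (fun u => StrictAnti u),
      (∏ _j : Fin r, (1:ℂ)) * (Matrix.of fun i j => x i ^ ((u j : Fin N) : ℕ)).det *
        (Matrix.of fun i j => y i ^ ((u j : Fin N) : ℕ)).det =
      (Matrix.of fun i i' : Fin r =>
        ∑ t : Fin N, (1:ℂ) * x i ^ (t:ℕ) * y i' ^ (t:ℕ)).det :=
    andreief (fun _ => (1:ℂ)) (fun i t => x i ^ (t:ℕ)) (fun i t => y i ^ (t:ℕ))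
  have A2 : ∑ u ∈ (Finset.univ : Finset (Fin r → Fin N)).filter (fun u => StrictAnti u),
      (∏ j : Fin r, (if ((u j : Fin N) : ℕ) = 0 then (0:ℂ) else 1)) *
        (Matrix.of fun i j => x i ^ ((u j : Fin N) : ℕ)).det *
        (Matrix.of fun i j => y i ^ ((u j : Fin N) : ℕ)).det =
      (Matrix.of fun i i' : Fin r =>
        ∑ t : Fin N, (if (t:ℕ) = 0 then (0:ℂ) else 1) * x i ^ (t:ℕ) * y i' ^ (t:ℕ)).det :=
    andreief (fun t => if (t:ℕ) = 0 then (0:ℂ) else 1) (fun i t => x i ^ (t:ℕ))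
      (fun i t => y i ^ (t:ℕ))
  have hM1 : (Matrix.of fun i i' : Fin r =>
      ∑ t : Fin N, (1:ℂ) * x i ^ (t:ℕ) * y i' ^ (t:ℕ)) =
      Matrix.of fun i j : Fin r => ∑ t ∈ Finset.range N, (x i * y j) ^ t := by
    ext i j
    simp only [Matrix.of_apply]
    rw [← Fin.sum_univ_eq_sum_range (fun t => (x i * y j) ^ t) N]
    refine Finset.sum_congr rfl fun t _ => ?_
    rw [one_mul, mul_pow]
  have hw : ∀ θ : ℂ, ∑ t : Fin N, (if (t:ℕ) = 0 then (0:ℂ) else 1) * θ ^ (t:ℕ) =
      (∑ t ∈ Finset.range N, θ ^ t) - 1 := by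
    intro θ
    rw [Fin.sum_univ_eq_sum_range (fun n => (if n = 0 then (0:ℂ) else 1) * θ ^ n) N]
    obtain ⟨N', rfl⟩ := Nat.exists_eq_succ_of_ne_zero hN.ne'
    rw [Finset.sum_range_succ', Finset.sum_range_succ' (fun t => θ ^ t)]
    simp
  have hM0 : (Matrix.of fun i i' : Fin r =>
      ∑ t : Fin N, (if (t:ℕ) = 0 then (0:ℂ) else 1) * x i ^ (t:ℕ) * y i' ^ (t:ℕ)) =
      Matrix.of fun i j : Fin r => (∑ t ∈ Finset.range N, (x i * y j) ^ t) - 1 := by
    ext i j
    simp only [Matrix.of_apply]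
    rw [← hw]
    refine Finset.sum_congr rfl fun t _ => ?_
    rw [mul_pow, mul_assoc]
  have hsplit : ∀ u : Fin r → Fin N,
      (1 - ∏ j, (if ((u j : Fin N) : ℕ) = 0 then (0:ℂ) else 1)) *
        ((Matrix.of fun i j => x i ^ ((u j : Fin N) : ℕ)).det *
        (Matrix.of fun i j => y i ^ ((u j : Fin N) : ℕ)).det) =
      (∏ _j : Fin r, (1:ℂ)) * (Matrix.of fun i j => x i ^ ((u j : Fin N) : ℕ)).det *
        (Matrix.of fun i j => y i ^ ((u j : Fin N) : ℕ)).det -
      (∏ j : Fin r, (if ((u j : Fin N) : ℕ) = 0 then (0:ℂ) else 1)) *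
        (Matrix.of fun i j => x i ^ ((u j : Fin N) : ℕ)).det *
        (Matrix.of fun i j => y i ^ ((u j : Fin N) : ℕ)).det := by
    intro u
    rw [Finset.prod_const_one]
    ring
  rw [Finset.sum_congr rfl (fun u _ => hsplit u), Finset.sum_sub_distrib, A1, A2, hM1, hM0]

/-- `det (c • 1 - J) = c ^ r - r * c ^ (r - 1)` for the all-ones matrix `J`. -/
lemma det_smul_one_sub_ones {r : ℕ} (hr : 1 ≤ r) (c : ℂ) (hc : c ≠ 0) (u w : Fin r → ℂ) :
    (Matrix.of fun i j : Fin r => (if i = j then c else 0) - u i * w j).det =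
      c ^ r - (∑ i, w i * u i) * c ^ (r - 1) := by
  have h1 : (Matrix.of fun i j : Fin r => (if i = j then c else 0) - u i * w j) =
      c • ((1 : Matrix (Fin r) (Fin r) ℂ) +
        Matrix.replicateCol Unit (fun i => -(u i) / c) * Matrix.replicateRow Unit w) := by
    ext i j
    simp only [Matrix.of_apply, Matrix.smul_apply, Matrix.add_apply, Matrix.one_apply,
      Matrix.mul_apply, Matrix.replicateCol_apply, Matrix.replicateRow_apply,
      Finset.univ_unique, Finset.sum_singleton, smul_eq_mul]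
    by_cases hij : i = j
    · simp only [hij, if_true]
      field_simp
      ring
    · simp only [hij, if_false]
      field_simp
      ring
  rw [h1, Matrix.det_smul, Matrix.det_one_add_replicateCol_mul_replicateRow, Fintype.card_fin]
  have h2 : w ⬝ᵥ (fun i => -(u i) / c) = -(∑ i, w i * u i) / c := by
    simp only [dotProduct]
    rw [neg_div, Finset.sum_div, ← Finset.sum_neg_distrib]
    refine Finset.sum_congr rfl fun i _ => ?_
    ring
  rw [h2]
  obtain ⟨r', rfl⟩ := Nat.exists_eq_succ_of_ne_zero (by omega : r ≠ 0)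
  simp only [Nat.succ_sub_one, pow_succ]
  field_simp
  ring

end Groth.Agent.H64.Verlinde
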