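import Mathlib
import Groth.Agent.H64.VerlindeLib2

set_option autoImplicit false
open Complex

namespace Groth.Agent.H64.Verlinde

lemma strictAnti_add_le {r N : ℕ} (m : Fin r → Fin N) (hm : StrictAnti m) :
    ∀ (d : ℕ) (a b : Fin r), (b:ℕ) = (a:ℕ) + d → ((m b : Fin N) : ℕ) + d ≤ ((m a : Fin N) : ℕ) := by
  intro d
  induction d with
  | zero =>
    intro a b hab
    have : a = b := Fin.ext (by omega)
    rw [this]
    omega
  | succ d ih =>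
    intro a b hab
    have hb := b.2
    let b' : Fin r := ⟨(a:ℕ) + d, by omega⟩
    have h1 := ih a b' rfl
    have h2 : b' < b := by
      show (a:ℕ) + d < (b:ℕ)
      omega
    have h3 : ((m b : Fin N) : ℕ) < ((m b' : Fin N) : ℕ) := hm h2
    omega

/-- forward shift map -/
def fwd {r K N : ℕ} (hN : N + 1 = K + r) (μ : Fin r → Fin K) : Fin r → Fin N :=
  fun i => ⟨(μ i : ℕ) + (r - 1 - (i:ℕ)), by
    have h1 := (μ i).2
    have h2 := i.2
    omega⟩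

/-- backward shift map -/
def bwd {r K N : ℕ} (hK : 0 < K) (m : Fin r → Fin N) : Fin r → Fin K :=
  fun i => ⟨(((m i : Fin N) : ℕ) - (r - 1 - (i:ℕ))) % K, Nat.mod_lt _ hK⟩

lemma fwd_strictAnti {r K N : ℕ} (hN : N + 1 = K + r) (μ : Fin r → Fin K) (hμ : Antitone μ) :
    StrictAnti (fwd hN μ) := by
  intro a b hab
  have h1 : ((μ b : Fin K) : ℕ) ≤ ((μ a : Fin K) : ℕ) := hμ hab.le
  have h2 : (a:ℕ) < (b:ℕ) := hab
  have h3 := b.2
  show (μ b : ℕ) + (r - 1 - (b:ℕ)) < (μ a : ℕ) + (r - 1 - (a:ℕ))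
  omega

lemma bwd_facts {r K N : ℕ} (hK : 0 < K) (hN : N + 1 = K + r) (m : Fin r → Fin N)
    (hm : StrictAnti m) (i : Fin r) :
    (r - 1 - (i:ℕ)) ≤ ((m i : Fin N) : ℕ) ∧
      ((bwd hK m i : Fin K) : ℕ) = ((m i : Fin N) : ℕ) - (r - 1 - (i:ℕ)) := by
  have hi := i.2
  have hr : 0 < r := by omega
  let i0 : Fin r := ⟨0, hr⟩
  let il : Fin r := ⟨r - 1, by omega⟩
  have h1 := strictAnti_add_le m hm (i:ℕ) i0 i (by simp [i0])
  have h2 := strictAnti_add_le m hm (r - 1 - (i:ℕ)) i il (by simp [il]; omega)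
  have h3 := (m i0).2
  refine ⟨by omega, ?_⟩
  show (((m i : Fin N) : ℕ) - (r - 1 - (i:ℕ))) % K = _
  apply Nat.mod_eq_of_lt
  omega

lemma bwd_antitone {r K N : ℕ} (hK : 0 < K) (hN : N + 1 = K + r) (m : Fin r → Fin N)
    (hm : StrictAnti m) : Antitone (bwd hK m) := by
  intro a b hab
  show ((bwd hK m b : Fin K) : ℕ) ≤ ((bwd hK m a : Fin K) : ℕ)
  rw [(bwd_facts hK hN m hm a).2, (bwd_facts hK hN m hm b).2]
  have h1 := (bwd_facts hK hN m hm a).1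
  have h2 := (bwd_facts hK hN m hm b).1
  have hle : (a:ℕ) ≤ (b:ℕ) := hab
  have h3 := strictAnti_add_le m hm ((b:ℕ) - (a:ℕ)) a b (by omega)
  have := b.2
  omega

lemma bwd_fwd {r K N : ℕ} (hK : 0 < K) (hN : N + 1 = K + r) (μ : Fin r → Fin K) :
    bwd hK (fwd hN μ) = μ := by
  funext i
  apply Fin.ext
  show ((μ i : ℕ) + (r - 1 - (i:ℕ)) - (r - 1 - (i:ℕ))) % K = (μ i : ℕ)
  rw [Nat.add_sub_cancel]
  exact Nat.mod_eq_of_lt (μ i).2

lemma fwd_bwd {r K N : ℕ} (hK : 0 < K) (hN : N + 1 = K + r) (m : Fin r → Fin N)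
    (hm : StrictAnti m) : fwd hN (bwd hK m) = m := by
  funext i
  apply Fin.ext
  show ((bwd hK m i : Fin K) : ℕ) + (r - 1 - (i:ℕ)) = ((m i : Fin N) : ℕ)
  rw [(bwd_facts hK hN m hm i).2]
  have := (bwd_facts hK hN m hm i).1
  omega

lemma sum_reindex_core {r K N : ℕ} (hK : 0 < K) (hN : N + 1 = K + r)
    (pμ : (Fin r → Fin K) → Prop) (pm : (Fin r → Fin N) → Prop)
    [DecidablePred pμ] [DecidablePred pm]
    (h1 : ∀ μ, pμ μ → Antitone μ) (h2 : ∀ m, pm m → StrictAnti m)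
    (h12 : ∀ μ, pμ μ → pm (fwd hN μ)) (h21 : ∀ m, pm m → pμ (bwd hK m))
    (f : (Fin r → ℕ) → ℂ) :
    ∑ μ ∈ (Finset.univ : Finset (Fin r → Fin K)).filter pμ, f (fun i => ((μ i : Fin K) : ℕ)) =
      ∑ m ∈ (Finset.univ : Finset (Fin r → Fin N)).filter pm,
        f (fun i => ((m i : Fin N) : ℕ) - (r - 1 - (i:ℕ))) := by
  refine Finset.sum_nbij' (fwd hN) (bwd hK) ?_ ?_ ?_ ?_ ?_
  · intro μ hμ
    rw [Finset.mem_filter] at hμ ⊢
    exact ⟨Finset.mem_univ _, h12 μ hμ.2⟩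
  · intro m hm
    rw [Finset.mem_filter] at hm ⊢
    exact ⟨Finset.mem_univ _, h21 m hm.2⟩
  · intro μ _
    exact bwd_fwd hK hN μ
  · intro m hm
    rw [Finset.mem_filter] at hm
    exact fwd_bwd hK hN m (h2 m hm.2)
  · intro μ _
    congr 1
    funext i
    show ((μ i : Fin K) : ℕ) = (μ i : ℕ) + (r - 1 - (i:ℕ)) - (r - 1 - (i:ℕ))
    rw [Nat.add_sub_cancel]

end Groth.Agent.H64.Verlinde
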