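import Mathlib

/-! Helper library for S13149: a collinearity-preserving map from P²(F_p) to P²(A), A local,
sending the standard frame to a frame in general position, forces p = 0 in A (von Staudt). -/

open Matrix

namespace Groth.Agent.H64.VS

variable {A : Type*} [CommRing A]

def Unim (x : Fin 3 → A) : Prop := ∃ i, IsUnit (x i)

def Pr (x y : Fin 3 → A) : Prop := ∃ c : A, IsUnit c ∧ x = c • y

lemma Pr.refl (x : Fin 3 → A) : Pr x x := ⟨1, isUnit_one, by simp⟩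

lemma Pr.symm {x y : Fin 3 → A} (h : Pr x y) : Pr y x := by
  obtain ⟨_, ⟨c, rfl⟩, rfl⟩ := h
  exact ⟨↑c⁻¹, Units.isUnit _, by rw [smul_smul, Units.inv_mul, one_smul]⟩

lemma Pr.trans {x y z : Fin 3 → A} (h : Pr x y) (h' : Pr y z) : Pr x z := by
  obtain ⟨c, hc, rfl⟩ := h
  obtain ⟨c', hc', rfl⟩ := h'
  exact ⟨c * c', hc.mul hc', by rw [smul_smul]⟩

lemma Pr.cross {x y x' y' : Fin 3 → A} (h : Pr x x') (h' : Pr y y') :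
    Pr (x ⨯₃ y) (x' ⨯₃ y') := by
  obtain ⟨c, hc, rfl⟩ := h
  obtain ⟨c', hc', rfl⟩ := h'
  exact ⟨c * c', hc.mul hc', by simp [smul_smul, mul_comm]⟩

lemma Pr.unim {x y : Fin 3 → A} (h : Pr x y) (hy : Unim y) : Unim x := by
  obtain ⟨c, hc, rfl⟩ := h
  obtain ⟨i, hi⟩ := hy
  exact ⟨i, by simpa using hc.mul hi⟩

lemma Pr.smul_right {x y : Fin 3 → A} {k : A} (hk : IsUnit k) (h : Pr x (k • y)) : Pr x y := by
  obtain ⟨c, hc, rfl⟩ := h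
  exact ⟨c * k, hc.mul hk, by rw [smul_smul]⟩

lemma par {a b : Fin 3 → A} (h : a ⨯₃ b = 0) (ha : Unim a) (hb : Unim b) : Pr a b := by
  obtain ⟨j, hj⟩ := hb
  obtain ⟨bj, hbj⟩ := hj
  have key : b j • a = a j • b := by
    have := cross_cross_eq_smul_sub_smul a b (Pi.single j 1)
    rw [h] at this
    simp only [map_zero, LinearMap.zero_apply, dotProduct_single, mul_one] at this
    exact (sub_eq_zero.mp this.symm).symm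
  have e : a = ((↑bj⁻¹ : A) * a j) • b := by
    rw [mul_smul, ← key, ← hbj, smul_smul, Units.inv_mul, one_smul]
  refine ⟨(↑bj⁻¹ : A) * a j, ?_, e⟩
  obtain ⟨i, hi⟩ := ha
  have : a i = ((↑bj⁻¹ : A) * a j) * b i := by
    conv_lhs => rw [e]
    simp
  rw [this] at hi
  exact isUnit_of_mul_isUnit_left hi

lemma perp {n X Y : Fin 3 → A} (h1 : n ⬝ᵥ X = 0) (h2 : n ⬝ᵥ Y = 0) : n ⨯₃ (X ⨯₃ Y) = 0 := by
  rw [cross_cross_eq_smul_sub_smul', h2, dotProduct_comm X n, h1]; simp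

lemma unim_of_dot [IsLocalRing A] {x y : Fin 3 → A} (h : IsUnit (x ⬝ᵥ y)) : Unim x := by
  rw [vec3_dotProduct] at h
  rcases IsLocalRing.isUnit_or_isUnit_of_isUnit_add h with h' | h'
  · rcases IsLocalRing.isUnit_or_isUnit_of_isUnit_add h' with h'' | h''
    · exact ⟨0, isUnit_of_mul_isUnit_left h''⟩
    · exact ⟨1, isUnit_of_mul_isUnit_left h''⟩
  · exact ⟨2, isUnit_of_mul_isUnit_left h'⟩

lemma unim_of_cross [IsLocalRing A] {a b : Fin 3 → A} (h : Unim (a ⨯₃ b)) : Unim a ∧ Unim b := by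
  obtain ⟨i, hi⟩ := h
  have e : (Pi.single i 1 : Fin 3 → A) ⬝ᵥ (a ⨯₃ b) = (a ⨯₃ b) i := by simp
  have h1 : IsUnit (a ⬝ᵥ (b ⨯₃ Pi.single i 1)) := by
    rw [← triple_product_permutation (Pi.single i 1) a b, e]; exact hi
  have h2 : IsUnit (b ⬝ᵥ (Pi.single i 1 ⨯₃ a)) := by
    rw [← triple_product_permutation a b (Pi.single i 1),
      ← triple_product_permutation (Pi.single i 1) a b, e]; exact hi
  exact ⟨unim_of_dot h1, unim_of_dot h2⟩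

/-! ### linear maps given by three columns -/

def lin3 (a b c x : Fin 3 → A) : Fin 3 → A := x 0 • a + x 1 • b + x 2 • c

lemma lin3_smul (a b c x : Fin 3 → A) (k : A) : lin3 a b c (k • x) = k • lin3 a b c x := by
  ext i; simp [lin3]; ring

lemma cross_lin3 (a b c x y : Fin 3 → A) :
    lin3 a b c x ⨯₃ lin3 a b c y = lin3 (b ⨯₃ c) (c ⨯₃ a) (a ⨯₃ b) (x ⨯₃ y) := by
  ext i; fin_cases i <;> simp [lin3, cross_apply] <;> ring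

lemma cc1 (a b c : Fin 3 → A) : (c ⨯₃ a) ⨯₃ (a ⨯₃ b) = (a ⬝ᵥ b ⨯₃ c) • a := by
  ext i; fin_cases i <;> simp [cross_apply, vec3_dotProduct, vecHead, vecTail] <;> ring

lemma cc2 (a b c : Fin 3 → A) : (a ⨯₃ b) ⨯₃ (b ⨯₃ c) = (a ⬝ᵥ b ⨯₃ c) • b := by
  ext i; fin_cases i <;> simp [cross_apply, vec3_dotProduct, vecHead, vecTail] <;> ring

lemma cc3 (a b c : Fin 3 → A) : (b ⨯₃ c) ⨯₃ (c ⨯₃ a) = (a ⬝ᵥ b ⨯₃ c) • c := by
  ext i; fin_cases i <;> simp [cross_apply, vec3_dotProduct, vecHead, vecTail] <;> ring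

lemma dcross_lin3 (a b c x1 y1 x2 y2 : Fin 3 → A) :
    (lin3 a b c x1 ⨯₃ lin3 a b c y1) ⨯₃ (lin3 a b c x2 ⨯₃ lin3 a b c y2) =
      (a ⬝ᵥ b ⨯₃ c) • lin3 a b c ((x1 ⨯₃ y1) ⨯₃ (x2 ⨯₃ y2)) := by
  rw [cross_lin3, cross_lin3, cross_lin3, cc1, cc2, cc3]
  ext i; simp [lin3]; ring

lemma lin3_unim [IsLocalRing A] {a b c x : Fin 3 → A} (hD : IsUnit (a ⬝ᵥ b ⨯₃ c))
    (hx : Unim x) : Unim (lin3 a b c x) := by
  obtain ⟨i, hi⟩ := hx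
  have h0 : lin3 a b c x ⬝ᵥ (b ⨯₃ c) = x 0 * (a ⬝ᵥ b ⨯₃ c) := by
    simp [lin3, cross_apply, vec3_dotProduct, vecHead, vecTail]; ring
  have h1 : lin3 a b c x ⬝ᵥ (c ⨯₃ a) = x 1 * (a ⬝ᵥ b ⨯₃ c) := by
    simp [lin3, cross_apply, vec3_dotProduct, vecHead, vecTail]; ring
  have h2 : lin3 a b c x ⬝ᵥ (a ⨯₃ b) = x 2 * (a ⬝ᵥ b ⨯₃ c) := by
    simp [lin3, cross_apply, vec3_dotProduct, vecHead, vecTail]; ring
  fin_cases i
  · exact unim_of_dot (y := b ⨯₃ c) (by rw [h0]; exact hi.mul hD)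
  · exact unim_of_dot (y := c ⨯₃ a) (by rw [h1]; exact hi.mul hD)
  · exact unim_of_dot (y := a ⨯₃ b) (by rw [h2]; exact hi.mul hD)

lemma cramer (a b c u : Fin 3 → A) :
    lin3 ((u ⬝ᵥ b ⨯₃ c) • a) ((a ⬝ᵥ u ⨯₃ c) • b) ((a ⬝ᵥ b ⨯₃ u) • c) ![1, 1, 1] =
      (a ⬝ᵥ b ⨯₃ c) • u := by
  ext i; fin_cases i <;> simp [lin3, cross_apply, vec3_dotProduct, vecHead, vecTail] <;> ring

lemma triple_smul (a b c : Fin 3 → A) (s0 s1 s2 : A) :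
    (s0 • a) ⬝ᵥ (s1 • b) ⨯₃ (s2 • c) = s0 * s1 * s2 * (a ⬝ᵥ b ⨯₃ c) := by
  simp [cross_apply, vec3_dotProduct, vecHead, vecTail]; ring

lemma Pr.lin3_neg {v a b c x x' : Fin 3 → A} (h : Pr v (lin3 a b c x)) (hx : x = -x') :
    Pr v (lin3 a b c x') := by
  subst hx
  have e : lin3 a b c (-x') = (-1 : A) • lin3 a b c x' := by
    rw [← lin3_smul]; simp
  rw [e] at h
  exact Pr.smul_right isUnit_one.neg h

lemma det_of_eq {R : Type*} [CommRing R] (u v w : Fin 3 → R) :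
    Matrix.det (Matrix.of ![u, v, w]) = u 0 * v 1 * w 2 - u 0 * v 2 * w 1 - u 1 * v 0 * w 2
      + u 1 * v 2 * w 0 + u 2 * v 0 * w 1 - u 2 * v 1 * w 0 := by
  rw [Matrix.det_fin_three]; simp

lemma det_of_eq_triple {R : Type*} [CommRing R] (u v w : Fin 3 → R) :
    Matrix.det (Matrix.of ![u, v, w]) = u ⬝ᵥ v ⨯₃ w := by
  rw [det_of_eq, cross_apply, vec3_dotProduct]; simp; ring

/-! ### the collinearity hypothesis -/

section rho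

variable [IsLocalRing A] {p : ℕ} (ρ : (Fin 3 → ZMod p) → (Fin 3 → A))

def ColHyp : Prop := ∀ u v w : Fin 3 → ZMod p, u ≠ 0 → v ≠ 0 → w ≠ 0 →
      Matrix.det (Matrix.of ![u, v, w]) = 0 →
      ∃ n : Fin 3 → A, (∃ i, IsUnit (n i)) ∧
        dotProduct (ρ u) n = 0 ∧ dotProduct (ρ v) n = 0 ∧ dotProduct (ρ w) n = 0

variable {ρ}

lemma col (hcol : ColHyp ρ) {u v w : Fin 3 → ZMod p} (hu : u ≠ 0) (hv : v ≠ 0) (hw : w ≠ 0)
    (hd : Matrix.det (Matrix.of ![u, v, w]) = 0) (hU : Unim (ρ u ⨯₃ ρ v)) :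
    ρ w ⬝ᵥ (ρ u ⨯₃ ρ v) = 0 := by
  obtain ⟨n, hn, h1, h2, h3⟩ := hcol u v w hu hv hw hd
  have hp : n ⨯₃ (ρ u ⨯₃ ρ v) = 0 :=
    perp (by rw [dotProduct_comm]; exact h1) (by rw [dotProduct_comm]; exact h2)
  obtain ⟨c, hc, hnc⟩ := par hp hn hU
  rw [hnc, dotProduct_smul, smul_eq_mul] at h3
  exact (hc.mul_right_eq_zero).mp h3

lemma int2 (hcol : ColHyp ρ) {x1 y1 x2 y2 z : Fin 3 → ZMod p}
    (hx1 : x1 ≠ 0) (hy1 : y1 ≠ 0) (hx2 : x2 ≠ 0) (hy2 : y2 ≠ 0) (hz : z ≠ 0)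
    (hd1 : Matrix.det (Matrix.of ![x1, y1, z]) = 0)
    (hd2 : Matrix.det (Matrix.of ![x2, y2, z]) = 0) (hz' : Unim (ρ z))
    (hW : Unim ((ρ x1 ⨯₃ ρ y1) ⨯₃ (ρ x2 ⨯₃ ρ y2))) :
    Pr (ρ z) ((ρ x1 ⨯₃ ρ y1) ⨯₃ (ρ x2 ⨯₃ ρ y2)) := by
  obtain ⟨hL1, hL2⟩ := unim_of_cross hW
  have e1 := col hcol hx1 hy1 hz hd1 hL1
  have e2 := col hcol hx2 hy2 hz hd2 hL2
  exact par (perp e1 e2) hz' hW

lemma intB (hpt : ∀ v : Fin 3 → ZMod p, v ≠ 0 → Unim (ρ v)) (hcol : ColHyp ρ)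
    {a b c : Fin 3 → A} (hD : IsUnit (a ⬝ᵥ b ⨯₃ c))
    {x1 y1 x2 y2 z : Fin 3 → ZMod p} {x1' y1' x2' y2' w' : Fin 3 → A}
    (hx1 : x1 ≠ 0) (hy1 : y1 ≠ 0) (hx2 : x2 ≠ 0) (hy2 : y2 ≠ 0) (hz : z ≠ 0)
    (hd1 : Matrix.det (Matrix.of ![x1, y1, z]) = 0)
    (hd2 : Matrix.det (Matrix.of ![x2, y2, z]) = 0)
    (r1 : Pr (ρ x1) (lin3 a b c x1')) (r2 : Pr (ρ y1) (lin3 a b c y1'))
    (r3 : Pr (ρ x2) (lin3 a b c x2')) (r4 : Pr (ρ y2) (lin3 a b c y2'))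
    (hw' : (x1' ⨯₃ y1') ⨯₃ (x2' ⨯₃ y2') = w') (hw : Unim w') :
    Pr (ρ z) (lin3 a b c w') := by
  subst hw'
  have hW : Pr ((ρ x1 ⨯₃ ρ y1) ⨯₃ (ρ x2 ⨯₃ ρ y2))
      (lin3 a b c ((x1' ⨯₃ y1') ⨯₃ (x2' ⨯₃ y2'))) := by
    have := (r1.cross r2).cross (r3.cross r4)
    rw [dcross_lin3] at this
    exact Pr.smul_right hD this
  have hU : Unim ((ρ x1 ⨯₃ ρ y1) ⨯₃ (ρ x2 ⨯₃ ρ y2)) := hW.unim (lin3_unim hD hw)
  exact (int2 hcol hx1 hy1 hx2 hy2 hz hd1 hd2 (hpt z hz) hU).trans hW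


lemma ne0_1 {R : Type*} [Zero R] [One R] [NeZero (1 : R)] {x z : R} :
    (![x, 1, z] : Fin 3 → R) ≠ 0 := fun h => by
  have := congrFun h 1; simp at this

lemma ne0_0 {R : Type*} [Zero R] [One R] [NeZero (1 : R)] {y z : R} :
    (![1, y, z] : Fin 3 → R) ≠ 0 := fun h => by
  have := congrFun h 0; simp at this

lemma ne0_2 {R : Type*} [Zero R] [One R] [NeZero (1 : R)] {x y : R} :
    (![x, y, 1] : Fin 3 → R) ≠ 0 := fun h => by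
  have := congrFun h 2; simp at this

theorem main [IsLocalRing A] (p : ℕ) [Fact p.Prime]
    (ρ : (Fin 3 → ZMod p) → (Fin 3 → A))
    (hpt : ∀ v : Fin 3 → ZMod p, v ≠ 0 → Unim (ρ v))
    (hcol : ColHyp ρ)
    (h1 : IsUnit (ρ ![1, 0, 0] ⬝ᵥ ρ ![0, 1, 0] ⨯₃ ρ ![0, 0, 1]))
    (h2 : IsUnit (ρ ![1, 0, 0] ⬝ᵥ ρ ![0, 1, 0] ⨯₃ ρ ![1, 1, 1]))
    (h3 : IsUnit (ρ ![1, 0, 0] ⬝ᵥ ρ ![0, 0, 1] ⨯₃ ρ ![1, 1, 1]))
    (h4 : IsUnit (ρ ![0, 1, 0] ⬝ᵥ ρ ![0, 0, 1] ⨯₃ ρ ![1, 1, 1])) : (p : A) = 0 := by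
  obtain ⟨a, ha⟩ : ∃ a, a = ρ ![1, 0, 0] := ⟨_, rfl⟩
  obtain ⟨b, hb⟩ : ∃ b, b = ρ ![0, 1, 0] := ⟨_, rfl⟩
  obtain ⟨c, hc⟩ : ∃ c, c = ρ ![0, 0, 1] := ⟨_, rfl⟩
  obtain ⟨u, hu⟩ : ∃ u, u = ρ ![1, 1, 1] := ⟨_, rfl⟩
  simp only [← ha, ← hb, ← hc, ← hu] at h1 h2 h3 h4
  obtain ⟨s0, hs0⟩ : ∃ s, s = u ⬝ᵥ b ⨯₃ c := ⟨_, rfl⟩
  obtain ⟨s1, hs1⟩ : ∃ s, s = a ⬝ᵥ u ⨯₃ c := ⟨_, rfl⟩
  obtain ⟨s2, hs2⟩ : ∃ s, s = a ⬝ᵥ b ⨯₃ u := ⟨_, rfl⟩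
  obtain ⟨d, hd⟩ : ∃ s, s = a ⬝ᵥ b ⨯₃ c := ⟨_, rfl⟩
  have us0 : IsUnit s0 := by
    rw [hs0, triple_product_permutation u b c]; exact h4
  have us1 : IsUnit s1 := by
    rw [hs1, ← cross_anticomm c u, dotProduct_neg]; exact h3.neg
  have us2 : IsUnit s2 := by rw [hs2]; exact h2
  have ud : IsUnit d := by rw [hd]; exact h1
  have hcr := cramer a b c u
  rw [← hs0, ← hs1, ← hs2, ← hd] at hcr
  have hD : IsUnit ((s0 • a) ⬝ᵥ (s1 • b) ⨯₃ (s2 • c)) := by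
    rw [triple_smul, ← hd]; exact ((us0.mul us1).mul us2).mul ud
  have r0 : Pr (ρ ![1, 0, 0]) (lin3 (s0 • a) (s1 • b) (s2 • c) ![1, 0, 0]) := by
    rw [← ha]; exact Pr.symm ⟨s0, us0, by simp [lin3]⟩
  have r1 : Pr (ρ ![0, 1, 0]) (lin3 (s0 • a) (s1 • b) (s2 • c) ![0, 1, 0]) := by
    rw [← hb]; exact Pr.symm ⟨s1, us1, by simp [lin3]⟩
  have r2 : Pr (ρ ![0, 0, 1]) (lin3 (s0 • a) (s1 • b) (s2 • c) ![0, 0, 1]) := by
    rw [← hc]; exact Pr.symm ⟨s2, us2, by simp [lin3]⟩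
  have rU : Pr (ρ ![1, 1, 1]) (lin3 (s0 • a) (s1 • b) (s2 • c) ![1, 1, 1]) := by
    rw [← hu]; exact Pr.symm ⟨d, ud, hcr⟩
  have r12 : Pr (ρ ![0, 1, 1]) (lin3 (s0 • a) (s1 • b) (s2 • c) ![0, 1, 1]) := by
    have := intB hpt hcol hD (x1 := ![0, 1, 0]) (y1 := ![0, 0, 1]) (x2 := ![1, 0, 0])
      (y2 := ![1, 1, 1]) (z := ![0, 1, 1]) (w' := ![0, -1, -1]) ne0_1 ne0_2 ne0_0 ne0_0 ne0_1
      (by rw [det_of_eq]; simp) (by rw [det_of_eq]; simp)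
      r1 r2 r0
      rU
      (by ext i; fin_cases i <;> simp [cross_apply]) ⟨1, by simp⟩
    exact Pr.lin3_neg this (by ext i; fin_cases i <;> simp)
  have ind : ∀ t : ℕ, Pr (ρ ![(t : ZMod p), 1, 0]) (lin3 (s0 • a) (s1 • b) (s2 • c) ![(t : A), 1, 0]) := by
    intro t
    induction t with
    | zero => simpa using r1
    | succ t ih =>
      have hT' : Pr (ρ ![(t : ZMod p), 0, -1]) (lin3 (s0 • a) (s1 • b) (s2 • c) ![(t : A), 0, -1]) := by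
        have := intB hpt hcol hD (x1 := ![(t : ZMod p), 1, 0]) (y1 := ![0, 1, 1])
          (x2 := ![1, 0, 0]) (y2 := ![0, 0, 1]) (z := ![(t : ZMod p), 0, -1])
          (w' := ![(t : A), 0, -1]) ne0_1 ne0_1 ne0_0 ne0_2
          (fun h => by have := congrFun h 2; simp at this)
          (by rw [det_of_eq]; simp) (by rw [det_of_eq]; simp)
          ih r12 r0
          r2
          (by ext i; fin_cases i <;> simp [cross_apply]) ⟨2, by simp⟩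
        exact this
      have := intB hpt hcol hD (x1 := ![(t : ZMod p), 0, -1]) (y1 := ![1, 1, 1])
          (x2 := ![1, 0, 0]) (y2 := ![0, 1, 0]) (z := ![((t + 1 : ℕ) : ZMod p), 1, 0])
          (w' := ![-((t + 1 : ℕ) : A), -1, 0])
          (fun h => by have := congrFun h 2; simp at this) ne0_0 ne0_0 ne0_1 ne0_1
          (by rw [det_of_eq]; simp; ring) (by rw [det_of_eq]; simp)
          hT' rU r0
          r1
          (by ext i; fin_cases i <;> simp [cross_apply] <;> ring) ⟨1, by simp⟩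
      exact Pr.lin3_neg this (by ext i; fin_cases i <;> simp)
  have hfin := ind p
  rw [ZMod.natCast_self, ← hb] at hfin
  obtain ⟨k, uk, e⟩ := hfin
  have e2 := congrArg (fun v => v ⬝ᵥ (b ⨯₃ c)) e
  simp only [lin3, dot_self_cross] at e2
  have e3 : (0 : A) = k * ((p : A) * (s0 * d)) := by
    rw [e2, hd]
    simp [cross_apply, vec3_dotProduct, vecHead, vecTail]
    ring
  have e4 := (uk.mul_right_eq_zero).mp e3.symm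
  exact ((us0.mul ud).mul_left_eq_zero).mp e4

end rho

end Groth.Agent.H64.VS
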