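import Mathlib

/-!
Helper library for the WildQuot statements S15813, S19996: a `k`-algebra automorphism `σ` of
`k[[X]]` of order `p` (characteristic `p`) with `σ X - X` of order `m + 1`.
-/

namespace Groth.Agent.H64.WQ

open PowerSeries

universe u

section General

variable {k : Type u} [Field k] (σ : PowerSeries k ≃ₐ[k] PowerSeries k)

lemma sigma_C (c : k) : σ (C c) = C c := by
  simpa [PowerSeries.algebraMap_apply] using σ.commutes c

lemma one_add_pow_expand {A : Type*} [CommRing A] (y : A) (j : ℕ) :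
    ∃ q : A, (1 + y) ^ j = 1 + (j : A) * y + y ^ 2 * q := by
  induction j with
  | zero => exact ⟨0, by simp⟩
  | succ j ih =>
    obtain ⟨q, hq⟩ := ih
    refine ⟨(j : A) + q + q * y, ?_⟩
    rw [pow_succ, hq]
    push_cast
    ring

variable {σ}

lemma exists_t (m : ℕ) (hm : (σ X - X).order = ((m + 1 : ℕ) : ℕ∞)) :
    ∃ t : PowerSeries k, constantCoeff t ≠ 0 ∧ σ X = X + X ^ (m + 1) * t := by
  rw [order_eq_nat] at hm
  obtain ⟨t, ht⟩ : X ^ (m + 1) ∣ σ X - X := X_pow_dvd_iff.mpr hm.2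
  refine ⟨t, ?_, by rw [← ht]; ring⟩
  have h1 := hm.1
  rw [ht] at h1
  have h2 := coeff_X_pow_mul t (m + 1) 0
  rw [zero_add] at h2
  rw [h2, coeff_zero_eq_constantCoeff_apply] at h1
  exact h1

lemma X_pow_dvd_sigma_sub (m : ℕ) (t : PowerSeries k) (ht : σ X = X + X ^ (m + 1) * t) :
    ∀ i, i ≤ m + 1 → ∀ h : PowerSeries k, X ^ i ∣ σ h - h := by
  intro i
  induction i with
  | zero => intro _ h; rw [pow_zero]; exact one_dvd _
  | succ i ih =>
    intro hi h
    have ih' := ih (by omega)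
    obtain ⟨h₁, c, hdec⟩ : ∃ h₁ c, h = X * h₁ + C c := ⟨_, _, eq_X_mul_shift_add_const h⟩
    subst hdec
    obtain ⟨r, hr⟩ := ih' h₁
    refine ⟨X ^ (m - i) * t * σ h₁ + r, ?_⟩
    have e2 : (X : PowerSeries k) ^ (m + 1) = X ^ (i + 1) * X ^ (m - i) := by
      rw [← pow_add]; congr 1; omega
    rw [map_add, map_mul, sigma_C, ht]
    linear_combination (X : PowerSeries k) * hr + (t * σ h₁) * e2

lemma sigma_sub_lead (m : ℕ) (hm1 : 1 ≤ m) (t : PowerSeries k)
    (ht : σ X = X + X ^ (m + 1) * t) (j : ℕ) (g₀ : PowerSeries k) :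
    ∃ r : PowerSeries k, σ (X ^ j * g₀) - X ^ j * g₀ =
      X ^ (j + m) * (C ((j : k) * constantCoeff t * constantCoeff g₀) + X * r) := by
  obtain ⟨r₀, hr₀⟩ := X_pow_dvd_sigma_sub m t ht (m + 1) le_rfl g₀
  obtain ⟨t₁, ht₁⟩ : ∃ t₁, t = X * t₁ + C (constantCoeff t) := ⟨_, eq_X_mul_shift_add_const t⟩
  obtain ⟨g₁, hg₁⟩ : ∃ g₁, g₀ = X * g₁ + C (constantCoeff g₀) :=
    ⟨_, eq_X_mul_shift_add_const g₀⟩
  obtain ⟨q, hq⟩ := one_add_pow_expand ((X : PowerSeries k) ^ m * t) j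
  have hX : (X : PowerSeries k) ^ m = X * X ^ (m - 1) := by
    rw [← pow_succ']; congr 1; omega
  have hσX : σ X = X * (1 + X ^ m * t) := by rw [ht]; ring
  have H1 : σ g₀ = g₀ + X ^ (m + 1) * r₀ := by linear_combination hr₀
  have H6 : (C ((j : k) * constantCoeff t * constantCoeff g₀) : PowerSeries k) =
      (j : PowerSeries k) * C (constantCoeff t) * C (constantCoeff g₀) := by
    rw [map_mul, map_mul, map_natCast]
  refine ⟨(j : PowerSeries k) * C (constantCoeff t) * g₁ +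
    ((j : PowerSeries k) * t₁ + X ^ (m - 1) * t ^ 2 * q) * C (constantCoeff g₀) +
    X * ((j : PowerSeries k) * t₁ + X ^ (m - 1) * t ^ 2 * q) * g₁ +
    (1 + X ^ m * t) ^ j * r₀, ?_⟩
  rw [map_mul, map_pow, hσX, mul_pow]
  linear_combination (X ^ j * (1 + X ^ m * t) ^ j) * H1 + (X ^ j * g₀) * hq +
    (X ^ j * X ^ m * ((j : PowerSeries k) * t + X ^ m * t ^ 2 * q)) * hg₁ +
    (X ^ j * X ^ m * (X * g₁ + C (constantCoeff g₀)) * (j : PowerSeries k)) * ht₁ +
    (X ^ j * X ^ m * (X * g₁ + C (constantCoeff g₀)) * t ^ 2 * q) * hX -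
    (X ^ j * X ^ m) * H6

lemma coeff_sigma_sub (m : ℕ) (hm1 : 1 ≤ m) (t : PowerSeries k)
    (ht : σ X = X + X ^ (m + 1) * t) (g : PowerSeries k) (j : ℕ) (hg : X ^ j ∣ g) :
    X ^ (j + m) ∣ σ g - g ∧
      coeff (j + m) (σ g - g) = (j : k) * constantCoeff t * coeff j g := by
  obtain ⟨g₀, rfl⟩ := hg
  obtain ⟨r, hr⟩ := sigma_sub_lead m hm1 t ht j g₀
  rw [hr]
  refine ⟨Dvd.intro _ rfl, ?_⟩
  have h1 := coeff_X_pow_mul
    (C ((j : k) * constantCoeff t * constantCoeff g₀) + X * r : PowerSeries k) (j + m) 0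
  rw [zero_add] at h1
  have h2 := coeff_X_pow_mul g₀ j 0
  rw [zero_add] at h2
  rw [h1, h2]
  simp

lemma order_sigma_sub (m : ℕ) (hm1 : 1 ≤ m) (t : PowerSeries k)
    (ht : σ X = X + X ^ (m + 1) * t) (hα : constantCoeff t ≠ 0)
    (g : PowerSeries k) (j : ℕ) (hg : g.order = j) (hj : (j : k) ≠ 0) :
    (σ g - g).order = ((j + m : ℕ) : ℕ∞) := by
  rw [order_eq_nat] at hg
  have hdvd : X ^ j ∣ g := X_pow_dvd_iff.mpr hg.2
  obtain ⟨h1, h2⟩ := coeff_sigma_sub m hm1 t ht g j hdvd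
  rw [order_eq_nat]
  refine ⟨?_, X_pow_dvd_iff.mp h1⟩
  rw [h2]
  exact mul_ne_zero (mul_ne_zero hj hα) hg.1

lemma order_sigma (m : ℕ) (hm1 : 1 ≤ m) (t : PowerSeries k)
    (ht : σ X = X + X ^ (m + 1) * t) (g : PowerSeries k) : (σ g).order = g.order := by
  by_cases hg0 : g = 0
  · rw [hg0, map_zero]
  have hgj : g.order = (g.order.toNat : ℕ∞) := (coe_toNat_order hg0).symm
  have hg := order_eq_nat.mp hgj
  have hdvd : X ^ g.order.toNat ∣ g := X_pow_dvd_iff.mpr hg.2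
  obtain ⟨h1, _⟩ := coeff_sigma_sub m hm1 t ht g _ hdvd
  have hc : ∀ i ≤ g.order.toNat, coeff i (σ g) = coeff i g := by
    intro i hi
    have : σ g = g + (σ g - g) := by ring
    rw [this, map_add, X_pow_dvd_iff.mp h1 i (by omega), add_zero]
  rw [hgj, order_eq_nat]
  refine ⟨by rw [hc _ le_rfl]; exact hg.1, fun i hi => ?_⟩
  rw [hc i hi.le]
  exact hg.2 i hi

lemma order_sigma_pow (m : ℕ) (hm1 : 1 ≤ m) (t : PowerSeries k)
    (ht : σ X = X + X ^ (m + 1) * t) (i : ℕ) (g : PowerSeries k) :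
    ((σ ^ i) g).order = g.order := by
  induction i with
  | zero => rw [pow_zero, AlgEquiv.one_apply]
  | succ i ih => rw [pow_succ', AlgEquiv.mul_apply, order_sigma m hm1 t ht, ih]

/-- product coefficient lemma -/
lemma coeff_mul_of_dvd (P Q : PowerSeries k) (a b : ℕ) (hP : X ^ a ∣ P) (hQ : X ^ b ∣ Q) :
    X ^ (a + b) ∣ P * Q ∧ coeff (a + b) (P * Q) = coeff a P * coeff b Q := by
  obtain ⟨P', rfl⟩ := hP
  obtain ⟨Q', rfl⟩ := hQ
  have e : (X : PowerSeries k) ^ a * P' * (X ^ b * Q') = X ^ (a + b) * (P' * Q') := by ring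
  refine ⟨⟨P' * Q', e⟩, ?_⟩
  have h1 := coeff_X_pow_mul (P' * Q') (a + b) 0
  have h2 := coeff_X_pow_mul P' a 0
  have h3 := coeff_X_pow_mul Q' b 0
  rw [zero_add] at h1 h2 h3
  rw [e, h1, h2, h3]
  simp [coeff_zero_eq_constantCoeff_apply]

lemma dvd_of_order_le (φ ψ : PowerSeries k) (hφ : φ ≠ 0) (hle : φ.order ≤ ψ.order) : φ ∣ ψ := by
  obtain ⟨u, hu⟩ := X_pow_order_dvd (φ := φ)
  have hu0 : constantCoeff u ≠ 0 := by
    have h1 := coeff_order hφ
    have h2 := coeff_X_pow_mul u φ.order.toNat 0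
    rw [zero_add, ← hu] at h2
    rw [h2, coeff_zero_eq_constantCoeff_apply] at h1
    exact h1
  have hunit : IsUnit u := isUnit_iff_constantCoeff.mpr (isUnit_iff_ne_zero.mpr hu0)
  obtain ⟨U, hU⟩ := hunit
  have hdvd : X ^ φ.order.toNat ∣ ψ := by
    apply X_pow_dvd_iff.mpr
    intro i hi
    apply coeff_of_lt_order
    refine lt_of_lt_of_le ?_ hle
    rw [← coe_toNat_order hφ]
    exact_mod_cast hi
  obtain ⟨ψ', hψ'⟩ := hdvd
  refine ⟨((U⁻¹ : (PowerSeries k)ˣ) : PowerSeries k) * ψ', ?_⟩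
  rw [hψ']
  conv_rhs => rw [hu, ← hU]
  have := U.mul_inv
  linear_combination (-(X ^ φ.order.toNat * ψ')) * this

end General

section Order

variable {p : ℕ} [hpF : Fact p.Prime] {k : Type u} [Field k] [CharP k p]
  {σ : PowerSeries k ≃ₐ[k] PowerSeries k}

lemma m_pos (hσp : σ ^ p = 1) (m : ℕ) (t : PowerSeries k) (hα : constantCoeff t ≠ 0)
    (ht : σ X = X + X ^ (m + 1) * t) : 1 ≤ m := by
  by_contra hm0
  have hm : m = 0 := by omega
  subst hm
  have hσX : σ X = X * (1 + t) := by rw [ht]; ring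
  have hc1 : ∀ h : PowerSeries k, coeff 1 (σ h) = (1 + constantCoeff t) * coeff 1 h := by
    intro h
    obtain ⟨h₁, c, hdec⟩ : ∃ h₁ c, h = X * h₁ + C c := ⟨_, _, eq_X_mul_shift_add_const h⟩
    subst hdec
    obtain ⟨r, hr⟩ := X_pow_dvd_sigma_sub 0 t ht 1 le_rfl h₁
    have hσh₁ : σ h₁ = h₁ + X * r := by rw [pow_one] at hr; linear_combination hr
    rw [map_add, map_mul, sigma_C, hσX, hσh₁]
    have e : (X : PowerSeries k) * (1 + t) * (h₁ + X * r) + C c =
        X * ((1 + t) * (h₁ + X * r)) + C c := by ring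
    rw [e, map_add, map_add, coeff_succ_X_mul, coeff_succ_X_mul]
    simp [coeff_zero_eq_constantCoeff_apply]
  have hci : ∀ i : ℕ, coeff 1 ((σ ^ i) (X : PowerSeries k)) = (1 + constantCoeff t) ^ i := by
    intro i
    induction i with
    | zero => simp
    | succ i ih => rw [pow_succ', AlgEquiv.mul_apply, hc1, ih, pow_succ']
  have h1 := hci p
  rw [hσp, AlgEquiv.one_apply, coeff_one_X] at h1
  have h2 : ((1 + constantCoeff t) - 1) ^ p = 0 := by
    rw [sub_pow_char, ← h1, one_pow, sub_self]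
  have h3 := pow_eq_zero_iff (Fact.out : p.Prime).ne_zero |>.mp h2
  apply hα
  linear_combination h3

omit hpF [CharP k p] in
/-- the norm of `X` is invariant -/
lemma sigma_norm (hσp : σ ^ p = 1) :
    σ (∏ i ∈ Finset.range p, (σ ^ i) (X : PowerSeries k)) =
      ∏ i ∈ Finset.range p, (σ ^ i) (X : PowerSeries k) := by
  rw [map_prod]
  have h1 : ∀ i, σ ((σ ^ i) (X : PowerSeries k)) = (σ ^ (i + 1)) X := by
    intro i; rw [pow_succ', AlgEquiv.mul_apply]
  simp only [h1]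
  have h2 := Finset.prod_range_succ' (fun i => (σ ^ i) (X : PowerSeries k)) p
  have h3 := Finset.prod_range_succ (fun i => (σ ^ i) (X : PowerSeries k)) p
  rw [h3] at h2
  simp only [hσp, pow_zero] at h2
  exact (mul_right_cancel₀ (X_ne_zero (R := k)) h2).symm

omit hpF [CharP k p] in
lemma order_norm (m : ℕ) (hm1 : 1 ≤ m) (t : PowerSeries k)
    (ht : σ X = X + X ^ (m + 1) * t) :
    (∏ i ∈ Finset.range p, (σ ^ i) (X : PowerSeries k)).order = (p : ℕ∞) := by
  rw [order_prod]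
  simp only [order_sigma_pow m hm1 t ht, order_X]
  simp

end Order

end Groth.Agent.H64.WQ
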