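import Mathlib
import Groth.Agent.H64.WildQuot

/-!
Main theorems for S19996 and S15813.
-/

namespace Groth.Agent.H64.WQ

open PowerSeries

universe u

theorem dvd_iff (p : ℕ) [Fact p.Prime] (k : Type u) [Field k] [CharP k p]
    (σ : PowerSeries k ≃ₐ[k] PowerSeries k) (hσp : σ ^ p = 1)
    (m : ℕ) (hm : (σ X - X).order = ((m + 1 : ℕ) : ℕ∞)) :
    p ∣ m + 1 ↔ ∃ s a : PowerSeries k, s.order = 1 ∧ σ a = a ∧ σ s = s + a := by
  have hp := (Fact.out : p.Prime)
  have hp2 := hp.two_le
  have hp1 : p - 1 + 1 = p := Nat.sub_add_cancel hp.pos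
  obtain ⟨t, hα, ht⟩ := exists_t m hm
  have hm1 := m_pos hσp m t hα ht
  constructor
  · rintro ⟨e, he⟩
    obtain ⟨T, hT⟩ : ∃ T : Module.End k (PowerSeries k), T = σ.toLinearMap - 1 := ⟨_, rfl⟩
    have hTapp : ∀ g, T g = σ g - g := by intro g; rw [hT]; rfl
    have hTp : T ^ p = 0 := by
      have hpoly : ((Polynomial.X : Polynomial k) - 1) ^ p = Polynomial.X ^ p - 1 := by
        rw [sub_pow_char, one_pow]
      have h1 := congrArg
        (Polynomial.aeval (σ.toLinearMap : Module.End k (PowerSeries k))) hpoly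
      simp only [map_pow, map_sub, Polynomial.aeval_X, map_one] at h1
      have h2 : ∀ i : ℕ, ∀ g,
          ((σ.toLinearMap : Module.End k (PowerSeries k)) ^ i) g = (σ ^ i) g := by
        intro i
        induction i with
        | zero => intro g; simp
        | succ i ih =>
          intro g
          rw [pow_succ', Module.End.mul_apply, ih, pow_succ', AlgEquiv.mul_apply]
          rfl
      have h3 : (σ.toLinearMap : Module.End k (PowerSeries k)) ^ p = 1 := by
        apply LinearMap.ext
        intro g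
        rw [h2, hσp]
        rfl
      rw [hT, h1, h3, sub_self]
    have hord : ∀ i, i + 1 ≤ p →
        ((T ^ i) (X ^ (p - 1))).order = ((p - 1 + i * m : ℕ) : ℕ∞) := by
      intro i
      induction i with
      | zero => intro _; rw [pow_zero, Module.End.one_apply, order_X_pow]; simp
      | succ i ih =>
        intro hi
        have ih' := ih (by omega)
        rw [pow_succ', Module.End.mul_apply, hTapp]
        have hndvd : ¬ p ∣ (p - 1 + i * m) := by
          intro hdvd
          have h1 : p ∣ (p - 1 + i * m) + (i + 1) := by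
            have e0 : (p - 1 + i * m) + (i + 1) = p * (1 + i * e) := by
              have e1 : (p - 1 + i * m) + (i + 1) = (p - 1 + 1) + i * (m + 1) := by ring
              rw [e1, hp1, he]; ring
            rw [e0]; exact dvd_mul_right _ _
          have h2 : p ∣ i + 1 := (Nat.dvd_add_right hdvd).mp h1
          exact Nat.not_dvd_of_pos_of_lt (Nat.succ_pos i) (by omega) h2
        have hjk : ((p - 1 + i * m : ℕ) : k) ≠ 0 :=
          fun h0 => hndvd ((CharP.cast_eq_zero_iff k p _).mp h0)
        rw [order_sigma_sub m hm1 t ht hα _ _ ih' hjk]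
        congr 1
        ring
    obtain ⟨w, hwdef⟩ : ∃ w, w = (T ^ (p - 2)) (X ^ (p - 1)) := ⟨_, rfl⟩
    obtain ⟨τ, hτdef⟩ : ∃ τ, τ = (T ^ (p - 1)) (X ^ (p - 1)) := ⟨_, rfl⟩
    have hw : w.order = ((p - 1 + (p - 2) * m : ℕ) : ℕ∞) := by
      rw [hwdef]; exact hord (p - 2) (by omega)
    have hτ : τ.order = ((p - 1 + (p - 1) * m : ℕ) : ℕ∞) := by
      rw [hτdef]; exact hord (p - 1) (by omega)
    have hp21 : p - 1 = (p - 2) + 1 := by omega
    have hτw : τ = σ w - w := by
      rw [hτdef, hwdef, ← hTapp, ← Module.End.mul_apply, ← pow_succ', ← hp21]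
    have hστ : σ τ = τ := by
      have h0 : T τ = 0 := by
        rw [hτdef, ← Module.End.mul_apply, ← pow_succ', hp1, hTp]
        rfl
      rw [hTapp] at h0
      exact sub_eq_zero.mp h0
    have hτ0 : τ ≠ 0 := by
      intro h0
      rw [h0, order_zero] at hτ
      exact ENat.top_ne_natCast _ hτ
    obtain ⟨x, hxdef⟩ : ∃ x, x = ∏ i ∈ Finset.range p, (σ ^ i) (X : PowerSeries k) := ⟨_, rfl⟩
    have hxσ : σ x = x := by rw [hxdef]; exact sigma_norm hσp
    have hxord : x.order = (p : ℕ∞) := by rw [hxdef]; exact order_norm m hm1 t ht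
    have h12 : (p - 1) * m = (p - 2) * m + m := by rw [hp21, add_mul, one_mul]
    have hep : e * p = m + 1 := by rw [mul_comm, ← he]
    have hwx : (w * x ^ e).order = ((p - 1 + (p - 1) * m + 1 : ℕ) : ℕ∞) := by
      rw [order_mul, order_pow, hw, hxord, nsmul_eq_mul]
      norm_cast
      rw [h12, hep]
      ring
    have hdvd : τ ∣ w * x ^ e := by
      apply dvd_of_order_le τ _ hτ0
      rw [hwx, hτ]
      norm_cast
      omega
    obtain ⟨s, hs⟩ := hdvd
    have hs0 : s ≠ 0 := by
      rintro rfl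
      rw [mul_zero] at hs
      rw [hs, order_zero] at hwx
      exact ENat.top_ne_natCast _ hwx
    have hso := coe_toNat_order hs0
    have hs1 : s.order = 1 := by
      have h3 : (w * x ^ e).order = τ.order + s.order := by rw [hs, order_mul]
      rw [hwx, hτ, ← hso] at h3
      rw [← hso]
      norm_cast at h3 ⊢
      omega
    refine ⟨s, x ^ e, hs1, by rw [map_pow, hxσ], ?_⟩
    apply mul_left_cancel₀ hτ0
    have h1 : σ (w * x ^ e) = σ (τ * s) := congrArg σ hs
    rw [map_mul, map_mul, map_pow, hxσ, hστ] at h1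
    linear_combination (-1 : PowerSeries k) * h1 + hs - (x ^ e) * hτw
  · rintro ⟨s, a, hs1, hσa, hσs⟩
    have hs1' : s.order = ((1 : ℕ) : ℕ∞) := by rw [hs1]; rfl
    have h1 := order_sigma_sub m hm1 t ht hα s 1 hs1' (by simp)
    have ha : a.order = ((1 + m : ℕ) : ℕ∞) := by
      rw [← h1, hσs]
      congr 1
      ring
    by_contra hnd
    have hjk : ((1 + m : ℕ) : k) ≠ 0 := by
      intro h0
      apply hnd
      have := (CharP.cast_eq_zero_iff k p _).mp h0
      rwa [add_comm] at this
    have h2 := order_sigma_sub m hm1 t ht hα a (1 + m) ha hjk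
    rw [hσa, sub_self, order_zero] at h2
    exact ENat.top_ne_natCast _ h2

lemma AS_clear {A K : Type*} [CommRing A] [Field K] [Algebra A K]
    (hinj : Function.Injective (algebraMap A K)) (p : ℕ) (hp : 1 ≤ p) (μ : ℕ) (n d x f : A)
    (hd : d ≠ 0) (hx : x ≠ 0) :
    ((algebraMap A K n / algebraMap A K d) ^ p - algebraMap A K n / algebraMap A K d =
        algebraMap A K f / (algebraMap A K x) ^ μ) ↔
      x ^ μ * (n ^ p - n * d ^ (p - 1)) = f * d ^ p := by
  obtain ⟨q, rfl⟩ : ∃ q, p = q + 1 := ⟨p - 1, by omega⟩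
  simp only [Nat.add_sub_cancel]
  have hD : algebraMap A K d ≠ 0 := fun h => hd (hinj (by rw [h, map_zero]))
  have hX : algebraMap A K x ≠ 0 := fun h => hx (hinj (by rw [h, map_zero]))
  have h2 : (algebraMap A K n / algebraMap A K d) ^ (q + 1) * (algebraMap A K d) ^ (q + 1) =
      (algebraMap A K n) ^ (q + 1) := by
    rw [div_pow, div_mul_cancel₀ _ (pow_ne_zero _ hD)]
  have h3 : algebraMap A K n / algebraMap A K d * (algebraMap A K d) ^ (q + 1) =
      algebraMap A K n * (algebraMap A K d) ^ q := by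
    rw [pow_succ', ← mul_assoc, div_mul_cancel₀ _ hD]
  have h4 : algebraMap A K f / (algebraMap A K x) ^ μ * (algebraMap A K x) ^ μ =
      algebraMap A K f := div_mul_cancel₀ _ (pow_ne_zero _ hX)
  constructor
  · intro h
    apply hinj
    simp only [map_mul, map_pow, map_sub]
    linear_combination ((algebraMap A K d) ^ (q + 1) * (algebraMap A K x) ^ μ) * h
      - (algebraMap A K x) ^ μ * h2 + (algebraMap A K x) ^ μ * h3
      + (algebraMap A K d) ^ (q + 1) * h4
  · intro h
    have h' := congrArg (algebraMap A K) h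
    simp only [map_mul, map_pow, map_sub] at h'
    have hne : (algebraMap A K d) ^ (q + 1) * (algebraMap A K x) ^ μ ≠ 0 :=
      mul_ne_zero (pow_ne_zero _ hD) (pow_ne_zero _ hX)
    apply mul_right_cancel₀ hne
    linear_combination h' + (algebraMap A K x) ^ μ * h2 - (algebraMap A K x) ^ μ * h3
      - (algebraMap A K d) ^ (q + 1) * h4

theorem conductor_eq (p : ℕ) [Fact p.Prime] (k : Type u) [Field k] [CharP k p]
    (σ : PowerSeries k ≃ₐ[k] PowerSeries k) (hσp : σ ^ p = 1)
    (m : ℕ) (hm : (σ X - X).order = ((m + 1 : ℕ) : ℕ∞))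
    (f : PowerSeries k) (hfσ : σ f = f) (hf0 : constantCoeff f ≠ 0)
    (μ : ℕ) (hμ : 0 < μ) (hpμ : ¬ p ∣ μ)
    (z : FractionRing (PowerSeries k))
    (hz : z ^ p - z = algebraMap (PowerSeries k) (FractionRing (PowerSeries k)) f /
      algebraMap (PowerSeries k) (FractionRing (PowerSeries k))
        (∏ i ∈ Finset.range p, (σ ^ i) X) ^ μ) :
    μ = m := by
  have hp := (Fact.out : p.Prime)
  have hp2 := hp.two_le
  have hp1 : p - 1 + 1 = p := Nat.sub_add_cancel hp.pos
  obtain ⟨t, hα, ht⟩ := exists_t m hm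
  have hm1 := m_pos hσp m t hα ht
  obtain ⟨x, hxdef⟩ : ∃ x, x = ∏ i ∈ Finset.range p, (σ ^ i) (X : PowerSeries k) := ⟨_, rfl⟩
  have hxσ : σ x = x := by rw [hxdef]; exact sigma_norm hσp
  have hxord : x.order = (p : ℕ∞) := by rw [hxdef]; exact order_norm m hm1 t ht
  rw [← hxdef] at hz
  have hx0 : x ≠ 0 := by
    intro h0; rw [h0, order_zero] at hxord; exact ENat.top_ne_natCast _ hxord
  have hinj : Function.Injective
      (algebraMap (PowerSeries k) (FractionRing (PowerSeries k))) :=
    IsFractionRing.injective _ _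
  have : CharP (FractionRing (PowerSeries k)) p :=
    charP_of_injective_ringHom
      (f := (algebraMap (PowerSeries k) (FractionRing (PowerSeries k))).comp
        (C : k →+* PowerSeries k))
      (hinj.comp PowerSeries.C_injective) p
  obtain ⟨n, d, hd, hzd⟩ := IsFractionRing.div_surjective (A := PowerSeries k) z
  have hd0 : d ≠ 0 := nonZeroDivisors.ne_zero hd
  have hz0 : (algebraMap (PowerSeries k) (FractionRing (PowerSeries k)) n /
      algebraMap (PowerSeries k) (FractionRing (PowerSeries k)) d) ^ p -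
      algebraMap (PowerSeries k) (FractionRing (PowerSeries k)) n /
      algebraMap (PowerSeries k) (FractionRing (PowerSeries k)) d =
      algebraMap (PowerSeries k) (FractionRing (PowerSeries k)) f /
        (algebraMap (PowerSeries k) (FractionRing (PowerSeries k)) x) ^ μ := by
    rw [hzd]; exact hz
  have hA : x ^ μ * (n ^ p - n * d ^ (p - 1)) = f * d ^ p :=
    (AS_clear hinj p hp.one_le μ n d x f hd0 hx0).mp hz0
  have hf : f ≠ 0 := by rintro rfl; simp at hf0
  have hrhs : f * d ^ p ≠ 0 := mul_ne_zero hf (pow_ne_zero _ hd0)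
  have hn0 : n ≠ 0 := by
    rintro rfl
    apply hrhs
    rw [← hA, zero_pow hp.ne_zero, zero_mul, sub_zero, mul_zero]
  have hQ0 : n ^ p - n * d ^ (p - 1) ≠ 0 := by
    intro h0
    apply hrhs
    rw [← hA, h0, mul_zero]
  obtain ⟨ν, hν⟩ : ∃ ν : ℕ, n.order = ν := ⟨_, (coe_toNat_order hn0).symm⟩
  obtain ⟨δ, hδ⟩ : ∃ δ : ℕ, d.order = δ := ⟨_, (coe_toNat_order hd0).symm⟩
  obtain ⟨w, hw⟩ : ∃ w : ℕ, (n ^ p - n * d ^ (p - 1)).order = w :=
    ⟨_, (coe_toNat_order hQ0).symm⟩
  have hford : f.order = 0 :=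
    order_zero_of_unit (isUnit_iff_constantCoeff.mpr (isUnit_iff_ne_zero.mpr hf0))
  have hordA : μ * p + w = p * δ := by
    have h1 := congrArg order hA
    rw [order_mul, order_pow, order_mul, order_pow, hxord, hw, hford, hδ, nsmul_eq_mul,
      nsmul_eq_mul, zero_add] at h1
    exact_mod_cast h1
  have hpδ : p * δ = δ + (p - 1) * δ := by
    conv_lhs => rw [← hp1]
    ring
  have hpν : p * ν = ν + (p - 1) * ν := by
    conv_lhs => rw [← hp1]
    ring
  have hνδ : ν < δ := by
    by_contra hcon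
    push Not at hcon
    have h1 : ((p * δ : ℕ) : ℕ∞) ≤ (n ^ p - n * d ^ (p - 1)).order := by
      have ha : ((p * δ : ℕ) : ℕ∞) ≤ (n ^ p).order := by
        rw [order_pow, hν, nsmul_eq_mul]
        exact_mod_cast Nat.mul_le_mul_left p hcon
      have hb : ((p * δ : ℕ) : ℕ∞) ≤ (-(n * d ^ (p - 1))).order := by
        rw [order_neg, order_mul, order_pow, hν, hδ, nsmul_eq_mul]
        norm_cast
        omega
      have hmin := min_order_le_order_add (n ^ p) (-(n * d ^ (p - 1)))
      rw [← sub_eq_add_neg] at hmin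
      exact le_trans (le_min ha hb) hmin
    rw [hw] at h1
    have h2 : p * δ ≤ w := by exact_mod_cast h1
    have : 0 < μ * p := Nat.mul_pos hμ hp.pos
    omega
  have hlt : (p - 1) * ν < (p - 1) * δ :=
    Nat.mul_lt_mul_of_pos_left hνδ (by omega)
  have hw' : w = p * ν := by
    have hle : (n ^ p).order ≤ (-(n * d ^ (p - 1))).order := by
      rw [order_neg, order_mul, order_pow, order_pow, hν, hδ, nsmul_eq_mul, nsmul_eq_mul]
      norm_cast
      omega
    have hne : (n ^ p).order ≠ (-(n * d ^ (p - 1))).order := by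
      rw [order_neg, order_mul, order_pow, order_pow, hν, hδ, nsmul_eq_mul, nsmul_eq_mul]
      norm_cast
      omega
    have h2 := order_add_of_order_ne _ _ hne
    rw [← sub_eq_add_neg, hw, min_eq_left hle, order_pow, hν, nsmul_eq_mul] at h2
    exact_mod_cast h2
  have hδμ : δ = μ + ν := by
    have h3 : p * (μ + ν) = p * δ := by rw [← hordA, hw']; ring
    exact (Nat.eq_of_mul_eq_mul_left hp.pos h3).symm
  -- the conjugate fraction
  have hd'0 : σ d ≠ 0 := (EmbeddingLike.map_ne_zero_iff).mpr hd0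
  have hA' : x ^ μ * ((σ n) ^ p - σ n * (σ d) ^ (p - 1)) = f * (σ d) ^ p := by
    have h1 := congrArg σ hA
    simpa only [map_mul, map_pow, map_sub, hxσ, hfσ] using h1
  have hz' := (AS_clear hinj p hp.one_le μ (σ n) (σ d) x f hd'0 hx0).mpr hA'
  have hD : algebraMap (PowerSeries k) (FractionRing (PowerSeries k)) d ≠ 0 :=
    fun h => hd0 (hinj (by rw [h, map_zero]))
  have hD' : algebraMap (PowerSeries k) (FractionRing (PowerSeries k)) (σ d) ≠ 0 :=
    fun h => hd'0 (hinj (by rw [h, map_zero]))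
  have hy : (algebraMap (PowerSeries k) (FractionRing (PowerSeries k)) (σ n) /
      algebraMap (PowerSeries k) (FractionRing (PowerSeries k)) (σ d) -
      algebraMap (PowerSeries k) (FractionRing (PowerSeries k)) n /
      algebraMap (PowerSeries k) (FractionRing (PowerSeries k)) d) ^ p =
      algebraMap (PowerSeries k) (FractionRing (PowerSeries k)) (σ n) /
      algebraMap (PowerSeries k) (FractionRing (PowerSeries k)) (σ d) -
      algebraMap (PowerSeries k) (FractionRing (PowerSeries k)) n /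
      algebraMap (PowerSeries k) (FractionRing (PowerSeries k)) d := by
    rw [sub_pow_char]
    linear_combination hz' - hz0
  obtain ⟨c, hc⟩ := (mem_bot_iff_intCast p (FractionRing (PowerSeries k))).mp
    ((Subfield.mem_bot_iff_pow_eq_self (FractionRing (PowerSeries k)) p).mpr hy)
  have hE : σ n * d - n * σ d = (c : PowerSeries k) * d * σ d := by
    apply hinj
    simp only [map_sub, map_mul, map_intCast]
    have e1 := div_mul_cancel₀
      (algebraMap (PowerSeries k) (FractionRing (PowerSeries k)) (σ n)) hD'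
    have e2 := div_mul_cancel₀
      (algebraMap (PowerSeries k) (FractionRing (PowerSeries k)) n) hD
    linear_combination
      (-(algebraMap (PowerSeries k) (FractionRing (PowerSeries k)) d *
        algebraMap (PowerSeries k) (FractionRing (PowerSeries k)) (σ d))) * hc -
      algebraMap (PowerSeries k) (FractionRing (PowerSeries k)) d * e1 +
      algebraMap (PowerSeries k) (FractionRing (PowerSeries k)) (σ d) * e2
  -- order of the left-hand side
  have hnν := order_eq_nat.mp hν
  have hdδ := order_eq_nat.mp hδ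
  have hn_dvd : X ^ ν ∣ n := X_pow_dvd_iff.mpr hnν.2
  have hd_dvd : X ^ δ ∣ d := X_pow_dvd_iff.mpr hdδ.2
  obtain ⟨hn1, hn2⟩ := coeff_sigma_sub m hm1 t ht n ν hn_dvd
  obtain ⟨hd1, hd2⟩ := coeff_sigma_sub m hm1 t ht d δ hd_dvd
  obtain ⟨hP1, hP2⟩ := coeff_mul_of_dvd (σ n - n) d (ν + m) δ hn1 hd_dvd
  obtain ⟨hQ1, hQ2⟩ := coeff_mul_of_dvd n (σ d - d) ν (δ + m) hn_dvd hd1
  have hexp : ν + (δ + m) = ν + m + δ := by omega
  rw [hexp] at hQ1 hQ2
  have hsplit : σ n * d - n * σ d = (σ n - n) * d - n * (σ d - d) := by ring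
  have hδk : (δ : k) = (μ : k) + (ν : k) := by rw [hδμ]; push_cast; ring
  have hEc : coeff (ν + m + δ) (σ n * d - n * σ d) =
      -((μ : k) * constantCoeff t * coeff ν n * coeff δ d) := by
    rw [hsplit, map_sub, hP2, hQ2, hn2, hd2]
    linear_combination (-(constantCoeff t * coeff ν n * coeff δ d)) * hδk
  have hμk : (μ : k) ≠ 0 := fun h0 => hpμ ((CharP.cast_eq_zero_iff k p μ).mp h0)
  have hEne : coeff (ν + m + δ) (σ n * d - n * σ d) ≠ 0 := by
    rw [hEc]
    exact neg_ne_zero.mpr (mul_ne_zero (mul_ne_zero (mul_ne_zero hμk hα) hnν.1) hdδ.1)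
  have hEdvd : X ^ (ν + m + δ) ∣ σ n * d - n * σ d := by
    rw [hsplit]; exact dvd_sub hP1 hQ1
  have hEord : (σ n * d - n * σ d).order = ((ν + m + δ : ℕ) : ℕ∞) :=
    order_eq_nat.mpr ⟨hEne, X_pow_dvd_iff.mp hEdvd⟩
  -- order of the right-hand side
  have hcA : (c : PowerSeries k) ≠ 0 := by
    intro h0
    rw [hE, h0, zero_mul, zero_mul, map_zero] at hEne
    exact hEne rfl
  have hcC : (c : PowerSeries k) = C (c : k) := (map_intCast (C : k →+* PowerSeries k) c).symm
  have hck : (c : k) ≠ 0 := by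
    intro h0
    apply hcA
    rw [hcC, h0, map_zero]
  have hcord : (c : PowerSeries k).order = 0 := by
    apply order_zero_of_unit
    rw [hcC, isUnit_iff_constantCoeff, constantCoeff_C]
    exact isUnit_iff_ne_zero.mpr hck
  have hRord : ((c : PowerSeries k) * d * σ d).order = ((δ + δ : ℕ) : ℕ∞) := by
    rw [order_mul, order_mul, hcord, order_sigma m hm1 t ht d, hδ, zero_add]
    norm_cast
  rw [hE, hRord] at hEord
  have h5 : δ + δ = ν + m + δ := by exact_mod_cast hEord
  omega

end Groth.Agent.H64.WQ
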