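import Mathlib
import Groth.Prelude.Def_WeilCoh
import Groth.Prelude.Def_W4c1zetahwZeta
import Groth.Prelude.Def_SgaExt

/-!
# helper74's S15452 / S15453 squad, piece (PC2): fixed `k`-points of the base change correspond
to fixed `k`-points of `X` over `k₀`
-/

set_option autoImplicit false
universe u v w
open CategoryTheory CategoryTheory.Limits AlgebraicGeometry

namespace Groth.Agent.H64.ZF_PC2

/-- (PC2) -/
theorem card_points_eq {k₀ : Type u} [Field k₀] {k : Type u} [Field k] [Algebra k₀ k]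
    {X Y : Scheme.{u}} (f : X ⟶ Spec (CommRingCat.of k₀))
    (π : Y ⟶ X) (sb : Y ⟶ Spec (CommRingCat.of k))
    (hπ : IsPullback π sb f (Spec.map (CommRingCat.ofHom (algebraMap k₀ k))))
    (FXm : X ⟶ X) (G : Y ⟶ Y) (hG : G ≫ π = π ≫ FXm) (hGs : G ≫ sb = sb) :
    Nat.card {y : Spec (CommRingCat.of k) ⟶ Y // y ≫ sb = 𝟙 _ ∧ y ≫ G = y} =
      Nat.card {g : Spec (CommRingCat.of k) ⟶ X //
        g ≫ f = Spec.map (CommRingCat.ofHom (algebraMap k₀ k)) ∧ g ≫ FXm = g} := by
  refine Nat.card_congr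
    { toFun := fun y => ⟨y.1 ≫ π, ?_, ?_⟩
      invFun := fun g => ⟨hπ.lift g.1 (𝟙 _) (by rw [g.2.1, Category.id_comp]), ?_, ?_⟩
      left_inv := ?_
      right_inv := ?_ }
  · rw [Category.assoc, hπ.w, ← Category.assoc, y.2.1, Category.id_comp]
  · rw [Category.assoc, ← hG, ← Category.assoc, y.2.2]
  · exact hπ.lift_snd _ _ _
  · apply hπ.hom_ext
    · rw [Category.assoc, hG, ← Category.assoc, hπ.lift_fst, g.2.2]
    · rw [Category.assoc, hGs]
  · intro y
    apply Subtype.ext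
    apply hπ.hom_ext
    · exact hπ.lift_fst _ _ _
    · rw [hπ.lift_snd, y.2.1]
  · intro g
    apply Subtype.ext
    exact hπ.lift_fst _ _ _

end Groth.Agent.H64.ZF_PC2
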