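import Mathlib
import Groth.Prelude.Def_WeilCoh
import Groth.Prelude.Def_W4c1zetahwZeta
import Groth.Prelude.Def_SgaExt

/-!
# helper74's S15452 / S15453 squad, piece (PC3a): the degree-`m` subfield of an algebraically
closed extension of a finite field
-/

set_option autoImplicit false
universe u v w
open CategoryTheory CategoryTheory.Limits AlgebraicGeometry

namespace Groth.Agent.H64.ZF_PC3a

open Polynomial in
/-- (PC3a) -/
theorem exists_subfield (k₀ : Type u) [Field k₀] [Finite k₀] (k : Type u) [Field k] [IsAlgClosed k]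
    [Algebra k₀ k] (m : ℕ) (hm : 1 ≤ m) :
    ∃ (L : Type u) (_ : Field L) (_ : Algebra k₀ L) (_ : Algebra L k) (_ : IsScalarTower k₀ L k)
      (_ : Finite L), Module.finrank k₀ L = m ∧
        ∀ x : k, x ^ ((Nat.card k₀) ^ m) = x ↔ x ∈ Set.range (algebraMap L k) := by
  obtain ⟨p, hp⟩ := CharP.exists k₀
  haveI : Fact p.Prime := ⟨CharP.char_is_prime k₀ p⟩
  haveI : NeZero m := ⟨by omega⟩
  let E := FiniteField.Extension k₀ p m
  let φ : E →ₐ[k₀] k := IsAlgClosed.lift
  let L : IntermediateField k₀ k := φ.fieldRange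
  have e : E ≃ₐ[k₀] L := AlgEquiv.ofInjectiveField φ
  haveI : Finite L := Finite.of_equiv E e.toEquiv
  have hcard : Nat.card E = Nat.card k₀ ^ m := FiniteField.natCard_extension k₀ p m
  refine ⟨L, inferInstance, inferInstance, inferInstance, inferInstance, inferInstance, ?_, ?_⟩
  · rw [← e.toLinearEquiv.finrank_eq]
    exact FiniteField.finrank_extension k₀ p m
  · intro x
    constructor
    · intro hx
      have hsp : Splits (X ^ (Nat.card E) - X : E[X]) := Polynomial.splits_X_pow_nat_card_sub_X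
      have hne : (X ^ (Nat.card E) - X : E[X]) ≠ 0 :=
        FiniteField.X_pow_card_sub_X_ne_zero E Finite.one_lt_card
      have hroot : ((X ^ (Nat.card E) - X : E[X]).map (φ : E →+* k)).IsRoot x := by
        simp [hcard, hx]
      obtain ⟨y, hy⟩ := hsp.mem_range_of_isRoot hne hroot
      exact ⟨⟨x, ⟨y, hy⟩⟩, rfl⟩
    · rintro ⟨⟨_, ⟨y, rfl⟩⟩, rfl⟩
      show (φ y) ^ (Nat.card k₀ ^ m) = φ y
      rw [← map_pow, ← hcard]
      congr 1
      haveI : Fintype E := Fintype.ofFinite E
      rw [Nat.card_eq_fintype_card]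
      exact FiniteField.pow_card y

end Groth.Agent.H64.ZF_PC3a
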