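import Mathlib

/-!
Torsion of coinvariants `M/(A-1)M` for automorphisms of order `ℓ ∈ {2,3}` of free `ℤ_ℓ`-modules
(row S18599).
-/

namespace Groth.Agent.H64.ZlTors

open Submodule

section general

variable {R : Type*} [CommRing R] [IsDomain R]
  {M : Type*} [AddCommGroup M] [Module R M]

theorem torsion_eq (f e g : Module.End R M) (ℓ : R) (hℓ : ℓ ≠ 0)
    (htf : ∀ (a : R) (x : M), a ≠ 0 → a • x = 0 → x = 0)
    (h1 : ∀ x, e (f x) = 0) (h2 : ∀ x, ℓ • (x - e x) = f (g x)) :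
    torsion R (M ⧸ LinearMap.range f) = (LinearMap.ker e).map (LinearMap.range f).mkQ := by
  ext y
  obtain ⟨x, rfl⟩ := (LinearMap.range f).mkQ_surjective y
  constructor
  · intro hy
    rw [mem_torsion_iff] at hy
    obtain ⟨a, ha⟩ := hy
    have ha0 : (a : R) ≠ 0 := nonZeroDivisors.coe_ne_zero a
    have h3 : (a : R) • x ∈ LinearMap.range f := by
      rw [← Submodule.Quotient.mk_eq_zero, Submodule.Quotient.mk_smul]
      exact ha
    obtain ⟨z, hz⟩ := h3
    have h4 : (a : R) • e x = 0 := by rw [← map_smul, ← hz, h1]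
    exact ⟨x, LinearMap.mem_ker.mpr (htf _ _ ha0 h4), rfl⟩
  · rintro ⟨x', hx', hxy⟩
    rw [← hxy, mem_torsion_iff]
    refine ⟨⟨ℓ, mem_nonZeroDivisors_of_ne_zero hℓ⟩, ?_⟩
    have h5 : ℓ • x' = f (g x') := by
      have := h2 x'
      rwa [LinearMap.mem_ker.mp hx', sub_zero] at this
    show ℓ • (LinearMap.range f).mkQ x' = 0
    rw [← map_smul, h5]
    exact (Submodule.Quotient.mk_eq_zero _).mpr ⟨g x', rfl⟩

theorem smul_eq_zero_of_mem_torsion (f e g : Module.End R M) (ℓ : R) (hℓ : ℓ ≠ 0)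
    (htf : ∀ (a : R) (x : M), a ≠ 0 → a • x = 0 → x = 0)
    (h1 : ∀ x, e (f x) = 0) (h2 : ∀ x, ℓ • (x - e x) = f (g x)) :
    ∀ y ∈ torsion R (M ⧸ LinearMap.range f), ℓ • y = 0 := by
  intro y hy
  rw [torsion_eq f e g ℓ hℓ htf h1 h2] at hy
  obtain ⟨x', hx', rfl⟩ := hy
  have h5 : ℓ • x' = f (g x') := by
    have := h2 x'
    rwa [LinearMap.mem_ker.mp hx', sub_zero] at this
  rw [← map_smul, h5]
  exact (Submodule.Quotient.mk_eq_zero _).mpr ⟨g x', rfl⟩

theorem card_torsion (f e g : Module.End R M) (ℓ : R) (hℓ : ℓ ≠ 0)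
    (htf : ∀ (a : R) (x : M), a ≠ 0 → a • x = 0 → x = 0)
    (h1 : ∀ x, e (f x) = 0) (h2 : ∀ x, ℓ • (x - e x) = f (g x))
    (h1' : ∀ x, f (e x) = 0) (h2' : ∀ x, f x = 0 → f (g x) = 0) (h3 : ∀ x, e (e x) = e x) :
    ∃ gN : ↥(LinearMap.ker e) →ₗ[R] ↥(LinearMap.ker e), (∀ x, (gN x : M) = f x) ∧
      Function.Injective gN ∧
      Nat.card (torsion R (M ⧸ LinearMap.range f)) = (LinearMap.range gN).toAddSubgroup.index := by
  have hfN : ∀ x ∈ LinearMap.ker e, f x ∈ LinearMap.ker e := fun x _ => LinearMap.mem_ker.mpr (h1 x)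
  refine ⟨f.restrict hfN, fun x => rfl, ?_, ?_⟩
  · rw [injective_iff_map_eq_zero]
    intro x hx
    have hfx : f x = 0 := by
      have := congrArg Subtype.val hx
      simpa using this
    have h5 := h2 (x : M)
    rw [h2' _ hfx, LinearMap.mem_ker.mp x.2, sub_zero] at h5
    exact Subtype.ext (htf _ _ hℓ h5)
  · rw [torsion_eq f e g ℓ hℓ htf h1 h2]
    set φ : ↥(LinearMap.ker e) →ₗ[R] (M ⧸ LinearMap.range f) :=
      (LinearMap.range f).mkQ ∘ₗ (LinearMap.ker e).subtype with hφ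
    have hrange : LinearMap.range φ = (LinearMap.ker e).map (LinearMap.range f).mkQ := by
      rw [hφ, LinearMap.range_comp, Submodule.range_subtype]
    have hker : LinearMap.ker φ = LinearMap.range (f.restrict hfN) := by
      ext x
      rw [LinearMap.mem_ker]
      constructor
      · intro hx
        have hx' : (x : M) ∈ LinearMap.range f := by
          rw [← Submodule.Quotient.mk_eq_zero]; exact hx
        obtain ⟨z, hz⟩ := hx'
        have hz' : z - e z ∈ LinearMap.ker e := by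
          rw [LinearMap.mem_ker, map_sub, h3, sub_self]
        refine ⟨⟨z - e z, hz'⟩, Subtype.ext ?_⟩
        show f (z - e z) = x
        rw [map_sub, h1', sub_zero, hz]
      · rintro ⟨w, rfl⟩
        show (LinearMap.range f).mkQ (f w) = 0
        exact (Submodule.Quotient.mk_eq_zero _).mpr ⟨w, rfl⟩
    rw [← hrange, ← hker]
    exact Nat.card_congr φ.quotKerEquivRange.symm.toEquiv

theorem finrank_ker [Module.Finite R M] [IsNoetherianRing R] (f e g : Module.End R M) (ℓ : R) (hℓ : ℓ ≠ 0)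
    (htf : ∀ (a : R) (x : M), a ≠ 0 → a • x = 0 → x = 0)
    (h2 : ∀ x, ℓ • (x - e x) = f (g x))
    (h1' : ∀ x, f (e x) = 0) (h2' : ∀ x, f x = 0 → f (g x) = 0) :
    Module.finrank R (LinearMap.ker e) =
      Module.finrank R M - Module.finrank R (LinearMap.ker f) := by
  have hk : LinearMap.ker f = LinearMap.range e := by
    ext x
    constructor
    · intro hx
      have hfx : f x = 0 := hx
      have h5 := h2 x
      rw [h2' _ hfx] at h5
      have h6 := htf _ _ hℓ h5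
      exact ⟨x, (sub_eq_zero.mp h6).symm⟩
    · rintro ⟨z, rfl⟩
      exact h1' z
  have h7 := (LinearMap.ker e).finrank_quotient_add_finrank
  rw [e.quotKerEquivRange.finrank_eq, ← hk] at h7
  omega

end general

section padic

open Pointwise

variable {p : ℕ} [Fact p.Prime]

/-- index of `pN` in a free module of finite rank over `ℤ_p`. -/
theorem index_smul_top (N : Type*) [AddCommGroup N] [Module ℤ_[p] N] [Module.Free ℤ_[p] N]
    [Module.Finite ℤ_[p] N] :
    ((p : ℤ_[p]) • (⊤ : Submodule ℤ_[p] N)).toAddSubgroup.index =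
      p ^ Module.finrank ℤ_[p] N := by
  classical
  obtain ⟨c, hc⟩ : ∃ c, c = Module.finrank ℤ_[p] N := ⟨_, rfl⟩
  rw [← hc]
  let b : Module.Basis (Fin c) ℤ_[p] N := (Module.finBasis ℤ_[p] N).reindex (finCongr hc.symm)
  let Φ : N →+ (Fin c → ZMod p) :=
    { toFun := fun x i => PadicInt.toZMod (b.repr x i)
      map_zero' := by funext i; simp
      map_add' := fun x y => by funext i; simp }
  have hΦ : ∀ x i, Φ x i = PadicInt.toZMod (b.repr x i) := fun _ _ => rfl
  have hsurj : Function.Surjective Φ := by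
    intro v
    choose a ha using fun i => ZMod.ringHom_surjective (PadicInt.toZMod (p := p)) (v i)
    refine ⟨∑ i, a i • b i, ?_⟩
    funext i
    rw [hΦ, b.repr_sum_self]
    exact ha i
  have hker : Φ.ker = ((p : ℤ_[p]) • (⊤ : Submodule ℤ_[p] N)).toAddSubgroup := by
    ext x
    rw [AddMonoidHom.mem_ker, Submodule.mem_toAddSubgroup,
      Submodule.mem_smul_pointwise_iff_exists]
    constructor
    · intro hx
      have h1 : ∀ i, ∃ y : ℤ_[p], b.repr x i = (p : ℤ_[p]) * y := by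
        intro i
        have h2 : PadicInt.toZMod (b.repr x i) = 0 := by rw [← hΦ, hx]; rfl
        have h3 : b.repr x i ∈ RingHom.ker (PadicInt.toZMod (p := p)) := h2
        rw [PadicInt.ker_toZMod, PadicInt.maximalIdeal_eq_span_p,
          Ideal.mem_span_singleton] at h3
        exact h3
      choose y hy using h1
      refine ⟨∑ i, y i • b i, Submodule.mem_top, ?_⟩
      rw [Finset.smul_sum]
      conv_rhs => rw [← b.sum_repr x]
      refine Finset.sum_congr rfl fun i _ => ?_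
      rw [smul_smul, ← hy i]
    · rintro ⟨z, -, rfl⟩
      funext i
      rw [hΦ, map_smul, Finsupp.smul_apply, smul_eq_mul, map_mul, map_natCast,
        ZMod.natCast_self, zero_mul]
      rfl
  rw [← hker, AddSubgroup.index_ker, AddMonoidHom.range_eq_top.mpr hsurj]
  rw [Nat.card_congr (AddSubgroup.topEquiv (G := Fin c → ZMod p)).toEquiv, Nat.card_fun,
    Nat.card_zmod, Nat.card_fin]

end padic

section cases

open Pointwise

variable {p : ℕ} [Fact p.Prime]
  {M : Type*} [AddCommGroup M] [Module ℤ_[p] M] [Module.Free ℤ_[p] M] [Module.Finite ℤ_[p] M]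

theorem htf_free (a : ℤ_[p]) (x : M) (ha : a ≠ 0) (h : a • x = 0) : x = 0 := by
  rcases smul_eq_zero.mp h with h | h
  · exact absurd h ha
  · exact h

theorem ff_two (A : M ≃ₗ[ℤ_[p]] M) (hA : ∀ x, A (A x) = x)
    (f : Module.End ℤ_[p] M) (hf : ∀ x, f x = A x - x) (x : M) :
    f (f x) = -((2 : ℤ_[p]) • f x) := by
  rw [hf (f x), hf x, map_sub, hA]
  module

theorem case_two (hp : p = 2) (A : M ≃ₗ[ℤ_[p]] M) (hA : ∀ x, A (A x) = x)
    (f B : Module.End ℤ_[p] M) (hf : ∀ x, f x = A x - x) (hB : ∀ x, f x = (2 : ℤ_[p]) • B x) :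
    (∀ y ∈ torsion ℤ_[p] (M ⧸ LinearMap.range f), (p : ℤ_[p]) • y = 0) ∧
      Nat.card (torsion ℤ_[p] (M ⧸ LinearMap.range f)) =
        p ^ (Module.finrank ℤ_[p] M - Module.finrank ℤ_[p] (LinearMap.ker f)) := by
  have hp2 : (p : ℤ_[p]) = 2 := by exact_mod_cast congrArg (Nat.cast : ℕ → ℤ_[p]) hp
  have hp0 : (p : ℤ_[p]) ≠ 0 := by exact_mod_cast (Fact.out : p.Prime).ne_zero
  have h20 : (2 : ℤ_[p]) ≠ 0 := by rw [← hp2]; exact hp0
  have h40 : (4 : ℤ_[p]) ≠ 0 := by
    have : (4 : ℤ_[p]) = 2 * 2 := by norm_num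
    rw [this]; exact mul_ne_zero h20 h20
  have htf := htf_free (p := p) (M := M)
  have hff := ff_two A hA f hf
  have hBB : ∀ x, B (B x) = - B x := by
    intro x
    have h1 := hff x
    rw [hB (f x), hB x, map_smul] at h1
    have h2 : (4 : ℤ_[p]) • (B (B x) + B x) = 0 := by
      have : (4 : ℤ_[p]) • (B (B x) + B x) =
          (2 : ℤ_[p]) • (2 : ℤ_[p]) • B (B x) - -((2 : ℤ_[p]) • (2 : ℤ_[p]) • B x) := by module
      rw [this, h1, sub_self]
    exact eq_neg_of_add_eq_zero_left (htf _ _ h40 h2)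
  obtain ⟨e, he'⟩ : ∃ e : Module.End ℤ_[p] M, ∀ x, e x = x + B x := ⟨1 + B, fun x => by simp⟩
  obtain ⟨g, hg'⟩ : ∃ g : Module.End ℤ_[p] M, ∀ x, g x = -x := ⟨-1, fun x => by simp⟩
  have h1 : ∀ x, e (f x) = 0 := by
    intro x
    rw [he', hB x, map_smul, hBB]
    module
  have h2 : ∀ x, (p : ℤ_[p]) • (x - e x) = f (g x) := by
    intro x
    rw [hp2, he', hg', map_neg, hB x]
    module
  have h1' : ∀ x, f (e x) = 0 := by
    intro x
    rw [hB (e x), he', map_add, hBB]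
    module
  have h2' : ∀ x, f x = 0 → f (g x) = 0 := by
    intro x hx
    rw [hg', map_neg, hx, neg_zero]
  have h3 : ∀ x, e (e x) = e x := by
    intro x
    rw [he' (e x), he' x, map_add, hBB]
    module
  refine ⟨smul_eq_zero_of_mem_torsion f e g _ hp0 htf h1 h2, ?_⟩
  obtain ⟨gN, hgN, hinj, hcard⟩ := card_torsion f e g _ hp0 htf h1 h2 h1' h2' h3
  have hgN2 : ∀ w : LinearMap.ker e, gN w = -((2 : ℤ_[p]) • w) := by
    intro w
    apply Subtype.ext
    rw [hgN]
    have hw : e (w : M) = 0 := LinearMap.mem_ker.mp w.2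
    rw [he'] at hw
    have hBw : B (w : M) = -(w : M) := eq_neg_of_add_eq_zero_right hw
    rw [hB, hBw]
    simp
  have hrange : LinearMap.range gN = (p : ℤ_[p]) • (⊤ : Submodule ℤ_[p] (LinearMap.ker e)) := by
    ext y
    rw [Submodule.mem_smul_pointwise_iff_exists, hp2]
    constructor
    · rintro ⟨w, rfl⟩
      exact ⟨-w, Submodule.mem_top, by rw [hgN2, smul_neg]⟩
    · rintro ⟨z, -, rfl⟩
      exact ⟨-z, by rw [hgN2, smul_neg, neg_neg]⟩
  rw [hcard, hrange, index_smul_top, finrank_ker f e g _ hp0 htf h2 h1' h2']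

theorem case_two' (hp : p = 2) (A : M ≃ₗ[ℤ_[p]] M) (hA : ∀ x, A (A x) = x)
    (f B : Module.End ℤ_[p] M) (hf : ∀ x, f x = A x - x)
    (hB : ∀ x, f (f x) = (4 : ℤ_[p]) • B x) :
    (∀ y ∈ torsion ℤ_[p] (M ⧸ LinearMap.range f), (p : ℤ_[p]) • y = 0) ∧
      Nat.card (torsion ℤ_[p] (M ⧸ LinearMap.range f)) =
        p ^ (Module.finrank ℤ_[p] M - Module.finrank ℤ_[p] (LinearMap.ker f)) := by
  have hp2 : (p : ℤ_[p]) = 2 := by exact_mod_cast congrArg (Nat.cast : ℕ → ℤ_[p]) hp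
  have hp0 : (p : ℤ_[p]) ≠ 0 := by exact_mod_cast (Fact.out : p.Prime).ne_zero
  have h20 : (2 : ℤ_[p]) ≠ 0 := by rw [← hp2]; exact hp0
  have htf := htf_free (p := p) (M := M)
  have hff := ff_two A hA f hf
  have hB2 : ∀ x, f x = (2 : ℤ_[p]) • (-B) x := by
    intro x
    have h1 := hff x
    rw [hB x] at h1
    have h2 : (2 : ℤ_[p]) • (f x + (2 : ℤ_[p]) • B x) = 0 := by
      have : (2 : ℤ_[p]) • (f x + (2 : ℤ_[p]) • B x) =
          (4 : ℤ_[p]) • B x - -((2 : ℤ_[p]) • f x) := by module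
      rw [this, h1, sub_self]
    have h3 := htf _ _ h20 h2
    rw [LinearMap.neg_apply, smul_neg]
    exact eq_neg_of_add_eq_zero_left h3
  exact case_two hp A hA f (-B) hf hB2

theorem case_three (hp : p = 3) (A : M ≃ₗ[ℤ_[p]] M) (hA : ∀ x, A (A (A x)) = x)
    (f B : Module.End ℤ_[p] M) (hf : ∀ x, f x = A x - x)
    (hB : ∀ x, f (f x) = (3 : ℤ_[p]) • B x) :
    (∀ y ∈ torsion ℤ_[p] (M ⧸ LinearMap.range f), (p : ℤ_[p]) • y = 0) ∧
      ∃ r : ℕ, r * 2 = Module.finrank ℤ_[p] M - Module.finrank ℤ_[p] (LinearMap.ker f) ∧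
        Nat.card (torsion ℤ_[p] (M ⧸ LinearMap.range f)) = p ^ r := by
  have hp3 : (p : ℤ_[p]) = 3 := by exact_mod_cast congrArg (Nat.cast : ℕ → ℤ_[p]) hp
  have hp0 : (p : ℤ_[p]) ≠ 0 := by exact_mod_cast (Fact.out : p.Prime).ne_zero
  have h30 : (3 : ℤ_[p]) ≠ 0 := by rw [← hp3]; exact hp0
  have htf := htf_free (p := p) (M := M)
  have hAf : ∀ y, A y = y + f y := by intro y; rw [hf]; abel
  have hfff : ∀ x, f (f (f x)) + (3 : ℤ_[p]) • f (f x) + (3 : ℤ_[p]) • f x = 0 := by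
    intro x
    have e1 : A (A (A x)) =
        x + (3 : ℤ_[p]) • f x + (3 : ℤ_[p]) • f (f x) + f (f (f x)) := by
      rw [hAf x, hAf (x + f x), hAf]
      simp only [map_add]
      module
    rw [hA] at e1
    have : f (f (f x)) + (3 : ℤ_[p]) • f (f x) + (3 : ℤ_[p]) • f x =
        (x + (3 : ℤ_[p]) • f x + (3 : ℤ_[p]) • f (f x) + f (f (f x))) - x := by module
    rw [this, ← e1, sub_self]
  have hBf : ∀ x, B (f x) = f (B x) := by
    intro x
    have h1 : (3 : ℤ_[p]) • (B (f x) - f (B x)) = 0 := by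
      rw [smul_sub, ← hB (f x), ← f.map_smul, ← hB x, sub_self]
    exact sub_eq_zero.mp (htf _ _ h30 h1)
  have hstar : ∀ x, f (B x) + (3 : ℤ_[p]) • B x + f x = 0 := by
    intro x
    have h1 := hfff x
    rw [hB x, f.map_smul] at h1
    have h2 : (3 : ℤ_[p]) • (f (B x) + (3 : ℤ_[p]) • B x + f x) = 0 := by
      rw [← h1]; module
    exact htf _ _ h30 h2
  obtain ⟨e, he'⟩ : ∃ e : Module.End ℤ_[p] M, ∀ x, e x = x + f x + B x :=
    ⟨1 + f + B, fun x => by simp⟩
  obtain ⟨g, hg'⟩ : ∃ g : Module.End ℤ_[p] M, ∀ x, g x = -((3 : ℤ_[p]) • x) - f x :=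
    ⟨(-3 : ℤ_[p]) • (1 : Module.End ℤ_[p] M) - f, fun x => by simp⟩
  have h1 : ∀ x, e (f x) = 0 := by
    intro x
    rw [he', hB x, hBf x, ← hstar x]
    module
  have h1' : ∀ x, f (e x) = 0 := by
    intro x
    rw [he', map_add, map_add, hB x, ← hstar x]
    module
  have hBe : ∀ x, B (e x) = 0 := by
    intro x
    have h5 : (3 : ℤ_[p]) • B (e x) = 0 := by rw [← hB (e x), h1' x, map_zero]
    exact htf _ _ h30 h5
  have h3 : ∀ x, e (e x) = e x := by
    intro x
    rw [he' (e x), h1' x, hBe x, add_zero, add_zero]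
  have h2 : ∀ x, (p : ℤ_[p]) • (x - e x) = f (g x) := by
    intro x
    rw [hp3, he', hg', map_sub, map_neg, f.map_smul, hB x]
    module
  have h2' : ∀ x, f x = 0 → f (g x) = 0 := by
    intro x hx
    rw [hg', map_sub, map_neg, f.map_smul, hx, map_zero, smul_zero, neg_zero, sub_zero]
  refine ⟨smul_eq_zero_of_mem_torsion f e g _ hp0 htf h1 h2, ?_⟩
  obtain ⟨gN, hgN, hinj, hcard⟩ := card_torsion f e g _ hp0 htf h1 h2 h1' h2' h3
  have hc := finrank_ker f e g _ hp0 htf h2 h1' h2'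
  have hNN : ∀ w : LinearMap.ker e, gN (gN w) = -((3 : ℤ_[p]) • (w + gN w)) := by
    intro w
    apply Subtype.ext
    have hw : e (w : M) = 0 := LinearMap.mem_ker.mp w.2
    rw [he'] at hw
    have hBw : B (w : M) = -((w : M) + f w) := eq_neg_of_add_eq_zero_right hw
    simp only [Submodule.coe_neg, Submodule.coe_smul, Submodule.coe_add, hgN]
    rw [hB, hBw, smul_neg]
  have hsurj : ∀ z : LinearMap.ker e, ∃ w, w + gN w = z := by
    intro z
    refine ⟨z + (2 : ℤ_[p]) • gN z + gN (gN z), ?_⟩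
    have hu := hNN z
    have hv := hNN (gN z)
    simp only [map_add, map_smul]
    rw [hv, hu]
    module
  let φ : ↥(LinearMap.ker e) →+ ↥(LinearMap.ker e) := gN.toAddMonoidHom
  have hφ : ∀ w, φ w = gN w := fun _ => rfl
  have hφinj : Function.Injective φ := hinj
  obtain ⟨K', hK'⟩ : ∃ K' : AddSubgroup ↥(LinearMap.ker e),
    K' = (LinearMap.range gN).toAddSubgroup := ⟨_, rfl⟩
  have hK'r : K' = φ.range := by
    rw [hK']; ext y; rfl
  have hmap : K'.map φ =
      ((p : ℤ_[p]) • (⊤ : Submodule ℤ_[p] ↥(LinearMap.ker e))).toAddSubgroup := by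
    ext y
    rw [AddSubgroup.mem_map, Submodule.mem_toAddSubgroup,
      Submodule.mem_smul_pointwise_iff_exists, hp3, hK']
    constructor
    · rintro ⟨_, ⟨w, rfl⟩, rfl⟩
      exact ⟨-(w + gN w), Submodule.mem_top, by rw [hφ, hNN, smul_neg]⟩
    · rintro ⟨z, -, rfl⟩
      obtain ⟨w, hw⟩ := hsurj (-z)
      refine ⟨gN w, ⟨w, rfl⟩, ?_⟩
      rw [hφ, hNN, hw, smul_neg, neg_neg]
  have hidx : (K'.map φ).index = K'.index * K'.index := by
    have h5 : (K'.map φ).relIndex ((⊤ : AddSubgroup ↥(LinearMap.ker e)).map φ) =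
        K'.relIndex ⊤ := AddSubgroup.relIndex_map_map_of_injective K' ⊤ hφinj
    have h6 : K'.map φ ≤ (⊤ : AddSubgroup ↥(LinearMap.ker e)).map φ :=
      AddSubgroup.map_mono le_top
    have h7 := AddSubgroup.relIndex_mul_index h6
    rw [h5, AddSubgroup.relIndex_top_right, ← AddMonoidHom.range_eq_map, ← hK'r] at h7
    exact h7.symm
  have h9 : K'.index * K'.index = p ^ Module.finrank ℤ_[p] ↥(LinearMap.ker e) := by
    rw [← hidx, hmap, index_smul_top]
  rw [← hK'] at hcard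
  have hdvd : K'.index ∣ p ^ Module.finrank ℤ_[p] ↥(LinearMap.ker e) := ⟨_, h9.symm⟩
  obtain ⟨r, hr, har⟩ := (Nat.dvd_prime_pow (Fact.out : p.Prime)).mp hdvd
  refine ⟨r, ?_, by rw [hcard]; exact har⟩
  rw [har, ← pow_add] at h9
  have h10 := Nat.pow_right_injective (Fact.out : p.Prime).two_le h9
  rw [← hc]
  omega

end cases

end Groth.Agent.H64.ZlTors
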